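import Mathlib
import Cfsg.Agent.Rec.HN.Cod
import Cfsg.Agent.Rec.Orb

/-! Named elements and small subgroups of `2.HS.2`. -/

set_option autoImplicit false
set_option maxRecDepth 100000
set_option exponentiation.threshold 100000

namespace Cfsg.Agent.Rec.HN

open Cfsg.Agent.Spor Cfsg.Agent.Rec

/-- Words for the named elements. -/
def wN : List (List ℕ) := [[0], [2], [4], [6], [9, 13, 0, 17, 41, 35, 41, 39], [9, 13, 1, 17, 41, 35, 41, 39], [18, 21, 7, 17, 32, 27], [26, 9, 1, 31, 16, 33, 32, 40], [18, 21, 4, 26, 37, 35, 40], [33, 38, 30], [32, 41, 39], [6, 33, 38, 30], [39, 38, 41, 41], [9, 13, 0, 17, 39, 37, 27, 41], [28, 31, 40, 39], [9, 13, 0, 17, 41, 35, 41, 41], [32, 11, 4, 18, 37, 40, 33, 40, 40, 39], [38, 35, 28, 40, 40, 39], [35, 28, 39], [40, 28, 28, 40], [9, 13, 0, 17, 31, 31, 27, 40], [32, 11, 4, 18, 29, 28, 28, 40, 40, 39], [39, 11, 10, 20, 15, 29, 31, 41], [12, 23,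 15, 35, 33, 27], [14, 0, 41, 19, 40, 35, 27, 40, 39], [3, 12, 17, 17, 34, 38, 39], [32, 11, 4, 18, 31, 30, 39], [9, 13, 0, 17, 38, 30, 41, 41], [18, 21, 29, 34], [8, 24, 9, 35, 16, 38, 38, 41], [18, 26, 9, 34, 18, 27, 30, 41, 41], [7, 9, 0, 20, 15, 29, 29, 41, 41, 39], [36, 20, 9, 21, 15, 39, 32, 27, 40, 40], [12, 12, 0, 41, 19, 39, 28, 28, 41], [31, 13, 0, 21, 33, 33, 41], [18, 9, 11, 30, 16, 32, 30, 40, 40], [11, 21, 4, 22, 31, 35, 27, 41, 41], [18, 21, 7, 17, 32, 27, 40, 39], [0, 24, 10, 37, 17, 28, 32, 30, 40, 40], [39, 8, 0, 25, 16, 29, 35, 28, 40, 39], [31, 14, 6, 40, 15, 39, 32, 27, 40, 39], [8, 22, 4, 35, 16, 33, 35, 40, 39], [22, 35, 41, 27, 41]]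

/-- Their codes. -/
def cN : List ℕ := [(nat_lit 0x91f80e03f), (nat_lit 0xe82b003800), (nat_lit 0x12f13800019), (nat_lit 0x40e80d913), (nat_lit 0x28a8d448d6a), (nat_lit 0x27e8d04956d), (nat_lit 0x3081ceb5091), (nat_lit 0x3c335c2d0ea), (nat_lit 0x53a5907585b), (nat_lit 0x178b540c800), (nat_lit 0x2c8a740c800), (nat_lit 0x172b500d913), (nat_lit 0x1b30600c800), (nat_lit 0x3e0b0048d6a), (nat_lit 0x1785780c800), (nat_lit 0x9168d448d6a), (nat_lit 0x710e00b6991), (nat_lit 0xe91640c800), (nat_lit 0x415e00c800), (nat_lit 0x26838c0c800), (nat_lit 0x2153e848d6a), (nat_lit 0x4b8cb6991), (nat_lit 0x1c039c80b9e), (nat_lit 0x6467aa3296f), (nat_lit 0x3e4c25f3367), (nat_lit 0x6d3111e023c), (nat_lit 0x866858b6991), (nat_lit 0x28a99c48d6a), (nat_lit 0x102c142d800), (nat_lit 0x2471769653c), (nat_lit 0x11e37054310), (nat_lit 0xa56e641e89a), (nat_lit 0x27a25c5530f), (nat_lit 0x672bc0114f5), (nat_lit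 0x42aa757f370), (nat_lit 0xa548957d87d), (nat_lit 0x770d8663556), (nat_lit 0xa101ceb5091), (nat_lit 0x67b4ade9a76), (nat_lit 0x608f19480c8), (nat_lit 0x13f3a8a1cf2), (nat_lit 0x6dab9235957), (nat_lit 0x19b31026000)]

theorem wN_ok : wordsOK wN cN = true := by decide +kernel

/-- A listed subgroup. -/
noncomputable def Ga_t : ST :=
(.node (nat_lit 0x57c2f6b6892) (.node (nat_lit 0x38c0444956d) (.node (nat_lit 0x1b10640d913) (.node (nat_lit 0x12f03000019) (.node (nat_lit 0xca8b20b899) (.node (nat_lit 0x28dac00019) (.node (nat_lit 0x4b500d913) (.node (nat_lit 0x2b540c800) (.leaf (nat_lit 0x20e40c800) (nat_lit 0))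
 (.node (nat_lit 0x40e80d913) (.leaf (nat_lit 0x2b540c800) (nat_lit 1029))
 (.leaf (nat_lit 0x40e80d913) (nat_lit 256))
)) (.node (nat_lit 0x26da88981b) (.leaf (nat_lit 0x4b500d913) (nat_lit 1285))
 (.node (nat_lit 0x271288981b) (.leaf (nat_lit 0x26da88981b) (nat_lit 1794))
 (.leaf (nat_lit 0x271288981b) (nat_lit 1028))
))) (.node (nat_lit 0x9b16c0d913) (.node (nat_lit 0x2912c00019) (.leaf (nat_lit 0x28dac00019) (nat_lit 1538))
 (.node (nat_lit 0x9aa100d913) (.leaf (nat_lit 0x2912c00019) (nat_lit 772))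
 (.leaf (nat_lit 0x9aa100d913) (nat_lit 772))
)) (.node (nat_lit 0x9ca0c0c800) (.leaf (nat_lit 0x9b16c0d913) (nat_lit 1284))
 (.node (nat_lit 0x9d1640c800) (.leaf (nat_lit 0x9ca0c0c800) (nat_lit 516))
 (.leaf (nat_lit 0x9d1640c800) (nat_lit 1028))
)))) (.node (nat_lit 0xe8a0c0c800) (.node (nat_lit 0xd50ae0b09b) (.node (nat_lit 0xcb0d60b899) (.leaf (nat_lit 0xca8b20b899) (nat_lit 1285))
 (.node (nat_lit 0xd48b60b09b) (.leaf (nat_lit 0xcb0d60b899) (nat_lit 1283))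
 (.leaf (nat_lit 0xd48b60b09b) (nat_lit 1029))
)) (.node (nat_lit 0xe2a100d913) (.leaf (nat_lit 0xd50ae0b09b) (nat_lit 1027))
 (.node (nat_lit 0xe316c0d913) (.leaf (nat_lit 0xe2a100d913) (nat_lit 1540))
 (.leaf (nat_lit 0xe316c0d913) (nat_lit 516))
))) (.node (nat_lit 0x1033880c800) (.node (nat_lit 0xe91640c800) (.leaf (nat_lit 0xe8a0c0c800) (nat_lit 1284))
 (.node (nat_lit 0x1027440c800) (.leaf (nat_lit 0xe91640c800) (nat_lit 260))
 (.leaf (nat_lit 0x1027440c800) (nat_lit 1540))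
)) (.node (nat_lit 0x1047400d913) (.leaf (nat_lit 0x1033880c800) (nat_lit 773))
 (.node (nat_lit 0x10538c0d913) (.leaf (nat_lit 0x1047400d913) (nat_lit 1796))
 (.leaf (nat_lit 0x10538c0d913) (nat_lit 1029))
))))) (.node (nat_lit 0x1720e80d913) (.node (nat_lit 0x1409e04dc16) (.node (nat_lit 0x13113c8981b) (.node (nat_lit 0x12f13800019) (.leaf (nat_lit 0x12f03000019) (nat_lit 1285))
 (.node (nat_lit 0x1310288981b) (.leaf (nat_lit 0x12f13800019) (nat_lit 257))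
 (.leaf (nat_lit 0x1310288981b) (nat_lit 1541))
)) (.node (nat_lit 0x13e9e44cc17) (.leaf (nat_lit 0x13113c8981b) (nat_lit 513))
 (.node (nat_lit 0x13eb8c4cc17) (.leaf (nat_lit 0x13e9e44cc17) (nat_lit 1795))
 (.leaf (nat_lit 0x13eb8c4cc17) (nat_lit 1540))
))) (.node (nat_lit 0x142fb60b899) (.node (nat_lit 0x140b904dc16) (.leaf (nat_lit 0x1409e04dc16) (nat_lit 1539))
 (.node (nat_lit 0x1427160b899) (.leaf (nat_lit 0x140b904dc16) (nat_lit 1284))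
 (.leaf (nat_lit 0x1427160b899) (nat_lit 2051))
)) (.node (nat_lit 0x1446fe0b09b) (.leaf (nat_lit 0x142fb60b899) (nat_lit 1796))
 (.node (nat_lit 0x144fb20b09b) (.leaf (nat_lit 0x1446fe0b09b) (nat_lit 1795))
 (.leaf (nat_lit 0x144fb20b09b) (nat_lit 1540))
)))) (.node (nat_lit 0x1a03540d913) (.node (nat_lit 0x178b540c800) (.node (nat_lit 0x172b500d913) (.leaf (nat_lit 0x1720e80d913) (nat_lit 1026))
 (.node (nat_lit 0x1780e40c800) (.leaf (nat_lit 0x172b500d913) (nat_lit 517))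
 (.leaf (nat_lit 0x1780e40c800) (nat_lit 770))
)) (.node (nat_lit 0x19e3500c800) (.leaf (nat_lit 0x178b540c800) (nat_lit 261))
 (.node (nat_lit 0x19f3100c800) (.leaf (nat_lit 0x19e3500c800) (nat_lit 1285))
 (.leaf (nat_lit 0x19f3100c800) (nat_lit 773))
))) (.node (nat_lit 0x1a2e8474059) (.node (nat_lit 0x1a13140d913) (.leaf (nat_lit 0x1a03540d913) (nat_lit 1541))
 (.node (nat_lit 0x1a273474059) (.leaf (nat_lit 0x1a13140d913) (nat_lit 1029))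
 (.leaf (nat_lit 0x1a273474059) (nat_lit 1540))
)) (.node (nat_lit 0x1a67307505a) (.leaf (nat_lit 0x1a2e8474059) (nat_lit 1541))
 (.node (nat_lit 0x1a6e807505a) (.leaf (nat_lit 0x1a67307505a) (nat_lit 1284))
 (.leaf (nat_lit 0x1a6e807505a) (nat_lit 1285))
)))))) (.node (nat_lit 0x2c8a740c800) (.node (nat_lit 0x20a8c400019) (.node (nat_lit 0x1c21dab6892) (.node (nat_lit 0x1b34040c800) (.node (nat_lit 0x1b14000d913) (.leaf (nat_lit 0x1b10640d913) (nat_lit 1028))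
 (.node (nat_lit 0x1b30600c800) (.leaf (nat_lit 0x1b14000d913) (nat_lit 1282))
 (.leaf (nat_lit 0x1b30600c800) (nat_lit 772))
)) (.node (nat_lit 0x1b81d6b5091) (.leaf (nat_lit 0x1b34040c800) (nat_lit 1026))
 (.node (nat_lit 0x1b823eb5091) (.leaf (nat_lit 0x1b81d6b5091) (nat_lit 1284))
 (.leaf (nat_lit 0x1b823eb5091) (nat_lit 2051))
))) (.node (nat_lit 0x1f25a6b6892) (.node (nat_lit 0x1c223ab6892) (.leaf (nat_lit 0x1c21dab6892) (nat_lit 1540))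
 (.node (nat_lit 0x1f2012b6892) (.leaf (nat_lit 0x1c223ab6892) (nat_lit 2307))
 (.leaf (nat_lit 0x1f2012b6892) (nat_lit 2053))
)) (.node (nat_lit 0x20200eb5091) (.leaf (nat_lit 0x1f25a6b6892) (nat_lit 1540))
 (.node (nat_lit 0x2025a2b5091) (.leaf (nat_lit 0x20200eb5091) (nat_lit 1797))
 (.leaf (nat_lit 0x2025a2b5091) (nat_lit 1284))
)))) (.node (nat_lit 0x2683500c800) (.node (nat_lit 0x20ccf48981b) (.node (nat_lit 0x20acfc00019) (.leaf (nat_lit 0x20a8c400019) (nat_lit 1284))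
 (.node (nat_lit 0x20c8bc8981b) (.leaf (nat_lit 0x20acfc00019) (nat_lit 2052))
 (.leaf (nat_lit 0x20c8bc8981b) (nat_lit 1540))
)) (.node (nat_lit 0x2663540d913) (.leaf (nat_lit 0x20ccf48981b) (nat_lit 2308))
 (.node (nat_lit 0x2673140d913) (.leaf (nat_lit 0x2663540d913) (nat_lit 773))
 (.leaf (nat_lit 0x2673140d913) (nat_lit 1797))
))) (.node (nat_lit 0x27e9a44956d) (.node (nat_lit 0x2693100c800) (.leaf (nat_lit 0x2683500c800) (nat_lit 517))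
 (.node (nat_lit 0x27e8d04956d) (.leaf (nat_lit 0x2693100c800) (nat_lit 1541))
 (.leaf (nat_lit 0x27e8d04956d) (nat_lit 1283))
)) (.node (nat_lit 0x28a8d448d6a) (.leaf (nat_lit 0x27e9a44956d) (nat_lit 773))
 (.node (nat_lit 0x28a99c48d6a) (.leaf (nat_lit 0x28a8d448d6a) (nat_lit 1027))
 (.leaf (nat_lit 0x28a99c48d6a) (nat_lit 517))
))))) (.node (nat_lit 0x3290600c800) (.node (nat_lit 0x30a1cab6892) (.node (nat_lit 0x2cf2c00d913) (.node (nat_lit 0x2c92c80c800) (.leaf (nat_lit 0x2c8a740c800) (nat_lit 1028))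
 (.node (nat_lit 0x2cea600d913) (.leaf (nat_lit 0x2c92c80c800) (nat_lit 1540))
 (.leaf (nat_lit 0x2cea600d913) (nat_lit 1284))
)) (.node (nat_lit 0x3081ceb5091) (.leaf (nat_lit 0x2cf2c00d913) (nat_lit 1796))
 (.node (nat_lit 0x3084f2b5091) (.leaf (nat_lit 0x3081ceb5091) (nat_lit 1283))
 (.leaf (nat_lit 0x3084f2b5091) (nat_lit 773))
))) (.node (nat_lit 0x30ecfc00019) (.node (nat_lit 0x30a4f6b6892) (.leaf (nat_lit 0x30a1cab6892) (nat_lit 1539))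
 (.node (nat_lit 0x30e8c400019) (.leaf (nat_lit 0x30a4f6b6892) (nat_lit 1029))
 (.leaf (nat_lit 0x30e8c400019) (nat_lit 1796))
)) (.node (nat_lit 0x3108bc8981b) (.leaf (nat_lit 0x30ecfc00019) (nat_lit 1284))
 (.node (nat_lit 0x310cf48981b) (.leaf (nat_lit 0x3108bc8981b) (nat_lit 2052))
 (.leaf (nat_lit 0x310cf48981b) (nat_lit 1540))
)))) (.node (nat_lit 0x36c1a42d0ea) (.node (nat_lit 0x32b4000d913) (.node (nat_lit 0x3294040c800) (.leaf (nat_lit 0x3290600c800) (nat_lit 1282))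
 (.node (nat_lit 0x32b0640d913) (.leaf (nat_lit 0x3294040c800) (nat_lit 516))
 (.leaf (nat_lit 0x32b0640d913) (nat_lit 1538))
)) (.node (nat_lit 0x368afc4cc17) (.leaf (nat_lit 0x32b4000d913) (nat_lit 772))
 (.node (nat_lit 0x3693b84cc17) (.leaf (nat_lit 0x368afc4cc17) (nat_lit 1541))
 (.leaf (nat_lit 0x3693b84cc17) (nat_lit 1541))
))) (.node (nat_lit 0x36f3bc4dc16) (.node (nat_lit 0x36c2dc2d0ea) (.leaf (nat_lit 0x36c1a42d0ea) (nat_lit 1029))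
 (.node (nat_lit 0x36eb004dc16) (.leaf (nat_lit 0x36c2dc2d0ea) (nat_lit 1284))
 (.leaf (nat_lit 0x36eb004dc16) (nat_lit 1285))
)) (.node (nat_lit 0x3761902c8e8) (.leaf (nat_lit 0x36f3bc4dc16) (nat_lit 1285))
 (.node (nat_lit 0x3762e02c8e8) (.leaf (nat_lit 0x3761902c8e8) (nat_lit 1285))
 (.leaf (nat_lit 0x3762e02c8e8) (nat_lit 1540))
))))))) (.node (nat_lit 0x45cefc2d0ea) (.node (nat_lit 0x410af048d6a) (.node (nat_lit 0x3c08082c8e8) (.node (nat_lit 0x3961884956d) (.node (nat_lit 0x38eb2048d6a) (.node (nat_lit 0x38cae04956d) (.leaf (nat_lit 0x38c0444956d) (nat_lit 1285))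
 (.node (nat_lit 0x38e04848d6a) (.leaf (nat_lit 0x38cae04956d) (nat_lit 1797))
 (.leaf (nat_lit 0x38e04848d6a) (nat_lit 1029))
)) (.node (nat_lit 0x39418448d6a) (.leaf (nat_lit 0x38eb2048d6a) (nat_lit 1541))
 (.node (nat_lit 0x394fd048d6a) (.leaf (nat_lit 0x39418448d6a) (nat_lit 1541))
 (.leaf (nat_lit 0x394fd048d6a) (nat_lit 1028))
))) (.node (nat_lit 0x3bb3b84cc17) (.node (nat_lit 0x396fd44956d) (.leaf (nat_lit 0x3961884956d) (nat_lit 1797))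
 (.node (nat_lit 0x3baafc4cc17) (.leaf (nat_lit 0x396fd44956d) (nat_lit 1284))
 (.leaf (nat_lit 0x3baafc4cc17) (nat_lit 1797))
)) (.node (nat_lit 0x3bcb004dc16) (.leaf (nat_lit 0x3bb3b84cc17) (nat_lit 1285))
 (.node (nat_lit 0x3bd3bc4dc16) (.leaf (nat_lit 0x3bcb004dc16) (nat_lit 1541))
 (.leaf (nat_lit 0x3bd3bc4dc16) (nat_lit 1029))
)))) (.node (nat_lit 0x3e24104956d) (.node (nat_lit 0x3c335c2d0ea) (.node (nat_lit 0x3c134c2c8e8) (.leaf (nat_lit 0x3c08082c8e8) (nat_lit 1029))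
 (.node (nat_lit 0x3c28002d0ea) (.leaf (nat_lit 0x3c134c2c8e8) (nat_lit 514))
 (.leaf (nat_lit 0x3c28002d0ea) (nat_lit 773))
)) (.node (nat_lit 0x3e03e848d6a) (.leaf (nat_lit 0x3c335c2d0ea) (nat_lit 258))
 (.node (nat_lit 0x3e093c48d6a) (.leaf (nat_lit 0x3e03e848d6a) (nat_lit 1539))
 (.leaf (nat_lit 0x3e093c48d6a) (nat_lit 515))
))) (.node (nat_lit 0x4034ea0b899) (.node (nat_lit 0x3e29344956d) (.leaf (nat_lit 0x3e24104956d) (nat_lit 1795))
 (.node (nat_lit 0x402fba0b899) (.leaf (nat_lit 0x3e29344956d) (nat_lit 771))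
 (.leaf (nat_lit 0x402fba0b899) (nat_lit 2053))
)) (.node (nat_lit 0x406fbe0b09b) (.leaf (nat_lit 0x4034ea0b899) (nat_lit 1541))
 (.node (nat_lit 0x4074ee0b09b) (.leaf (nat_lit 0x406fbe0b09b) (nat_lit 1797))
 (.leaf (nat_lit 0x4074ee0b09b) (nat_lit 1285))
))))) (.node (nat_lit 0x4482b44dc16) (.node (nat_lit 0x420dac00019) (.node (nat_lit 0x412c584956d) (.node (nat_lit 0x410c5048d6a) (.leaf (nat_lit 0x410af048d6a) (nat_lit 1796))
 (.node (nat_lit 0x412ae44956d) (.leaf (nat_lit 0x410c5048d6a) (nat_lit 1284))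
 (.leaf (nat_lit 0x412ae44956d) (nat_lit 2052))
)) (.node (nat_lit 0x41eda88981b) (.leaf (nat_lit 0x412c584956d) (nat_lit 1540))
 (.node (nat_lit 0x41f1288981b) (.leaf (nat_lit 0x41eda88981b) (nat_lit 1284))
 (.leaf (nat_lit 0x41f1288981b) (nat_lit 1538))
))) (.node (nat_lit 0x426c5048d6a) (.node (nat_lit 0x42112c00019) (.leaf (nat_lit 0x420dac00019) (nat_lit 1028))
 (.node (nat_lit 0x426af048d6a) (.leaf (nat_lit 0x42112c00019) (nat_lit 1282))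
 (.leaf (nat_lit 0x426af048d6a) (nat_lit 1028))
)) (.node (nat_lit 0x42aae44956d) (.leaf (nat_lit 0x426c5048d6a) (nat_lit 1795))
 (.node (nat_lit 0x42ac584956d) (.leaf (nat_lit 0x42aae44956d) (nat_lit 1284))
 (.leaf (nat_lit 0x42ac584956d) (nat_lit 2051))
)))) (.node (nat_lit 0x44e2ac4cc17) (.node (nat_lit 0x44ab904dc16) (.node (nat_lit 0x4494104dc16) (.leaf (nat_lit 0x4482b44dc16) (nat_lit 1283))
 (.node (nat_lit 0x44a9e04dc16) (.leaf (nat_lit 0x4494104dc16) (nat_lit 770))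
 (.leaf (nat_lit 0x44a9e04dc16) (nat_lit 1540))
)) (.node (nat_lit 0x44c0444956d) (.leaf (nat_lit 0x44ab904dc16) (nat_lit 1540))
 (.node (nat_lit 0x44cae04956d) (.leaf (nat_lit 0x44c0444956d) (nat_lit 2053))
 (.leaf (nat_lit 0x44cae04956d) (nat_lit 1029))
))) (.node (nat_lit 0x454b8c4cc17) (.node (nat_lit 0x44f41c4cc17) (.leaf (nat_lit 0x44e2ac4cc17) (nat_lit 1539))
 (.node (nat_lit 0x4549e44cc17) (.leaf (nat_lit 0x44f41c4cc17) (nat_lit 1026))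
 (.leaf (nat_lit 0x4549e44cc17) (nat_lit 1796))
)) (.node (nat_lit 0x45604848d6a) (.leaf (nat_lit 0x454b8c4cc17) (nat_lit 1796))
 (.node (nat_lit 0x456b2048d6a) (.leaf (nat_lit 0x45604848d6a) (nat_lit 1797))
 (.leaf (nat_lit 0x456b2048d6a) (nat_lit 773))
)))))) (.node (nat_lit 0x4f673474059) (.node (nat_lit 0x4b28b20b899) (.node (nat_lit 0x4670008981b) (.node (nat_lit 0x4615202c8e8) (.node (nat_lit 0x45d5282d0ea) (.leaf (nat_lit 0x45cefc2d0ea) (nat_lit 516))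
 (.node (nat_lit 0x460f042c8e8) (.leaf (nat_lit 0x45d5282d0ea) (nat_lit 1028))
 (.leaf (nat_lit 0x460f042c8e8) (nat_lit 772))
)) (.node (nat_lit 0x464ffc00019) (.leaf (nat_lit 0x4615202c8e8) (nat_lit 1284))
 (.node (nat_lit 0x46556c00019) (.leaf (nat_lit 0x464ffc00019) (nat_lit 1284))
 (.leaf (nat_lit 0x46556c00019) (nat_lit 772))
))) (.node (nat_lit 0x49913c8981b) (.node (nat_lit 0x4675688981b) (.leaf (nat_lit 0x4670008981b) (nat_lit 1540))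
 (.node (nat_lit 0x4990288981b) (.leaf (nat_lit 0x4675688981b) (nat_lit 1028))
 (.leaf (nat_lit 0x4990288981b) (nat_lit 773))
)) (.node (nat_lit 0x49d03000019) (.leaf (nat_lit 0x49913c8981b) (nat_lit 1282))
 (.node (nat_lit 0x49d13800019) (.leaf (nat_lit 0x49d03000019) (nat_lit 517))
 (.leaf (nat_lit 0x49d13800019) (nat_lit 1026))
)))) (.node (nat_lit 0x4d0d6c8981b) (.node (nat_lit 0x4b50ae0b09b) (.node (nat_lit 0x4b30d60b899) (.leaf (nat_lit 0x4b28b20b899) (nat_lit 1541))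
 (.node (nat_lit 0x4b48b60b09b) (.leaf (nat_lit 0x4b30d60b899) (nat_lit 1026))
 (.leaf (nat_lit 0x4b48b60b09b) (nat_lit 1285))
)) (.node (nat_lit 0x4ccd6800019) (.leaf (nat_lit 0x4b50ae0b09b) (nat_lit 770))
 (.node (nat_lit 0x4ccf8400019) (.leaf (nat_lit 0x4ccd6800019) (nat_lit 1029))
 (.leaf (nat_lit 0x4ccf8400019) (nat_lit 1541))
))) (.node (nat_lit 0x4ec8deb6892) (.node (nat_lit 0x4d0f948981b) (.leaf (nat_lit 0x4d0d6c8981b) (nat_lit 1285))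
 (.node (nat_lit 0x4ec636b6892) (.leaf (nat_lit 0x4d0f948981b) (nat_lit 1797))
 (.leaf (nat_lit 0x4ec636b6892) (nat_lit 1541))
)) (.node (nat_lit 0x4ee64eb5091) (.leaf (nat_lit 0x4ec8deb6892) (nat_lit 2053))
 (.node (nat_lit 0x4ee8dab5091) (.leaf (nat_lit 0x4ee64eb5091) (nat_lit 1285))
 (.leaf (nat_lit 0x4ee8dab5091) (nat_lit 1797))
))))) (.node (nat_lit 0x53cdd874059) (.node (nat_lit 0x51464eb5091) (.node (nat_lit 0x504e807505a) (.node (nat_lit 0x4f6e8474059) (.leaf (nat_lit 0x4f673474059) (nat_lit 1796))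
 (.node (nat_lit 0x5047307505a) (.leaf (nat_lit 0x4f6e8474059) (nat_lit 1541))
 (.leaf (nat_lit 0x5047307505a) (nat_lit 1540))
)) (.node (nat_lit 0x512636b6892) (.leaf (nat_lit 0x504e807505a) (nat_lit 1285))
 (.node (nat_lit 0x5128deb6892) (.leaf (nat_lit 0x512636b6892) (nat_lit 2309))
 (.leaf (nat_lit 0x5128deb6892) (nat_lit 1285))
))) (.node (nat_lit 0x51635eb6892) (.node (nat_lit 0x5148dab5091) (.leaf (nat_lit 0x51464eb5091) (nat_lit 2053))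
 (.node (nat_lit 0x5161f6b6892) (.leaf (nat_lit 0x5148dab5091) (nat_lit 1029))
 (.leaf (nat_lit 0x5161f6b6892) (nat_lit 2052))
)) (.node (nat_lit 0x51a202b5091) (.leaf (nat_lit 0x51635eb6892) (nat_lit 1028))
 (.node (nat_lit 0x51a36ab5091) (.leaf (nat_lit 0x51a202b5091) (nat_lit 1796))
 (.leaf (nat_lit 0x51a36ab5091) (nat_lit 772))
)))) (.node (nat_lit 0x574dd874059) (.node (nat_lit 0x53f1007505a) (.node (nat_lit 0x53d10474059) (.leaf (nat_lit 0x53cdd874059) (nat_lit 1285))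
 (.node (nat_lit 0x53edd47505a) (.leaf (nat_lit 0x53d10474059) (nat_lit 1797))
 (.leaf (nat_lit 0x53edd47505a) (nat_lit 1029))
)) (.node (nat_lit 0x5610008981b) (.leaf (nat_lit 0x53f1007505a) (nat_lit 1541))
 (.node (nat_lit 0x5615688981b) (.leaf (nat_lit 0x5610008981b) (nat_lit 772))
 (.leaf (nat_lit 0x5615688981b) (nat_lit 1796))
))) (.node (nat_lit 0x57756c00019) (.node (nat_lit 0x57510474059) (.leaf (nat_lit 0x574dd874059) (nat_lit 1541))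
 (.node (nat_lit 0x576ffc00019) (.leaf (nat_lit 0x57510474059) (nat_lit 1541))
 (.leaf (nat_lit 0x576ffc00019) (nat_lit 516))
)) (.node (nat_lit 0x57a2fab5091) (.leaf (nat_lit 0x57756c00019) (nat_lit 1540))
 (.node (nat_lit 0x57b1c2b5091) (.leaf (nat_lit 0x57a2fab5091) (nat_lit 1539))
 (.leaf (nat_lit 0x57b1c2b5091) (nat_lit 1027))
)))))))) (.node (nat_lit 0x87c2b44dc16) (.node (nat_lit 0x77c82a0b09b) (.node (nat_lit 0x6acefc2d0ea) (.node (nat_lit 0x5c0202b5091) (.node (nat_lit 0x5a6dd47505a) (.node (nat_lit 0x592cd08981b) (.node (nat_lit 0x57d1c6b6892) (.leaf (nat_lit 0x57c2f6b6892) (nat_lit 1795))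
 (.node (nat_lit 0x59277c8981b) (.leaf (nat_lit 0x57d1c6b6892) (nat_lit 1283))
 (.leaf (nat_lit 0x59277c8981b) (nat_lit 1797))
)) (.node (nat_lit 0x59476c00019) (.leaf (nat_lit 0x592cd08981b) (nat_lit 1284))
 (.node (nat_lit 0x594cd400019) (.leaf (nat_lit 0x59476c00019) (nat_lit 1541))
 (.leaf (nat_lit 0x594cd400019) (nat_lit 1028))
))) (.node (nat_lit 0x5bd38c0d913) (.node (nat_lit 0x5a71007505a) (.leaf (nat_lit 0x5a6dd47505a) (nat_lit 1285))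
 (.node (nat_lit 0x5bc7400d913) (.leaf (nat_lit 0x5a71007505a) (nat_lit 1285))
 (.leaf (nat_lit 0x5bc7400d913) (nat_lit 1028))
)) (.node (nat_lit 0x5be7440c800) (.leaf (nat_lit 0x5bd38c0d913) (nat_lit 1541))
 (.node (nat_lit 0x5bf3880c800) (.leaf (nat_lit 0x5be7440c800) (nat_lit 772))
 (.leaf (nat_lit 0x5bf3880c800) (nat_lit 1285))
)))) (.node (nat_lit 0x62ed6800019) (.node (nat_lit 0x5c435eb6892) (.node (nat_lit 0x5c036ab5091) (.leaf (nat_lit 0x5c0202b5091) (nat_lit 1028))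
 (.node (nat_lit 0x5c41f6b6892) (.leaf (nat_lit 0x5c036ab5091) (nat_lit 1540))
 (.leaf (nat_lit 0x5c41f6b6892) (nat_lit 1284))
)) (.node (nat_lit 0x62ad6c8981b) (.leaf (nat_lit 0x5c435eb6892) (nat_lit 1796))
 (.node (nat_lit 0x62af948981b) (.leaf (nat_lit 0x62ad6c8981b) (nat_lit 2053))
 (.leaf (nat_lit 0x62af948981b) (nat_lit 1029))
))) (.node (nat_lit 0x6794c42d0ea) (.node (nat_lit 0x62ef8400019) (.leaf (nat_lit 0x62ed6800019) (nat_lit 1797))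
 (.node (nat_lit 0x67919c2d0ea) (.leaf (nat_lit 0x62ef8400019) (nat_lit 773))
 (.leaf (nat_lit 0x67919c2d0ea) (nat_lit 1285))
)) (.node (nat_lit 0x67d1982c8e8) (.leaf (nat_lit 0x6794c42d0ea) (nat_lit 773))
 (.node (nat_lit 0x67d4cc2c8e8) (.leaf (nat_lit 0x67d1982c8e8) (nat_lit 1541))
 (.leaf (nat_lit 0x67d4cc2c8e8) (nat_lit 1029))
))))) (.node (nat_lit 0x6e438c4dc16) (.node (nat_lit 0x6b26b82c8e8) (.node (nat_lit 0x6af5202c8e8) (.node (nat_lit 0x6ad5282d0ea) (.leaf (nat_lit 0x6acefc2d0ea) (nat_lit 772))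
 (.node (nat_lit 0x6aef042c8e8) (.leaf (nat_lit 0x6ad5282d0ea) (nat_lit 772))
 (.leaf (nat_lit 0x6aef042c8e8) (nat_lit 1028))
)) (.node (nat_lit 0x6b06bc2d0ea) (.leaf (nat_lit 0x6af5202c8e8) (nat_lit 1028))
 (.node (nat_lit 0x6b09602d0ea) (.leaf (nat_lit 0x6b06bc2d0ea) (nat_lit 1027))
 (.leaf (nat_lit 0x6b09602d0ea) (nat_lit 772))
))) (.node (nat_lit 0x6d94a82d0ea) (.node (nat_lit 0x6b29482c8e8) (.leaf (nat_lit 0x6b26b82c8e8) (nat_lit 1283))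
 (.node (nat_lit 0x6d93a82d0ea) (.leaf (nat_lit 0x6b29482c8e8) (nat_lit 1028))
 (.leaf (nat_lit 0x6d93a82d0ea) (nat_lit 1284))
)) (.node (nat_lit 0x6db3b02c8e8) (.leaf (nat_lit 0x6d94a82d0ea) (nat_lit 1540))
 (.node (nat_lit 0x6db4ac2c8e8) (.leaf (nat_lit 0x6db3b02c8e8) (nat_lit 1540))
 (.leaf (nat_lit 0x6db4ac2c8e8) (nat_lit 1796))
)))) (.node (nat_lit 0x7333b02c8e8) (.node (nat_lit 0x6e860c4cc17) (.node (nat_lit 0x6e46084dc16) (.leaf (nat_lit 0x6e438c4dc16) (nat_lit 1540))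
 (.node (nat_lit 0x6e83884cc17) (.leaf (nat_lit 0x6e46084dc16) (nat_lit 1029))
 (.leaf (nat_lit 0x6e83884cc17) (nat_lit 1796))
)) (.node (nat_lit 0x7313a82d0ea) (.leaf (nat_lit 0x6e860c4cc17) (nat_lit 1285))
 (.node (nat_lit 0x7314a82d0ea) (.leaf (nat_lit 0x7313a82d0ea) (nat_lit 1284))
 (.leaf (nat_lit 0x7314a82d0ea) (nat_lit 1284))
))) (.node (nat_lit 0x736a384dc16) (.node (nat_lit 0x7334ac2c8e8) (.leaf (nat_lit 0x7333b02c8e8) (nat_lit 1540))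
 (.node (nat_lit 0x736a204dc16) (.leaf (nat_lit 0x7334ac2c8e8) (nat_lit 1540))
 (.leaf (nat_lit 0x736a204dc16) (nat_lit 773))
)) (.node (nat_lit 0x73e9f44cc17) (.leaf (nat_lit 0x736a384dc16) (nat_lit 771))
 (.node (nat_lit 0x73ea3c4cc17) (.leaf (nat_lit 0x73e9f44cc17) (nat_lit 1029))
 (.leaf (nat_lit 0x73ea3c4cc17) (nat_lit 1027))
)))))) (.node (nat_lit 0x7fa6bc2d0ea) (.node (nat_lit 0x7bc3884cc17) (.node (nat_lit 0x796fba0b899) (.node (nat_lit 0x7812320b899) (.node (nat_lit 0x77d2360b09b) (.leaf (nat_lit 0x77c82a0b09b) (nat_lit 1539))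
 (.node (nat_lit 0x78082e0b899) (.leaf (nat_lit 0x77d2360b09b) (nat_lit 1026))
 (.leaf (nat_lit 0x78082e0b899) (nat_lit 1795))
)) (.node (nat_lit 0x794fbe0b09b) (.leaf (nat_lit 0x7812320b899) (nat_lit 1282))
 (.node (nat_lit 0x7954ee0b09b) (.leaf (nat_lit 0x794fbe0b09b) (nat_lit 1541))
 (.leaf (nat_lit 0x7954ee0b09b) (nat_lit 1541))
))) (.node (nat_lit 0x7b534c2c8e8) (.node (nat_lit 0x7974ea0b899) (.leaf (nat_lit 0x796fba0b899) (nat_lit 1797))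
 (.node (nat_lit 0x7b48082c8e8) (.leaf (nat_lit 0x7974ea0b899) (nat_lit 1797))
 (.leaf (nat_lit 0x7b48082c8e8) (nat_lit 773))
)) (.node (nat_lit 0x7b88002d0ea) (.leaf (nat_lit 0x7b534c2c8e8) (nat_lit 771))
 (.node (nat_lit 0x7b935c2d0ea) (.leaf (nat_lit 0x7b88002d0ea) (nat_lit 517))
 (.leaf (nat_lit 0x7b935c2d0ea) (nat_lit 515))
)))) (.node (nat_lit 0x7ce1a42d0ea) (.node (nat_lit 0x7be6084dc16) (.node (nat_lit 0x7bc60c4cc17) (.leaf (nat_lit 0x7bc3884cc17) (nat_lit 1540))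
 (.node (nat_lit 0x7be38c4dc16) (.leaf (nat_lit 0x7bc60c4cc17) (nat_lit 1541))
 (.leaf (nat_lit 0x7be38c4dc16) (nat_lit 1284))
)) (.node (nat_lit 0x7cc1902c8e8) (.leaf (nat_lit 0x7be6084dc16) (nat_lit 1285))
 (.node (nat_lit 0x7cc2e02c8e8) (.leaf (nat_lit 0x7cc1902c8e8) (nat_lit 1285))
 (.leaf (nat_lit 0x7cc2e02c8e8) (nat_lit 1284))
))) (.node (nat_lit 0x7e093c48d6a) (.node (nat_lit 0x7ce2dc2d0ea) (.leaf (nat_lit 0x7ce1a42d0ea) (nat_lit 1029))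
 (.node (nat_lit 0x7e03e848d6a) (.leaf (nat_lit 0x7ce2dc2d0ea) (nat_lit 1028))
 (.leaf (nat_lit 0x7e03e848d6a) (nat_lit 771))
)) (.node (nat_lit 0x7e24104956d) (.leaf (nat_lit 0x7e093c48d6a) (nat_lit 1283))
 (.node (nat_lit 0x7e29344956d) (.leaf (nat_lit 0x7e24104956d) (nat_lit 1027))
 (.leaf (nat_lit 0x7e29344956d) (nat_lit 1539))
))))) (.node (nat_lit 0x834d7c7505a) (.node (nat_lit 0x80a4584956d) (.node (nat_lit 0x7fc9482c8e8) (.node (nat_lit 0x7fa9602d0ea) (.leaf (nat_lit 0x7fa6bc2d0ea) (nat_lit 1028))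
 (.node (nat_lit 0x7fc6b82c8e8) (.leaf (nat_lit 0x7fa9602d0ea) (nat_lit 771))
 (.leaf (nat_lit 0x7fc6b82c8e8) (nat_lit 1284))
)) (.node (nat_lit 0x80845c48d6a) (.leaf (nat_lit 0x7fc9482c8e8) (nat_lit 1027))
 (.node (nat_lit 0x80883848d6a) (.leaf (nat_lit 0x80845c48d6a) (nat_lit 772))
 (.leaf (nat_lit 0x80883848d6a) (nat_lit 1284))
))) (.node (nat_lit 0x8174cc2c8e8) (.node (nat_lit 0x80a8444956d) (.leaf (nat_lit 0x80a4584956d) (nat_lit 1028))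
 (.node (nat_lit 0x8171982c8e8) (.leaf (nat_lit 0x80a8444956d) (nat_lit 1540))
 (.leaf (nat_lit 0x8171982c8e8) (nat_lit 1285))
)) (.node (nat_lit 0x81b19c2d0ea) (.leaf (nat_lit 0x8174cc2c8e8) (nat_lit 1285))
 (.node (nat_lit 0x81b4c42d0ea) (.leaf (nat_lit 0x81b19c2d0ea) (nat_lit 1029))
 (.leaf (nat_lit 0x81b4c42d0ea) (nat_lit 1029))
)))) (.node (nat_lit 0x84ea204dc16) (.node (nat_lit 0x8374d074059) (.node (nat_lit 0x8354d47505a) (.leaf (nat_lit 0x834d7c7505a) (nat_lit 1796))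
 (.node (nat_lit 0x836d7874059) (.leaf (nat_lit 0x8354d47505a) (nat_lit 1540))
 (.leaf (nat_lit 0x836d7874059) (nat_lit 2052))
)) (.node (nat_lit 0x84c9f44cc17) (.leaf (nat_lit 0x8374d074059) (nat_lit 1796))
 (.node (nat_lit 0x84ca3c4cc17) (.leaf (nat_lit 0x84c9f44cc17) (nat_lit 1285))
 (.leaf (nat_lit 0x84ca3c4cc17) (nat_lit 770))
))) (.node (nat_lit 0x86c83848d6a) (.node (nat_lit 0x84ea384dc16) (.leaf (nat_lit 0x84ea204dc16) (nat_lit 1029))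
 (.node (nat_lit 0x86c45c48d6a) (.leaf (nat_lit 0x84ea384dc16) (nat_lit 514))
 (.leaf (nat_lit 0x86c45c48d6a) (nat_lit 1540))
)) (.node (nat_lit 0x86e4584956d) (.leaf (nat_lit 0x86c83848d6a) (nat_lit 516))
 (.node (nat_lit 0x86e8444956d) (.leaf (nat_lit 0x86e4584956d) (nat_lit 1796))
 (.leaf (nat_lit 0x86e8444956d) (nat_lit 772))
))))))) (.node (nat_lit 0x9b07220b09b) (.node (nat_lit 0x8fa8a07505a) (.node (nat_lit 0x8c882a0b09b) (.node (nat_lit 0x8b8f647505a) (.node (nat_lit 0x87f41c4cc17) (.node (nat_lit 0x87d4104dc16) (.leaf (nat_lit 0x87c2b44dc16) (nat_lit 1026))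
 (.node (nat_lit 0x87e2ac4cc17) (.leaf (nat_lit 0x87d4104dc16) (nat_lit 1027))
 (.leaf (nat_lit 0x87e2ac4cc17) (nat_lit 1282))
)) (.node (nat_lit 0x8b4f6074059) (.leaf (nat_lit 0x87f41c4cc17) (nat_lit 1283))
 (.node (nat_lit 0x8b509474059) (.leaf (nat_lit 0x8b4f6074059) (nat_lit 1540))
 (.leaf (nat_lit 0x8b509474059) (nat_lit 1283))
))) (.node (nat_lit 0x8c023eb5091) (.node (nat_lit 0x8b90907505a) (.leaf (nat_lit 0x8b8f647505a) (nat_lit 1284))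
 (.node (nat_lit 0x8c01d6b5091) (.leaf (nat_lit 0x8b90907505a) (nat_lit 1027))
 (.leaf (nat_lit 0x8c01d6b5091) (nat_lit 2052))
)) (.node (nat_lit 0x8c21dab6892) (.leaf (nat_lit 0x8c023eb5091) (nat_lit 1540))
 (.node (nat_lit 0x8c223ab6892) (.leaf (nat_lit 0x8c21dab6892) (nat_lit 2308))
 (.leaf (nat_lit 0x8c223ab6892) (nat_lit 1796))
)))) (.node (nat_lit 0x8dea600d913) (.node (nat_lit 0x8cb2320b899) (.node (nat_lit 0x8c92360b09b) (.leaf (nat_lit 0x8c882a0b09b) (nat_lit 1282))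
 (.node (nat_lit 0x8ca82e0b899) (.leaf (nat_lit 0x8c92360b09b) (nat_lit 1283))
 (.leaf (nat_lit 0x8ca82e0b899) (nat_lit 1538))
)) (.node (nat_lit 0x8dca740c800) (.leaf (nat_lit 0x8cb2320b899) (nat_lit 1539))
 (.node (nat_lit 0x8dd2c80c800) (.leaf (nat_lit 0x8dca740c800) (nat_lit 1796))
 (.leaf (nat_lit 0x8dd2c80c800) (nat_lit 1028))
))) (.node (nat_lit 0x8ed1c6b6892) (.node (nat_lit 0x8df2c00d913) (.leaf (nat_lit 0x8dea600d913) (nat_lit 2052))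
 (.node (nat_lit 0x8ec2f6b6892) (.leaf (nat_lit 0x8df2c00d913) (nat_lit 1284))
 (.leaf (nat_lit 0x8ec2f6b6892) (nat_lit 1027))
)) (.node (nat_lit 0x8f02fab5091) (.leaf (nat_lit 0x8ed1c6b6892) (nat_lit 2051))
 (.node (nat_lit 0x8f11c2b5091) (.leaf (nat_lit 0x8f02fab5091) (nat_lit 771))
 (.leaf (nat_lit 0x8f11c2b5091) (nat_lit 1795))
))))) (.node (nat_lit 0x94e7160b899) (.node (nat_lit 0x9168d448d6a) (.node (nat_lit 0x8fcf6c74059) (.node (nat_lit 0x8faf747505a) (.leaf (nat_lit 0x8fa8a07505a) (nat_lit 1028))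
 (.node (nat_lit 0x8fc8a474059) (.leaf (nat_lit 0x8faf747505a) (nat_lit 1028))
 (.leaf (nat_lit 0x8fc8a474059) (nat_lit 1284))
)) (.node (nat_lit 0x9148d04956d) (.leaf (nat_lit 0x8fcf6c74059) (nat_lit 1284))
 (.node (nat_lit 0x9149a44956d) (.leaf (nat_lit 0x9148d04956d) (nat_lit 515))
 (.leaf (nat_lit 0x9149a44956d) (nat_lit 1541))
))) (.node (nat_lit 0x924cd400019) (.node (nat_lit 0x91699c48d6a) (.leaf (nat_lit 0x9168d448d6a) (nat_lit 259))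
 (.node (nat_lit 0x92476c00019) (.leaf (nat_lit 0x91699c48d6a) (nat_lit 1285))
 (.leaf (nat_lit 0x92476c00019) (nat_lit 1029))
)) (.node (nat_lit 0x92677c8981b) (.leaf (nat_lit 0x924cd400019) (nat_lit 1796))
 (.node (nat_lit 0x926cd08981b) (.leaf (nat_lit 0x92677c8981b) (nat_lit 1285))
 (.leaf (nat_lit 0x926cd08981b) (nat_lit 2052))
)))) (.node (nat_lit 0x9688a07505a) (.node (nat_lit 0x956fb20b09b) (.node (nat_lit 0x94efb60b899) (.leaf (nat_lit 0x94e7160b899) (nat_lit 2052))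
 (.node (nat_lit 0x9566fe0b09b) (.leaf (nat_lit 0x94efb60b899) (nat_lit 2052))
 (.leaf (nat_lit 0x9566fe0b09b) (nat_lit 1796))
)) (.node (nat_lit 0x9668a474059) (.leaf (nat_lit 0x956fb20b09b) (nat_lit 1796))
 (.node (nat_lit 0x966f6c74059) (.leaf (nat_lit 0x9668a474059) (nat_lit 1028))
 (.leaf (nat_lit 0x966f6c74059) (nat_lit 1540))
))) (.node (nat_lit 0x98d1e84cc17) (.node (nat_lit 0x968f747505a) (.leaf (nat_lit 0x9688a07505a) (nat_lit 772))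
 (.node (nat_lit 0x98c40c4cc17) (.leaf (nat_lit 0x968f747505a) (nat_lit 1284))
 (.leaf (nat_lit 0x98c40c4cc17) (nat_lit 1540))
)) (.node (nat_lit 0x98e4084dc16) (.leaf (nat_lit 0x98d1e84cc17) (nat_lit 1028))
 (.node (nat_lit 0x98f1e44dc16) (.leaf (nat_lit 0x98e4084dc16) (nat_lit 1284))
 (.leaf (nat_lit 0x98f1e44dc16) (nat_lit 772))
)))))) (.node (nat_lit 0xa101ceb5091) (.node (nat_lit 0x9d67020b899) (.node (nat_lit 0x9b677074059) (.node (nat_lit 0x9b27060b899) (.node (nat_lit 0x9b07260b09b) (.leaf (nat_lit 0x9b07220b09b) (nat_lit 1028))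
 (.node (nat_lit 0x9b27020b899) (.leaf (nat_lit 0x9b07260b09b) (nat_lit 1540))
 (.leaf (nat_lit 0x9b27020b899) (nat_lit 1284))
)) (.node (nat_lit 0x9b47687505a) (.leaf (nat_lit 0x9b27060b899) (nat_lit 1796))
 (.node (nat_lit 0x9b55647505a) (.leaf (nat_lit 0x9b47687505a) (nat_lit 773))
 (.leaf (nat_lit 0x9b55647505a) (nat_lit 771))
))) (.node (nat_lit 0x9c95647505a) (.node (nat_lit 0x9b756074059) (.leaf (nat_lit 0x9b677074059) (nat_lit 1029))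
 (.node (nat_lit 0x9c87687505a) (.leaf (nat_lit 0x9b756074059) (nat_lit 1027))
 (.leaf (nat_lit 0x9c87687505a) (nat_lit 1029))
)) (.node (nat_lit 0x9ca77074059) (.leaf (nat_lit 0x9c95647505a) (nat_lit 514))
 (.node (nat_lit 0x9cb56074059) (.leaf (nat_lit 0x9ca77074059) (nat_lit 1285))
 (.leaf (nat_lit 0x9cb56074059) (nat_lit 770))
)))) (.node (nat_lit 0x9e200eb5091) (.node (nat_lit 0x9da7260b09b) (.node (nat_lit 0x9d67060b899) (.leaf (nat_lit 0x9d67020b899) (nat_lit 1540))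
 (.node (nat_lit 0x9da7220b09b) (.leaf (nat_lit 0x9d67060b899) (nat_lit 1540))
 (.leaf (nat_lit 0x9da7220b09b) (nat_lit 1284))
)) (.node (nat_lit 0x9e0012b6892) (.leaf (nat_lit 0x9da7260b09b) (nat_lit 1284))
 (.node (nat_lit 0x9e05a6b6892) (.leaf (nat_lit 0x9e0012b6892) (nat_lit 1285))
 (.leaf (nat_lit 0x9e05a6b6892) (nat_lit 2308))
))) (.node (nat_lit 0xa0509474059) (.node (nat_lit 0x9e25a2b5091) (.leaf (nat_lit 0x9e200eb5091) (nat_lit 1029))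
 (.node (nat_lit 0xa04f6074059) (.leaf (nat_lit 0x9e25a2b5091) (nat_lit 2052))
 (.leaf (nat_lit 0xa04f6074059) (nat_lit 1539))
)) (.node (nat_lit 0xa06f647505a) (.leaf (nat_lit 0xa0509474059) (nat_lit 1284))
 (.node (nat_lit 0xa070907505a) (.leaf (nat_lit 0xa06f647505a) (nat_lit 1283))
 (.leaf (nat_lit 0xa070907505a) (nat_lit 1028))
))))) (.node (nat_lit 0xa701884956d) (.node (nat_lit 0xa6451a0b899) (.node (nat_lit 0xa124f6b6892) (.node (nat_lit 0xa104f2b5091) (.leaf (nat_lit 0xa101ceb5091) (nat_lit 515))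
 (.node (nat_lit 0xa121cab6892) (.leaf (nat_lit 0xa104f2b5091) (nat_lit 1541))
 (.leaf (nat_lit 0xa121cab6892) (nat_lit 771))
)) (.node (nat_lit 0xa6051e0b09b) (.leaf (nat_lit 0xa124f6b6892) (nat_lit 1797))
 (.node (nat_lit 0xa6084a0b09b) (.leaf (nat_lit 0xa6051e0b09b) (nat_lit 1285))
 (.leaf (nat_lit 0xa6084a0b09b) (nat_lit 1796))
))) (.node (nat_lit 0xa6d1e44dc16) (.node (nat_lit 0xa648520b899) (.leaf (nat_lit 0xa6451a0b899) (nat_lit 1541))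
 (.node (nat_lit 0xa6c4084dc16) (.leaf (nat_lit 0xa648520b899) (nat_lit 2052))
 (.leaf (nat_lit 0xa6c4084dc16) (nat_lit 1028))
)) (.node (nat_lit 0xa6e40c4cc17) (.leaf (nat_lit 0xa6d1e44dc16) (nat_lit 1028))
 (.node (nat_lit 0xa6f1e84cc17) (.leaf (nat_lit 0xa6e40c4cc17) (nat_lit 1284))
 (.leaf (nat_lit 0xa6f1e84cc17) (nat_lit 1284))
)))) (.node (nat_lit 0xa8ed7c7505a) (.node (nat_lit 0xa72fd048d6a) (.node (nat_lit 0xa70fd44956d) (.leaf (nat_lit 0xa701884956d) (nat_lit 1029))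
 (.node (nat_lit 0xa7218448d6a) (.leaf (nat_lit 0xa70fd44956d) (nat_lit 2052))
 (.leaf (nat_lit 0xa7218448d6a) (nat_lit 773))
)) (.node (nat_lit 0xa8cd7874059) (.leaf (nat_lit 0xa72fd048d6a) (nat_lit 1796))
 (.node (nat_lit 0xa8d4d074059) (.leaf (nat_lit 0xa8cd7874059) (nat_lit 1796))
 (.leaf (nat_lit 0xa8d4d074059) (nat_lit 1796))
))) (.node (nat_lit 0xa9284a0b09b) (.node (nat_lit 0xa8f4d47505a) (.leaf (nat_lit 0xa8ed7c7505a) (nat_lit 1540))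
 (.node (nat_lit 0xa9251e0b09b) (.leaf (nat_lit 0xa8f4d47505a) (nat_lit 1540))
 (.leaf (nat_lit 0xa9251e0b09b) (nat_lit 1541))
)) (.node (nat_lit 0xa9651a0b899) (.leaf (nat_lit 0xa9284a0b09b) (nat_lit 1540))
 (.node (nat_lit 0xa968520b899) (.leaf (nat_lit 0xa9651a0b899) (nat_lit 1797))
 (.leaf (nat_lit 0xa968520b899) (nat_lit 1796))
)))))))))

theorem Ga_ok : genOK A [(nat_lit 0x40e80d913), (nat_lit 0x12f13800019), (nat_lit 0x3c335c2d0ea), (nat_lit 0x9168d448d6a), (nat_lit 0xe91640c800), (nat_lit 0x178b540c800)] Ga_t (nat_lit 384) = true := by decide +kernel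

/-- A listed subgroup. -/
noncomputable def G3_t : ST :=
(.node (nat_lit 0x3f4558b6991) (.node (nat_lit 0x1e64604dc16) (.node (nat_lit 0xfc0ecb618f) (.node (nat_lit 0x92a042d0ea) (.node (nat_lit 0x305e0c8166) (.node (nat_lit 0x10d98b3190) (.node (nat_lit 0x91f80e03f) (.node (nat_lit 0x49480d913) (.node (nat_lit 0x29600c800) (.node (nat_lit 0x24080c800) (.leaf (nat_lit 0x20e40c800) (nat_lit 0))
 (.leaf (nat_lit 0x24080c800) (nat_lit 1796))
) (.node (nat_lit 0x40e80d913) (.leaf (nat_lit 0x29600c800) (nat_lit 1796))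
 (.node (nat_lit 0x440c0d913) (.leaf (nat_lit 0x40e80d913) (nat_lit 1026))
 (.leaf (nat_lit 0x440c0d913) (nat_lit 2564))
))) (.node (nat_lit 0x71f40d040) (.node (nat_lit 0x64040d040) (.leaf (nat_lit 0x49480d913) (nat_lit 2564))
 (.node (nat_lit 0x69680d040) (.leaf (nat_lit 0x64040d040) (nat_lit 2052))
 (.leaf (nat_lit 0x69680d040) (nat_lit 2308))
)) (.node (nat_lit 0x83e40e03f) (.leaf (nat_lit 0x71f40d040) (nat_lit 769))
 (.node (nat_lit 0x89640e03f) (.leaf (nat_lit 0x83e40e03f) (nat_lit 2052))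
 (.leaf (nat_lit 0x89640e03f) (nat_lit 2308))
)))) (.node (nat_lit 0xc758b618f) (.node (nat_lit 0xa75cb6991) (.node (nat_lit 0xa5ccb6991) (.leaf (nat_lit 0x91f80e03f) (nat_lit 770))
 (.leaf (nat_lit 0xa5ccb6991) (nat_lit 1539))
) (.node (nat_lit 0xb28cb6991) (.leaf (nat_lit 0xa75cb6991) (nat_lit 1795))
 (.node (nat_lit 0xc5c8b618f) (.leaf (nat_lit 0xb28cb6991) (nat_lit 1794))
 (.leaf (nat_lit 0xc5c8b618f) (nat_lit 2306))
))) (.node (nat_lit 0xed9cb598e) (.node (nat_lit 0xd284b618f) (.leaf (nat_lit 0xc758b618f) (nat_lit 2307))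
 (.node (nat_lit 0xe754b598e) (.leaf (nat_lit 0xd284b618f) (nat_lit 2306))
 (.leaf (nat_lit 0xe754b598e) (nat_lit 1796))
)) (.node (nat_lit 0xf280b598e) (.leaf (nat_lit 0xed9cb598e) (nat_lit 1794))
 (.node (nat_lit 0x10750b3190) (.leaf (nat_lit 0xf280b598e) (nat_lit 2051))
 (.leaf (nat_lit 0x10750b3190) (nat_lit 1796))
))))) (.node (nat_lit 0x1a3c80c800) (.node (nat_lit 0x163c00e03f) (.node (nat_lit 0x123bc0d040) (.node (nat_lit 0x11288b3190) (.leaf (nat_lit 0x10d98b3190) (nat_lit 1793))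
 (.leaf (nat_lit 0x11288b3190) (nat_lit 2051))
) (.node (nat_lit 0x129740d040) (.leaf (nat_lit 0x123bc0d040) (nat_lit 1796))
 (.node (nat_lit 0x12b4c0d040) (.leaf (nat_lit 0x129740d040) (nat_lit 2052))
 (.leaf (nat_lit 0x12b4c0d040) (nat_lit 1795))
))) (.node (nat_lit 0x183c40d913) (.node (nat_lit 0x169700e03f) (.leaf (nat_lit 0x163c00e03f) (nat_lit 1796))
 (.node (nat_lit 0x16ae80e03f) (.leaf (nat_lit 0x169700e03f) (nat_lit 2052))
 (.leaf (nat_lit 0x16ae80e03f) (nat_lit 1795))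
)) (.node (nat_lit 0x1894c0d913) (.leaf (nat_lit 0x183c40d913) (nat_lit 2308))
 (.node (nat_lit 0x18b500d913) (.leaf (nat_lit 0x1894c0d913) (nat_lit 2564))
 (.leaf (nat_lit 0x18b500d913) (nat_lit 2307))
)))) (.node (nat_lit 0x2c5d8c716b) (.node (nat_lit 0x2a5e4c896d) (.node (nat_lit 0x1a96c0c800) (.leaf (nat_lit 0x1a3c80c800) (nat_lit 1796))
 (.node (nat_lit 0x1ab540c800) (.leaf (nat_lit 0x1a96c0c800) (nat_lit 2052))
 (.leaf (nat_lit 0x1ab540c800) (nat_lit 1540))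
)) (.node (nat_lit 0x2ac00c896d) (.leaf (nat_lit 0x2a5e4c896d) (nat_lit 2050))
 (.node (nat_lit 0x2ae50c896d) (.leaf (nat_lit 0x2ac00c896d) (nat_lit 2051))
 (.leaf (nat_lit 0x2ae50c896d) (nat_lit 1795))
))) (.node (nat_lit 0x2e5dcc796c) (.node (nat_lit 0x2cc04c716b) (.leaf (nat_lit 0x2c5d8c716b) (nat_lit 1795))
 (.node (nat_lit 0x2ce5cc716b) (.leaf (nat_lit 0x2cc04c716b) (nat_lit 1540))
 (.leaf (nat_lit 0x2ce5cc716b) (nat_lit 1538))
)) (.node (nat_lit 0x2ec08c796c) (.leaf (nat_lit 0x2e5dcc796c) (nat_lit 2050))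
 (.node (nat_lit 0x2ee54c796c) (.leaf (nat_lit 0x2ec08c796c) (nat_lit 2051))
 (.leaf (nat_lit 0x2ee54c796c) (nat_lit 2050))
)))))) (.node (nat_lit 0x4f02c2001a) (.node (nat_lit 0x473b80d913) (.node (nat_lit 0x433c40d040) (.node (nat_lit 0x30e58c8166) (.node (nat_lit 0x30c0cc8166) (.leaf (nat_lit 0x305e0c8166) (nat_lit 2307))
 (.leaf (nat_lit 0x30c0cc8166) (nat_lit 2052))
) (.node (nat_lit 0x423fc0d040) (.leaf (nat_lit 0x30e58c8166) (nat_lit 2049))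
 (.node (nat_lit 0x42b100d040) (.leaf (nat_lit 0x423fc0d040) (nat_lit 1539))
 (.leaf (nat_lit 0x42b100d040) (nat_lit 1540))
))) (.node (nat_lit 0x453c00e03f) (.node (nat_lit 0x444000e03f) (.leaf (nat_lit 0x433c40d040) (nat_lit 2308))
 (.node (nat_lit 0x44b140e03f) (.leaf (nat_lit 0x444000e03f) (nat_lit 1539))
 (.leaf (nat_lit 0x44b140e03f) (nat_lit 1540))
)) (.node (nat_lit 0x463f80d913) (.leaf (nat_lit 0x453c00e03f) (nat_lit 2308))
 (.node (nat_lit 0x46b180d913) (.leaf (nat_lit 0x463f80d913) (nat_lit 1794))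
 (.leaf (nat_lit 0x46b180d913) (nat_lit 2052))
)))) (.node (nat_lit 0x4b0341f81c) (.node (nat_lit 0x48b1c0c800) (.node (nat_lit 0x483e00c800) (.leaf (nat_lit 0x473b80d913) (nat_lit 2820))
 (.leaf (nat_lit 0x483e00c800) (nat_lit 1027))
) (.node (nat_lit 0x493bc0c800) (.leaf (nat_lit 0x48b1c0c800) (nat_lit 1540))
 (.node (nat_lit 0x4a8741f81c) (.leaf (nat_lit 0x493bc0c800) (nat_lit 2052))
 (.leaf (nat_lit 0x4a8741f81c) (nat_lit 1796))
))) (.node (nat_lit 0x4c88c8981b) (.node (nat_lit 0x4b1081f81c) (.leaf (nat_lit 0x4b0341f81c) (nat_lit 1539))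
 (.node (nat_lit 0x4c8308981b) (.leaf (nat_lit 0x4b1081f81c) (nat_lit 1540))
 (.leaf (nat_lit 0x4c8308981b) (nat_lit 2052))
)) (.node (nat_lit 0x4d0288981b) (.leaf (nat_lit 0x4c88c8981b) (nat_lit 2308))
 (.node (nat_lit 0x4e8842001a) (.leaf (nat_lit 0x4d0288981b) (nat_lit 2051))
 (.leaf (nat_lit 0x4e8842001a) (nat_lit 2308))
))))) (.node (nat_lit 0x6a9cc0d913) (.node (nat_lit 0x669bc0c800) (.node (nat_lit 0x5083400019) (.node (nat_lit 0x4f10c2001a) (.leaf (nat_lit 0x4f02c2001a) (nat_lit 2051))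
 (.leaf (nat_lit 0x4f10c2001a) (nat_lit 2052))
) (.node (nat_lit 0x5088800019) (.leaf (nat_lit 0x5083400019) (nat_lit 2052))
 (.node (nat_lit 0x5103000019) (.leaf (nat_lit 0x5088800019) (nat_lit 2308))
 (.leaf (nat_lit 0x5103000019) (nat_lit 1796))
))) (.node (nat_lit 0x690440c800) (.node (nat_lit 0x66a380c800) (.leaf (nat_lit 0x669bc0c800) (nat_lit 1796))
 (.node (nat_lit 0x675e80c800) (.leaf (nat_lit 0x66a380c800) (nat_lit 1540))
 (.leaf (nat_lit 0x675e80c800) (nat_lit 1283))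
)) (.node (nat_lit 0x695280c800) (.leaf (nat_lit 0x690440c800) (nat_lit 771))
 (.node (nat_lit 0x695700c800) (.leaf (nat_lit 0x695280c800) (nat_lit 1027))
 (.leaf (nat_lit 0x695700c800) (nat_lit 2052))
)))) (.node (nat_lit 0x6e9d40e03f) (.node (nat_lit 0x6c9d00d040) (.node (nat_lit 0x6aa3c0d913) (.leaf (nat_lit 0x6a9cc0d913) (nat_lit 2308))
 (.node (nat_lit 0x6b5ec0d913) (.leaf (nat_lit 0x6aa3c0d913) (nat_lit 2308))
 (.leaf (nat_lit 0x6b5ec0d913) (nat_lit 2050))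
)) (.node (nat_lit 0x6ca340d040) (.leaf (nat_lit 0x6c9d00d040) (nat_lit 1796))
 (.node (nat_lit 0x6d55c0d040) (.leaf (nat_lit 0x6ca340d040) (nat_lit 1796))
 (.leaf (nat_lit 0x6d55c0d040) (nat_lit 1795))
))) (.node (nat_lit 0x710400d913) (.node (nat_lit 0x6ea2c0e03f) (.leaf (nat_lit 0x6e9d40e03f) (nat_lit 1796))
 (.node (nat_lit 0x6f5580e03f) (.leaf (nat_lit 0x6ea2c0e03f) (nat_lit 1796))
 (.leaf (nat_lit 0x6f5580e03f) (nat_lit 1795))
)) (.node (nat_lit 0x715200d913) (.leaf (nat_lit 0x710400d913) (nat_lit 1539))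
 (.node (nat_lit 0x715740d913) (.leaf (nat_lit 0x715200d913) (nat_lit 1794))
 (.leaf (nat_lit 0x715740d913) (nat_lit 2564))
))))))) (.node (nat_lit 0xc472c2001a) (.node (nat_lit 0xa4f1800019) (.node (nat_lit 0x992cc2d8eb) (.node (nat_lit 0x952c02c8e8) (.node (nat_lit 0x932c82d0ea) (.node (nat_lit 0x92e4c2d0ea) (.leaf (nat_lit 0x92a042d0ea) (nat_lit 1282))
 (.leaf (nat_lit 0x92e4c2d0ea) (nat_lit 772))
) (.node (nat_lit 0x94a002c8e8) (.leaf (nat_lit 0x932c82d0ea) (nat_lit 2564))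
 (.node (nat_lit 0x94e442c8e8) (.leaf (nat_lit 0x94a002c8e8) (nat_lit 1794))
 (.leaf (nat_lit 0x94e442c8e8) (nat_lit 1796))
))) (.node (nat_lit 0x972d02e0e9) (.node (nat_lit 0x969e82e0e9) (.leaf (nat_lit 0x952c02c8e8) (nat_lit 3076))
 (.node (nat_lit 0x96e482e0e9) (.leaf (nat_lit 0x969e82e0e9) (nat_lit 1795))
 (.leaf (nat_lit 0x96e482e0e9) (nat_lit 1284))
)) (.node (nat_lit 0x989fc2d8eb) (.leaf (nat_lit 0x972d02e0e9) (nat_lit 2564))
 (.node (nat_lit 0x98e402d8eb) (.leaf (nat_lit 0x989fc2d8eb) (nat_lit 1795))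
 (.leaf (nat_lit 0x98e402d8eb) (nat_lit 1284))
)))) (.node (nat_lit 0xa0f148981b) (.node (nat_lit 0x9ef101f81c) (.node (nat_lit 0x9ead41f81c) (.leaf (nat_lit 0x992cc2d8eb) (nat_lit 2564))
 (.leaf (nat_lit 0x9ead41f81c) (nat_lit 1283))
) (.node (nat_lit 0x9f4e41f81c) (.leaf (nat_lit 0x9ef101f81c) (nat_lit 1284))
 (.node (nat_lit 0xa0ad88981b) (.leaf (nat_lit 0x9f4e41f81c) (nat_lit 2052))
 (.leaf (nat_lit 0xa0ad88981b) (nat_lit 1538))
))) (.node (nat_lit 0xa2f0c2001a) (.node (nat_lit 0xa14e88981b) (.leaf (nat_lit 0xa0f148981b) (nat_lit 1796))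
 (.node (nat_lit 0xa2adc2001a) (.leaf (nat_lit 0xa14e88981b) (nat_lit 2564))
 (.leaf (nat_lit 0xa2adc2001a) (nat_lit 1795))
)) (.node (nat_lit 0xa34e02001a) (.leaf (nat_lit 0xa2f0c2001a) (nat_lit 1796))
 (.node (nat_lit 0xa4ad000019) (.leaf (nat_lit 0xa34e02001a) (nat_lit 2564))
 (.leaf (nat_lit 0xa4ad000019) (nat_lit 1283))
))))) (.node (nat_lit 0xac92474059) (.node (nat_lit 0xa8b2c0c800) (.node (nat_lit 0xa6b340d913) (.node (nat_lit 0xa54ec00019) (.leaf (nat_lit 0xa4f1800019) (nat_lit 1796))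
 (.leaf (nat_lit 0xa54ec00019) (nat_lit 2308))
) (.node (nat_lit 0xa6c980d913) (.leaf (nat_lit 0xa6b340d913) (nat_lit 2052))
 (.node (nat_lit 0xa74000d913) (.leaf (nat_lit 0xa6c980d913) (nat_lit 2564))
 (.leaf (nat_lit 0xa74000d913) (nat_lit 2563))
))) (.node (nat_lit 0xaa7887585b) (.node (nat_lit 0xa8c940c800) (.leaf (nat_lit 0xa8b2c0c800) (nat_lit 1540))
 (.node (nat_lit 0xa94040c800) (.leaf (nat_lit 0xa8c940c800) (nat_lit 2052))
 (.leaf (nat_lit 0xa94040c800) (nat_lit 1796))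
)) (.node (nat_lit 0xaa9207585b) (.leaf (nat_lit 0xaa7887585b) (nat_lit 1284))
 (.node (nat_lit 0xaae607585b) (.leaf (nat_lit 0xaa9207585b) (nat_lit 1795))
 (.leaf (nat_lit 0xaae607585b) (nat_lit 1796))
)))) (.node (nat_lit 0xb092c7505a) (.node (nat_lit 0xae78c7485c) (.node (nat_lit 0xaccd074059) (.leaf (nat_lit 0xac92474059) (nat_lit 1794))
 (.node (nat_lit 0xad12074059) (.leaf (nat_lit 0xaccd074059) (nat_lit 2308))
 (.leaf (nat_lit 0xad12074059) (nat_lit 1796))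
)) (.node (nat_lit 0xae9287485c) (.leaf (nat_lit 0xae78c7485c) (nat_lit 1796))
 (.node (nat_lit 0xaee647485c) (.leaf (nat_lit 0xae9287485c) (nat_lit 2307))
 (.leaf (nat_lit 0xaee647485c) (nat_lit 2308))
))) (.node (nat_lit 0xc27281f81c) (.node (nat_lit 0xb0cd47505a) (.leaf (nat_lit 0xb092c7505a) (nat_lit 1794))
 (.node (nat_lit 0xb11247505a) (.leaf (nat_lit 0xb0cd47505a) (nat_lit 2308))
 (.leaf (nat_lit 0xb11247505a) (nat_lit 1284))
)) (.node (nat_lit 0xc2d581f81c) (.leaf (nat_lit 0xc27281f81c) (nat_lit 1796))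
 (.node (nat_lit 0xc309c1f81c) (.leaf (nat_lit 0xc2d581f81c) (nat_lit 514))
 (.leaf (nat_lit 0xc309c1f81c) (nat_lit 2052))
)))))) (.node (nat_lit 0xd26d81f09c) (.node (nat_lit 0xcb56a0b899) (.node (nat_lit 0xc71d4c8166) (.node (nat_lit 0xc50982001a) (.node (nat_lit 0xc4d5c2001a) (.leaf (nat_lit 0xc472c2001a) (nat_lit 2308))
 (.leaf (nat_lit 0xc4d5c2001a) (nat_lit 1025))
) (.node (nat_lit 0xc607cc8166) (.leaf (nat_lit 0xc50982001a) (nat_lit 2564))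
 (.node (nat_lit 0xc67f8c8166) (.leaf (nat_lit 0xc607cc8166) (nat_lit 2308))
 (.leaf (nat_lit 0xc67f8c8166) (nat_lit 2052))
))) (.node (nat_lit 0xc90dc1e89a) (.node (nat_lit 0xc82e41e89a) (.leaf (nat_lit 0xc71d4c8166) (nat_lit 1793))
 (.node (nat_lit 0xc86ec1e89a) (.leaf (nat_lit 0xc82e41e89a) (nat_lit 2308))
 (.leaf (nat_lit 0xc86ec1e89a) (nat_lit 2052))
)) (.node (nat_lit 0xca2f60b899) (.leaf (nat_lit 0xc90dc1e89a) (nat_lit 2051))
 (.node (nat_lit 0xcb0d60b899) (.leaf (nat_lit 0xca2f60b899) (nat_lit 2308))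
 (.leaf (nat_lit 0xcb0d60b899) (nat_lit 1794))
)))) (.node (nat_lit 0xce7fcc716b) (.node (nat_lit 0xcc6f4c796c) (.node (nat_lit 0xcc078c796c) (.leaf (nat_lit 0xcb56a0b899) (nat_lit 2052))
 (.leaf (nat_lit 0xcc078c796c) (nat_lit 2308))
) (.node (nat_lit 0xcd1c8c796c) (.leaf (nat_lit 0xcc6f4c796c) (nat_lit 1796))
 (.node (nat_lit 0xce080c716b) (.leaf (nat_lit 0xcd1c8c796c) (nat_lit 1796))
 (.leaf (nat_lit 0xce080c716b) (nat_lit 1796))
))) (.node (nat_lit 0xd06f0c896d) (.node (nat_lit 0xcf1d0c716b) (.leaf (nat_lit 0xce7fcc716b) (nat_lit 1540))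
 (.node (nat_lit 0xd0074c896d) (.leaf (nat_lit 0xcf1d0c716b) (nat_lit 1282))
 (.leaf (nat_lit 0xd0074c896d) (nat_lit 1796))
)) (.node (nat_lit 0xd11ccc896d) (.leaf (nat_lit 0xd06f0c896d) (nat_lit 1540))
 (.node (nat_lit 0xd22f01f09c) (.leaf (nat_lit 0xd11ccc896d) (nat_lit 1539))
 (.leaf (nat_lit 0xd22f01f09c) (nat_lit 1796))
))))) (.node (nat_lit 0xee2840e03f) (.node (nat_lit 0xd64704d03d) (.node (nat_lit 0xd42fa0b09b) (.node (nat_lit 0xd30d81f09c) (.leaf (nat_lit 0xd26d81f09c) (nat_lit 1540))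
 (.leaf (nat_lit 0xd30d81f09c) (nat_lit 1539))
) (.node (nat_lit 0xd50ae0b09b) (.leaf (nat_lit 0xd42fa0b09b) (nat_lit 2308))
 (.node (nat_lit 0xd556e0b09b) (.leaf (nat_lit 0xd50ae0b09b) (nat_lit 1794))
 (.leaf (nat_lit 0xd556e0b09b) (nat_lit 2052))
))) (.node (nat_lit 0xd84744e03e) (.node (nat_lit 0xd6a284d03d) (.leaf (nat_lit 0xd64704d03d) (nat_lit 1028))
 (.node (nat_lit 0xd747c4d03d) (.leaf (nat_lit 0xd6a284d03d) (nat_lit 1795))
 (.leaf (nat_lit 0xd747c4d03d) (nat_lit 1793))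
)) (.node (nat_lit 0xd8a244e03e) (.leaf (nat_lit 0xd84744e03e) (nat_lit 1028))
 (.node (nat_lit 0xd948c4e03e) (.leaf (nat_lit 0xd8a244e03e) (nat_lit 1795))
 (.leaf (nat_lit 0xd948c4e03e) (nat_lit 1794))
)))) (.node (nat_lit 0xf22dc0c800) (.node (nat_lit 0xf02880d040) (.node (nat_lit 0xeeb080e03f) (.leaf (nat_lit 0xee2840e03f) (nat_lit 1283))
 (.node (nat_lit 0xef2140e03f) (.leaf (nat_lit 0xeeb080e03f) (nat_lit 2052))
 (.leaf (nat_lit 0xef2140e03f) (nat_lit 1282))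
)) (.node (nat_lit 0xf0b0c0d040) (.leaf (nat_lit 0xf02880d040) (nat_lit 1283))
 (.node (nat_lit 0xf12100d040) (.leaf (nat_lit 0xf0b0c0d040) (nat_lit 2052))
 (.leaf (nat_lit 0xf12100d040) (nat_lit 1281))
))) (.node (nat_lit 0xf42e00d913) (.node (nat_lit 0xf2acc0c800) (.leaf (nat_lit 0xf22dc0c800) (nat_lit 771))
 (.node (nat_lit 0xf32080c800) (.leaf (nat_lit 0xf2acc0c800) (nat_lit 1796))
 (.leaf (nat_lit 0xf32080c800) (nat_lit 1283))
)) (.node (nat_lit 0xf4b040d913) (.leaf (nat_lit 0xf42e00d913) (nat_lit 1538))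
 (.node (nat_lit 0xf520c0d913) (.leaf (nat_lit 0xf4b040d913) (nat_lit 2308))
 (.leaf (nat_lit 0xf520c0d913) (nat_lit 2051))
)))))))) (.node (nat_lit 0x17ebdc48d6a) (.node (nat_lit 0x128294b6991) (.node (nat_lit 0x11152c0e03f) (.node (nat_lit 0x1090dc2001a) (.node (nat_lit 0xff250b6991) (.node (nat_lit 0xfd25cb618f) (.node (nat_lit 0xfc57cb618f) (.leaf (nat_lit 0xfc0ecb618f) (nat_lit 1794))
 (.leaf (nat_lit 0xfc57cb618f) (nat_lit 2563))
) (.node (nat_lit 0xfe0f0b6991) (.leaf (nat_lit 0xfd25cb618f) (nat_lit 2562))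
 (.node (nat_lit 0xfe578b6991) (.leaf (nat_lit 0xfe0f0b6991) (nat_lit 1282))
 (.leaf (nat_lit 0xfe578b6991) (nat_lit 2051))
))) (.node (nat_lit 0x1070d81f81c) (.node (nat_lit 0x106ea81f81c) (.leaf (nat_lit 0xff250b6991) (nat_lit 1795))
 (.node (nat_lit 0x106fa81f81c) (.leaf (nat_lit 0x106ea81f81c) (nat_lit 1539))
 (.leaf (nat_lit 0x106fa81f81c) (nat_lit 1540))
)) (.node (nat_lit 0x108ea02001a) (.leaf (nat_lit 0x1070d81f81c) (nat_lit 1540))
 (.node (nat_lit 0x108fac2001a) (.leaf (nat_lit 0x108ea02001a) (nat_lit 2051))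
 (.leaf (nat_lit 0x108fac2001a) (nat_lit 2052))
)))) (.node (nat_lit 0x10d1142001a) (.node (nat_lit 0x10b1101f81c) (.node (nat_lit 0x10af7c1f81c) (.leaf (nat_lit 0x1090dc2001a) (nat_lit 2052))
 (.leaf (nat_lit 0x10af7c1f81c) (nat_lit 1283))
) (.node (nat_lit 0x10b1d01f81c) (.leaf (nat_lit 0x10b1101f81c) (nat_lit 2052))
 (.node (nat_lit 0x10cf782001a) (.leaf (nat_lit 0x10b1d01f81c) (nat_lit 514))
 (.leaf (nat_lit 0x10cf782001a) (nat_lit 1795))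
))) (.node (nat_lit 0x10f5240d040) (.node (nat_lit 0x10d1d42001a) (.leaf (nat_lit 0x10d1142001a) (nat_lit 2564))
 (.node (nat_lit 0x10f03c0d040) (.leaf (nat_lit 0x10d1d42001a) (nat_lit 1025))
 (.leaf (nat_lit 0x10f03c0d040) (nat_lit 769))
)) (.node (nat_lit 0x10f5a00d040) (.leaf (nat_lit 0x10f5240d040) (nat_lit 1539))
 (.node (nat_lit 0x1110380e03f) (.leaf (nat_lit 0x10f5a00d040) (nat_lit 2308))
 (.leaf (nat_lit 0x1110380e03f) (nat_lit 770))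
))))) (.node (nat_lit 0x11a6744dc16) (.node (nat_lit 0x1166704cc17) (.node (nat_lit 0x114af84e03e) (.node (nat_lit 0x1115a40e03f) (.leaf (nat_lit 0x11152c0e03f) (nat_lit 1539))
 (.leaf (nat_lit 0x1115a40e03f) (nat_lit 2308))
) (.node (nat_lit 0x1154f84e03e) (.leaf (nat_lit 0x114af84e03e) (nat_lit 1539))
 (.node (nat_lit 0x1155c84e03e) (.leaf (nat_lit 0x1154f84e03e) (nat_lit 1538))
 (.leaf (nat_lit 0x1155c84e03e) (nat_lit 1540))
))) (.node (nat_lit 0x118af44d03d) (.node (nat_lit 0x116afc4cc17) (.leaf (nat_lit 0x1166704cc17) (nat_lit 2052))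
 (.node (nat_lit 0x1175144cc17) (.leaf (nat_lit 0x116afc4cc17) (nat_lit 1538))
 (.leaf (nat_lit 0x1175144cc17) (nat_lit 2050))
)) (.node (nat_lit 0x1194fc4d03d) (.leaf (nat_lit 0x118af44d03d) (nat_lit 1539))
 (.node (nat_lit 0x1195cc4d03d) (.leaf (nat_lit 0x1194fc4d03d) (nat_lit 1537))
 (.leaf (nat_lit 0x1195cc4d03d) (nat_lit 1540))
)))) (.node (nat_lit 0x11e34c0d040) (.node (nat_lit 0x11c3440e03f) (.node (nat_lit 0x11ab004dc16) (.leaf (nat_lit 0x11a6744dc16) (nat_lit 1284))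
 (.node (nat_lit 0x11b5104dc16) (.leaf (nat_lit 0x11ab004dc16) (nat_lit 1026))
 (.leaf (nat_lit 0x11b5104dc16) (nat_lit 1283))
)) (.node (nat_lit 0x11c3840e03f) (.leaf (nat_lit 0x11c3440e03f) (nat_lit 1282))
 (.node (nat_lit 0x11c8040e03f) (.leaf (nat_lit 0x11c3840e03f) (nat_lit 1796))
 (.leaf (nat_lit 0x11c8040e03f) (nat_lit 2052))
))) (.node (nat_lit 0x12628cb598e) (.node (nat_lit 0x11e3700d040) (.leaf (nat_lit 0x11e34c0d040) (nat_lit 1281))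
 (.node (nat_lit 0x11e80c0d040) (.leaf (nat_lit 0x11e3700d040) (nat_lit 1796))
 (.leaf (nat_lit 0x11e80c0d040) (nat_lit 2052))
)) (.node (nat_lit 0x126d90b598e) (.leaf (nat_lit 0x12628cb598e) (nat_lit 1538))
 (.node (nat_lit 0x127534b598e) (.leaf (nat_lit 0x126d90b598e) (nat_lit 1795))
 (.leaf (nat_lit 0x127534b598e) (nat_lit 2308))
)))))) (.node (nat_lit 0x15290448d6a) (.node (nat_lit 0x12f13800019) (.node (nat_lit 0x12b53cb3190) (.node (nat_lit 0x129530b6991) (.node (nat_lit 0x128d8cb6991) (.leaf (nat_lit 0x128294b6991) (nat_lit 1283))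
 (.leaf (nat_lit 0x128d8cb6991) (nat_lit 1538))
) (.node (nat_lit 0x12a290b3190) (.leaf (nat_lit 0x129530b6991) (nat_lit 2307))
 (.node (nat_lit 0x12ad88b3190) (.leaf (nat_lit 0x12a290b3190) (nat_lit 1537))
 (.leaf (nat_lit 0x12ad88b3190) (nat_lit 1795))
))) (.node (nat_lit 0x12d538b618f) (.node (nat_lit 0x12c298b618f) (.leaf (nat_lit 0x12b53cb3190) (nat_lit 2308))
 (.node (nat_lit 0x12cd94b618f) (.leaf (nat_lit 0x12c298b618f) (nat_lit 2050))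
 (.leaf (nat_lit 0x12cd94b618f) (nat_lit 2050))
)) (.node (nat_lit 0x12e72400019) (.leaf (nat_lit 0x12d538b618f) (nat_lit 2819))
 (.node (nat_lit 0x12f09000019) (.leaf (nat_lit 0x12e72400019) (nat_lit 2052))
 (.leaf (nat_lit 0x12f09000019) (nat_lit 2052))
)))) (.node (nat_lit 0x14e9004956d) (.node (nat_lit 0x1310948981b) (.node (nat_lit 0x1307048981b) (.leaf (nat_lit 0x12f13800019) (nat_lit 257))
 (.leaf (nat_lit 0x1307048981b) (nat_lit 2308))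
) (.node (nat_lit 0x13113c8981b) (.leaf (nat_lit 0x1310948981b) (nat_lit 2308))
 (.node (nat_lit 0x14e40c4956d) (.leaf (nat_lit 0x13113c8981b) (nat_lit 770))
 (.leaf (nat_lit 0x14e40c4956d) (nat_lit 2052))
))) (.node (nat_lit 0x15090c4856c) (.node (nat_lit 0x14f4b84956d) (.leaf (nat_lit 0x14e9004956d) (nat_lit 2308))
 (.node (nat_lit 0x1504044856c) (.leaf (nat_lit 0x14f4b84956d) (nat_lit 2308))
 (.leaf (nat_lit 0x1504044856c) (nat_lit 1540))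
)) (.node (nat_lit 0x1514b04856c) (.leaf (nat_lit 0x15090c4856c) (nat_lit 1796))
 (.node (nat_lit 0x15240848d6a) (.leaf (nat_lit 0x1514b04856c) (nat_lit 1796))
 (.leaf (nat_lit 0x15240848d6a) (nat_lit 1284))
))))) (.node (nat_lit 0x15ef481f81c) (.node (nat_lit 0x158ee48981b) (.node (nat_lit 0x1543e444d6b) (.node (nat_lit 0x1534bc48d6a) (.leaf (nat_lit 0x15290448d6a) (nat_lit 1796))
 (.leaf (nat_lit 0x1534bc48d6a) (nat_lit 1540))
) (.node (nat_lit 0x15490844d6b) (.leaf (nat_lit 0x1543e444d6b) (nat_lit 1540))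
 (.node (nat_lit 0x1554b444d6b) (.leaf (nat_lit 0x15490844d6b) (nat_lit 1796))
 (.leaf (nat_lit 0x1554b444d6b) (nat_lit 1796))
))) (.node (nat_lit 0x15cee800019) (.node (nat_lit 0x1590848981b) (.leaf (nat_lit 0x158ee48981b) (nat_lit 2308))
 (.node (nat_lit 0x1591288981b) (.leaf (nat_lit 0x1590848981b) (nat_lit 1796))
 (.leaf (nat_lit 0x1591288981b) (nat_lit 2307))
)) (.node (nat_lit 0x15d08000019) (.leaf (nat_lit 0x15cee800019) (nat_lit 2308))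
 (.node (nat_lit 0x15d12c00019) (.leaf (nat_lit 0x15d08000019) (nat_lit 1796))
 (.leaf (nat_lit 0x15d12c00019) (nat_lit 2052))
)))) (.node (nat_lit 0x162b3c0e03f) (.node (nat_lit 0x160f4c2001a) (.node (nat_lit 0x15ef701f81c) (.leaf (nat_lit 0x15ef481f81c) (nat_lit 1796))
 (.node (nat_lit 0x15f08c1f81c) (.leaf (nat_lit 0x15ef701f81c) (nat_lit 1795))
 (.leaf (nat_lit 0x15f08c1f81c) (nat_lit 1284))
)) (.node (nat_lit 0x160f682001a) (.leaf (nat_lit 0x160f4c2001a) (nat_lit 2308))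
 (.node (nat_lit 0x1610882001a) (.leaf (nat_lit 0x160f682001a) (nat_lit 2307))
 (.leaf (nat_lit 0x1610882001a) (nat_lit 1796))
))) (.node (nat_lit 0x164b380d040) (.node (nat_lit 0x16336c0e03f) (.leaf (nat_lit 0x162b3c0e03f) (nat_lit 1540))
 (.node (nat_lit 0x16349c0e03f) (.leaf (nat_lit 0x16336c0e03f) (nat_lit 2051))
 (.leaf (nat_lit 0x16349c0e03f) (nat_lit 2052))
)) (.node (nat_lit 0x1653680d040) (.leaf (nat_lit 0x164b380d040) (nat_lit 1540))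
 (.node (nat_lit 0x1654980d040) (.leaf (nat_lit 0x1653680d040) (nat_lit 2051))
 (.leaf (nat_lit 0x1654980d040) (nat_lit 2052))
))))))) (.node (nat_lit 0x1b0b8c0d913) (.node (nat_lit 0x18cf384856c) (.node (nat_lit 0x18517874059) (.node (nat_lit 0x18117c7505a) (.node (nat_lit 0x17f35c48d6a) (.node (nat_lit 0x17ef3c48d6a) (.leaf (nat_lit 0x17ebdc48d6a) (nat_lit 1796))
 (.leaf (nat_lit 0x17ef3c48d6a) (nat_lit 772))
) (.node (nat_lit 0x18066c7505a) (.leaf (nat_lit 0x17f35c48d6a) (nat_lit 1027))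
 (.node (nat_lit 0x1808c47505a) (.leaf (nat_lit 0x18066c7505a) (nat_lit 1028))
 (.leaf (nat_lit 0x1808c47505a) (nat_lit 2820))
))) (.node (nat_lit 0x1831747585b) (.node (nat_lit 0x1826647585b) (.leaf (nat_lit 0x18117c7505a) (nat_lit 1538))
 (.node (nat_lit 0x1828b87585b) (.leaf (nat_lit 0x1826647585b) (nat_lit 1028))
 (.leaf (nat_lit 0x1828b87585b) (nat_lit 2308))
)) (.node (nat_lit 0x18466874059) (.leaf (nat_lit 0x1831747585b) (nat_lit 1539))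
 (.node (nat_lit 0x1848bc74059) (.leaf (nat_lit 0x18466874059) (nat_lit 1540))
 (.leaf (nat_lit 0x1848bc74059) (nat_lit 2820))
)))) (.node (nat_lit 0x188f344956d) (.node (nat_lit 0x1868c07485c) (.node (nat_lit 0x1866607485c) (.leaf (nat_lit 0x18517874059) (nat_lit 1538))
 (.leaf (nat_lit 0x1866607485c) (nat_lit 1540))
) (.node (nat_lit 0x1871607485c) (.leaf (nat_lit 0x1868c07485c) (nat_lit 2820))
 (.node (nat_lit 0x188bd84956d) (.leaf (nat_lit 0x1871607485c) (nat_lit 2051))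
 (.leaf (nat_lit 0x188bd84956d) (nat_lit 2564))
))) (.node (nat_lit 0x18af3044d6b) (.node (nat_lit 0x18934c4956d) (.leaf (nat_lit 0x188f344956d) (nat_lit 1796))
 (.node (nat_lit 0x18abd444d6b) (.leaf (nat_lit 0x18934c4956d) (nat_lit 1795))
 (.leaf (nat_lit 0x18abd444d6b) (nat_lit 2051))
)) (.node (nat_lit 0x18b36444d6b) (.leaf (nat_lit 0x18af3044d6b) (nat_lit 1284))
 (.node (nat_lit 0x18cbd04856c) (.leaf (nat_lit 0x18b36444d6b) (nat_lit 1026))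
 (.leaf (nat_lit 0x18cbd04856c) (nat_lit 2051))
))))) (.node (nat_lit 0x196aa84e03e) (.node (nat_lit 0x192aa44dc16) (.node (nat_lit 0x190aac4d03d) (.node (nat_lit 0x18d3604856c) (.leaf (nat_lit 0x18cf384856c) (nat_lit 1284))
 (.leaf (nat_lit 0x18d3604856c) (nat_lit 1025))
) (.node (nat_lit 0x190fe44d03d) (.leaf (nat_lit 0x190aac4d03d) (nat_lit 1281))
 (.node (nat_lit 0x1914204d03d) (.leaf (nat_lit 0x190fe44d03d) (nat_lit 1284))
 (.leaf (nat_lit 0x1914204d03d) (nat_lit 2051))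
))) (.node (nat_lit 0x194aa04cc17) (.node (nat_lit 0x192fd84dc16) (.leaf (nat_lit 0x192aa44dc16) (nat_lit 1027))
 (.node (nat_lit 0x1934104dc16) (.leaf (nat_lit 0x192fd84dc16) (nat_lit 1028))
 (.leaf (nat_lit 0x1934104dc16) (nat_lit 1538))
)) (.node (nat_lit 0x194fe04cc17) (.leaf (nat_lit 0x194aa04cc17) (nat_lit 1794))
 (.node (nat_lit 0x19541c4cc17) (.leaf (nat_lit 0x194fe04cc17) (nat_lit 1796))
 (.leaf (nat_lit 0x19541c4cc17) (nat_lit 2050))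
)))) (.node (nat_lit 0x1acb7c7585b) (.node (nat_lit 0x1a4b787485c) (.node (nat_lit 0x196fdc4e03e) (.leaf (nat_lit 0x196aa84e03e) (nat_lit 1282))
 (.node (nat_lit 0x1974244e03e) (.leaf (nat_lit 0x196fdc4e03e) (nat_lit 1284))
 (.leaf (nat_lit 0x1974244e03e) (nat_lit 2051))
)) (.node (nat_lit 0x1a4e587485c) (.leaf (nat_lit 0x1a4b787485c) (nat_lit 2564))
 (.node (nat_lit 0x1a4f0c7485c) (.leaf (nat_lit 0x1a4e587485c) (nat_lit 2564))
 (.leaf (nat_lit 0x1a4f0c7485c) (nat_lit 1796))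
))) (.node (nat_lit 0x1aeb880e03f) (.node (nat_lit 0x1ace5c7585b) (.leaf (nat_lit 0x1acb7c7585b) (nat_lit 2052))
 (.node (nat_lit 0x1acf107585b) (.leaf (nat_lit 0x1ace5c7585b) (nat_lit 2052))
 (.leaf (nat_lit 0x1acf107585b) (nat_lit 1284))
)) (.node (nat_lit 0x1af06c0e03f) (.leaf (nat_lit 0x1aeb880e03f) (nat_lit 2308))
 (.node (nat_lit 0x1af1940e03f) (.leaf (nat_lit 0x1af06c0e03f) (nat_lit 1026))
 (.leaf (nat_lit 0x1af1940e03f) (nat_lit 1796))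
)))))) (.node (nat_lit 0x1c0ce87485c) (.node (nat_lit 0x1b754474059) (.node (nat_lit 0x1b319c0c800) (.node (nat_lit 0x1b11980d913) (.node (nat_lit 0x1b10640d913) (.leaf (nat_lit 0x1b0b8c0d913) (nat_lit 2820))
 (.leaf (nat_lit 0x1b10640d913) (nat_lit 1282))
) (.node (nat_lit 0x1b2b900c800) (.leaf (nat_lit 0x1b11980d913) (nat_lit 2052))
 (.node (nat_lit 0x1b30600c800) (.leaf (nat_lit 0x1b2b900c800) (nat_lit 2052))
 (.leaf (nat_lit 0x1b30600c800) (nat_lit 256))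
))) (.node (nat_lit 0x1b51900d040) (.node (nat_lit 0x1b4b800d040) (.leaf (nat_lit 0x1b319c0c800) (nat_lit 1284))
 (.node (nat_lit 0x1b50680d040) (.leaf (nat_lit 0x1b4b800d040) (nat_lit 2308))
 (.leaf (nat_lit 0x1b50680d040) (nat_lit 1025))
)) (.node (nat_lit 0x1b659474059) (.leaf (nat_lit 0x1b51900d040) (nat_lit 1796))
 (.node (nat_lit 0x1b677074059) (.leaf (nat_lit 0x1b659474059) (nat_lit 1026))
 (.leaf (nat_lit 0x1b677074059) (nat_lit 1540))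
)))) (.node (nat_lit 0x1bc7687505a) (.node (nat_lit 0x1bb4487505a) (.node (nat_lit 0x1bae307505a) (.leaf (nat_lit 0x1b754474059) (nat_lit 2308))
 (.leaf (nat_lit 0x1bae307505a) (nat_lit 2050))
) (.node (nat_lit 0x1bb56c7505a) (.leaf (nat_lit 0x1bb4487505a) (nat_lit 772))
 (.node (nat_lit 0x1bc5a87505a) (.leaf (nat_lit 0x1bb56c7505a) (nat_lit 2564))
 (.leaf (nat_lit 0x1bc5a87505a) (nat_lit 771))
))) (.node (nat_lit 0x1becec7585b) (.node (nat_lit 0x1bd54c7505a) (.leaf (nat_lit 0x1bc7687505a) (nat_lit 1028))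
 (.node (nat_lit 0x1be7787585b) (.leaf (nat_lit 0x1bd54c7505a) (nat_lit 2052))
 (.leaf (nat_lit 0x1be7787585b) (nat_lit 1028))
)) (.node (nat_lit 0x1bf5487585b) (.leaf (nat_lit 0x1becec7585b) (nat_lit 771))
 (.node (nat_lit 0x1c07747485c) (.leaf (nat_lit 0x1bf5487585b) (nat_lit 1796))
 (.leaf (nat_lit 0x1c07747485c) (nat_lit 1540))
))))) (.node (nat_lit 0x1ce5542c8e8) (.node (nat_lit 0x1ca6ec7485c) (.node (nat_lit 0x1c8e2c74059) (.node (nat_lit 0x1c15407485c) (.leaf (nat_lit 0x1c0ce87485c) (nat_lit 1283))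
 (.leaf (nat_lit 0x1c15407485c) (nat_lit 2308))
) (.node (nat_lit 0x1c944c74059) (.leaf (nat_lit 0x1c8e2c74059) (nat_lit 2050))
 (.node (nat_lit 0x1c956874059) (.leaf (nat_lit 0x1c944c74059) (nat_lit 1284))
 (.leaf (nat_lit 0x1c956874059) (nat_lit 2564))
))) (.node (nat_lit 0x1cc6d87585b) (.node (nat_lit 0x1cadf07485c) (.leaf (nat_lit 0x1ca6ec7485c) (nat_lit 2564))
 (.node (nat_lit 0x1cb4507485c) (.leaf (nat_lit 0x1cadf07485c) (nat_lit 2563))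
 (.leaf (nat_lit 0x1cb4507485c) (nat_lit 1284))
)) (.node (nat_lit 0x1cce287585b) (.leaf (nat_lit 0x1cc6d87585b) (nat_lit 2052))
 (.node (nat_lit 0x1cd4547585b) (.leaf (nat_lit 0x1cce287585b) (nat_lit 2051))
 (.leaf (nat_lit 0x1cd4547585b) (nat_lit 772))
)))) (.node (nat_lit 0x1da5502d8eb) (.node (nat_lit 0x1d85582d0ea) (.node (nat_lit 0x1cea102c8e8) (.leaf (nat_lit 0x1ce5542c8e8) (nat_lit 1540))
 (.node (nat_lit 0x1cf4b82c8e8) (.leaf (nat_lit 0x1cea102c8e8) (nat_lit 2820))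
 (.leaf (nat_lit 0x1cf4b82c8e8) (nat_lit 2306))
)) (.node (nat_lit 0x1d8a0c2d0ea) (.leaf (nat_lit 0x1d85582d0ea) (nat_lit 516))
 (.node (nat_lit 0x1d94bc2d0ea) (.leaf (nat_lit 0x1d8a0c2d0ea) (nat_lit 2308))
 (.leaf (nat_lit 0x1d94bc2d0ea) (nat_lit 1794))
))) (.node (nat_lit 0x1dc5382e0e9) (.node (nat_lit 0x1da9ec2d8eb) (.leaf (nat_lit 0x1da5502d8eb) (nat_lit 1028))
 (.node (nat_lit 0x1db4b42d8eb) (.leaf (nat_lit 0x1da9ec2d8eb) (nat_lit 2308))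
 (.leaf (nat_lit 0x1db4b42d8eb) (nat_lit 2307))
)) (.node (nat_lit 0x1dca082e0e9) (.leaf (nat_lit 0x1dc5382e0e9) (nat_lit 1028))
 (.node (nat_lit 0x1dd4b02e0e9) (.leaf (nat_lit 0x1dca082e0e9) (nat_lit 2308))
 (.leaf (nat_lit 0x1dd4b02e0e9) (nat_lit 2307))
))))))))) (.node (nat_lit 0x2b21d01f09c) (.node (nat_lit 0x2589c80d040) (.node (nat_lit 0x2342d60b09b) (.node (nat_lit 0x21495848d6a) (.node (nat_lit 0x1ed2944cc17) (.node (nat_lit 0x1e954e0b09b) (.node (nat_lit 0x1e72904dc16) (.node (nat_lit 0x1e6a204dc16) (.leaf (nat_lit 0x1e64604dc16) (nat_lit 772))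
 (.leaf (nat_lit 0x1e6a204dc16) (nat_lit 1282))
) (.node (nat_lit 0x1e88b60b09b) (.leaf (nat_lit 0x1e72904dc16) (nat_lit 1539))
 (.node (nat_lit 0x1e8cba0b09b) (.leaf (nat_lit 0x1e88b60b09b) (nat_lit 1538))
 (.leaf (nat_lit 0x1e8cba0b09b) (nat_lit 1028))
))) (.node (nat_lit 0x1eb5460b899) (.node (nat_lit 0x1ea8b20b899) (.leaf (nat_lit 0x1e954e0b09b) (nat_lit 1795))
 (.node (nat_lit 0x1eacbe0b899) (.leaf (nat_lit 0x1ea8b20b899) (nat_lit 1538))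
 (.leaf (nat_lit 0x1eacbe0b899) (nat_lit 1284))
)) (.node (nat_lit 0x1ec46c4cc17) (.leaf (nat_lit 0x1eb5460b899) (nat_lit 2050))
 (.node (nat_lit 0x1ec9f44cc17) (.leaf (nat_lit 0x1ec46c4cc17) (nat_lit 1540))
 (.leaf (nat_lit 0x1ec9f44cc17) (nat_lit 1794))
)))) (.node (nat_lit 0x21094444d6b) (.node (nat_lit 0x20e9544856c) (.node (nat_lit 0x20e74c4856c) (.leaf (nat_lit 0x1ed2944cc17) (nat_lit 2306))
 (.leaf (nat_lit 0x20e74c4856c) (nat_lit 772))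
) (.node (nat_lit 0x20f2ac4856c) (.leaf (nat_lit 0x20e9544856c) (nat_lit 2307))
 (.node (nat_lit 0x21074844d6b) (.leaf (nat_lit 0x20f2ac4856c) (nat_lit 1281))
 (.leaf (nat_lit 0x21074844d6b) (nat_lit 772))
))) (.node (nat_lit 0x21295c4956d) (.node (nat_lit 0x21129c44d6b) (.leaf (nat_lit 0x21094444d6b) (nat_lit 2307))
 (.node (nat_lit 0x2126b84956d) (.leaf (nat_lit 0x21129c44d6b) (nat_lit 1282))
 (.leaf (nat_lit 0x2126b84956d) (nat_lit 2051))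
)) (.node (nat_lit 0x2133ec4956d) (.leaf (nat_lit 0x21295c4956d) (nat_lit 2820))
 (.node (nat_lit 0x2146bc48d6a) (.leaf (nat_lit 0x2133ec4956d) (nat_lit 1284))
 (.leaf (nat_lit 0x2146bc48d6a) (nat_lit 1283))
))))) (.node (nat_lit 0x21c7348981b) (.node (nat_lit 0x21873000019) (.node (nat_lit 0x21627c2001a) (.node (nat_lit 0x2153e848d6a) (.leaf (nat_lit 0x21495848d6a) (nat_lit 2052))
 (.leaf (nat_lit 0x2153e848d6a) (nat_lit 260))
) (.node (nat_lit 0x216a902001a) (.leaf (nat_lit 0x21627c2001a) (nat_lit 1539))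
 (.node (nat_lit 0x216a942001a) (.leaf (nat_lit 0x216a902001a) (nat_lit 1537))
 (.leaf (nat_lit 0x216a942001a) (nat_lit 2308))
))) (.node (nat_lit 0x21a2801f81c) (.node (nat_lit 0x218a8800019) (.leaf (nat_lit 0x21873000019) (nat_lit 1027))
 (.node (nat_lit 0x218a9800019) (.leaf (nat_lit 0x218a8800019) (nat_lit 1539))
 (.leaf (nat_lit 0x218a9800019) (nat_lit 2052))
)) (.node (nat_lit 0x21aa841f81c) (.leaf (nat_lit 0x21a2801f81c) (nat_lit 1027))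
 (.node (nat_lit 0x21aa8c1f81c) (.leaf (nat_lit 0x21aa841f81c) (nat_lit 1796))
 (.leaf (nat_lit 0x21aa8c1f81c) (nat_lit 1026))
)))) (.node (nat_lit 0x22a524c896d) (.node (nat_lit 0x228528c796c) (.node (nat_lit 0x21ca808981b) (.leaf (nat_lit 0x21c7348981b) (nat_lit 1282))
 (.node (nat_lit 0x21ca9c8981b) (.leaf (nat_lit 0x21ca808981b) (nat_lit 1795))
 (.leaf (nat_lit 0x21ca9c8981b) (nat_lit 2052))
)) (.node (nat_lit 0x2288fcc796c) (.leaf (nat_lit 0x228528c796c) (nat_lit 2307))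
 (.node (nat_lit 0x229240c796c) (.leaf (nat_lit 0x2288fcc796c) (nat_lit 1538))
 (.leaf (nat_lit 0x229240c796c) (nat_lit 2306))
))) (.node (nat_lit 0x2328242001a) (.node (nat_lit 0x22a8f4c896d) (.leaf (nat_lit 0x22a524c896d) (nat_lit 2307))
 (.node (nat_lit 0x22b238c896d) (.leaf (nat_lit 0x22a8f4c896d) (nat_lit 1538))
 (.leaf (nat_lit 0x22b238c896d) (nat_lit 2051))
)) (.node (nat_lit 0x232ed02001a) (.leaf (nat_lit 0x2328242001a) (nat_lit 2308))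
 (.node (nat_lit 0x232f902001a) (.leaf (nat_lit 0x232ed02001a) (nat_lit 1539))
 (.leaf (nat_lit 0x232f902001a) (nat_lit 2308))
)))))) (.node (nat_lit 0x24866cc896d) (.node (nat_lit 0x240f8800019) (.node (nat_lit 0x23cf8c1f81c) (.node (nat_lit 0x23513a0b09b) (.node (nat_lit 0x234f5a0b09b) (.leaf (nat_lit 0x2342d60b09b) (nat_lit 2051))
 (.leaf (nat_lit 0x234f5a0b09b) (nat_lit 1284))
) (.node (nat_lit 0x23c8201f81c) (.leaf (nat_lit 0x23513a0b09b) (nat_lit 1028))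
 (.node (nat_lit 0x23ced41f81c) (.leaf (nat_lit 0x23c8201f81c) (nat_lit 1796))
 (.leaf (nat_lit 0x23ced41f81c) (nat_lit 1027))
))) (.node (nat_lit 0x23ef808981b) (.node (nat_lit 0x23e82c8981b) (.leaf (nat_lit 0x23cf8c1f81c) (nat_lit 1796))
 (.node (nat_lit 0x23eed88981b) (.leaf (nat_lit 0x23e82c8981b) (nat_lit 2308))
 (.leaf (nat_lit 0x23eed88981b) (nat_lit 1282))
)) (.node (nat_lit 0x24082800019) (.leaf (nat_lit 0x23ef808981b) (nat_lit 2308))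
 (.node (nat_lit 0x240edc00019) (.leaf (nat_lit 0x24082800019) (nat_lit 2052))
 (.leaf (nat_lit 0x240edc00019) (nat_lit 1027))
)))) (.node (nat_lit 0x244d5c1e89a) (.node (nat_lit 0x242f5e0b899) (.node (nat_lit 0x2422da0b899) (.leaf (nat_lit 0x240f8800019) (nat_lit 2308))
 (.leaf (nat_lit 0x2422da0b899) (nat_lit 2051))
) (.node (nat_lit 0x24313e0b899) (.leaf (nat_lit 0x242f5e0b899) (nat_lit 1796))
 (.node (nat_lit 0x2442cc1e89a) (.leaf (nat_lit 0x24313e0b899) (nat_lit 1284))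
 (.leaf (nat_lit 0x2442cc1e89a) (nat_lit 2051))
))) (.node (nat_lit 0x246d581f09c) (.node (nat_lit 0x244f541e89a) (.leaf (nat_lit 0x244d5c1e89a) (nat_lit 1284))
 (.node (nat_lit 0x2462d01f09c) (.leaf (nat_lit 0x244f541e89a) (nat_lit 1796))
 (.leaf (nat_lit 0x2462d01f09c) (nat_lit 1539))
)) (.node (nat_lit 0x246f501f09c) (.leaf (nat_lit 0x246d581f09c) (nat_lit 772))
 (.node (nat_lit 0x2482d4c896d) (.leaf (nat_lit 0x246f501f09c) (nat_lit 1284))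
 (.leaf (nat_lit 0x2482d4c896d) (nat_lit 2052))
))))) (.node (nat_lit 0x250738c896d) (.node (nat_lit 0x24c2ccc8166) (.node (nat_lit 0x24a2d8c796c) (.node (nat_lit 0x248834c896d) (.leaf (nat_lit 0x24866cc896d) (nat_lit 1796))
 (.leaf (nat_lit 0x248834c896d) (nat_lit 1284))
) (.node (nat_lit 0x24a668c796c) (.leaf (nat_lit 0x24a2d8c796c) (nat_lit 2308))
 (.node (nat_lit 0x24a830c796c) (.leaf (nat_lit 0x24a668c796c) (nat_lit 1796))
 (.leaf (nat_lit 0x24a830c796c) (nat_lit 1540))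
))) (.node (nat_lit 0x24e2d0c716b) (.node (nat_lit 0x24c660c8166) (.leaf (nat_lit 0x24c2ccc8166) (nat_lit 2308))
 (.node (nat_lit 0x24d10cc8166) (.leaf (nat_lit 0x24c660c8166) (nat_lit 1796))
 (.leaf (nat_lit 0x24d10cc8166) (nat_lit 1796))
)) (.node (nat_lit 0x24e664c716b) (.leaf (nat_lit 0x24e2d0c716b) (nat_lit 1796))
 (.node (nat_lit 0x24f108c716b) (.leaf (nat_lit 0x24e664c716b) (nat_lit 1284))
 (.leaf (nat_lit 0x24f108c716b) (nat_lit 1284))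
)))) (.node (nat_lit 0x2549c00c800) (.node (nat_lit 0x25273cc796c) (.node (nat_lit 0x250e68c896d) (.leaf (nat_lit 0x250738c896d) (nat_lit 1539))
 (.node (nat_lit 0x25150cc896d) (.leaf (nat_lit 0x250e68c896d) (nat_lit 2563))
 (.leaf (nat_lit 0x25150cc896d) (nat_lit 1794))
)) (.node (nat_lit 0x252e70c796c) (.leaf (nat_lit 0x25273cc796c) (nat_lit 1794))
 (.node (nat_lit 0x253508c796c) (.leaf (nat_lit 0x252e70c796c) (nat_lit 2563))
 (.leaf (nat_lit 0x253508c796c) (nat_lit 1794))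
))) (.node (nat_lit 0x2569b80d913) (.node (nat_lit 0x254b9c0c800) (.leaf (nat_lit 0x2549c00c800) (nat_lit 1796))
 (.node (nat_lit 0x2553100c800) (.leaf (nat_lit 0x254b9c0c800) (nat_lit 2308))
 (.leaf (nat_lit 0x2553100c800) (nat_lit 1284))
)) (.node (nat_lit 0x256b980d913) (.leaf (nat_lit 0x2569b80d913) (nat_lit 2308))
 (.node (nat_lit 0x2573140d913) (.leaf (nat_lit 0x256b980d913) (nat_lit 2820))
 (.leaf (nat_lit 0x2573140d913) (nat_lit 2051))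
))))))) (.node (nat_lit 0x2766b444d6b) (.node (nat_lit 0x2663880d913) (.node (nat_lit 0x25f43c1e89a) (.node (nat_lit 0x25b4080e03f) (.node (nat_lit 0x25940c0d040) (.node (nat_lit 0x258b840d040) (.leaf (nat_lit 0x2589c80d040) (nat_lit 1796))
 (.leaf (nat_lit 0x258b840d040) (nat_lit 2308))
) (.node (nat_lit 0x25a9c40e03f) (.leaf (nat_lit 0x25940c0d040) (nat_lit 1539))
 (.node (nat_lit 0x25ab940e03f) (.leaf (nat_lit 0x25a9c40e03f) (nat_lit 1796))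
 (.leaf (nat_lit 0x25ab940e03f) (nat_lit 2308))
))) (.node (nat_lit 0x25d4640d040) (.node (nat_lit 0x25d1800d040) (.leaf (nat_lit 0x25b4080e03f) (nat_lit 1539))
 (.node (nat_lit 0x25d3580d040) (.leaf (nat_lit 0x25d1800d040) (nat_lit 2052))
 (.leaf (nat_lit 0x25d3580d040) (nat_lit 2052))
)) (.node (nat_lit 0x25ecc81e89a) (.leaf (nat_lit 0x25d4640d040) (nat_lit 1283))
 (.node (nat_lit 0x25efc41e89a) (.leaf (nat_lit 0x25ecc81e89a) (nat_lit 1796))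
 (.leaf (nat_lit 0x25efc41e89a) (nat_lit 1795))
)))) (.node (nat_lit 0x262fc01f09c) (.node (nat_lit 0x260fbe0b09b) (.node (nat_lit 0x260bbe0b09b) (.leaf (nat_lit 0x25f43c1e89a) (nat_lit 1793))
 (.leaf (nat_lit 0x260bbe0b09b) (nat_lit 1540))
) (.node (nat_lit 0x2614420b09b) (.leaf (nat_lit 0x260fbe0b09b) (nat_lit 1282))
 (.node (nat_lit 0x262ccc1f09c) (.leaf (nat_lit 0x2614420b09b) (nat_lit 1539))
 (.leaf (nat_lit 0x262ccc1f09c) (nat_lit 1284))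
))) (.node (nat_lit 0x264fba0b899) (.node (nat_lit 0x2634381f09c) (.leaf (nat_lit 0x262fc01f09c) (nat_lit 1283))
 (.node (nat_lit 0x264bba0b899) (.leaf (nat_lit 0x2634381f09c) (nat_lit 1282))
 (.leaf (nat_lit 0x264bba0b899) (nat_lit 1796))
)) (.node (nat_lit 0x2654460b899) (.leaf (nat_lit 0x264fba0b899) (nat_lit 1282))
 (.node (nat_lit 0x2663540d913) (.leaf (nat_lit 0x2654460b899) (nat_lit 1794))
 (.leaf (nat_lit 0x2663540d913) (nat_lit 1538))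
))))) (.node (nat_lit 0x26e2b40c800) (.node (nat_lit 0x26b1840e03f) (.node (nat_lit 0x2683500c800) (.node (nat_lit 0x2668080d913) (.leaf (nat_lit 0x2663880d913) (nat_lit 2308))
 (.leaf (nat_lit 0x2668080d913) (nat_lit 2308))
) (.node (nat_lit 0x26838c0c800) (.leaf (nat_lit 0x2683500c800) (nat_lit 512))
 (.node (nat_lit 0x2688000c800) (.leaf (nat_lit 0x26838c0c800) (nat_lit 1540))
 (.leaf (nat_lit 0x2688000c800) (nat_lit 1540))
))) (.node (nat_lit 0x26c2ac0d913) (.node (nat_lit 0x26b3540e03f) (.leaf (nat_lit 0x26b1840e03f) (nat_lit 2052))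
 (.node (nat_lit 0x26b4600e03f) (.leaf (nat_lit 0x26b3540e03f) (nat_lit 2052))
 (.leaf (nat_lit 0x26b4600e03f) (nat_lit 1283))
)) (.node (nat_lit 0x26d3480d913) (.leaf (nat_lit 0x26c2ac0d913) (nat_lit 2564))
 (.node (nat_lit 0x26d4580d913) (.leaf (nat_lit 0x26d3480d913) (nat_lit 2564))
 (.leaf (nat_lit 0x26d4580d913) (nat_lit 1538))
)))) (.node (nat_lit 0x2728184956d) (.node (nat_lit 0x27081048d6a) (.node (nat_lit 0x26f3500c800) (.leaf (nat_lit 0x26e2b40c800) (nat_lit 1796))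
 (.node (nat_lit 0x26f45c0c800) (.leaf (nat_lit 0x26f3500c800) (nat_lit 2052))
 (.leaf (nat_lit 0x26f45c0c800) (nat_lit 771))
)) (.node (nat_lit 0x270dbc48d6a) (.leaf (nat_lit 0x27081048d6a) (nat_lit 516))
 (.node (nat_lit 0x2714c448d6a) (.leaf (nat_lit 0x270dbc48d6a) (nat_lit 1540))
 (.leaf (nat_lit 0x2714c448d6a) (nat_lit 1539))
))) (.node (nat_lit 0x2746b04856c) (.node (nat_lit 0x272db84956d) (.leaf (nat_lit 0x2728184956d) (nat_lit 1540))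
 (.node (nat_lit 0x2734cc4956d) (.leaf (nat_lit 0x272db84956d) (nat_lit 2308))
 (.leaf (nat_lit 0x2734cc4956d) (nat_lit 2307))
)) (.node (nat_lit 0x27481c4856c) (.leaf (nat_lit 0x2746b04856c) (nat_lit 1795))
 (.node (nat_lit 0x2754c04856c) (.leaf (nat_lit 0x27481c4856c) (nat_lit 1028))
 (.leaf (nat_lit 0x2754c04856c) (nat_lit 1537))
)))))) (.node (nat_lit 0x28b41048d6a) (.node (nat_lit 0x2835744cc17) (.node (nat_lit 0x27caf04dc16) (.node (nat_lit 0x2774c844d6b) (.node (nat_lit 0x27681444d6b) (.leaf (nat_lit 0x2766b444d6b) (nat_lit 1795))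
 (.leaf (nat_lit 0x27681444d6b) (nat_lit 1028))
) (.node (nat_lit 0x27c5784dc16) (.leaf (nat_lit 0x2774c844d6b) (nat_lit 1538))
 (.node (nat_lit 0x27c5f84dc16) (.leaf (nat_lit 0x27c5784dc16) (nat_lit 1282))
 (.leaf (nat_lit 0x27c5f84dc16) (nat_lit 772))
))) (.node (nat_lit 0x27f5204956d) (.node (nat_lit 0x27e8d04956d) (.leaf (nat_lit 0x27caf04dc16) (nat_lit 1795))
 (.node (nat_lit 0x27f41c4956d) (.leaf (nat_lit 0x27e8d04956d) (nat_lit 2308))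
 (.leaf (nat_lit 0x27f41c4956d) (nat_lit 1795))
)) (.node (nat_lit 0x2824584cc17) (.leaf (nat_lit 0x27f5204956d) (nat_lit 2563))
 (.node (nat_lit 0x2827584cc17) (.leaf (nat_lit 0x2824584cc17) (nat_lit 2051))
 (.leaf (nat_lit 0x2827584cc17) (nat_lit 1538))
)))) (.node (nat_lit 0x286aec4d03d) (.node (nat_lit 0x2845f44cc17) (.node (nat_lit 0x28457c4cc17) (.leaf (nat_lit 0x2835744cc17) (nat_lit 2308))
 (.leaf (nat_lit 0x28457c4cc17) (nat_lit 1794))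
) (.node (nat_lit 0x284ae44cc17) (.leaf (nat_lit 0x2845f44cc17) (nat_lit 1796))
 (.node (nat_lit 0x28653c4d03d) (.leaf (nat_lit 0x284ae44cc17) (nat_lit 2307))
 (.leaf (nat_lit 0x28653c4d03d) (nat_lit 1795))
))) (.node (nat_lit 0x288ac04e03e) (.node (nat_lit 0x2875504d03d) (.leaf (nat_lit 0x286aec4d03d) (nat_lit 1795))
 (.node (nat_lit 0x2885744e03e) (.leaf (nat_lit 0x2875504d03d) (nat_lit 1284))
 (.leaf (nat_lit 0x2885744e03e) (nat_lit 1795))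
)) (.node (nat_lit 0x2895544e03e) (.leaf (nat_lit 0x288ac04e03e) (nat_lit 1795))
 (.node (nat_lit 0x28a8d448d6a) (.leaf (nat_lit 0x2895544e03e) (nat_lit 1284))
 (.leaf (nat_lit 0x28a8d448d6a) (nat_lit 1796))
))))) (.node (nat_lit 0x2987544e03e) (.node (nat_lit 0x28e8c84856c) (.node (nat_lit 0x28c8cc44d6b) (.node (nat_lit 0x28b52848d6a) (.leaf (nat_lit 0x28b41048d6a) (nat_lit 771))
 (.leaf (nat_lit 0x28b52848d6a) (nat_lit 1795))
) (.node (nat_lit 0x28d42444d6b) (.leaf (nat_lit 0x28c8cc44d6b) (nat_lit 1796))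
 (.node (nat_lit 0x28d52c44d6b) (.leaf (nat_lit 0x28d42444d6b) (nat_lit 1283))
 (.leaf (nat_lit 0x28d52c44d6b) (nat_lit 2050))
))) (.node (nat_lit 0x29645c4dc16) (.node (nat_lit 0x28f4204856c) (.leaf (nat_lit 0x28e8c84856c) (nat_lit 1796))
 (.node (nat_lit 0x28f5244856c) (.leaf (nat_lit 0x28f4204856c) (nat_lit 1283))
 (.leaf (nat_lit 0x28f5244856c) (nat_lit 2049))
)) (.node (nat_lit 0x29675c4dc16) (.leaf (nat_lit 0x29645c4dc16) (nat_lit 1539))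
 (.node (nat_lit 0x2975704dc16) (.leaf (nat_lit 0x29675c4dc16) (nat_lit 1026))
 (.leaf (nat_lit 0x2975704dc16) (nat_lit 1284))
)))) (.node (nat_lit 0x2ae1c41e89a) (.node (nat_lit 0x29a7504d03d) (.node (nat_lit 0x29924c4e03e) (.leaf (nat_lit 0x2987544e03e) (nat_lit 1539))
 (.node (nat_lit 0x2995a44e03e) (.leaf (nat_lit 0x29924c4e03e) (nat_lit 1539))
 (.leaf (nat_lit 0x2995a44e03e) (nat_lit 1796))
)) (.node (nat_lit 0x29b2484d03d) (.leaf (nat_lit 0x29a7504d03d) (nat_lit 1539))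
 (.node (nat_lit 0x29b5a04d03d) (.leaf (nat_lit 0x29b2484d03d) (nat_lit 1539))
 (.leaf (nat_lit 0x29b5a04d03d) (nat_lit 1796))
))) (.node (nat_lit 0x2b079a0b899) (.node (nat_lit 0x2ae5201e89a) (.leaf (nat_lit 0x2ae1c41e89a) (nat_lit 2051))
 (.node (nat_lit 0x2aeee01e89a) (.leaf (nat_lit 0x2ae5201e89a) (nat_lit 2051))
 (.leaf (nat_lit 0x2aeee01e89a) (nat_lit 1540))
)) (.node (nat_lit 0x2b111e0b899) (.leaf (nat_lit 0x2b079a0b899) (nat_lit 1538))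
 (.node (nat_lit 0x2b12320b899) (.leaf (nat_lit 0x2b111e0b899) (nat_lit 1540))
 (.leaf (nat_lit 0x2b12320b899) (nat_lit 1794))
)))))))) (.node (nat_lit 0x38041844d6b) (.node (nat_lit 0x30a1cab6892) (.node (nat_lit 0x2e281cb3190) (.node (nat_lit 0x2b92360b09b) (.node (nat_lit 0x2b4ef20b899) (.node (nat_lit 0x2b2eec1f09c) (.node (nat_lit 0x2b25001f09c) (.leaf (nat_lit 0x2b21d01f09c) (nat_lit 1539))
 (.leaf (nat_lit 0x2b25001f09c) (nat_lit 1539))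
) (.node (nat_lit 0x2b41da0b899) (.leaf (nat_lit 0x2b2eec1f09c) (nat_lit 1028))
 (.node (nat_lit 0x2b452a0b899) (.leaf (nat_lit 0x2b41da0b899) (nat_lit 2051))
 (.leaf (nat_lit 0x2b452a0b899) (nat_lit 1538))
))) (.node (nat_lit 0x2b6ef60b09b) (.node (nat_lit 0x2b61d60b09b) (.leaf (nat_lit 0x2b4ef20b899) (nat_lit 1540))
 (.node (nat_lit 0x2b65260b09b) (.leaf (nat_lit 0x2b61d60b09b) (nat_lit 2051))
 (.leaf (nat_lit 0x2b65260b09b) (nat_lit 1538))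
)) (.node (nat_lit 0x2b879e0b09b) (.leaf (nat_lit 0x2b6ef60b09b) (nat_lit 1028))
 (.node (nat_lit 0x2b911a0b09b) (.leaf (nat_lit 0x2b879e0b09b) (nat_lit 1283))
 (.leaf (nat_lit 0x2b911a0b09b) (nat_lit 1284))
)))) (.node (nat_lit 0x2de810b6991) (.node (nat_lit 0x2dc818b618f) (.node (nat_lit 0x2dc11cb618f) (.leaf (nat_lit 0x2b92360b09b) (nat_lit 1794))
 (.leaf (nat_lit 0x2dc11cb618f) (nat_lit 2564))
) (.node (nat_lit 0x2dd040b618f) (.leaf (nat_lit 0x2dc818b618f) (nat_lit 2052))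
 (.node (nat_lit 0x2de114b6991) (.leaf (nat_lit 0x2dd040b618f) (nat_lit 2052))
 (.leaf (nat_lit 0x2de114b6991) (nat_lit 1540))
))) (.node (nat_lit 0x2e0814b598e) (.node (nat_lit 0x2df044b6991) (.leaf (nat_lit 0x2de810b6991) (nat_lit 1284))
 (.node (nat_lit 0x2e0118b598e) (.leaf (nat_lit 0x2df044b6991) (nat_lit 1283))
 (.leaf (nat_lit 0x2e0118b598e) (nat_lit 2052))
)) (.node (nat_lit 0x2e1038b598e) (.leaf (nat_lit 0x2e0814b598e) (nat_lit 1796))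
 (.node (nat_lit 0x2e2120b3190) (.leaf (nat_lit 0x2e1038b598e) (nat_lit 1538))
 (.leaf (nat_lit 0x2e2120b3190) (nat_lit 2052))
))))) (.node (nat_lit 0x2f81101e89a) (.node (nat_lit 0x2f41060b09b) (.node (nat_lit 0x2e810a0b899) (.node (nat_lit 0x2e303cb3190) (.leaf (nat_lit 0x2e281cb3190) (nat_lit 1796))
 (.leaf (nat_lit 0x2e303cb3190) (nat_lit 1537))
) (.node (nat_lit 0x2e8daa0b899) (.leaf (nat_lit 0x2e810a0b899) (nat_lit 1539))
 (.node (nat_lit 0x2e90a60b899) (.leaf (nat_lit 0x2e8daa0b899) (nat_lit 1540))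
 (.leaf (nat_lit 0x2e90a60b899) (nat_lit 2052))
))) (.node (nat_lit 0x2f610c1f09c) (.node (nat_lit 0x2f4dae0b09b) (.leaf (nat_lit 0x2f41060b09b) (nat_lit 1539))
 (.node (nat_lit 0x2f50a20b09b) (.leaf (nat_lit 0x2f4dae0b09b) (nat_lit 1284))
 (.leaf (nat_lit 0x2f50a20b09b) (nat_lit 1540))
)) (.node (nat_lit 0x2f6ab01f09c) (.leaf (nat_lit 0x2f610c1f09c) (nat_lit 1027))
 (.node (nat_lit 0x2f6db01f09c) (.leaf (nat_lit 0x2f6ab01f09c) (nat_lit 1540))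
 (.leaf (nat_lit 0x2f6db01f09c) (nat_lit 1028))
)))) (.node (nat_lit 0x306136b6090) (.node (nat_lit 0x30413ab5889) (.node (nat_lit 0x2f8ab41e89a) (.leaf (nat_lit 0x2f81101e89a) (nat_lit 1539))
 (.node (nat_lit 0x2f8db41e89a) (.leaf (nat_lit 0x2f8ab41e89a) (nat_lit 2052))
 (.leaf (nat_lit 0x2f8db41e89a) (nat_lit 1540))
)) (.node (nat_lit 0x304f7eb5889) (.leaf (nat_lit 0x30413ab5889) (nat_lit 1540))
 (.node (nat_lit 0x30522eb5889) (.leaf (nat_lit 0x304f7eb5889) (nat_lit 1794))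
 (.leaf (nat_lit 0x30522eb5889) (nat_lit 1027))
))) (.node (nat_lit 0x3081ceb5091) (.node (nat_lit 0x306f7ab6090) (.leaf (nat_lit 0x306136b6090) (nat_lit 2052))
 (.node (nat_lit 0x30722ab6090) (.leaf (nat_lit 0x306f7ab6090) (nat_lit 2305))
 (.leaf (nat_lit 0x30722ab6090) (nat_lit 1539))
)) (.node (nat_lit 0x308f76b5091) (.leaf (nat_lit 0x3081ceb5091) (nat_lit 2052))
 (.node (nat_lit 0x309236b5091) (.leaf (nat_lit 0x308f76b5091) (nat_lit 2051))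
 (.leaf (nat_lit 0x309236b5091) (nat_lit 1027))
)))))) (.node (nat_lit 0x3689a44cc17) (.node (nat_lit 0x347204b3190) (.node (nat_lit 0x30d3a80c800) (.node (nat_lit 0x30b232b6892) (.node (nat_lit 0x30af6eb6892) (.leaf (nat_lit 0x30a1cab6892) (nat_lit 2052))
 (.leaf (nat_lit 0x30af6eb6892) (nat_lit 2307))
) (.node (nat_lit 0x30c5f80c800) (.leaf (nat_lit 0x30b232b6892) (nat_lit 1539))
 (.node (nat_lit 0x30d1fc0c800) (.leaf (nat_lit 0x30c5f80c800) (nat_lit 1540))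
 (.leaf (nat_lit 0x30d1fc0c800) (nat_lit 1027))
))) (.node (nat_lit 0x3253b00d913) (.node (nat_lit 0x3245f40d913) (.leaf (nat_lit 0x30d3a80c800) (nat_lit 1283))
 (.node (nat_lit 0x3251f00d913) (.leaf (nat_lit 0x3245f40d913) (nat_lit 2052))
 (.leaf (nat_lit 0x3251f00d913) (nat_lit 1795))
)) (.node (nat_lit 0x346628b3190) (.leaf (nat_lit 0x3253b00d913) (nat_lit 2050))
 (.node (nat_lit 0x346f38b3190) (.leaf (nat_lit 0x346628b3190) (nat_lit 1540))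
 (.leaf (nat_lit 0x346f38b3190) (nat_lit 2052))
)))) (.node (nat_lit 0x34cf34b618f) (.node (nat_lit 0x34af30b598e) (.node (nat_lit 0x34a630b598e) (.leaf (nat_lit 0x347204b3190) (nat_lit 1793))
 (.leaf (nat_lit 0x34a630b598e) (nat_lit 1540))
) (.node (nat_lit 0x34b200b598e) (.leaf (nat_lit 0x34af30b598e) (nat_lit 2052))
 (.node (nat_lit 0x34c624b618f) (.leaf (nat_lit 0x34b200b598e) (nat_lit 1794))
 (.leaf (nat_lit 0x34c624b618f) (nat_lit 2052))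
))) (.node (nat_lit 0x34ef3cb6991) (.node (nat_lit 0x34d1f0b618f) (.leaf (nat_lit 0x34cf34b618f) (nat_lit 2308))
 (.node (nat_lit 0x34e62cb6991) (.leaf (nat_lit 0x34d1f0b618f) (nat_lit 2308))
 (.leaf (nat_lit 0x34e62cb6991) (nat_lit 1028))
)) (.node (nat_lit 0x34f1fcb6991) (.leaf (nat_lit 0x34ef3cb6991) (nat_lit 1540))
 (.node (nat_lit 0x3687404cc17) (.leaf (nat_lit 0x34f1fcb6991) (nat_lit 1539))
 (.leaf (nat_lit 0x3687404cc17) (nat_lit 2052))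
))))) (.node (nat_lit 0x372748b598e) (.node (nat_lit 0x36e7444dc16) (.node (nat_lit 0x36abacb618f) (.node (nat_lit 0x3693b84cc17) (.leaf (nat_lit 0x3689a44cc17) (nat_lit 2308))
 (.leaf (nat_lit 0x3693b84cc17) (nat_lit 2562))
) (.node (nat_lit 0x36b20cb618f) (.leaf (nat_lit 0x36abacb618f) (nat_lit 2308))
 (.node (nat_lit 0x36b3ecb618f) (.leaf (nat_lit 0x36b20cb618f) (nat_lit 2564))
 (.leaf (nat_lit 0x36b3ecb618f) (nat_lit 1796))
))) (.node (nat_lit 0x370ba4b6991) (.node (nat_lit 0x36e99c4dc16) (.leaf (nat_lit 0x36e7444dc16) (nat_lit 1540))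
 (.node (nat_lit 0x36f3bc4dc16) (.leaf (nat_lit 0x36e99c4dc16) (nat_lit 1796))
 (.leaf (nat_lit 0x36f3bc4dc16) (nat_lit 2050))
)) (.node (nat_lit 0x371208b6991) (.leaf (nat_lit 0x370ba4b6991) (nat_lit 1284))
 (.node (nat_lit 0x3713e8b6991) (.leaf (nat_lit 0x371208b6991) (nat_lit 1795))
 (.leaf (nat_lit 0x3713e8b6991) (nat_lit 1028))
)))) (.node (nat_lit 0x37c6204e03e) (.node (nat_lit 0x37474cb3190) (.node (nat_lit 0x372ba8b598e) (.leaf (nat_lit 0x372748b598e) (nat_lit 1540))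
 (.node (nat_lit 0x373214b598e) (.leaf (nat_lit 0x372ba8b598e) (nat_lit 1796))
 (.leaf (nat_lit 0x373214b598e) (nat_lit 2050))
)) (.node (nat_lit 0x374ba0b3190) (.leaf (nat_lit 0x37474cb3190) (nat_lit 1540))
 (.node (nat_lit 0x375210b3190) (.leaf (nat_lit 0x374ba0b3190) (nat_lit 1796))
 (.leaf (nat_lit 0x375210b3190) (nat_lit 2049))
))) (.node (nat_lit 0x37e2884856c) (.node (nat_lit 0x37cb084e03e) (.leaf (nat_lit 0x37c6204e03e) (nat_lit 1283))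
 (.node (nat_lit 0x37d5344e03e) (.leaf (nat_lit 0x37cb084e03e) (nat_lit 1540))
 (.leaf (nat_lit 0x37d5344e03e) (nat_lit 2051))
)) (.node (nat_lit 0x37ea284856c) (.leaf (nat_lit 0x37e2884856c) (nat_lit 1793))
 (.node (nat_lit 0x37eb284856c) (.leaf (nat_lit 0x37ea284856c) (nat_lit 1027))
 (.leaf (nat_lit 0x37eb284856c) (nat_lit 2308))
))))))) (.node (nat_lit 0x3d63544cc17) (.node (nat_lit 0x390af44856c) (.node (nat_lit 0x3895384cc17) (.node (nat_lit 0x38553c4d03d) (.node (nat_lit 0x3813ac44d6b) (.node (nat_lit 0x380af844d6b) (.leaf (nat_lit 0x38041844d6b) (nat_lit 2052))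
 (.leaf (nat_lit 0x380af844d6b) (nat_lit 771))
) (.node (nat_lit 0x38461c4d03d) (.leaf (nat_lit 0x3813ac44d6b) (nat_lit 2306))
 (.node (nat_lit 0x384b0c4d03d) (.leaf (nat_lit 0x38461c4d03d) (nat_lit 1283))
 (.leaf (nat_lit 0x384b0c4d03d) (nat_lit 1540))
))) (.node (nat_lit 0x3875304dc16) (.node (nat_lit 0x386acc4dc16) (.leaf (nat_lit 0x38553c4d03d) (nat_lit 2051))
 (.node (nat_lit 0x386fd04dc16) (.leaf (nat_lit 0x386acc4dc16) (nat_lit 1028))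
 (.leaf (nat_lit 0x386fd04dc16) (nat_lit 1283))
)) (.node (nat_lit 0x388b044cc17) (.leaf (nat_lit 0x3875304dc16) (nat_lit 1538))
 (.node (nat_lit 0x388fd44cc17) (.leaf (nat_lit 0x388b044cc17) (nat_lit 2052))
 (.leaf (nat_lit 0x388fd44cc17) (nat_lit 1795))
)))) (.node (nat_lit 0x38c9f44956d) (.node (nat_lit 0x38aa2444d6b) (.node (nat_lit 0x38a28444d6b) (.leaf (nat_lit 0x3895384cc17) (nat_lit 2050))
 (.leaf (nat_lit 0x38a28444d6b) (nat_lit 1794))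
) (.node (nat_lit 0x38ab2444d6b) (.leaf (nat_lit 0x38aa2444d6b) (nat_lit 1027))
 (.node (nat_lit 0x38c2e04956d) (.leaf (nat_lit 0x38ab2444d6b) (nat_lit 2308))
 (.leaf (nat_lit 0x38c2e04956d) (nat_lit 2307))
))) (.node (nat_lit 0x38ea2048d6a) (.node (nat_lit 0x38cae04956d) (.leaf (nat_lit 0x38c9f44956d) (nat_lit 1539))
 (.node (nat_lit 0x38e2dc48d6a) (.leaf (nat_lit 0x38cae04956d) (nat_lit 2820))
 (.leaf (nat_lit 0x38e2dc48d6a) (nat_lit 1539))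
)) (.node (nat_lit 0x38eb2048d6a) (.leaf (nat_lit 0x38ea2048d6a) (nat_lit 515))
 (.node (nat_lit 0x3904144856c) (.leaf (nat_lit 0x38eb2048d6a) (nat_lit 2308))
 (.leaf (nat_lit 0x3904144856c) (nat_lit 2052))
))))) (.node (nat_lit 0x3c245c2d0ea) (.node (nat_lit 0x3bf24c2d8eb) (.node (nat_lit 0x3b72482e0e9) (.node (nat_lit 0x3913b44856c) (.leaf (nat_lit 0x390af44856c) (nat_lit 771))
 (.leaf (nat_lit 0x3913b44856c) (nat_lit 2305))
) (.node (nat_lit 0x3b73602e0e9) (.leaf (nat_lit 0x3b72482e0e9) (nat_lit 769))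
 (.node (nat_lit 0x3b73682e0e9) (.leaf (nat_lit 0x3b73602e0e9) (nat_lit 1796))
 (.leaf (nat_lit 0x3b73682e0e9) (nat_lit 2563))
))) (.node (nat_lit 0x3c04582c8e8) (.node (nat_lit 0x3bf3642d8eb) (.leaf (nat_lit 0x3bf24c2d8eb) (nat_lit 770))
 (.node (nat_lit 0x3bf36c2d8eb) (.leaf (nat_lit 0x3bf3642d8eb) (nat_lit 1796))
 (.leaf (nat_lit 0x3bf36c2d8eb) (nat_lit 2563))
)) (.node (nat_lit 0x3c134c2c8e8) (.leaf (nat_lit 0x3c04582c8e8) (nat_lit 1538))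
 (.node (nat_lit 0x3c14002c8e8) (.leaf (nat_lit 0x3c134c2c8e8) (nat_lit 2052))
 (.leaf (nat_lit 0x3c14002c8e8) (nat_lit 2818))
)))) (.node (nat_lit 0x3d204c44d6b) (.node (nat_lit 0x3d034c4d03d) (.node (nat_lit 0x3c335c2d0ea) (.leaf (nat_lit 0x3c245c2d0ea) (nat_lit 771))
 (.node (nat_lit 0x3c34042d0ea) (.leaf (nat_lit 0x3c335c2d0ea) (nat_lit 1284))
 (.leaf (nat_lit 0x3c34042d0ea) (nat_lit 2306))
)) (.node (nat_lit 0x3d06b04d03d) (.leaf (nat_lit 0x3d034c4d03d) (nat_lit 1540))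
 (.node (nat_lit 0x3d12984d03d) (.leaf (nat_lit 0x3d06b04d03d) (nat_lit 1284))
 (.leaf (nat_lit 0x3d12984d03d) (nat_lit 1539))
))) (.node (nat_lit 0x3d43444e03e) (.node (nat_lit 0x3d29c444d6b) (.leaf (nat_lit 0x3d204c44d6b) (nat_lit 2052))
 (.node (nat_lit 0x3d328044d6b) (.leaf (nat_lit 0x3d29c444d6b) (nat_lit 1540))
 (.leaf (nat_lit 0x3d328044d6b) (nat_lit 1538))
)) (.node (nat_lit 0x3d46b44e03e) (.leaf (nat_lit 0x3d43444e03e) (nat_lit 1540))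
 (.node (nat_lit 0x3d52a04e03e) (.leaf (nat_lit 0x3d46b44e03e) (nat_lit 1284))
 (.leaf (nat_lit 0x3d52a04e03e) (nat_lit 1539))
)))))) (.node (nat_lit 0x3e48042d8eb) (.node (nat_lit 0x3dd28c48d6a) (.node (nat_lit 0x3d92a84dc16) (.node (nat_lit 0x3d72a44cc17) (.node (nat_lit 0x3d6db84cc17) (.leaf (nat_lit 0x3d63544cc17) (nat_lit 2052))
 (.leaf (nat_lit 0x3d6db84cc17) (nat_lit 1796))
) (.node (nat_lit 0x3d83504dc16) (.leaf (nat_lit 0x3d72a44cc17) (nat_lit 2051))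
 (.node (nat_lit 0x3d8dbc4dc16) (.leaf (nat_lit 0x3d83504dc16) (nat_lit 1284))
 (.leaf (nat_lit 0x3d8dbc4dc16) (nat_lit 772))
))) (.node (nat_lit 0x3db2884856c) (.node (nat_lit 0x3da0504856c) (.leaf (nat_lit 0x3d92a84dc16) (nat_lit 1539))
 (.node (nat_lit 0x3da9c84856c) (.leaf (nat_lit 0x3da0504856c) (nat_lit 2052))
 (.leaf (nat_lit 0x3da9c84856c) (nat_lit 1540))
)) (.node (nat_lit 0x3dc04848d6a) (.leaf (nat_lit 0x3db2884856c) (nat_lit 1537))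
 (.node (nat_lit 0x3dc9c048d6a) (.leaf (nat_lit 0x3dc04848d6a) (nat_lit 1796))
 (.leaf (nat_lit 0x3dc9c048d6a) (nat_lit 1284))
)))) (.node (nat_lit 0x3e0b0048d6a) (.node (nat_lit 0x3de9b84956d) (.node (nat_lit 0x3de0444956d) (.leaf (nat_lit 0x3dd28c48d6a) (nat_lit 1539))
 (.leaf (nat_lit 0x3de0444956d) (nat_lit 2308))
) (.node (nat_lit 0x3df2844956d) (.leaf (nat_lit 0x3de9b84956d) (nat_lit 2052))
 (.node (nat_lit 0x3e03e848d6a) (.leaf (nat_lit 0x3df2844956d) (nat_lit 2307))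
 (.leaf (nat_lit 0x3e03e848d6a) (nat_lit 2052))
))) (.node (nat_lit 0x3e2afc4956d) (.node (nat_lit 0x3e13a848d6a) (.leaf (nat_lit 0x3e0b0048d6a) (nat_lit 259))
 (.node (nat_lit 0x3e24104956d) (.leaf (nat_lit 0x3e13a848d6a) (nat_lit 2051))
 (.leaf (nat_lit 0x3e24104956d) (nat_lit 2564))
)) (.node (nat_lit 0x3e33b04956d) (.leaf (nat_lit 0x3e2afc4956d) (nat_lit 1283))
 (.node (nat_lit 0x3e46302d8eb) (.leaf (nat_lit 0x3e33b04956d) (nat_lit 2819))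
 (.leaf (nat_lit 0x3e46302d8eb) (nat_lit 1027))
))))) (.node (nat_lit 0x3ec62c2d0ea) (.node (nat_lit 0x3e828c2d8eb) (.node (nat_lit 0x3e6538b3190) (.node (nat_lit 0x3e548c2d8eb) (.leaf (nat_lit 0x3e48042d8eb) (nat_lit 1284))
 (.leaf (nat_lit 0x3e548c2d8eb) (nat_lit 2052))
) (.node (nat_lit 0x3e6b84b3190) (.leaf (nat_lit 0x3e6538b3190) (nat_lit 1284))
 (.node (nat_lit 0x3e7298b3190) (.leaf (nat_lit 0x3e6b84b3190) (nat_lit 2052))
 (.leaf (nat_lit 0x3e7298b3190) (nat_lit 1796))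
))) (.node (nat_lit 0x3ea6282e0e9) (.node (nat_lit 0x3e84182d8eb) (.leaf (nat_lit 0x3e828c2d8eb) (nat_lit 2052))
 (.node (nat_lit 0x3e93542d8eb) (.leaf (nat_lit 0x3e84182d8eb) (nat_lit 2052))
 (.leaf (nat_lit 0x3e93542d8eb) (nat_lit 2052))
)) (.node (nat_lit 0x3ea80c2e0e9) (.leaf (nat_lit 0x3ea6282e0e9) (nat_lit 1027))
 (.node (nat_lit 0x3eb47c2e0e9) (.leaf (nat_lit 0x3ea80c2e0e9) (nat_lit 1284))
 (.leaf (nat_lit 0x3eb47c2e0e9) (nat_lit 2052))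
)))) (.node (nat_lit 0x3f0550b598e) (.node (nat_lit 0x3ee6242c8e8) (.node (nat_lit 0x3ec8002d0ea) (.leaf (nat_lit 0x3ec62c2d0ea) (nat_lit 515))
 (.node (nat_lit 0x3ed2902d0ea) (.leaf (nat_lit 0x3ec8002d0ea) (nat_lit 772))
 (.leaf (nat_lit 0x3ed2902d0ea) (nat_lit 1796))
)) (.node (nat_lit 0x3ee8082c8e8) (.leaf (nat_lit 0x3ee6242c8e8) (nat_lit 1282))
 (.node (nat_lit 0x3ef2942c8e8) (.leaf (nat_lit 0x3ee8082c8e8) (nat_lit 1796))
 (.leaf (nat_lit 0x3ef2942c8e8) (nat_lit 2564))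
))) (.node (nat_lit 0x3f2554b618f) (.node (nat_lit 0x3f0b94b598e) (.leaf (nat_lit 0x3f0550b598e) (nat_lit 1284))
 (.node (nat_lit 0x3f12a0b598e) (.leaf (nat_lit 0x3f0b94b598e) (nat_lit 2052))
 (.leaf (nat_lit 0x3f12a0b598e) (nat_lit 1796))
)) (.node (nat_lit 0x3f2b98b618f) (.leaf (nat_lit 0x3f2554b618f) (nat_lit 1796))
 (.node (nat_lit 0x3f32a4b618f) (.leaf (nat_lit 0x3f2b98b618f) (nat_lit 2308))
 (.leaf (nat_lit 0x3f32a4b618f) (nat_lit 2308))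
)))))))))) (.node (nat_lit 0x7449584dc16) (.node (nat_lit 0x5f00b8c716b) (.node (nat_lit 0x4f0282b5889) (.node (nat_lit 0x4767402c8e8) (.node (nat_lit 0x4230142001a) (.node (nat_lit 0x3fb3482c8e8) (.node (nat_lit 0x3f73582e0e9) (.node (nat_lit 0x3f52a8b6991) (.node (nat_lit 0x3f4b9cb6991) (.leaf (nat_lit 0x3f4558b6991) (nat_lit 1284))
 (.leaf (nat_lit 0x3f4b9cb6991) (nat_lit 1540))
) (.node (nat_lit 0x3f62902e0e9) (.leaf (nat_lit 0x3f52a8b6991) (nat_lit 1540))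
 (.node (nat_lit 0x3f64142e0e9) (.leaf (nat_lit 0x3f62902e0e9) (nat_lit 2052))
 (.leaf (nat_lit 0x3f64142e0e9) (nat_lit 2052))
))) (.node (nat_lit 0x3f93502d0ea) (.node (nat_lit 0x3f82942d0ea) (.leaf (nat_lit 0x3f73582e0e9) (nat_lit 2052))
 (.node (nat_lit 0x3f83e82d0ea) (.leaf (nat_lit 0x3f82942d0ea) (nat_lit 1794))
 (.leaf (nat_lit 0x3f83e82d0ea) (nat_lit 1540))
)) (.node (nat_lit 0x3fa2982c8e8) (.leaf (nat_lit 0x3f93502d0ea) (nat_lit 1796))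
 (.node (nat_lit 0x3fa4102c8e8) (.leaf (nat_lit 0x3fa2982c8e8) (nat_lit 2306))
 (.leaf (nat_lit 0x3fa4102c8e8) (nat_lit 2050))
)))) (.node (nat_lit 0x41efb48981b) (.node (nat_lit 0x41d0101f81c) (.node (nat_lit 0x41cdb01f81c) (.leaf (nat_lit 0x3fb3482c8e8) (nat_lit 2306))
 (.leaf (nat_lit 0x41cdb01f81c) (nat_lit 770))
) (.node (nat_lit 0x41d0f81f81c) (.leaf (nat_lit 0x41d0101f81c) (nat_lit 2052))
 (.node (nat_lit 0x41eda88981b) (.leaf (nat_lit 0x41d0f81f81c) (nat_lit 1540))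
 (.leaf (nat_lit 0x41eda88981b) (nat_lit 1026))
))) (.node (nat_lit 0x420fb000019) (.node (nat_lit 0x41f1048981b) (.leaf (nat_lit 0x41efb48981b) (nat_lit 2564))
 (.node (nat_lit 0x420dac00019) (.leaf (nat_lit 0x41f1048981b) (nat_lit 1796))
 (.leaf (nat_lit 0x420dac00019) (nat_lit 513))
)) (.node (nat_lit 0x42110000019) (.leaf (nat_lit 0x420fb000019) (nat_lit 2308))
 (.node (nat_lit 0x422db42001a) (.leaf (nat_lit 0x42110000019) (nat_lit 1540))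
 (.leaf (nat_lit 0x422db42001a) (nat_lit 1281))
))))) (.node (nat_lit 0x45204c4e03e) (.node (nat_lit 0x44e0444cc17) (.node (nat_lit 0x4480484dc16) (.node (nat_lit 0x4230fc2001a) (.leaf (nat_lit 0x4230142001a) (nat_lit 2564))
 (.leaf (nat_lit 0x4230fc2001a) (nat_lit 2052))
) (.node (nat_lit 0x4482b44dc16) (.leaf (nat_lit 0x4480484dc16) (nat_lit 1540))
 (.node (nat_lit 0x4492c84dc16) (.leaf (nat_lit 0x4482b44dc16) (nat_lit 1794))
 (.leaf (nat_lit 0x4492c84dc16) (nat_lit 2052))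
))) (.node (nat_lit 0x4500504d03d) (.node (nat_lit 0x44e2ac4cc17) (.leaf (nat_lit 0x44e0444cc17) (nat_lit 2052))
 (.node (nat_lit 0x44f2c04cc17) (.leaf (nat_lit 0x44e2ac4cc17) (nat_lit 2306))
 (.leaf (nat_lit 0x44f2c04cc17) (nat_lit 2564))
)) (.node (nat_lit 0x4511804d03d) (.leaf (nat_lit 0x4500504d03d) (nat_lit 1540))
 (.node (nat_lit 0x4512d04d03d) (.leaf (nat_lit 0x4511804d03d) (nat_lit 2051))
 (.leaf (nat_lit 0x4512d04d03d) (nat_lit 2052))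
)))) (.node (nat_lit 0x4729502e0e9) (.node (nat_lit 0x4709402d8eb) (.node (nat_lit 0x4531844e03e) (.leaf (nat_lit 0x45204c4e03e) (nat_lit 1540))
 (.node (nat_lit 0x4532cc4e03e) (.leaf (nat_lit 0x4531844e03e) (nat_lit 2051))
 (.leaf (nat_lit 0x4532cc4e03e) (nat_lit 2052))
)) (.node (nat_lit 0x4715182d8eb) (.leaf (nat_lit 0x4709402d8eb) (nat_lit 1540))
 (.node (nat_lit 0x4715782d8eb) (.leaf (nat_lit 0x4715182d8eb) (nat_lit 2052))
 (.leaf (nat_lit 0x4715782d8eb) (nat_lit 2051))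
))) (.node (nat_lit 0x4747442d0ea) (.node (nat_lit 0x47351c2e0e9) (.leaf (nat_lit 0x4729502e0e9) (nat_lit 1540))
 (.node (nat_lit 0x4735802e0e9) (.leaf (nat_lit 0x47351c2e0e9) (nat_lit 2052))
 (.leaf (nat_lit 0x4735802e0e9) (nat_lit 2051))
)) (.node (nat_lit 0x4752542d0ea) (.leaf (nat_lit 0x4747442d0ea) (nat_lit 2052))
 (.node (nat_lit 0x4755842d0ea) (.leaf (nat_lit 0x4752542d0ea) (nat_lit 1028))
 (.leaf (nat_lit 0x4755842d0ea) (nat_lit 1538))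
)))))) (.node (nat_lit 0x4c4f5eb6892) (.node (nat_lit 0x48d4f400019) (.node (nat_lit 0x4890ac00019) (.node (nat_lit 0x47757c2c8e8) (.node (nat_lit 0x4772582c8e8) (.leaf (nat_lit 0x4767402c8e8) (nat_lit 2564))
 (.leaf (nat_lit 0x4772582c8e8) (nat_lit 2052))
) (.node (nat_lit 0x488eb000019) (.leaf (nat_lit 0x47757c2c8e8) (nat_lit 2050))
 (.node (nat_lit 0x488fa400019) (.leaf (nat_lit 0x488eb000019) (nat_lit 1539))
 (.leaf (nat_lit 0x488fa400019) (nat_lit 2052))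
))) (.node (nat_lit 0x48b0d48981b) (.node (nat_lit 0x48aeac8981b) (.leaf (nat_lit 0x4890ac00019) (nat_lit 1796))
 (.node (nat_lit 0x48afa08981b) (.leaf (nat_lit 0x48aeac8981b) (nat_lit 1794))
 (.leaf (nat_lit 0x48afa08981b) (nat_lit 2052))
)) (.node (nat_lit 0x48cf7400019) (.leaf (nat_lit 0x48b0d48981b) (nat_lit 2052))
 (.node (nat_lit 0x48d1cc00019) (.leaf (nat_lit 0x48cf7400019) (nat_lit 1283))
 (.leaf (nat_lit 0x48d1cc00019) (nat_lit 1027))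
)))) (.node (nat_lit 0x4c0f5ab5091) (.node (nat_lit 0x48f1c88981b) (.node (nat_lit 0x48ef6c8981b) (.leaf (nat_lit 0x48d4f400019) (nat_lit 2308))
 (.leaf (nat_lit 0x48ef6c8981b) (nat_lit 1538))
) (.node (nat_lit 0x48f4f08981b) (.leaf (nat_lit 0x48f1c88981b) (nat_lit 1283))
 (.node (nat_lit 0x4c0d1ab5091) (.leaf (nat_lit 0x48f4f08981b) (nat_lit 2308))
 (.leaf (nat_lit 0x4c0d1ab5091) (nat_lit 1028))
))) (.node (nat_lit 0x4c2f52b5889) (.node (nat_lit 0x4c1566b5091) (.leaf (nat_lit 0x4c0f5ab5091) (nat_lit 2052))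
 (.node (nat_lit 0x4c2d0eb5889) (.leaf (nat_lit 0x4c1566b5091) (nat_lit 1283))
 (.leaf (nat_lit 0x4c2d0eb5889) (nat_lit 1028))
)) (.node (nat_lit 0x4c331eb5889) (.leaf (nat_lit 0x4c2f52b5889) (nat_lit 1795))
 (.node (nat_lit 0x4c4d12b6892) (.leaf (nat_lit 0x4c331eb5889) (nat_lit 770))
 (.leaf (nat_lit 0x4c4d12b6892) (nat_lit 1540))
))))) (.node (nat_lit 0x4d52040d040) (.node (nat_lit 0x4c8574b598e) (.node (nat_lit 0x4c6d16b6090) (.node (nat_lit 0x4c5562b6892) (.leaf (nat_lit 0x4c4f5eb6892) (nat_lit 2308))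
 (.leaf (nat_lit 0x4c5562b6892) (nat_lit 1539))
) (.node (nat_lit 0x4c6f56b6090) (.leaf (nat_lit 0x4c6d16b6090) (nat_lit 1540))
 (.node (nat_lit 0x4c731ab6090) (.leaf (nat_lit 0x4c6f56b6090) (nat_lit 2307))
 (.leaf (nat_lit 0x4c731ab6090) (nat_lit 1281))
))) (.node (nat_lit 0x4ca53cb3190) (.node (nat_lit 0x4c86c0b598e) (.leaf (nat_lit 0x4c8574b598e) (nat_lit 2052))
 (.node (nat_lit 0x4c9260b598e) (.leaf (nat_lit 0x4c86c0b598e) (nat_lit 1539))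
 (.leaf (nat_lit 0x4c9260b598e) (nat_lit 2050))
)) (.node (nat_lit 0x4ca6c4b3190) (.leaf (nat_lit 0x4ca53cb3190) (nat_lit 2052))
 (.node (nat_lit 0x4cb264b3190) (.leaf (nat_lit 0x4ca6c4b3190) (nat_lit 1539))
 (.leaf (nat_lit 0x4cb264b3190) (nat_lit 2049))
)))) (.node (nat_lit 0x4ec736b6892) (.node (nat_lit 0x4d72000e03f) (.node (nat_lit 0x4d53b40d040) (.leaf (nat_lit 0x4d52040d040) (nat_lit 1025))
 (.node (nat_lit 0x4d55500d040) (.leaf (nat_lit 0x4d53b40d040) (nat_lit 1795))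
 (.leaf (nat_lit 0x4d55500d040) (nat_lit 1796))
)) (.node (nat_lit 0x4d73ac0e03f) (.leaf (nat_lit 0x4d72000e03f) (nat_lit 1026))
 (.node (nat_lit 0x4d75540e03f) (.leaf (nat_lit 0x4d73ac0e03f) (nat_lit 1795))
 (.leaf (nat_lit 0x4d75540e03f) (nat_lit 1796))
))) (.node (nat_lit 0x4ee732b5091) (.node (nat_lit 0x4ec8b2b6892) (.leaf (nat_lit 0x4ec736b6892) (nat_lit 2051))
 (.node (nat_lit 0x4ec8deb6892) (.leaf (nat_lit 0x4ec8b2b6892) (nat_lit 1283))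
 (.leaf (nat_lit 0x4ec8deb6892) (nat_lit 2564))
)) (.node (nat_lit 0x4ee8b6b5091) (.leaf (nat_lit 0x4ee732b5091) (nat_lit 1795))
 (.node (nat_lit 0x4ee8dab5091) (.leaf (nat_lit 0x4ee8b6b5091) (nat_lit 771))
 (.leaf (nat_lit 0x4ee8dab5091) (nat_lit 2564))
))))))) (.node (nat_lit 0x52ef907485c) (.node (nat_lit 0x51879c7505a) (.node (nat_lit 0x4fcde0c8166) (.node (nat_lit 0x4f2b7ab6090) (.node (nat_lit 0x4f0b7eb5889) (.node (nat_lit 0x4f08aeb5889) (.leaf (nat_lit 0x4f0282b5889) (nat_lit 1538))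
 (.leaf (nat_lit 0x4f08aeb5889) (nat_lit 771))
) (.node (nat_lit 0x4f227eb6090) (.leaf (nat_lit 0x4f0b7eb5889) (nat_lit 2052))
 (.node (nat_lit 0x4f289ab6090) (.leaf (nat_lit 0x4f227eb6090) (nat_lit 2049))
 (.leaf (nat_lit 0x4f289ab6090) (nat_lit 1283))
))) (.node (nat_lit 0x4f8926b6892) (.node (nat_lit 0x4f80beb6892) (.leaf (nat_lit 0x4f2b7ab6090) (nat_lit 2564))
 (.node (nat_lit 0x4f8852b6892) (.leaf (nat_lit 0x4f80beb6892) (nat_lit 2564))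
 (.leaf (nat_lit 0x4f8852b6892) (nat_lit 1540))
)) (.node (nat_lit 0x4fc440c8166) (.leaf (nat_lit 0x4f8926b6892) (nat_lit 1796))
 (.node (nat_lit 0x4fca90c8166) (.leaf (nat_lit 0x4fc440c8166) (nat_lit 2052))
 (.leaf (nat_lit 0x4fca90c8166) (nat_lit 2305))
)))) (.node (nat_lit 0x50c856b6090) (.node (nat_lit 0x50a84ab5091) (.node (nat_lit 0x50a0c2b5091) (.leaf (nat_lit 0x4fcde0c8166) (nat_lit 1796))
 (.leaf (nat_lit 0x50a0c2b5091) (nat_lit 2564))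
) (.node (nat_lit 0x50a92eb5091) (.leaf (nat_lit 0x50a84ab5091) (nat_lit 1284))
 (.node (nat_lit 0x50c0b6b6090) (.leaf (nat_lit 0x50a92eb5091) (nat_lit 1540))
 (.leaf (nat_lit 0x50c0b6b6090) (nat_lit 2564))
))) (.node (nat_lit 0x50e84eb5889) (.node (nat_lit 0x50c92ab6090) (.leaf (nat_lit 0x50c856b6090) (nat_lit 1540))
 (.node (nat_lit 0x50e0bab5889) (.leaf (nat_lit 0x50c92ab6090) (nat_lit 1796))
 (.leaf (nat_lit 0x50e0bab5889) (nat_lit 2052))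
)) (.node (nat_lit 0x50e922b5889) (.leaf (nat_lit 0x50e84eb5889) (nat_lit 1028))
 (.node (nat_lit 0x5184447505a) (.leaf (nat_lit 0x50e922b5889) (nat_lit 1284))
 (.leaf (nat_lit 0x5184447505a) (nat_lit 1027))
))))) (.node (nat_lit 0x52643cc716b) (.node (nat_lit 0x5224407485c) (.node (nat_lit 0x52044874059) (.node (nat_lit 0x5190907505a) (.leaf (nat_lit 0x51879c7505a) (nat_lit 1540))
 (.leaf (nat_lit 0x5190907505a) (nat_lit 1284))
) (.node (nat_lit 0x52079874059) (.leaf (nat_lit 0x52044874059) (nat_lit 1282))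
 (.node (nat_lit 0x52109474059) (.leaf (nat_lit 0x52079874059) (nat_lit 1796))
 (.leaf (nat_lit 0x52109474059) (nat_lit 1796))
))) (.node (nat_lit 0x52443c7585b) (.node (nat_lit 0x5227907485c) (.leaf (nat_lit 0x5224407485c) (nat_lit 1539))
 (.node (nat_lit 0x5230987485c) (.leaf (nat_lit 0x5227907485c) (nat_lit 1796))
 (.leaf (nat_lit 0x5230987485c) (nat_lit 1796))
)) (.node (nat_lit 0x5247947585b) (.leaf (nat_lit 0x52443c7585b) (nat_lit 1027))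
 (.node (nat_lit 0x52509c7585b) (.leaf (nat_lit 0x5247947585b) (nat_lit 1284))
 (.leaf (nat_lit 0x52509c7585b) (nat_lit 1284))
)))) (.node (nat_lit 0x52a444c896d) (.node (nat_lit 0x528448c796c) (.node (nat_lit 0x526a8cc716b) (.leaf (nat_lit 0x52643cc716b) (nat_lit 1540))
 (.node (nat_lit 0x526de4c716b) (.leaf (nat_lit 0x526a8cc716b) (nat_lit 1794))
 (.leaf (nat_lit 0x526de4c716b) (nat_lit 1284))
)) (.node (nat_lit 0x528a80c796c) (.leaf (nat_lit 0x528448c796c) (nat_lit 2052))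
 (.node (nat_lit 0x528ddcc796c) (.leaf (nat_lit 0x528a80c796c) (nat_lit 2308))
 (.leaf (nat_lit 0x528ddcc796c) (nat_lit 1540))
))) (.node (nat_lit 0x52c330c896d) (.node (nat_lit 0x52aa88c896d) (.leaf (nat_lit 0x52a444c896d) (nat_lit 1540))
 (.node (nat_lit 0x52adccc896d) (.leaf (nat_lit 0x52aa88c896d) (nat_lit 2051))
 (.leaf (nat_lit 0x52adccc896d) (nat_lit 1284))
)) (.node (nat_lit 0x52ccb8c896d) (.leaf (nat_lit 0x52c330c896d) (nat_lit 1540))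
 (.node (nat_lit 0x52ceb0c896d) (.leaf (nat_lit 0x52ccb8c896d) (nat_lit 1796))
 (.leaf (nat_lit 0x52ceb0c896d) (nat_lit 2052))
)))))) (.node (nat_lit 0x53cdd874059) (.node (nat_lit 0x534ea0c8166) (.node (nat_lit 0x53102c7485c) (.node (nat_lit 0x52f3247485c) (.node (nat_lit 0x52f1bc7485c) (.leaf (nat_lit 0x52ef907485c) (nat_lit 2308))
 (.leaf (nat_lit 0x52f1bc7485c) (nat_lit 2308))
) (.node (nat_lit 0x53059c7485c) (.leaf (nat_lit 0x52f3247485c) (nat_lit 2308))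
 (.node (nat_lit 0x530dd07485c) (.leaf (nat_lit 0x53059c7485c) (nat_lit 769))
 (.leaf (nat_lit 0x530dd07485c) (nat_lit 2564))
))) (.node (nat_lit 0x532eacc796c) (.node (nat_lit 0x53231cc796c) (.leaf (nat_lit 0x53102c7485c) (nat_lit 2563))
 (.node (nat_lit 0x532cbcc796c) (.leaf (nat_lit 0x53231cc796c) (nat_lit 2052))
 (.leaf (nat_lit 0x532cbcc796c) (nat_lit 1796))
)) (.node (nat_lit 0x534338c8166) (.leaf (nat_lit 0x532eacc796c) (nat_lit 2052))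
 (.node (nat_lit 0x534cb4c8166) (.leaf (nat_lit 0x534338c8166) (nat_lit 2052))
 (.leaf (nat_lit 0x534cb4c8166) (nat_lit 2052))
)))) (.node (nat_lit 0x5391b87585b) (.node (nat_lit 0x536cb0c716b) (.node (nat_lit 0x536334c716b) (.leaf (nat_lit 0x534ea0c8166) (nat_lit 2052))
 (.leaf (nat_lit 0x536334c716b) (nat_lit 1540))
) (.node (nat_lit 0x536ea8c716b) (.leaf (nat_lit 0x536cb0c716b) (nat_lit 1540))
 (.node (nat_lit 0x538f8c7585b) (.leaf (nat_lit 0x536ea8c716b) (nat_lit 1540))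
 (.leaf (nat_lit 0x538f8c7585b) (nat_lit 1796))
))) (.node (nat_lit 0x53adc87585b) (.node (nat_lit 0x5393207585b) (.leaf (nat_lit 0x5391b87585b) (nat_lit 1796))
 (.node (nat_lit 0x53a5907585b) (.leaf (nat_lit 0x5393207585b) (nat_lit 1796))
 (.leaf (nat_lit 0x53a5907585b) (nat_lit 258))
)) (.node (nat_lit 0x53b0347585b) (.leaf (nat_lit 0x53adc87585b) (nat_lit 2052))
 (.node (nat_lit 0x53c5a474059) (.leaf (nat_lit 0x53b0347585b) (nat_lit 2051))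
 (.leaf (nat_lit 0x53c5a474059) (nat_lit 1026))
))))) (.node (nat_lit 0x5b4896b5889) (.node (nat_lit 0x55c8ac1f09c) (.node (nat_lit 0x53e5a07505a) (.node (nat_lit 0x53d02874059) (.leaf (nat_lit 0x53cdd874059) (nat_lit 2308))
 (.leaf (nat_lit 0x53d02874059) (nat_lit 2306))
) (.node (nat_lit 0x53edd47505a) (.leaf (nat_lit 0x53e5a07505a) (nat_lit 771))
 (.node (nat_lit 0x53f0307505a) (.leaf (nat_lit 0x53edd47505a) (nat_lit 2052))
 (.leaf (nat_lit 0x53f0307505a) (nat_lit 2306))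
))) (.node (nat_lit 0x55e8981e89a) (.node (nat_lit 0x55ccb01f09c) (.leaf (nat_lit 0x55c8ac1f09c) (nat_lit 1539))
 (.node (nat_lit 0x55d5481f09c) (.leaf (nat_lit 0x55ccb01f09c) (nat_lit 772))
 (.leaf (nat_lit 0x55d5481f09c) (nat_lit 1538))
)) (.node (nat_lit 0x55ecb41e89a) (.leaf (nat_lit 0x55e8981e89a) (nat_lit 2051))
 (.node (nat_lit 0x55f5401e89a) (.leaf (nat_lit 0x55ecb41e89a) (nat_lit 1284))
 (.leaf (nat_lit 0x55f5401e89a) (nat_lit 2049))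
)))) (.node (nat_lit 0x5b88aab6090) (.node (nat_lit 0x5b6ddeb6892) (.node (nat_lit 0x5b4ab2b5889) (.leaf (nat_lit 0x5b4896b5889) (nat_lit 1026))
 (.node (nat_lit 0x5b4de6b5889) (.leaf (nat_lit 0x5b4ab2b5889) (nat_lit 2051))
 (.leaf (nat_lit 0x5b4de6b5889) (nat_lit 516))
)) (.node (nat_lit 0x5b6f62b6892) (.leaf (nat_lit 0x5b6ddeb6892) (nat_lit 1028))
 (.node (nat_lit 0x5b70a6b6892) (.leaf (nat_lit 0x5b6f62b6892) (nat_lit 1795))
 (.leaf (nat_lit 0x5b70a6b6892) (nat_lit 2564))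
))) (.node (nat_lit 0x5badceb5091) (.node (nat_lit 0x5b8ab6b6090) (.leaf (nat_lit 0x5b88aab6090) (nat_lit 1537))
 (.node (nat_lit 0x5b8de2b6090) (.leaf (nat_lit 0x5b8ab6b6090) (nat_lit 2563))
 (.leaf (nat_lit 0x5b8de2b6090) (nat_lit 1028))
)) (.node (nat_lit 0x5baf66b5091) (.leaf (nat_lit 0x5badceb5091) (nat_lit 516))
 (.node (nat_lit 0x5bb0a2b5091) (.leaf (nat_lit 0x5baf66b5091) (nat_lit 1539))
 (.leaf (nat_lit 0x5bb0a2b5091) (nat_lit 2308))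
)))))))) (.node (nat_lit 0x63c6f6b6892) (.node (nat_lit 0x61665ab5889) (.node (nat_lit 0x5febd04d03d) (.node (nat_lit 0x5f7500c8166) (.node (nat_lit 0x5f35f4c8166) (.node (nat_lit 0x5f15f0c716b) (.node (nat_lit 0x5f0ed4c716b) (.leaf (nat_lit 0x5f00b8c716b) (nat_lit 1796))
 (.leaf (nat_lit 0x5f0ed4c716b) (nat_lit 1028))
) (.node (nat_lit 0x5f20b4c8166) (.leaf (nat_lit 0x5f15f0c716b) (nat_lit 1796))
 (.node (nat_lit 0x5f2ed0c8166) (.leaf (nat_lit 0x5f20b4c8166) (nat_lit 2308))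
 (.leaf (nat_lit 0x5f2ed0c8166) (nat_lit 1540))
))) (.node (nat_lit 0x5f5504c716b) (.node (nat_lit 0x5f4e78c716b) (.leaf (nat_lit 0x5f35f4c8166) (nat_lit 2308))
 (.node (nat_lit 0x5f5320c716b) (.leaf (nat_lit 0x5f4e78c716b) (nat_lit 2052))
 (.leaf (nat_lit 0x5f5320c716b) (nat_lit 1282))
)) (.node (nat_lit 0x5f6e74c8166) (.leaf (nat_lit 0x5f5504c716b) (nat_lit 1539))
 (.node (nat_lit 0x5f7324c8166) (.leaf (nat_lit 0x5f6e74c8166) (nat_lit 2564))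
 (.leaf (nat_lit 0x5f7324c8166) (nat_lit 1793))
)))) (.node (nat_lit 0x5fabd44e03e) (.node (nat_lit 0x5f897c4dc16) (.node (nat_lit 0x5f80e44dc16) (.leaf (nat_lit 0x5f7500c8166) (nat_lit 2051))
 (.leaf (nat_lit 0x5f80e44dc16) (nat_lit 772))
) (.node (nat_lit 0x5f8bdc4dc16) (.leaf (nat_lit 0x5f897c4dc16) (nat_lit 1795))
 (.node (nat_lit 0x5fa6a84e03e) (.leaf (nat_lit 0x5f8bdc4dc16) (nat_lit 1028))
 (.leaf (nat_lit 0x5fa6a84e03e) (nat_lit 1795))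
))) (.node (nat_lit 0x5fc9784cc17) (.node (nat_lit 0x5fb1f84e03e) (.leaf (nat_lit 0x5fabd44e03e) (nat_lit 1540))
 (.node (nat_lit 0x5fc0e84cc17) (.leaf (nat_lit 0x5fb1f84e03e) (nat_lit 1028))
 (.leaf (nat_lit 0x5fc0e84cc17) (nat_lit 1540))
)) (.node (nat_lit 0x5fcbd84cc17) (.leaf (nat_lit 0x5fc9784cc17) (nat_lit 2307))
 (.node (nat_lit 0x5fe6ac4d03d) (.leaf (nat_lit 0x5fcbd84cc17) (nat_lit 2052))
 (.leaf (nat_lit 0x5fe6ac4d03d) (nat_lit 1795))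
))))) (.node (nat_lit 0x60ed642001a) (.node (nat_lit 0x60ad6800019) (.node (nat_lit 0x608d6c8981b) (.node (nat_lit 0x5ff1f44d03d) (.leaf (nat_lit 0x5febd04d03d) (nat_lit 1540))
 (.leaf (nat_lit 0x5ff1f44d03d) (nat_lit 1028))
) (.node (nat_lit 0x6091348981b) (.leaf (nat_lit 0x608d6c8981b) (nat_lit 1795))
 (.node (nat_lit 0x60930c8981b) (.leaf (nat_lit 0x6091348981b) (nat_lit 2052))
 (.leaf (nat_lit 0x60930c8981b) (nat_lit 2564))
))) (.node (nat_lit 0x60cd601f81c) (.node (nat_lit 0x60b13000019) (.leaf (nat_lit 0x60ad6800019) (nat_lit 1540))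
 (.node (nat_lit 0x60b30400019) (.leaf (nat_lit 0x60b13000019) (nat_lit 2052))
 (.leaf (nat_lit 0x60b30400019) (nat_lit 2564))
)) (.node (nat_lit 0x60d1a01f81c) (.leaf (nat_lit 0x60cd601f81c) (nat_lit 1283))
 (.node (nat_lit 0x60d3081f81c) (.leaf (nat_lit 0x60d1a01f81c) (nat_lit 1540))
 (.leaf (nat_lit 0x60d3081f81c) (nat_lit 2052))
)))) (.node (nat_lit 0x6121f60b899) (.node (nat_lit 0x61065eb6090) (.node (nat_lit 0x60f1b42001a) (.leaf (nat_lit 0x60ed642001a) (nat_lit 1795))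
 (.node (nat_lit 0x60f3002001a) (.leaf (nat_lit 0x60f1b42001a) (nat_lit 2052))
 (.leaf (nat_lit 0x60f3002001a) (nat_lit 2564))
)) (.node (nat_lit 0x61072eb6090) (.leaf (nat_lit 0x61065eb6090) (nat_lit 2052))
 (.node (nat_lit 0x610df2b6090) (.leaf (nat_lit 0x61072eb6090) (nat_lit 1796))
 (.leaf (nat_lit 0x610df2b6090) (nat_lit 2052))
))) (.node (nat_lit 0x614108c796c) (.node (nat_lit 0x612c0a0b899) (.leaf (nat_lit 0x6121f60b899) (nat_lit 1795))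
 (.node (nat_lit 0x6134f20b899) (.leaf (nat_lit 0x612c0a0b899) (nat_lit 1282))
 (.leaf (nat_lit 0x6134f20b899) (nat_lit 2052))
)) (.node (nat_lit 0x614ee4c796c) (.leaf (nat_lit 0x614108c796c) (nat_lit 1796))
 (.node (nat_lit 0x615120c796c) (.leaf (nat_lit 0x614ee4c796c) (nat_lit 1796))
 (.leaf (nat_lit 0x615120c796c) (nat_lit 2052))
)))))) (.node (nat_lit 0x624788c716b) (.node (nat_lit 0x61d4f60b09b) (.node (nat_lit 0x618e2eb6892) (.node (nat_lit 0x616e2ab5889) (.node (nat_lit 0x61672ab5889) (.leaf (nat_lit 0x61665ab5889) (nat_lit 1540))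
 (.leaf (nat_lit 0x61672ab5889) (nat_lit 1284))
) (.node (nat_lit 0x6186a6b6892) (.leaf (nat_lit 0x616e2ab5889) (nat_lit 1540))
 (.node (nat_lit 0x618706b6892) (.leaf (nat_lit 0x6186a6b6892) (nat_lit 2052))
 (.leaf (nat_lit 0x618706b6892) (nat_lit 1796))
))) (.node (nat_lit 0x61ae32b5091) (.node (nat_lit 0x61a6a2b5091) (.leaf (nat_lit 0x618e2eb6892) (nat_lit 2052))
 (.node (nat_lit 0x61a726b5091) (.leaf (nat_lit 0x61a6a2b5091) (nat_lit 2052))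
 (.leaf (nat_lit 0x61a726b5091) (nat_lit 1540))
)) (.node (nat_lit 0x61c2020b09b) (.leaf (nat_lit 0x61ae32b5091) (nat_lit 1796))
 (.node (nat_lit 0x61cc020b09b) (.leaf (nat_lit 0x61c2020b09b) (nat_lit 1795))
 (.leaf (nat_lit 0x61cc020b09b) (nat_lit 1282))
)))) (.node (nat_lit 0x620c0c1e89a) (.node (nat_lit 0x61ec041f09c) (.node (nat_lit 0x61e2041f09c) (.leaf (nat_lit 0x61d4f60b09b) (nat_lit 1540))
 (.leaf (nat_lit 0x61e2041f09c) (nat_lit 1283))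
) (.node (nat_lit 0x61f1101f09c) (.leaf (nat_lit 0x61ec041f09c) (nat_lit 1283))
 (.node (nat_lit 0x6202081e89a) (.leaf (nat_lit 0x61f1101f09c) (nat_lit 1540))
 (.leaf (nat_lit 0x6202081e89a) (nat_lit 1795))
))) (.node (nat_lit 0x622ee8c896d) (.node (nat_lit 0x6211141e89a) (.leaf (nat_lit 0x620c0c1e89a) (nat_lit 1795))
 (.node (nat_lit 0x622104c896d) (.leaf (nat_lit 0x6211141e89a) (nat_lit 2052))
 (.leaf (nat_lit 0x622104c896d) (nat_lit 1540))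
)) (.node (nat_lit 0x623124c896d) (.leaf (nat_lit 0x622ee8c896d) (nat_lit 1540))
 (.node (nat_lit 0x62410cc716b) (.leaf (nat_lit 0x623124c896d) (nat_lit 2052))
 (.leaf (nat_lit 0x62410cc716b) (nat_lit 1284))
))))) (.node (nat_lit 0x62c7742001a) (.node (nat_lit 0x6287781f81c) (.node (nat_lit 0x626110c8166) (.node (nat_lit 0x624f48c716b) (.leaf (nat_lit 0x624788c716b) (nat_lit 1540))
 (.leaf (nat_lit 0x624f48c716b) (nat_lit 1540))
) (.node (nat_lit 0x62678cc8166) (.leaf (nat_lit 0x626110c8166) (nat_lit 1796))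
 (.node (nat_lit 0x626f4cc8166) (.leaf (nat_lit 0x62678cc8166) (nat_lit 2052))
 (.leaf (nat_lit 0x626f4cc8166) (nat_lit 2052))
))) (.node (nat_lit 0x62a7708981b) (.node (nat_lit 0x62884c1f81c) (.leaf (nat_lit 0x6287781f81c) (nat_lit 1796))
 (.node (nat_lit 0x628f9c1f81c) (.leaf (nat_lit 0x62884c1f81c) (nat_lit 1540))
 (.leaf (nat_lit 0x628f9c1f81c) (nat_lit 1026))
)) (.node (nat_lit 0x62a8508981b) (.leaf (nat_lit 0x62a7708981b) (nat_lit 2052))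
 (.node (nat_lit 0x62af948981b) (.leaf (nat_lit 0x62a8508981b) (nat_lit 2052))
 (.leaf (nat_lit 0x62af948981b) (nat_lit 1282))
)))) (.node (nat_lit 0x6386f2b5091) (.node (nat_lit 0x62e76800019) (.node (nat_lit 0x62c8542001a) (.leaf (nat_lit 0x62c7742001a) (nat_lit 2308))
 (.node (nat_lit 0x62cf982001a) (.leaf (nat_lit 0x62c8542001a) (nat_lit 2052))
 (.leaf (nat_lit 0x62cf982001a) (nat_lit 1537))
)) (.node (nat_lit 0x62e84800019) (.leaf (nat_lit 0x62e76800019) (nat_lit 1796))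
 (.node (nat_lit 0x62ef8400019) (.leaf (nat_lit 0x62e84800019) (nat_lit 1796))
 (.leaf (nat_lit 0x62ef8400019) (nat_lit 769))
))) (.node (nat_lit 0x63a7feb5889) (.node (nat_lit 0x638d2ab5091) (.leaf (nat_lit 0x6386f2b5091) (nat_lit 772))
 (.node (nat_lit 0x638dd6b5091) (.leaf (nat_lit 0x638d2ab5091) (nat_lit 1796))
 (.leaf (nat_lit 0x638dd6b5091) (nat_lit 1795))
)) (.node (nat_lit 0x63ad36b5889) (.leaf (nat_lit 0x63a7feb5889) (nat_lit 772))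
 (.node (nat_lit 0x63adcab5889) (.leaf (nat_lit 0x63ad36b5889) (nat_lit 1539))
 (.leaf (nat_lit 0x63adcab5889) (nat_lit 1282))
))))))) (.node (nat_lit 0x6be9984d03d) (.node (nat_lit 0x67aae82d8eb) (.node (nat_lit 0x66f2502d0ea) (.node (nat_lit 0x63edd2b6090) (.node (nat_lit 0x63cddab6892) (.node (nat_lit 0x63cd2eb6892) (.leaf (nat_lit 0x63c6f6b6892) (nat_lit 1284))
 (.leaf (nat_lit 0x63cd2eb6892) (nat_lit 2052))
) (.node (nat_lit 0x63e7fab6090) (.leaf (nat_lit 0x63cddab6892) (nat_lit 2051))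
 (.node (nat_lit 0x63ed32b6090) (.leaf (nat_lit 0x63e7fab6090) (nat_lit 1284))
 (.leaf (nat_lit 0x63ed32b6090) (nat_lit 2051))
))) (.node (nat_lit 0x66d25c2c8e8) (.node (nat_lit 0x66c8d02c8e8) (.leaf (nat_lit 0x63edd2b6090) (nat_lit 1793))
 (.node (nat_lit 0x66c9cc2c8e8) (.leaf (nat_lit 0x66c8d02c8e8) (nat_lit 1794))
 (.leaf (nat_lit 0x66c9cc2c8e8) (nat_lit 2050))
)) (.node (nat_lit 0x66e8d42d0ea) (.leaf (nat_lit 0x66d25c2c8e8) (nat_lit 2818))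
 (.node (nat_lit 0x66e9bc2d0ea) (.leaf (nat_lit 0x66e8d42d0ea) (nat_lit 1284))
 (.leaf (nat_lit 0x66e9bc2d0ea) (nat_lit 1540))
)))) (.node (nat_lit 0x6729d02e0e9) (.node (nat_lit 0x6709d42d8eb) (.node (nat_lit 0x6708cc2d8eb) (.leaf (nat_lit 0x66f2502d0ea) (nat_lit 2306))
 (.leaf (nat_lit 0x6708cc2d8eb) (nat_lit 1796))
) (.node (nat_lit 0x6712602d8eb) (.leaf (nat_lit 0x6709d42d8eb) (nat_lit 1796))
 (.node (nat_lit 0x6728c82e0e9) (.leaf (nat_lit 0x6712602d8eb) (nat_lit 2564))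
 (.leaf (nat_lit 0x6728c82e0e9) (nat_lit 1796))
))) (.node (nat_lit 0x678fd02d0ea) (.node (nat_lit 0x6732642e0e9) (.leaf (nat_lit 0x6729d02e0e9) (nat_lit 1796))
 (.node (nat_lit 0x678b542d0ea) (.leaf (nat_lit 0x6732642e0e9) (nat_lit 2564))
 (.leaf (nat_lit 0x678b542d0ea) (nat_lit 2050))
)) (.node (nat_lit 0x6794c42d0ea) (.leaf (nat_lit 0x678fd02d0ea) (nat_lit 515))
 (.node (nat_lit 0x67a6202d8eb) (.leaf (nat_lit 0x6794c42d0ea) (nat_lit 1796))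
 (.leaf (nat_lit 0x67a6202d8eb) (nat_lit 514))
))))) (.node (nat_lit 0x6a611c2c8e8) (.node (nat_lit 0x67e61c2e0e9) (.node (nat_lit 0x67cb502c8e8) (.node (nat_lit 0x67b4c82d8eb) (.leaf (nat_lit 0x67aae82d8eb) (nat_lit 2307))
 (.leaf (nat_lit 0x67b4c82d8eb) (nat_lit 2308))
) (.node (nat_lit 0x67cfd42c8e8) (.leaf (nat_lit 0x67cb502c8e8) (nat_lit 2562))
 (.node (nat_lit 0x67d4cc2c8e8) (.leaf (nat_lit 0x67cfd42c8e8) (nat_lit 1282))
 (.leaf (nat_lit 0x67d4cc2c8e8) (nat_lit 2564))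
))) (.node (nat_lit 0x6a41142d0ea) (.node (nat_lit 0x67eb4c2e0e9) (.leaf (nat_lit 0x67e61c2e0e9) (nat_lit 513))
 (.node (nat_lit 0x67f4c02e0e9) (.leaf (nat_lit 0x67eb4c2e0e9) (nat_lit 2307))
 (.leaf (nat_lit 0x67f4c02e0e9) (nat_lit 2308))
)) (.node (nat_lit 0x6a519c2d0ea) (.leaf (nat_lit 0x6a41142d0ea) (nat_lit 1027))
 (.node (nat_lit 0x6a55102d0ea) (.leaf (nat_lit 0x6a519c2d0ea) (nat_lit 516))
 (.leaf (nat_lit 0x6a55102d0ea) (nat_lit 1540))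
)))) (.node (nat_lit 0x6aa1182d8eb) (.node (nat_lit 0x6a81202e0e9) (.node (nat_lit 0x6a71982c8e8) (.leaf (nat_lit 0x6a611c2c8e8) (nat_lit 1794))
 (.node (nat_lit 0x6a75142c8e8) (.leaf (nat_lit 0x6a71982c8e8) (nat_lit 1540))
 (.leaf (nat_lit 0x6a75142c8e8) (nat_lit 2308))
)) (.node (nat_lit 0x6a91902e0e9) (.leaf (nat_lit 0x6a81202e0e9) (nat_lit 1539))
 (.node (nat_lit 0x6a94fc2e0e9) (.leaf (nat_lit 0x6a91902e0e9) (nat_lit 1028))
 (.leaf (nat_lit 0x6a94fc2e0e9) (nat_lit 1796))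
))) (.node (nat_lit 0x6bc9a04e03e) (.node (nat_lit 0x6ab1942d8eb) (.leaf (nat_lit 0x6aa1182d8eb) (nat_lit 1539))
 (.node (nat_lit 0x6ab4f82d8eb) (.leaf (nat_lit 0x6ab1942d8eb) (nat_lit 1028))
 (.leaf (nat_lit 0x6ab4f82d8eb) (nat_lit 1796))
)) (.node (nat_lit 0x6bd3c04e03e) (.leaf (nat_lit 0x6bc9a04e03e) (nat_lit 1796))
 (.node (nat_lit 0x6bd5184e03e) (.leaf (nat_lit 0x6bd3c04e03e) (nat_lit 2307))
 (.leaf (nat_lit 0x6bd5184e03e) (nat_lit 1540))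
)))))) (.node (nat_lit 0x6fcfe4b3190) (.node (nat_lit 0x6d0f981e89a) (.node (nat_lit 0x6c12447485c) (.node (nat_lit 0x6bf51c4d03d) (.node (nat_lit 0x6bf3c44d03d) (.leaf (nat_lit 0x6be9984d03d) (nat_lit 1796))
 (.leaf (nat_lit 0x6bf3c44d03d) (nat_lit 2307))
) (.node (nat_lit 0x6c01347485c) (.leaf (nat_lit 0x6bf51c4d03d) (nat_lit 1540))
 (.node (nat_lit 0x6c0fac7485c) (.leaf (nat_lit 0x6c01347485c) (nat_lit 2052))
 (.leaf (nat_lit 0x6c0fac7485c) (nat_lit 2052))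
))) (.node (nat_lit 0x6c323c7585b) (.node (nat_lit 0x6c21387585b) (.leaf (nat_lit 0x6c12447485c) (nat_lit 2820))
 (.node (nat_lit 0x6c2fa87585b) (.leaf (nat_lit 0x6c21387585b) (nat_lit 1540))
 (.leaf (nat_lit 0x6c2fa87585b) (nat_lit 1540))
)) (.node (nat_lit 0x6d0cc41e89a) (.leaf (nat_lit 0x6c323c7585b) (nat_lit 2308))
 (.node (nat_lit 0x6d0d301e89a) (.leaf (nat_lit 0x6d0cc41e89a) (nat_lit 1795))
 (.leaf (nat_lit 0x6d0d301e89a) (nat_lit 1540))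
)))) (.node (nat_lit 0x6e0fa074059) (.node (nat_lit 0x6d2d341f09c) (.node (nat_lit 0x6d2cc01f09c) (.leaf (nat_lit 0x6d0f981e89a) (nat_lit 1796))
 (.leaf (nat_lit 0x6d2cc01f09c) (nat_lit 1283))
) (.node (nat_lit 0x6d2f9c1f09c) (.leaf (nat_lit 0x6d2d341f09c) (nat_lit 1028))
 (.node (nat_lit 0x6e01c874059) (.leaf (nat_lit 0x6d2f9c1f09c) (nat_lit 1284))
 (.leaf (nat_lit 0x6e01c874059) (nat_lit 1538))
))) (.node (nat_lit 0x6e2fa47505a) (.node (nat_lit 0x6e124074059) (.leaf (nat_lit 0x6e0fa074059) (nat_lit 1794))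
 (.node (nat_lit 0x6e21cc7505a) (.leaf (nat_lit 0x6e124074059) (nat_lit 2562))
 (.leaf (nat_lit 0x6e21cc7505a) (nat_lit 1540))
)) (.node (nat_lit 0x6e32387505a) (.leaf (nat_lit 0x6e2fa47505a) (nat_lit 1796))
 (.node (nat_lit 0x6fc1bcb3190) (.leaf (nat_lit 0x6e32387505a) (nat_lit 2562))
 (.leaf (nat_lit 0x6fc1bcb3190) (nat_lit 2052))
))))) (.node (nat_lit 0x73693c4dc16) (.node (nat_lit 0x7101c0b6991) (.node (nat_lit 0x7081b4b598e) (.node (nat_lit 0x6fd464b3190) (.leaf (nat_lit 0x6fcfe4b3190) (nat_lit 2052))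
 (.leaf (nat_lit 0x6fd464b3190) (nat_lit 1284))
) (.node (nat_lit 0x708fdcb598e) (.leaf (nat_lit 0x7081b4b598e) (nat_lit 2052))
 (.node (nat_lit 0x709460b598e) (.leaf (nat_lit 0x708fdcb598e) (nat_lit 2052))
 (.leaf (nat_lit 0x709460b598e) (nat_lit 1284))
))) (.node (nat_lit 0x7121b8b618f) (.node (nat_lit 0x710fd8b6991) (.leaf (nat_lit 0x7101c0b6991) (nat_lit 1540))
 (.node (nat_lit 0x71145cb6991) (.leaf (nat_lit 0x710fd8b6991) (nat_lit 1796))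
 (.leaf (nat_lit 0x71145cb6991) (nat_lit 1284))
)) (.node (nat_lit 0x712fe0b618f) (.leaf (nat_lit 0x7121b8b618f) (nat_lit 2564))
 (.node (nat_lit 0x713458b618f) (.leaf (nat_lit 0x712fe0b618f) (nat_lit 2308))
 (.leaf (nat_lit 0x713458b618f) (nat_lit 1796))
)))) (.node (nat_lit 0x7409384d03d) (.node (nat_lit 0x73e9344cc17) (.node (nat_lit 0x736a0c4dc16) (.leaf (nat_lit 0x73693c4dc16) (nat_lit 2052))
 (.node (nat_lit 0x736a384dc16) (.leaf (nat_lit 0x736a0c4dc16) (nat_lit 1796))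
 (.leaf (nat_lit 0x736a384dc16) (nat_lit 1538))
)) (.node (nat_lit 0x73ea104cc17) (.leaf (nat_lit 0x73e9344cc17) (nat_lit 2564))
 (.node (nat_lit 0x73ea3c4cc17) (.leaf (nat_lit 0x73ea104cc17) (nat_lit 2308))
 (.leaf (nat_lit 0x73ea3c4cc17) (nat_lit 2050))
))) (.node (nat_lit 0x7429304e03e) (.node (nat_lit 0x740a084d03d) (.leaf (nat_lit 0x7409384d03d) (nat_lit 2052))
 (.node (nat_lit 0x740a344d03d) (.leaf (nat_lit 0x740a084d03d) (nat_lit 1796))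
 (.leaf (nat_lit 0x740a344d03d) (nat_lit 1795))
)) (.node (nat_lit 0x7429ec4e03e) (.leaf (nat_lit 0x7429304e03e) (nat_lit 2052))
 (.node (nat_lit 0x742a2c4e03e) (.leaf (nat_lit 0x7429ec4e03e) (nat_lit 1796))
 (.leaf (nat_lit 0x742a2c4e03e) (nat_lit 1795))
))))))))) (.node (nat_lit 0x8f0fbeb5091) (.node (nat_lit 0x8385901f09c) (.node (nat_lit 0x7964f60b899) (.node (nat_lit 0x77e8201f09c) (.node (nat_lit 0x74a9a44956d) (.node (nat_lit 0x7474184cc17) (.node (nat_lit 0x7454144dc16) (.node (nat_lit 0x7450604dc16) (.leaf (nat_lit 0x7449584dc16) (nat_lit 1284))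
 (.leaf (nat_lit 0x7450604dc16) (nat_lit 1028))
) (.node (nat_lit 0x74695c4cc17) (.leaf (nat_lit 0x7454144dc16) (nat_lit 1283))
 (.node (nat_lit 0x7470644cc17) (.leaf (nat_lit 0x74695c4cc17) (nat_lit 2308))
 (.leaf (nat_lit 0x7470644cc17) (nat_lit 1796))
))) (.node (nat_lit 0x74899c48d6a) (.node (nat_lit 0x7480f048d6a) (.leaf (nat_lit 0x7474184cc17) (nat_lit 1795))
 (.node (nat_lit 0x74896c48d6a) (.leaf (nat_lit 0x7480f048d6a) (nat_lit 1027))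
 (.leaf (nat_lit 0x74896c48d6a) (nat_lit 1540))
)) (.node (nat_lit 0x74a0ec4956d) (.leaf (nat_lit 0x74899c48d6a) (nat_lit 2052))
 (.node (nat_lit 0x74a94c4956d) (.leaf (nat_lit 0x74a0ec4956d) (nat_lit 1795))
 (.leaf (nat_lit 0x74a94c4956d) (nat_lit 2308))
)))) (.node (nat_lit 0x74e97044d6b) (.node (nat_lit 0x74c9744856c) (.node (nat_lit 0x74c6c44856c) (.leaf (nat_lit 0x74a9a44956d) (nat_lit 2564))
 (.leaf (nat_lit 0x74c6c44856c) (nat_lit 1025))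
) (.node (nat_lit 0x74c9984856c) (.leaf (nat_lit 0x74c9744856c) (nat_lit 1796))
 (.node (nat_lit 0x74e6c044d6b) (.leaf (nat_lit 0x74c9984856c) (nat_lit 2308))
 (.leaf (nat_lit 0x74e6c044d6b) (nat_lit 1026))
))) (.node (nat_lit 0x77c82a0b09b) (.node (nat_lit 0x74e9a044d6b) (.leaf (nat_lit 0x74e97044d6b) (nat_lit 1796))
 (.node (nat_lit 0x77c64e0b09b) (.leaf (nat_lit 0x74e9a044d6b) (nat_lit 2308))
 (.leaf (nat_lit 0x77c64e0b09b) (nat_lit 1796))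
)) (.node (nat_lit 0x77c8c60b09b) (.leaf (nat_lit 0x77c82a0b09b) (nat_lit 2050))
 (.node (nat_lit 0x77e6501f09c) (.leaf (nat_lit 0x77c8c60b09b) (nat_lit 2308))
 (.leaf (nat_lit 0x77e6501f09c) (nat_lit 1284))
))))) (.node (nat_lit 0x78e1c048d6a) (.node (nat_lit 0x7826541e89a) (.node (nat_lit 0x7806360b899) (.node (nat_lit 0x77e8b81f09c) (.leaf (nat_lit 0x77e8201f09c) (nat_lit 1795))
 (.leaf (nat_lit 0x77e8b81f09c) (nat_lit 1796))
) (.node (nat_lit 0x78082e0b899) (.leaf (nat_lit 0x7806360b899) (nat_lit 1796))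
 (.node (nat_lit 0x7808be0b899) (.leaf (nat_lit 0x78082e0b899) (nat_lit 2050))
 (.leaf (nat_lit 0x7808be0b899) (nat_lit 2308))
))) (.node (nat_lit 0x7841b84956d) (.node (nat_lit 0x7828241e89a) (.leaf (nat_lit 0x7826541e89a) (nat_lit 1796))
 (.node (nat_lit 0x7828c01e89a) (.leaf (nat_lit 0x7828241e89a) (nat_lit 2307))
 (.leaf (nat_lit 0x7828c01e89a) (nat_lit 2308))
)) (.node (nat_lit 0x7843884956d) (.leaf (nat_lit 0x7841b84956d) (nat_lit 2820))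
 (.node (nat_lit 0x78557c4956d) (.leaf (nat_lit 0x7843884956d) (nat_lit 1796))
 (.leaf (nat_lit 0x78557c4956d) (nat_lit 2052))
)))) (.node (nat_lit 0x7921b444d6b) (.node (nat_lit 0x7901bc4856c) (.node (nat_lit 0x78e38c48d6a) (.leaf (nat_lit 0x78e1c048d6a) (nat_lit 2308))
 (.node (nat_lit 0x78f58448d6a) (.leaf (nat_lit 0x78e38c48d6a) (nat_lit 1028))
 (.leaf (nat_lit 0x78f58448d6a) (nat_lit 1284))
)) (.node (nat_lit 0x7903704856c) (.leaf (nat_lit 0x7901bc4856c) (nat_lit 2308))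
 (.node (nat_lit 0x7915804856c) (.leaf (nat_lit 0x7903704856c) (nat_lit 1284))
 (.leaf (nat_lit 0x7915804856c) (nat_lit 1540))
))) (.node (nat_lit 0x7944f20b09b) (.node (nat_lit 0x79238444d6b) (.leaf (nat_lit 0x7921b444d6b) (nat_lit 2308))
 (.node (nat_lit 0x79357844d6b) (.leaf (nat_lit 0x79238444d6b) (nat_lit 1284))
 (.leaf (nat_lit 0x79357844d6b) (nat_lit 1540))
)) (.node (nat_lit 0x794cd60b09b) (.leaf (nat_lit 0x7944f20b09b) (nat_lit 2052))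
 (.node (nat_lit 0x7954ee0b09b) (.leaf (nat_lit 0x794cd60b09b) (nat_lit 1796))
 (.leaf (nat_lit 0x7954ee0b09b) (nat_lit 2306))
)))))) (.node (nat_lit 0x7fcae42c8e8) (.node (nat_lit 0x7e50684d03d) (.node (nat_lit 0x7a1494c896d) (.node (nat_lit 0x7974ea0b899) (.node (nat_lit 0x796cd20b899) (.leaf (nat_lit 0x7964f60b899) (nat_lit 2052))
 (.leaf (nat_lit 0x796cd20b899) (nat_lit 1796))
) (.node (nat_lit 0x7a1304c896d) (.leaf (nat_lit 0x7974ea0b899) (nat_lit 2306))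
 (.node (nat_lit 0x7a1448c896d) (.leaf (nat_lit 0x7a1304c896d) (nat_lit 1796))
 (.leaf (nat_lit 0x7a1448c896d) (nat_lit 1540))
))) (.node (nat_lit 0x7a3490c796c) (.node (nat_lit 0x7a330cc796c) (.leaf (nat_lit 0x7a1494c896d) (nat_lit 1796))
 (.node (nat_lit 0x7a344cc796c) (.leaf (nat_lit 0x7a330cc796c) (nat_lit 2052))
 (.leaf (nat_lit 0x7a344cc796c) (nat_lit 1540))
)) (.node (nat_lit 0x7e49544d03d) (.leaf (nat_lit 0x7a3490c796c) (nat_lit 2052))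
 (.node (nat_lit 0x7e49b44d03d) (.leaf (nat_lit 0x7e49544d03d) (nat_lit 1796))
 (.leaf (nat_lit 0x7e49b44d03d) (nat_lit 1283))
)))) (.node (nat_lit 0x7f4674b6991) (.node (nat_lit 0x7e69b04e03e) (.node (nat_lit 0x7e69444e03e) (.leaf (nat_lit 0x7e50684d03d) (nat_lit 1284))
 (.leaf (nat_lit 0x7e69444e03e) (nat_lit 1796))
) (.node (nat_lit 0x7e706c4e03e) (.leaf (nat_lit 0x7e69b04e03e) (nat_lit 1283))
 (.node (nat_lit 0x7f43e0b6991) (.leaf (nat_lit 0x7e706c4e03e) (nat_lit 1284))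
 (.leaf (nat_lit 0x7f43e0b6991) (nat_lit 1540))
))) (.node (nat_lit 0x7faaf02d0ea) (.node (nat_lit 0x7f4904b6991) (.leaf (nat_lit 0x7f4674b6991) (nat_lit 2052))
 (.node (nat_lit 0x7fa6bc2d0ea) (.leaf (nat_lit 0x7f4904b6991) (nat_lit 1028))
 (.leaf (nat_lit 0x7fa6bc2d0ea) (nat_lit 1540))
)) (.node (nat_lit 0x7fb3102d0ea) (.leaf (nat_lit 0x7faaf02d0ea) (nat_lit 1027))
 (.node (nat_lit 0x7fc6b82c8e8) (.leaf (nat_lit 0x7fb3102d0ea) (nat_lit 1794))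
 (.leaf (nat_lit 0x7fc6b82c8e8) (nat_lit 2308))
))))) (.node (nat_lit 0x804400b598e) (.node (nat_lit 0x800ac02d8eb) (.node (nat_lit 0x7feaec2e0e9) (.node (nat_lit 0x7fd3142c8e8) (.leaf (nat_lit 0x7fcae42c8e8) (nat_lit 1794))
 (.leaf (nat_lit 0x7fd3142c8e8) (nat_lit 2306))
) (.node (nat_lit 0x7ff2ac2e0e9) (.leaf (nat_lit 0x7feaec2e0e9) (nat_lit 1025))
 (.node (nat_lit 0x7ff40c2e0e9) (.leaf (nat_lit 0x7ff2ac2e0e9) (nat_lit 2052))
 (.leaf (nat_lit 0x7ff40c2e0e9) (nat_lit 2051))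
))) (.node (nat_lit 0x8023f8b618f) (.node (nat_lit 0x80129c2d8eb) (.leaf (nat_lit 0x800ac02d8eb) (nat_lit 1026))
 (.node (nat_lit 0x8014082d8eb) (.leaf (nat_lit 0x80129c2d8eb) (nat_lit 2052))
 (.leaf (nat_lit 0x8014082d8eb) (nat_lit 2051))
)) (.node (nat_lit 0x802670b618f) (.leaf (nat_lit 0x8023f8b618f) (nat_lit 2052))
 (.node (nat_lit 0x802900b618f) (.leaf (nat_lit 0x802670b618f) (nat_lit 2564))
 (.leaf (nat_lit 0x802900b618f) (nat_lit 2052))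
)))) (.node (nat_lit 0x8287941f09c) (.node (nat_lit 0x8063fcb3190) (.node (nat_lit 0x804908b598e) (.leaf (nat_lit 0x804400b598e) (nat_lit 1540))
 (.node (nat_lit 0x8055c8b598e) (.leaf (nat_lit 0x804908b598e) (nat_lit 1540))
 (.leaf (nat_lit 0x8055c8b598e) (nat_lit 2308))
)) (.node (nat_lit 0x80690cb3190) (.leaf (nat_lit 0x8063fcb3190) (nat_lit 1540))
 (.node (nat_lit 0x8075ccb3190) (.leaf (nat_lit 0x80690cb3190) (nat_lit 1540))
 (.leaf (nat_lit 0x8075ccb3190) (nat_lit 2308))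
))) (.node (nat_lit 0x82a7901e89a) (.node (nat_lit 0x82922c1f09c) (.leaf (nat_lit 0x8287941f09c) (nat_lit 1026))
 (.node (nat_lit 0x8295f01f09c) (.leaf (nat_lit 0x82922c1f09c) (nat_lit 1795))
 (.leaf (nat_lit 0x8295f01f09c) (nat_lit 1028))
)) (.node (nat_lit 0x82b2281e89a) (.leaf (nat_lit 0x82a7901e89a) (nat_lit 1537))
 (.node (nat_lit 0x82b5f41e89a) (.leaf (nat_lit 0x82b2281e89a) (nat_lit 2307))
 (.leaf (nat_lit 0x82b5f41e89a) (nat_lit 1540))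
))))))) (.node (nat_lit 0x8a65cc2d0ea) (.node (nat_lit 0x8649b4b3190) (.node (nat_lit 0x83ee720b899) (.node (nat_lit 0x83ae741e89a) (.node (nat_lit 0x838e781f09c) (.node (nat_lit 0x838a841f09c) (.leaf (nat_lit 0x8385901f09c) (nat_lit 1027))
 (.leaf (nat_lit 0x838a841f09c) (nat_lit 1284))
) (.node (nat_lit 0x83a59c1e89a) (.leaf (nat_lit 0x838e781f09c) (nat_lit 1795))
 (.node (nat_lit 0x83aa941e89a) (.leaf (nat_lit 0x83a59c1e89a) (nat_lit 1539))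
 (.leaf (nat_lit 0x83aa941e89a) (nat_lit 1796))
))) (.node (nat_lit 0x83ce6a0b09b) (.node (nat_lit 0x83c5a20b09b) (.leaf (nat_lit 0x83ae741e89a) (nat_lit 2307))
 (.node (nat_lit 0x83ca9a0b09b) (.leaf (nat_lit 0x83c5a20b09b) (nat_lit 1539))
 (.leaf (nat_lit 0x83ca9a0b09b) (nat_lit 1284))
)) (.node (nat_lit 0x83e5a60b899) (.leaf (nat_lit 0x83ce6a0b09b) (nat_lit 1794))
 (.node (nat_lit 0x83ea9e0b899) (.leaf (nat_lit 0x83e5a60b899) (nat_lit 1539))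
 (.leaf (nat_lit 0x83ea9e0b899) (nat_lit 1796))
)))) (.node (nat_lit 0x85b300c8166) (.node (nat_lit 0x859308c716b) (.node (nat_lit 0x858cc0c716b) (.leaf (nat_lit 0x83ee720b899) (nat_lit 1794))
 (.leaf (nat_lit 0x858cc0c716b) (nat_lit 1540))
) (.node (nat_lit 0x859454c716b) (.leaf (nat_lit 0x859308c716b) (nat_lit 1796))
 (.node (nat_lit 0x85acc4c8166) (.leaf (nat_lit 0x859454c716b) (nat_lit 1028))
 (.leaf (nat_lit 0x85acc4c8166) (nat_lit 2052))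
))) (.node (nat_lit 0x8629b0b598e) (.node (nat_lit 0x85b450c8166) (.leaf (nat_lit 0x85b300c8166) (nat_lit 2308))
 (.node (nat_lit 0x862940b598e) (.leaf (nat_lit 0x85b450c8166) (nat_lit 1540))
 (.leaf (nat_lit 0x862940b598e) (nat_lit 1796))
)) (.node (nat_lit 0x86349cb598e) (.leaf (nat_lit 0x8629b0b598e) (nat_lit 1540))
 (.node (nat_lit 0x864950b3190) (.leaf (nat_lit 0x86349cb598e) (nat_lit 1796))
 (.leaf (nat_lit 0x864950b3190) (nat_lit 1796))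
))))) (.node (nat_lit 0x8748d87505a) (.node (nat_lit 0x868c98b618f) (.node (nat_lit 0x866c94b6991) (.node (nat_lit 0x865498b3190) (.leaf (nat_lit 0x8649b4b3190) (nat_lit 1540))
 (.leaf (nat_lit 0x865498b3190) (nat_lit 1796))
) (.node (nat_lit 0x867254b6991) (.leaf (nat_lit 0x866c94b6991) (nat_lit 1284))
 (.node (nat_lit 0x867414b6991) (.leaf (nat_lit 0x867254b6991) (nat_lit 1796))
 (.leaf (nat_lit 0x867414b6991) (nat_lit 1284))
))) (.node (nat_lit 0x8728dc74059) (.node (nat_lit 0x869258b618f) (.leaf (nat_lit 0x868c98b618f) (nat_lit 2052))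
 (.node (nat_lit 0x869418b618f) (.leaf (nat_lit 0x869258b618f) (nat_lit 2308))
 (.leaf (nat_lit 0x869418b618f) (nat_lit 2052))
)) (.node (nat_lit 0x872e5474059) (.leaf (nat_lit 0x8728dc74059) (nat_lit 2050))
 (.node (nat_lit 0x872f1474059) (.leaf (nat_lit 0x872e5474059) (nat_lit 2306))
 (.leaf (nat_lit 0x872f1474059) (nat_lit 1538))
)))) (.node (nat_lit 0x8a2b142d8eb) (.node (nat_lit 0x8a0b102e0e9) (.node (nat_lit 0x874e507505a) (.leaf (nat_lit 0x8748d87505a) (nat_lit 2052))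
 (.node (nat_lit 0x874f187505a) (.leaf (nat_lit 0x874e507505a) (nat_lit 2306))
 (.leaf (nat_lit 0x874f187505a) (nat_lit 1540))
)) (.node (nat_lit 0x8a0b282e0e9) (.leaf (nat_lit 0x8a0b102e0e9) (nat_lit 1540))
 (.node (nat_lit 0x8a0d982e0e9) (.leaf (nat_lit 0x8a0b282e0e9) (nat_lit 2308))
 (.leaf (nat_lit 0x8a0d982e0e9) (nat_lit 2308))
))) (.node (nat_lit 0x8a45c82c8e8) (.node (nat_lit 0x8a2b242d8eb) (.leaf (nat_lit 0x8a2b142d8eb) (nat_lit 1540))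
 (.node (nat_lit 0x8a2d9c2d8eb) (.leaf (nat_lit 0x8a2b242d8eb) (nat_lit 2308))
 (.leaf (nat_lit 0x8a2d9c2d8eb) (nat_lit 2308))
)) (.node (nat_lit 0x8a4ae02c8e8) (.leaf (nat_lit 0x8a45c82c8e8) (nat_lit 2562))
 (.node (nat_lit 0x8a4b182c8e8) (.leaf (nat_lit 0x8a4ae02c8e8) (nat_lit 2306))
 (.leaf (nat_lit 0x8a4b182c8e8) (nat_lit 1794))
)))))) (.node (nat_lit 0x8b68a87485c) (.node (nat_lit 0x8ac8f2b6090) (.node (nat_lit 0x8a88fab5889) (.node (nat_lit 0x8a6b202d0ea) (.node (nat_lit 0x8a6b1c2d0ea) (.leaf (nat_lit 0x8a65cc2d0ea) (nat_lit 2050))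
 (.leaf (nat_lit 0x8a6b1c2d0ea) (nat_lit 1284))
) (.node (nat_lit 0x8a833eb5889) (.leaf (nat_lit 0x8a6b202d0ea) (nat_lit 1796))
 (.node (nat_lit 0x8a8876b5889) (.leaf (nat_lit 0x8a833eb5889) (nat_lit 2052))
 (.leaf (nat_lit 0x8a8876b5889) (nat_lit 1540))
))) (.node (nat_lit 0x8aa8feb6892) (.node (nat_lit 0x8aa4f6b6892) (.leaf (nat_lit 0x8a88fab5889) (nat_lit 770))
 (.node (nat_lit 0x8aa88eb6892) (.leaf (nat_lit 0x8aa4f6b6892) (nat_lit 2308))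
 (.leaf (nat_lit 0x8aa88eb6892) (nat_lit 2052))
)) (.node (nat_lit 0x8ac342b6090) (.leaf (nat_lit 0x8aa8feb6892) (nat_lit 1539))
 (.node (nat_lit 0x8ac886b6090) (.leaf (nat_lit 0x8ac342b6090) (nat_lit 2564))
 (.leaf (nat_lit 0x8ac886b6090) (nat_lit 2052))
)))) (.node (nat_lit 0x8b28947585b) (.node (nat_lit 0x8ae88ab5091) (.node (nat_lit 0x8ae4f2b5091) (.leaf (nat_lit 0x8ac8f2b6090) (nat_lit 1281))
 (.leaf (nat_lit 0x8ae4f2b5091) (nat_lit 2308))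
) (.node (nat_lit 0x8ae8f6b5091) (.leaf (nat_lit 0x8ae88ab5091) (nat_lit 1796))
 (.node (nat_lit 0x8b21d07585b) (.leaf (nat_lit 0x8ae8f6b5091) (nat_lit 1283))
 (.leaf (nat_lit 0x8b21d07585b) (nat_lit 770))
))) (.node (nat_lit 0x8b4d6c74059) (.node (nat_lit 0x8b2d607585b) (.leaf (nat_lit 0x8b28947585b) (nat_lit 1796))
 (.node (nat_lit 0x8b41d874059) (.leaf (nat_lit 0x8b2d607585b) (nat_lit 1795))
 (.leaf (nat_lit 0x8b41d874059) (nat_lit 1538))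
)) (.node (nat_lit 0x8b4f6074059) (.leaf (nat_lit 0x8b4d6c74059) (nat_lit 2050))
 (.node (nat_lit 0x8b61c47485c) (.leaf (nat_lit 0x8b4f6074059) (nat_lit 2052))
 (.leaf (nat_lit 0x8b61c47485c) (nat_lit 1281))
))))) (.node (nat_lit 0x8d69e84856c) (.node (nat_lit 0x8d2a0448d6a) (.node (nat_lit 0x8b81d47505a) (.node (nat_lit 0x8b6d647485c) (.leaf (nat_lit 0x8b68a87485c) (nat_lit 2308))
 (.leaf (nat_lit 0x8b6d647485c) (nat_lit 2307))
) (.node (nat_lit 0x8b8d687505a) (.leaf (nat_lit 0x8b81d47505a) (nat_lit 1283))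
 (.node (nat_lit 0x8b8f647505a) (.leaf (nat_lit 0x8b8d687505a) (nat_lit 2050))
 (.leaf (nat_lit 0x8b8f647505a) (nat_lit 1796))
))) (.node (nat_lit 0x8d4a004956d) (.node (nat_lit 0x8d2b9048d6a) (.leaf (nat_lit 0x8d2a0448d6a) (nat_lit 1028))
 (.node (nat_lit 0x8d339848d6a) (.leaf (nat_lit 0x8d2b9048d6a) (nat_lit 1540))
 (.leaf (nat_lit 0x8d339848d6a) (nat_lit 2052))
)) (.node (nat_lit 0x8d4b8c4956d) (.leaf (nat_lit 0x8d4a004956d) (nat_lit 1796))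
 (.node (nat_lit 0x8d53a04956d) (.leaf (nat_lit 0x8d4b8c4956d) (nat_lit 2308))
 (.leaf (nat_lit 0x8d53a04956d) (nat_lit 2564))
)))) (.node (nat_lit 0x8ecfbab6892) (.node (nat_lit 0x8d89fc44d6b) (.node (nat_lit 0x8d6b804856c) (.leaf (nat_lit 0x8d69e84856c) (nat_lit 1284))
 (.node (nat_lit 0x8d72684856c) (.leaf (nat_lit 0x8d6b804856c) (nat_lit 1796))
 (.leaf (nat_lit 0x8d72684856c) (nat_lit 2052))
)) (.node (nat_lit 0x8d8b8844d6b) (.leaf (nat_lit 0x8d89fc44d6b) (nat_lit 1284))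
 (.node (nat_lit 0x8d926c44d6b) (.leaf (nat_lit 0x8d8b8844d6b) (nat_lit 1796))
 (.leaf (nat_lit 0x8d926c44d6b) (nat_lit 2052))
))) (.node (nat_lit 0x8ee73c74059) (.node (nat_lit 0x8ed1c6b6892) (.leaf (nat_lit 0x8ecfbab6892) (nat_lit 1027))
 (.node (nat_lit 0x8ed4d2b6892) (.leaf (nat_lit 0x8ed1c6b6892) (nat_lit 2308))
 (.leaf (nat_lit 0x8ed4d2b6892) (nat_lit 2563))
)) (.node (nat_lit 0x8eef8074059) (.leaf (nat_lit 0x8ee73c74059) (nat_lit 2050))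
 (.node (nat_lit 0x8ef1c474059) (.leaf (nat_lit 0x8eef8074059) (nat_lit 2050))
 (.leaf (nat_lit 0x8ef1c474059) (nat_lit 1794))
)))))))) (.node (nat_lit 0x9e433ab6090) (.node (nat_lit 0x96e500c716b) (.node (nat_lit 0x91297cb6991) (.node (nat_lit 0x8f71c07505a) (.node (nat_lit 0x8f34dab5889) (.node (nat_lit 0x8f14d6b5091) (.node (nat_lit 0x8f11c2b5091) (.leaf (nat_lit 0x8f0fbeb5091) (nat_lit 515))
 (.leaf (nat_lit 0x8f11c2b5091) (nat_lit 2308))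
) (.node (nat_lit 0x8f2fc2b5889) (.leaf (nat_lit 0x8f14d6b5091) (nat_lit 2307))
 (.node (nat_lit 0x8f31bab5889) (.leaf (nat_lit 0x8f2fc2b5889) (nat_lit 515))
 (.leaf (nat_lit 0x8f31bab5889) (nat_lit 1796))
))) (.node (nat_lit 0x8f54deb6090) (.node (nat_lit 0x8f4fc6b6090) (.leaf (nat_lit 0x8f34dab5889) (nat_lit 2050))
 (.node (nat_lit 0x8f51beb6090) (.leaf (nat_lit 0x8f4fc6b6090) (nat_lit 1027))
 (.leaf (nat_lit 0x8f51beb6090) (nat_lit 2308))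
)) (.node (nat_lit 0x8f67387505a) (.leaf (nat_lit 0x8f54deb6090) (nat_lit 2561))
 (.node (nat_lit 0x8f6f887505a) (.leaf (nat_lit 0x8f67387505a) (nat_lit 2050))
 (.leaf (nat_lit 0x8f6f887505a) (nat_lit 2052))
)))) (.node (nat_lit 0x90e6a8b598e) (.node (nat_lit 0x90c6acb3190) (.node (nat_lit 0x90c3bcb3190) (.leaf (nat_lit 0x8f71c07505a) (nat_lit 1796))
 (.leaf (nat_lit 0x90c3bcb3190) (nat_lit 1540))
) (.node (nat_lit 0x90ce48b3190) (.leaf (nat_lit 0x90c6acb3190) (nat_lit 2052))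
 (.node (nat_lit 0x90e3c0b598e) (.leaf (nat_lit 0x90ce48b3190) (nat_lit 1540))
 (.leaf (nat_lit 0x90e3c0b598e) (nat_lit 1540))
))) (.node (nat_lit 0x910978b618f) (.node (nat_lit 0x90ee40b598e) (.leaf (nat_lit 0x90e6a8b598e) (nat_lit 2052))
 (.node (nat_lit 0x9103c4b618f) (.leaf (nat_lit 0x90ee40b598e) (nat_lit 1540))
 (.leaf (nat_lit 0x9103c4b618f) (nat_lit 1796))
)) (.node (nat_lit 0x910e44b618f) (.leaf (nat_lit 0x910978b618f) (nat_lit 2564))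
 (.node (nat_lit 0x9123c8b6991) (.leaf (nat_lit 0x910e44b618f) (nat_lit 2052))
 (.leaf (nat_lit 0x9123c8b6991) (nat_lit 1028))
))))) (.node (nat_lit 0x93e46cb618f) (.node (nat_lit 0x93a460b6991) (.node (nat_lit 0x938470b3190) (.node (nat_lit 0x912e4cb6991) (.leaf (nat_lit 0x91297cb6991) (nat_lit 1796))
 (.leaf (nat_lit 0x912e4cb6991) (nat_lit 1540))
) (.node (nat_lit 0x939268b3190) (.leaf (nat_lit 0x938470b3190) (nat_lit 1796))
 (.node (nat_lit 0x93955cb3190) (.leaf (nat_lit 0x939268b3190) (nat_lit 1796))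
 (.leaf (nat_lit 0x93955cb3190) (nat_lit 1796))
))) (.node (nat_lit 0x93c474b598e) (.node (nat_lit 0x93b398b6991) (.leaf (nat_lit 0x93a460b6991) (nat_lit 1540))
 (.node (nat_lit 0x93b5e8b6991) (.leaf (nat_lit 0x93b398b6991) (nat_lit 1284))
 (.leaf (nat_lit 0x93b5e8b6991) (nat_lit 1796))
)) (.node (nat_lit 0x93d26cb598e) (.leaf (nat_lit 0x93c474b598e) (nat_lit 1796))
 (.node (nat_lit 0x93d558b598e) (.leaf (nat_lit 0x93d26cb598e) (nat_lit 1796))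
 (.leaf (nat_lit 0x93d558b598e) (nat_lit 1796))
)))) (.node (nat_lit 0x96a0c0c896d) (.node (nat_lit 0x9620bcc796c) (.node (nat_lit 0x93f3a0b618f) (.leaf (nat_lit 0x93e46cb618f) (nat_lit 2052))
 (.node (nat_lit 0x93f5ecb618f) (.leaf (nat_lit 0x93f3a0b618f) (nat_lit 2308))
 (.leaf (nat_lit 0x93f5ecb618f) (nat_lit 2308))
)) (.node (nat_lit 0x962ed8c796c) (.leaf (nat_lit 0x9620bcc796c) (nat_lit 2308))
 (.node (nat_lit 0x96311cc796c) (.leaf (nat_lit 0x962ed8c796c) (nat_lit 1540))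
 (.leaf (nat_lit 0x96311cc796c) (nat_lit 2052))
))) (.node (nat_lit 0x96c520c8166) (.node (nat_lit 0x96aedcc896d) (.leaf (nat_lit 0x96a0c0c896d) (nat_lit 1796))
 (.node (nat_lit 0x96b118c896d) (.leaf (nat_lit 0x96aedcc896d) (nat_lit 1540))
 (.leaf (nat_lit 0x96b118c896d) (nat_lit 2052))
)) (.node (nat_lit 0x96c8f0c8166) (.leaf (nat_lit 0x96c520c8166) (nat_lit 2308))
 (.node (nat_lit 0x96d244c8166) (.leaf (nat_lit 0x96c8f0c8166) (nat_lit 1795))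
 (.leaf (nat_lit 0x96d244c8166) (nat_lit 2305))
)))))) (.node (nat_lit 0x998aa02c8e8) (.node (nat_lit 0x9754dc2001a) (.node (nat_lit 0x9714d81f81c) (.node (nat_lit 0x96f23cc716b) (.node (nat_lit 0x96e8f8c716b) (.leaf (nat_lit 0x96e500c716b) (nat_lit 1796))
 (.leaf (nat_lit 0x96e8f8c716b) (nat_lit 1283))
) (.node (nat_lit 0x970eec1f81c) (.leaf (nat_lit 0x96f23cc716b) (nat_lit 1794))
 (.node (nat_lit 0x9711881f81c) (.leaf (nat_lit 0x970eec1f81c) (nat_lit 1540))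
 (.leaf (nat_lit 0x9711881f81c) (nat_lit 770))
))) (.node (nat_lit 0x9734d08981b) (.node (nat_lit 0x9726888981b) (.leaf (nat_lit 0x9714d81f81c) (nat_lit 1539))
 (.node (nat_lit 0x972ef08981b) (.leaf (nat_lit 0x9726888981b) (nat_lit 1539))
 (.leaf (nat_lit 0x972ef08981b) (nat_lit 1796))
)) (.node (nat_lit 0x974ee02001a) (.leaf (nat_lit 0x9734d08981b) (nat_lit 1794))
 (.node (nat_lit 0x97518c2001a) (.leaf (nat_lit 0x974ee02001a) (nat_lit 2052))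
 (.leaf (nat_lit 0x97518c2001a) (nat_lit 1281))
)))) (.node (nat_lit 0x994aa42d0ea) (.node (nat_lit 0x976ef400019) (.node (nat_lit 0x97669000019) (.leaf (nat_lit 0x9754dc2001a) (nat_lit 2051))
 (.leaf (nat_lit 0x97669000019) (nat_lit 1283))
) (.node (nat_lit 0x9774d400019) (.leaf (nat_lit 0x976ef400019) (nat_lit 1796))
 (.node (nat_lit 0x9949602d0ea) (.leaf (nat_lit 0x9774d400019) (nat_lit 1539))
 (.leaf (nat_lit 0x9949602d0ea) (nat_lit 1028))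
))) (.node (nat_lit 0x996aa82d8eb) (.node (nat_lit 0x994ba42d0ea) (.leaf (nat_lit 0x994aa42d0ea) (nat_lit 1284))
 (.node (nat_lit 0x9969642d8eb) (.leaf (nat_lit 0x994ba42d0ea) (nat_lit 771))
 (.leaf (nat_lit 0x9969642d8eb) (nat_lit 1540))
)) (.node (nat_lit 0x996ba82d8eb) (.leaf (nat_lit 0x996aa82d8eb) (nat_lit 1540))
 (.node (nat_lit 0x9989482c8e8) (.leaf (nat_lit 0x996ba82d8eb) (nat_lit 1283))
 (.leaf (nat_lit 0x9989482c8e8) (nat_lit 2052))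
))))) (.node (nat_lit 0x9c82007505a) (.node (nat_lit 0x9c42047585b) (.node (nat_lit 0x99a9682e0e9) (.node (nat_lit 0x998bac2c8e8) (.leaf (nat_lit 0x998aa02c8e8) (nat_lit 2052))
 (.leaf (nat_lit 0x998bac2c8e8) (nat_lit 1538))
) (.node (nat_lit 0x99aaac2e0e9) (.leaf (nat_lit 0x99a9682e0e9) (nat_lit 1540))
 (.node (nat_lit 0x99aba02e0e9) (.leaf (nat_lit 0x99aaac2e0e9) (nat_lit 1540))
 (.leaf (nat_lit 0x99aba02e0e9) (nat_lit 1283))
))) (.node (nat_lit 0x9c62087485c) (.node (nat_lit 0x9c4f707585b) (.leaf (nat_lit 0x9c42047585b) (nat_lit 514))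
 (.node (nat_lit 0x9c531c7585b) (.leaf (nat_lit 0x9c4f707585b) (nat_lit 2307))
 (.leaf (nat_lit 0x9c531c7585b) (nat_lit 1540))
)) (.node (nat_lit 0x9c6f687485c) (.leaf (nat_lit 0x9c62087485c) (nat_lit 1025))
 (.node (nat_lit 0x9c73187485c) (.leaf (nat_lit 0x9c6f687485c) (nat_lit 2819))
 (.leaf (nat_lit 0x9c73187485c) (nat_lit 2052))
)))) (.node (nat_lit 0x9ced2a0b09b) (.node (nat_lit 0x9ca1f474059) (.node (nat_lit 0x9c912c7505a) (.leaf (nat_lit 0x9c82007505a) (nat_lit 1027))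
 (.node (nat_lit 0x9c95647505a) (.leaf (nat_lit 0x9c912c7505a) (nat_lit 2562))
 (.leaf (nat_lit 0x9c95647505a) (nat_lit 1540))
)) (.node (nat_lit 0x9cb12874059) (.leaf (nat_lit 0x9ca1f474059) (nat_lit 1282))
 (.node (nat_lit 0x9cb56074059) (.leaf (nat_lit 0x9cb12874059) (nat_lit 2562))
 (.leaf (nat_lit 0x9cb56074059) (nat_lit 1796))
))) (.node (nat_lit 0x9d2d2e0b899) (.node (nat_lit 0x9cef860b09b) (.leaf (nat_lit 0x9ced2a0b09b) (nat_lit 1028))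
 (.node (nat_lit 0x9cf4960b09b) (.leaf (nat_lit 0x9cef860b09b) (nat_lit 1540))
 (.leaf (nat_lit 0x9cf4960b09b) (nat_lit 1795))
)) (.node (nat_lit 0x9d2f960b899) (.leaf (nat_lit 0x9d2d2e0b899) (nat_lit 1540))
 (.node (nat_lit 0x9d34920b899) (.leaf (nat_lit 0x9d2f960b899) (nat_lit 1796))
 (.leaf (nat_lit 0x9d34920b899) (nat_lit 1795))
))))))) (.node (nat_lit 0xaca5e6b5091) (.node (nat_lit 0x9fead4c716b) (.node (nat_lit 0x9eb17eb5091) (.node (nat_lit 0x9e7176b5889) (.node (nat_lit 0x9e5162b6090) (.node (nat_lit 0x9e5016b6090) (.leaf (nat_lit 0x9e433ab6090) (nat_lit 2308))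
 (.leaf (nat_lit 0x9e5016b6090) (nat_lit 2052))
) (.node (nat_lit 0x9e6336b5889) (.leaf (nat_lit 0x9e5162b6090) (nat_lit 1540))
 (.node (nat_lit 0x9e7012b5889) (.leaf (nat_lit 0x9e6336b5889) (nat_lit 1796))
 (.leaf (nat_lit 0x9e7012b5889) (nat_lit 1540))
))) (.node (nat_lit 0x9e917ab6892) (.node (nat_lit 0x9e831eb6892) (.leaf (nat_lit 0x9e7176b5889) (nat_lit 1028))
 (.node (nat_lit 0x9e8fb6b6892) (.leaf (nat_lit 0x9e831eb6892) (nat_lit 2308))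
 (.leaf (nat_lit 0x9e8fb6b6892) (nat_lit 2052))
)) (.node (nat_lit 0x9ea332b5091) (.leaf (nat_lit 0x9e917ab6892) (nat_lit 1540))
 (.node (nat_lit 0x9eafb2b5091) (.leaf (nat_lit 0x9ea332b5091) (nat_lit 2308))
 (.leaf (nat_lit 0x9eafb2b5091) (nat_lit 1796))
)))) (.node (nat_lit 0x9faad8c796c) (.node (nat_lit 0x9f8ad0c896d) (.node (nat_lit 0x9f86a0c896d) (.leaf (nat_lit 0x9eb17eb5091) (nat_lit 1284))
 (.leaf (nat_lit 0x9f86a0c896d) (nat_lit 1284))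
) (.node (nat_lit 0x9f8bbcc896d) (.leaf (nat_lit 0x9f8ad0c896d) (nat_lit 1796))
 (.node (nat_lit 0x9fa6a4c796c) (.leaf (nat_lit 0x9f8bbcc896d) (nat_lit 2308))
 (.leaf (nat_lit 0x9fa6a4c796c) (nat_lit 1796))
))) (.node (nat_lit 0x9fcadcc8166) (.node (nat_lit 0x9fabb8c796c) (.leaf (nat_lit 0x9faad8c796c) (nat_lit 1796))
 (.node (nat_lit 0x9fc65cc8166) (.leaf (nat_lit 0x9fabb8c796c) (nat_lit 2308))
 (.leaf (nat_lit 0x9fc65cc8166) (nat_lit 1796))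
)) (.node (nat_lit 0x9fccc8c8166) (.leaf (nat_lit 0x9fcadcc8166) (nat_lit 1796))
 (.node (nat_lit 0x9fe658c716b) (.leaf (nat_lit 0x9fccc8c8166) (nat_lit 2564))
 (.leaf (nat_lit 0x9fe658c716b) (nat_lit 1284))
))))) (.node (nat_lit 0xa563401e89a) (.node (nat_lit 0xa529344956d) (.node (nat_lit 0xa5093c48d6a) (.node (nat_lit 0x9fecccc716b) (.leaf (nat_lit 0x9fead4c716b) (nat_lit 1284))
 (.leaf (nat_lit 0x9fecccc716b) (nat_lit 2052))
) (.node (nat_lit 0xa50b2c48d6a) (.leaf (nat_lit 0xa5093c48d6a) (nat_lit 2308))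
 (.node (nat_lit 0xa50d8c48d6a) (.leaf (nat_lit 0xa50b2c48d6a) (nat_lit 1028))
 (.leaf (nat_lit 0xa50d8c48d6a) (nat_lit 1283))
))) (.node (nat_lit 0xa5433c1f09c) (.node (nat_lit 0xa52b344956d) (.leaf (nat_lit 0xa529344956d) (nat_lit 2820))
 (.node (nat_lit 0xa52d944956d) (.leaf (nat_lit 0xa52b344956d) (nat_lit 1796))
 (.leaf (nat_lit 0xa52d944956d) (nat_lit 2051))
)) (.node (nat_lit 0xa54e601f09c) (.leaf (nat_lit 0xa5433c1f09c) (nat_lit 1540))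
 (.node (nat_lit 0xa554e41f09c) (.leaf (nat_lit 0xa54e601f09c) (nat_lit 1284))
 (.leaf (nat_lit 0xa554e41f09c) (nat_lit 2051))
)))) (.node (nat_lit 0xac65deb6892) (.node (nat_lit 0xac45dab5889) (.node (nat_lit 0xa56e641e89a) (.leaf (nat_lit 0xa563401e89a) (nat_lit 2052))
 (.node (nat_lit 0xa574e01e89a) (.leaf (nat_lit 0xa56e641e89a) (nat_lit 1796))
 (.leaf (nat_lit 0xa574e01e89a) (nat_lit 2563))
)) (.node (nat_lit 0xac4652b5889) (.leaf (nat_lit 0xac45dab5889) (nat_lit 1282))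
 (.node (nat_lit 0xac51a2b5889) (.leaf (nat_lit 0xac4652b5889) (nat_lit 1796))
 (.leaf (nat_lit 0xac51a2b5889) (nat_lit 1284))
))) (.node (nat_lit 0xac85e2b6090) (.node (nat_lit 0xac6636b6892) (.leaf (nat_lit 0xac65deb6892) (nat_lit 2051))
 (.node (nat_lit 0xac7136b6892) (.leaf (nat_lit 0xac6636b6892) (nat_lit 2052))
 (.leaf (nat_lit 0xac7136b6892) (nat_lit 1796))
)) (.node (nat_lit 0xac8656b6090) (.leaf (nat_lit 0xac85e2b6090) (nat_lit 1793))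
 (.node (nat_lit 0xac91b6b6090) (.leaf (nat_lit 0xac8656b6090) (nat_lit 2308))
 (.leaf (nat_lit 0xac91b6b6090) (nat_lit 1796))
)))))) (.node (nat_lit 0xae9082b5091) (.node (nat_lit 0xadcd10c796c) (.node (nat_lit 0xaccd884856c) (.node (nat_lit 0xacb132b5091) (.node (nat_lit 0xaca64eb5091) (.leaf (nat_lit 0xaca5e6b5091) (nat_lit 1795))
 (.leaf (nat_lit 0xaca64eb5091) (nat_lit 2052))
) (.node (nat_lit 0xacc9384856c) (.leaf (nat_lit 0xacb132b5091) (nat_lit 1540))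
 (.node (nat_lit 0xaccb384856c) (.leaf (nat_lit 0xacc9384856c) (nat_lit 2564))
 (.leaf (nat_lit 0xaccb384856c) (nat_lit 1284))
))) (.node (nat_lit 0xaced9044d6b) (.node (nat_lit 0xace93044d6b) (.leaf (nat_lit 0xaccd884856c) (nat_lit 1281))
 (.node (nat_lit 0xaceb3c44d6b) (.leaf (nat_lit 0xace93044d6b) (nat_lit 2564))
 (.leaf (nat_lit 0xaceb3c44d6b) (nat_lit 1284))
)) (.node (nat_lit 0xadc594c796c) (.leaf (nat_lit 0xaced9044d6b) (nat_lit 1282))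
 (.node (nat_lit 0xadc688c796c) (.leaf (nat_lit 0xadc594c796c) (nat_lit 1796))
 (.leaf (nat_lit 0xadc688c796c) (nat_lit 2052))
)))) (.node (nat_lit 0xae0690c896d) (.node (nat_lit 0xaded14c8166) (.node (nat_lit 0xadece8c8166) (.leaf (nat_lit 0xadcd10c796c) (nat_lit 2052))
 (.leaf (nat_lit 0xadece8c8166) (nat_lit 1796))
) (.node (nat_lit 0xadf18cc8166) (.leaf (nat_lit 0xaded14c8166) (nat_lit 2308))
 (.node (nat_lit 0xae05a8c896d) (.leaf (nat_lit 0xadf18cc8166) (nat_lit 2049))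
 (.leaf (nat_lit 0xae05a8c896d) (nat_lit 1284))
))) (.node (nat_lit 0xae2d0cc716b) (.node (nat_lit 0xae0d18c896d) (.leaf (nat_lit 0xae0690c896d) (nat_lit 1795))
 (.node (nat_lit 0xae2cecc716b) (.leaf (nat_lit 0xae0d18c896d) (nat_lit 1796))
 (.leaf (nat_lit 0xae2cecc716b) (nat_lit 1284))
)) (.node (nat_lit 0xae3188c716b) (.leaf (nat_lit 0xae2d0cc716b) (nat_lit 1796))
 (.node (nat_lit 0xae82fab5091) (.leaf (nat_lit 0xae3188c716b) (nat_lit 1538))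
 (.leaf (nat_lit 0xae82fab5091) (nat_lit 2564))
))))) (.node (nat_lit 0xaf00807585b) (.node (nat_lit 0xaec2f2b5889) (.node (nat_lit 0xaea2f6b6892) (.node (nat_lit 0xae950eb5091) (.leaf (nat_lit 0xae9082b5091) (nat_lit 1284))
 (.leaf (nat_lit 0xae950eb5091) (nat_lit 1539))
) (.node (nat_lit 0xaeb086b6892) (.leaf (nat_lit 0xaea2f6b6892) (nat_lit 2564))
 (.node (nat_lit 0xaeb50ab6892) (.leaf (nat_lit 0xaeb086b6892) (nat_lit 1540))
 (.leaf (nat_lit 0xaeb50ab6892) (nat_lit 1795))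
))) (.node (nat_lit 0xaee2e6b6090) (.node (nat_lit 0xaed08eb5889) (.leaf (nat_lit 0xaec2f2b5889) (nat_lit 2308))
 (.node (nat_lit 0xaed506b5889) (.leaf (nat_lit 0xaed08eb5889) (nat_lit 1028))
 (.leaf (nat_lit 0xaed506b5889) (nat_lit 1026))
)) (.node (nat_lit 0xaef08ab6090) (.leaf (nat_lit 0xaee2e6b6090) (nat_lit 2820))
 (.node (nat_lit 0xaef502b6090) (.leaf (nat_lit 0xaef08ab6090) (nat_lit 1540))
 (.leaf (nat_lit 0xaef502b6090) (nat_lit 1537))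
)))) (.node (nat_lit 0xafc07874059) (.node (nat_lit 0xaf207c7485c) (.node (nat_lit 0xaf10f87585b) (.leaf (nat_lit 0xaf00807585b) (nat_lit 1283))
 (.node (nat_lit 0xaf14387585b) (.leaf (nat_lit 0xaf10f87585b) (nat_lit 772))
 (.leaf (nat_lit 0xaf14387585b) (nat_lit 1540))
)) (.node (nat_lit 0xaf30fc7485c) (.leaf (nat_lit 0xaf207c7485c) (nat_lit 1795))
 (.node (nat_lit 0xaf343c7485c) (.leaf (nat_lit 0xaf30fc7485c) (nat_lit 1284))
 (.leaf (nat_lit 0xaf343c7485c) (nat_lit 2052))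
))) (.node (nat_lit 0xafe0747505a) (.node (nat_lit 0xafd10474059) (.leaf (nat_lit 0xafc07874059) (nat_lit 1538))
 (.node (nat_lit 0xafd44474059) (.leaf (nat_lit 0xafd10474059) (nat_lit 1284))
 (.leaf (nat_lit 0xafd44474059) (nat_lit 2052))
)) (.node (nat_lit 0xaff1007505a) (.leaf (nat_lit 0xafe0747505a) (nat_lit 1283))
 (.node (nat_lit 0xaff4407505a) (.leaf (nat_lit 0xaff1007505a) (nat_lit 772))
 (.leaf (nat_lit 0xaff4407505a) (nat_lit 1796))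
)))))))))))

theorem G3_ok : genOK A [(nat_lit 0x1b30600c800), (nat_lit 0x12f13800019), (nat_lit 0x53a5907585b), (nat_lit 0x3e0b0048d6a), (nat_lit 0x2153e848d6a)] G3_t (nat_lit 1440) = true := by decide +kernel

/-- A listed subgroup. -/
noncomputable def U_t : ST :=
(.node (nat_lit 0x3081ceb5091) (.node (nat_lit 0x12f13800019) (.node (nat_lit 0xcb0d60b899) (.node (nat_lit 0x40e80d913) (.leaf (nat_lit 0x20e40c800) (nat_lit 0))
 (.leaf (nat_lit 0x40e80d913) (nat_lit 256))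
) (.node (nat_lit 0xd50ae0b09b) (.leaf (nat_lit 0xcb0d60b899) (nat_lit 1027))
 (.leaf (nat_lit 0xd50ae0b09b) (nat_lit 771))
)) (.node (nat_lit 0x27e8d04956d) (.node (nat_lit 0x13113c8981b) (.leaf (nat_lit 0x12f13800019) (nat_lit 257))
 (.leaf (nat_lit 0x13113c8981b) (nat_lit 513))
) (.node (nat_lit 0x28a8d448d6a) (.leaf (nat_lit 0x27e8d04956d) (nat_lit 514))
 (.leaf (nat_lit 0x28a8d448d6a) (nat_lit 258))
))) (.node (nat_lit 0x736a384dc16) (.node (nat_lit 0x3c134c2c8e8) (.node (nat_lit 0x30a1cab6892) (.leaf (nat_lit 0x3081ceb5091) (nat_lit 514))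
 (.leaf (nat_lit 0x30a1cab6892) (nat_lit 770))
) (.node (nat_lit 0x3c335c2d0ea) (.leaf (nat_lit 0x3c134c2c8e8) (nat_lit 515))
 (.leaf (nat_lit 0x3c335c2d0ea) (nat_lit 259))
)) (.node (nat_lit 0x9c95647505a) (.node (nat_lit 0x73ea3c4cc17) (.leaf (nat_lit 0x736a384dc16) (nat_lit 515))
 (.leaf (nat_lit 0x73ea3c4cc17) (nat_lit 771))
) (.node (nat_lit 0x9cb56074059) (.leaf (nat_lit 0x9c95647505a) (nat_lit 515))
 (.leaf (nat_lit 0x9cb56074059) (nat_lit 771))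
))))

theorem U_ok : genOK A [(nat_lit 0x40e80d913), (nat_lit 0x12f13800019), (nat_lit 0x28a8d448d6a), (nat_lit 0x3c335c2d0ea)] U_t (nat_lit 16) = true := by decide +kernel

/-- A listed subgroup. -/
noncomputable def S32_t : ST :=
(.node (nat_lit 0x4f0282b5889) (.node (nat_lit 0x27e8d04956d) (.node (nat_lit 0x11c3840e03f) (.node (nat_lit 0xcb0d60b899) (.node (nat_lit 0x40e80d913) (.leaf (nat_lit 0x20e40c800) (nat_lit 0))
 (.leaf (nat_lit 0x40e80d913) (nat_lit 1025))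
) (.node (nat_lit 0xd50ae0b09b) (.leaf (nat_lit 0xcb0d60b899) (nat_lit 1025))
 (.leaf (nat_lit 0xd50ae0b09b) (nat_lit 1025))
)) (.node (nat_lit 0x12f13800019) (.node (nat_lit 0x11e3700d040) (.leaf (nat_lit 0x11c3840e03f) (nat_lit 1026))
 (.leaf (nat_lit 0x11e3700d040) (nat_lit 1026))
) (.node (nat_lit 0x13113c8981b) (.leaf (nat_lit 0x12f13800019) (nat_lit 256))
 (.leaf (nat_lit 0x13113c8981b) (nat_lit 769))
))) (.node (nat_lit 0x37e2884856c) (.node (nat_lit 0x3081ceb5091) (.node (nat_lit 0x28a8d448d6a) (.leaf (nat_lit 0x27e8d04956d) (nat_lit 1538))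
 (.leaf (nat_lit 0x28a8d448d6a) (nat_lit 1026))
) (.node (nat_lit 0x30a1cab6892) (.leaf (nat_lit 0x3081ceb5091) (nat_lit 1282))
 (.leaf (nat_lit 0x30a1cab6892) (nat_lit 1282))
)) (.node (nat_lit 0x3c134c2c8e8) (.node (nat_lit 0x38a28444d6b) (.leaf (nat_lit 0x37e2884856c) (nat_lit 768))
 (.leaf (nat_lit 0x38a28444d6b) (nat_lit 769))
) (.node (nat_lit 0x3c335c2d0ea) (.leaf (nat_lit 0x3c134c2c8e8) (nat_lit 1282))
 (.leaf (nat_lit 0x3c335c2d0ea) (nat_lit 258))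
)))) (.node (nat_lit 0x6bd5184e03e) (.node (nat_lit 0x62884c1f81c) (.node (nat_lit 0x53059c7485c) (.node (nat_lit 0x4f227eb6090) (.leaf (nat_lit 0x4f0282b5889) (nat_lit 513))
 (.leaf (nat_lit 0x4f227eb6090) (nat_lit 1024))
) (.node (nat_lit 0x53a5907585b) (.leaf (nat_lit 0x53059c7485c) (nat_lit 768))
 (.leaf (nat_lit 0x53a5907585b) (nat_lit 257))
)) (.node (nat_lit 0x67a6202d8eb) (.node (nat_lit 0x62c8542001a) (.leaf (nat_lit 0x62884c1f81c) (nat_lit 770))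
 (.leaf (nat_lit 0x62c8542001a) (nat_lit 1282))
) (.node (nat_lit 0x67e61c2e0e9) (.leaf (nat_lit 0x67a6202d8eb) (nat_lit 513))
 (.leaf (nat_lit 0x67e61c2e0e9) (nat_lit 512))
))) (.node (nat_lit 0x9c95647505a) (.node (nat_lit 0x736a384dc16) (.node (nat_lit 0x6bf51c4d03d) (.leaf (nat_lit 0x6bd5184e03e) (nat_lit 770))
 (.leaf (nat_lit 0x6bf51c4d03d) (nat_lit 770))
) (.node (nat_lit 0x73ea3c4cc17) (.leaf (nat_lit 0x736a384dc16) (nat_lit 769))
 (.leaf (nat_lit 0x73ea3c4cc17) (nat_lit 1281))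
)) (.node (nat_lit 0xa54e601f09c) (.node (nat_lit 0x9cb56074059) (.leaf (nat_lit 0x9c95647505a) (nat_lit 514))
 (.leaf (nat_lit 0x9cb56074059) (nat_lit 1026))
) (.node (nat_lit 0xa56e641e89a) (.leaf (nat_lit 0xa54e601f09c) (nat_lit 514))
 (.leaf (nat_lit 0xa56e641e89a) (nat_lit 1026))
)))))

theorem S32_ok : genOK A [(nat_lit 0x12f13800019), (nat_lit 0x53a5907585b), (nat_lit 0x3c335c2d0ea)] S32_t (nat_lit 32) = true := by decide +kernel

/-- A listed subgroup. -/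
noncomputable def D8_t : ST :=
(.node (nat_lit 0x53059c7485c) (.node (nat_lit 0x12f13800019) (.node (nat_lit 0x40e80d913) (.leaf (nat_lit 0x20e40c800) (nat_lit 0))
 (.leaf (nat_lit 0x40e80d913) (nat_lit 1025))
) (.node (nat_lit 0x13113c8981b) (.leaf (nat_lit 0x12f13800019) (nat_lit 256))
 (.leaf (nat_lit 0x13113c8981b) (nat_lit 769))
)) (.node (nat_lit 0x67a6202d8eb) (.node (nat_lit 0x53a5907585b) (.leaf (nat_lit 0x53059c7485c) (nat_lit 768))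
 (.leaf (nat_lit 0x53a5907585b) (nat_lit 257))
) (.node (nat_lit 0x67e61c2e0e9) (.leaf (nat_lit 0x67a6202d8eb) (nat_lit 513))
 (.leaf (nat_lit 0x67e61c2e0e9) (nat_lit 512))
)))

theorem D8_ok : genOK A [(nat_lit 0x12f13800019), (nat_lit 0x53a5907585b)] D8_t (nat_lit 8) = true := by decide +kernel

/-- A listed subgroup. -/
noncomputable def D8s_t : ST :=
(.node (nat_lit 0x736a384dc16) (.node (nat_lit 0x28a8d448d6a) (.node (nat_lit 0x1780e40c800) (.leaf (nat_lit 0x20e40c800) (nat_lit 0))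
 (.leaf (nat_lit 0x1780e40c800) (nat_lit 768))
) (.node (nat_lit 0x3c335c2d0ea) (.leaf (nat_lit 0x28a8d448d6a) (nat_lit 1025))
 (.leaf (nat_lit 0x3c335c2d0ea) (nat_lit 256))
)) (.node (nat_lit 0x84ea384dc16) (.node (nat_lit 0x7b935c2d0ea) (.leaf (nat_lit 0x736a384dc16) (nat_lit 769))
 (.leaf (nat_lit 0x7b935c2d0ea) (nat_lit 513))
) (.node (nat_lit 0x9168d448d6a) (.leaf (nat_lit 0x84ea384dc16) (nat_lit 512))
 (.leaf (nat_lit 0x9168d448d6a) (nat_lit 257))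
)))

theorem D8s_ok : genOK A [(nat_lit 0x3c335c2d0ea), (nat_lit 0x9168d448d6a)] D8s_t (nat_lit 8) = true := by decide +kernel

/-- A listed subgroup. -/
noncomputable def A6_t : ST :=
(.node (nat_lit 0x3f2a3848d6a) (.node (nat_lit 0x1eca040c800) (.node (nat_lit 0xf2b580c800) (.node (nat_lit 0x5d3100c800) (.node (nat_lit 0x1ab580c800) (.node (nat_lit 0xb384b6991) (.node (nat_lit 0x438cb6991) (.node (nat_lit 0x2d240c800) (.leaf (nat_lit 0x20e40c800) (nat_lit 0))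
 (.leaf (nat_lit 0x2d240c800) (nat_lit 2817))
) (.node (nat_lit 0x535cb6991) (.leaf (nat_lit 0x438cb6991) (nat_lit 3073))
 (.node (nat_lit 0xa75cb6991) (.leaf (nat_lit 0x535cb6991) (nat_lit 2305))
 (.leaf (nat_lit 0xa75cb6991) (nat_lit 2817))
))) (.node (nat_lit 0x18a044dc16) (.node (nat_lit 0xc2940c800) (.leaf (nat_lit 0xb384b6991) (nat_lit 2304))
 (.node (nat_lit 0xd35c0c800) (.leaf (nat_lit 0xc2940c800) (nat_lit 1793))
 (.leaf (nat_lit 0xd35c0c800) (nat_lit 2816))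
)) (.node (nat_lit 0x193104dc16) (.leaf (nat_lit 0x18a044dc16) (nat_lit 769))
 (.node (nat_lit 0x1a3c80c800) (.leaf (nat_lit 0x193104dc16) (nat_lit 2561))
 (.leaf (nat_lit 0x1a3c80c800) (nat_lit 2817))
)))) (.node (nat_lit 0x4675c48d6a) (.node (nat_lit 0x3f044d9406) (.node (nat_lit 0x3eb2cd9406) (.leaf (nat_lit 0x1ab580c800) (nat_lit 2304))
 (.leaf (nat_lit 0x3eb2cd9406) (nat_lit 2561))
) (.node (nat_lit 0x402dc0c800) (.leaf (nat_lit 0x3f044d9406) (nat_lit 1281))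
 (.node (nat_lit 0x403c80c800) (.leaf (nat_lit 0x402dc0c800) (nat_lit 1280))
 (.leaf (nat_lit 0x403c80c800) (nat_lit 2816))
))) (.node (nat_lit 0x48d240c800) (.node (nat_lit 0x4745c48d6a) (.leaf (nat_lit 0x4675c48d6a) (nat_lit 2816))
 (.node (nat_lit 0x48b1c0c800) (.leaf (nat_lit 0x4745c48d6a) (nat_lit 2305))
 (.leaf (nat_lit 0x48b1c0c800) (nat_lit 2817))
)) (.node (nat_lit 0x5a3c8d9406) (.leaf (nat_lit 0x48d240c800) (nat_lit 1792))
 (.node (nat_lit 0x5ab1cd9406) (.leaf (nat_lit 0x5a3c8d9406) (nat_lit 1792))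
 (.leaf (nat_lit 0x5ab1cd9406) (nat_lit 2561))
))))) (.node (nat_lit 0x92e002d0ea) (.node (nat_lit 0x690440c800) (.node (nat_lit 0x66a380c800) (.node (nat_lit 0x5d45c0c800) (.leaf (nat_lit 0x5d3100c800) (nat_lit 2817))
 (.leaf (nat_lit 0x5d45c0c800) (nat_lit 2561))
) (.node (nat_lit 0x66e000c800) (.leaf (nat_lit 0x66a380c800) (nat_lit 2561))
 (.node (nat_lit 0x68e000c800) (.leaf (nat_lit 0x66e000c800) (nat_lit 2561))
 (.leaf (nat_lit 0x68e000c800) (nat_lit 3328))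
))) (.node (nat_lit 0x702dc2d0ea) (.node (nat_lit 0x6a55848d6a) (.leaf (nat_lit 0x690440c800) (nat_lit 1025))
 (.node (nat_lit 0x6ab1c48d6a) (.leaf (nat_lit 0x6a55848d6a) (nat_lit 2561))
 (.leaf (nat_lit 0x6ab1c48d6a) (nat_lit 1024))
)) (.node (nat_lit 0x70dbc2d0ea) (.leaf (nat_lit 0x702dc2d0ea) (nat_lit 2048))
 (.node (nat_lit 0x92a042d0ea) (.leaf (nat_lit 0x70dbc2d0ea) (nat_lit 2304))
 (.leaf (nat_lit 0x92a042d0ea) (nat_lit 3072))
)))) (.node (nat_lit 0xa93840c800) (.node (nat_lit 0xa62944dc16) (.node (nat_lit 0x944600c800) (.leaf (nat_lit 0x92e002d0ea) (nat_lit 1537))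
 (.node (nat_lit 0x945580c800) (.leaf (nat_lit 0x944600c800) (nat_lit 2560))
 (.leaf (nat_lit 0x945580c800) (nat_lit 2561))
)) (.node (nat_lit 0xa63c84dc16) (.leaf (nat_lit 0xa62944dc16) (nat_lit 2561))
 (.node (nat_lit 0xa8b2c0c800) (.leaf (nat_lit 0xa63c84dc16) (nat_lit 2816))
 (.leaf (nat_lit 0xa8b2c0c800) (nat_lit 1793))
))) (.node (nat_lit 0xe838c0c800) (.node (nat_lit 0xe20e4d9406) (.leaf (nat_lit 0xa93840c800) (nat_lit 1536))
 (.node (nat_lit 0xe22dcd9406) (.leaf (nat_lit 0xe20e4d9406) (nat_lit 768))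
 (.leaf (nat_lit 0xe22dcd9406) (nat_lit 2560))
)) (.node (nat_lit 0xe85f80c800) (.leaf (nat_lit 0xe838c0c800) (nat_lit 2561))
 (.node (nat_lit 0xf22dc0c800) (.leaf (nat_lit 0xe85f80c800) (nat_lit 2049))
 (.leaf (nat_lit 0xf22dc0c800) (nat_lit 2816))
)))))) (.node (nat_lit 0x1690440c800) (.node (nat_lit 0x128294b6991) (.node (nat_lit 0xfe0f0b6991) (.node (nat_lit 0xf45f82d0ea) (.node (nat_lit 0xf44602d0ea) (.leaf (nat_lit 0xf2b580c800) (nat_lit 2560))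
 (.leaf (nat_lit 0xf44602d0ea) (nat_lit 2305))
) (.node (nat_lit 0xfc7440c800) (.leaf (nat_lit 0xf45f82d0ea) (nat_lit 2561))
 (.node (nat_lit 0xfc75c0c800) (.leaf (nat_lit 0xfc7440c800) (nat_lit 2305))
 (.leaf (nat_lit 0xfc75c0c800) (nat_lit 2561))
))) (.node (nat_lit 0x116aa40c800) (.node (nat_lit 0xfed24b6991) (.leaf (nat_lit 0xfe0f0b6991) (nat_lit 3328))
 (.node (nat_lit 0x1162940c800) (.leaf (nat_lit 0xfed24b6991) (nat_lit 512))
 (.leaf (nat_lit 0x1162940c800) (nat_lit 3329))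
)) (.node (nat_lit 0x11a1744dc16) (.leaf (nat_lit 0x116aa40c800) (nat_lit 2048))
 (.node (nat_lit 0x11ab004dc16) (.leaf (nat_lit 0x11a1744dc16) (nat_lit 1793))
 (.leaf (nat_lit 0x11ab004dc16) (nat_lit 3072))
)))) (.node (nat_lit 0x14eb1c4dc16) (.node (nat_lit 0x12c0f00c800) (.node (nat_lit 0x128858b6991) (.leaf (nat_lit 0x128294b6991) (nat_lit 2817))
 (.leaf (nat_lit 0x128858b6991) (nat_lit 2817))
) (.node (nat_lit 0x12cb000c800) (.leaf (nat_lit 0x12c0f00c800) (nat_lit 1024))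
 (.node (nat_lit 0x14e38c4dc16) (.leaf (nat_lit 0x12cb000c800) (nat_lit 3329))
 (.leaf (nat_lit 0x14e38c4dc16) (nat_lit 2305))
))) (.node (nat_lit 0x1665f8d9406) (.node (nat_lit 0x15290448d6a) (.leaf (nat_lit 0x14eb1c4dc16) (nat_lit 1024))
 (.node (nat_lit 0x152e0048d6a) (.leaf (nat_lit 0x15290448d6a) (nat_lit 2561))
 (.leaf (nat_lit 0x152e0048d6a) (nat_lit 1793))
)) (.node (nat_lit 0x16745cd9406) (.leaf (nat_lit 0x1665f8d9406) (nat_lit 3073))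
 (.node (nat_lit 0x168a380c800) (.leaf (nat_lit 0x16745cd9406) (nat_lit 2560))
 (.leaf (nat_lit 0x168a380c800) (nat_lit 1537))
))))) (.node (nat_lit 0x1944600c800) (.node (nat_lit 0x17ee0048d6a) (.node (nat_lit 0x17319cd9406) (.node (nat_lit 0x172a38d9406) (.leaf (nat_lit 0x1690440c800) (nat_lit 1792))
 (.leaf (nat_lit 0x172a38d9406) (nat_lit 2304))
) (.node (nat_lit 0x1780e40c800) (.leaf (nat_lit 0x17319cd9406) (nat_lit 2305))
 (.node (nat_lit 0x178b1c0c800) (.leaf (nat_lit 0x1780e40c800) (nat_lit 2817))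
 (.leaf (nat_lit 0x178b1c0c800) (nat_lit 1792))
))) (.node (nat_lit 0x188dbc0c800) (.node (nat_lit 0x17f35c48d6a) (.leaf (nat_lit 0x17ee0048d6a) (nat_lit 2816))
 (.node (nat_lit 0x18875c0c800) (.leaf (nat_lit 0x17f35c48d6a) (nat_lit 2305))
 (.leaf (nat_lit 0x18875c0c800) (nat_lit 2049))
)) (.node (nat_lit 0x192aa44dc16) (.leaf (nat_lit 0x188dbc0c800) (nat_lit 2816))
 (.node (nat_lit 0x192b584dc16) (.leaf (nat_lit 0x192aa44dc16) (nat_lit 2561))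
 (.leaf (nat_lit 0x192b584dc16) (nat_lit 2304))
)))) (.node (nat_lit 0x1ce7440c800) (.node (nat_lit 0x1b0b00b6991) (.node (nat_lit 0x1953e80c800) (.leaf (nat_lit 0x1944600c800) (nat_lit 2816))
 (.node (nat_lit 0x1b00e4b6991) (.leaf (nat_lit 0x1953e80c800) (nat_lit 2560))
 (.leaf (nat_lit 0x1b00e4b6991) (nat_lit 2817))
)) (.node (nat_lit 0x1b319c0c800) (.leaf (nat_lit 0x1b0b00b6991) (nat_lit 1025))
 (.node (nat_lit 0x1b33840c800) (.leaf (nat_lit 0x1b319c0c800) (nat_lit 3072))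
 (.leaf (nat_lit 0x1b33840c800) (nat_lit 2560))
))) (.node (nat_lit 0x1d88582d0ea) (.node (nat_lit 0x1cedbc0c800) (.leaf (nat_lit 0x1ce7440c800) (nat_lit 2048))
 (.node (nat_lit 0x1d85582d0ea) (.leaf (nat_lit 0x1cedbc0c800) (nat_lit 2561))
 (.leaf (nat_lit 0x1d85582d0ea) (nat_lit 1536))
)) (.node (nat_lit 0x1e64604dc16) (.leaf (nat_lit 0x1d88582d0ea) (nat_lit 3329))
 (.node (nat_lit 0x1e73844dc16) (.leaf (nat_lit 0x1e64604dc16) (nat_lit 1792))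
 (.leaf (nat_lit 0x1e73844dc16) (nat_lit 2305))
))))))) (.node (nat_lit 0x3250442d0ea) (.node (nat_lit 0x27c5f84dc16) (.node (nat_lit 0x26719cb6991) (.node (nat_lit 0x2153e848d6a) (.node (nat_lit 0x212aa40c800) (.node (nat_lit 0x1ecb000c800) (.leaf (nat_lit 0x1eca040c800) (nat_lit 2560))
 (.leaf (nat_lit 0x1ecb000c800) (nat_lit 1793))
) (.node (nat_lit 0x21335c0c800) (.leaf (nat_lit 0x212aa40c800) (nat_lit 1793))
 (.node (nat_lit 0x214d2448d6a) (.leaf (nat_lit 0x21335c0c800) (nat_lit 2304))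
 (.leaf (nat_lit 0x214d2448d6a) (nat_lit 3073))
))) (.node (nat_lit 0x256b2c4dc16) (.node (nat_lit 0x2541740c800) (.leaf (nat_lit 0x2153e848d6a) (nat_lit 1280))
 (.node (nat_lit 0x2553100c800) (.leaf (nat_lit 0x2541740c800) (nat_lit 2817))
 (.leaf (nat_lit 0x2553100c800) (nat_lit 1281))
)) (.node (nat_lit 0x2573e84dc16) (.leaf (nat_lit 0x256b2c4dc16) (nat_lit 2048))
 (.node (nat_lit 0x266744b6991) (.leaf (nat_lit 0x2573e84dc16) (nat_lit 2817))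
 (.leaf (nat_lit 0x266744b6991) (nat_lit 2560))
)))) (.node (nat_lit 0x26e1740c800) (.node (nat_lit 0x2688580c800) (.node (nat_lit 0x26838c0c800) (.leaf (nat_lit 0x26719cb6991) (nat_lit 2304))
 (.leaf (nat_lit 0x26838c0c800) (nat_lit 2817))
) (.node (nat_lit 0x26ca3848d6a) (.leaf (nat_lit 0x2688580c800) (nat_lit 2561))
 (.node (nat_lit 0x26caa448d6a) (.leaf (nat_lit 0x26ca3848d6a) (nat_lit 1537))
 (.leaf (nat_lit 0x26caa448d6a) (nat_lit 2817))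
))) (.node (nat_lit 0x270dbc48d6a) (.node (nat_lit 0x26f45c0c800) (.leaf (nat_lit 0x26e1740c800) (nat_lit 3073))
 (.node (nat_lit 0x27017448d6a) (.leaf (nat_lit 0x26f45c0c800) (nat_lit 1792))
 (.leaf (nat_lit 0x27017448d6a) (nat_lit 2304))
)) (.node (nat_lit 0x2725580c800) (.leaf (nat_lit 0x270dbc48d6a) (nat_lit 2561))
 (.node (nat_lit 0x2733e80c800) (.leaf (nat_lit 0x2725580c800) (nat_lit 768))
 (.leaf (nat_lit 0x2733e80c800) (nat_lit 2049))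
))))) (.node (nat_lit 0x2968584dc16) (.node (nat_lit 0x282fd048d6a) (.node (nat_lit 0x27e2dcb6991) (.node (nat_lit 0x27ce004dc16) (.leaf (nat_lit 0x27c5f84dc16) (nat_lit 2817))
 (.leaf (nat_lit 0x27ce004dc16) (nat_lit 2560))
) (.node (nat_lit 0x27ea38b6991) (.leaf (nat_lit 0x27e2dcb6991) (nat_lit 1793))
 (.node (nat_lit 0x282b1c48d6a) (.leaf (nat_lit 0x27ea38b6991) (nat_lit 2049))
 (.leaf (nat_lit 0x282b1c48d6a) (nat_lit 2049))
))) (.node (nat_lit 0x28a17448d6a) (.node (nat_lit 0x28462c48d6a) (.leaf (nat_lit 0x282fd048d6a) (nat_lit 2048))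
 (.node (nat_lit 0x28475c48d6a) (.leaf (nat_lit 0x28462c48d6a) (nat_lit 2816))
 (.leaf (nat_lit 0x28475c48d6a) (nat_lit 2561))
)) (.node (nat_lit 0x28a8d448d6a) (.leaf (nat_lit 0x28a17448d6a) (nat_lit 2817))
 (.node (nat_lit 0x29675c4dc16) (.leaf (nat_lit 0x28a8d448d6a) (nat_lit 3072))
 (.leaf (nat_lit 0x29675c4dc16) (nat_lit 2048))
)))) (.node (nat_lit 0x2ecfd04dc16) (.node (nat_lit 0x2deb58b6991) (.node (nat_lit 0x2dc8d44dc16) (.leaf (nat_lit 0x2968584dc16) (nat_lit 2049))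
 (.node (nat_lit 0x2dd3e84dc16) (.leaf (nat_lit 0x2dc8d44dc16) (nat_lit 2049))
 (.leaf (nat_lit 0x2dd3e84dc16) (nat_lit 2817))
)) (.node (nat_lit 0x2df044b6991) (.leaf (nat_lit 0x2deb58b6991) (nat_lit 2304))
 (.node (nat_lit 0x2ec4604dc16) (.leaf (nat_lit 0x2df044b6991) (nat_lit 2048))
 (.leaf (nat_lit 0x2ec4604dc16) (nat_lit 2048))
))) (.node (nat_lit 0x30c5f80c800) (.node (nat_lit 0x2f075cd9406) (.leaf (nat_lit 0x2ecfd04dc16) (nat_lit 1281))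
 (.node (nat_lit 0x2f0aa4d9406) (.leaf (nat_lit 0x2f075cd9406) (nat_lit 2048))
 (.leaf (nat_lit 0x2f0aa4d9406) (nat_lit 2560))
)) (.node (nat_lit 0x30c8580c800) (.leaf (nat_lit 0x30c5f80c800) (nat_lit 2817))
 (.node (nat_lit 0x3240f02d0ea) (.leaf (nat_lit 0x30c8580c800) (nat_lit 2048))
 (.leaf (nat_lit 0x3240f02d0ea) (nat_lit 513))
)))))) (.node (nat_lit 0x3c0fd0b6991) (.node (nat_lit 0x370e00b6991) (.node (nat_lit 0x368048b6991) (.node (nat_lit 0x34d0444dc16) (.node (nat_lit 0x34c38c4dc16) (.leaf (nat_lit 0x3250442d0ea) (nat_lit 2560))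
 (.leaf (nat_lit 0x34c38c4dc16) (nat_lit 2560))
) (.node (nat_lit 0x34e62cb6991) (.leaf (nat_lit 0x34d0444dc16) (nat_lit 2817))
 (.node (nat_lit 0x34ed24b6991) (.leaf (nat_lit 0x34e62cb6991) (nat_lit 1793))
 (.leaf (nat_lit 0x34ed24b6991) (nat_lit 2049))
))) (.node (nat_lit 0x36b3104dc16) (.node (nat_lit 0x36838cb6991) (.leaf (nat_lit 0x368048b6991) (nat_lit 2048))
 (.node (nat_lit 0x36a62c4dc16) (.leaf (nat_lit 0x36838cb6991) (nat_lit 2305))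
 (.leaf (nat_lit 0x36a62c4dc16) (nat_lit 2561))
)) (.node (nat_lit 0x36e7444dc16) (.leaf (nat_lit 0x36b3104dc16) (nat_lit 2304))
 (.node (nat_lit 0x36ee004dc16) (.leaf (nat_lit 0x36e7444dc16) (nat_lit 2816))
 (.leaf (nat_lit 0x36ee004dc16) (nat_lit 1025))
)))) (.node (nat_lit 0x3885f848d6a) (.node (nat_lit 0x386fd04dc16) (.node (nat_lit 0x3713e8b6991) (.leaf (nat_lit 0x370e00b6991) (nat_lit 2560))
 (.leaf (nat_lit 0x3713e8b6991) (nat_lit 2049))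
) (.node (nat_lit 0x3873844dc16) (.leaf (nat_lit 0x386fd04dc16) (nat_lit 2561))
 (.node (nat_lit 0x3883c848d6a) (.leaf (nat_lit 0x3873844dc16) (nat_lit 2048))
 (.leaf (nat_lit 0x3883c848d6a) (nat_lit 2817))
))) (.node (nat_lit 0x38e2dc48d6a) (.node (nat_lit 0x38cb00b6991) (.leaf (nat_lit 0x3885f848d6a) (nat_lit 2304))
 (.node (nat_lit 0x38cfd0b6991) (.leaf (nat_lit 0x38cb00b6991) (nat_lit 2817))
 (.leaf (nat_lit 0x38cfd0b6991) (nat_lit 1280))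
)) (.node (nat_lit 0x38e85848d6a) (.leaf (nat_lit 0x38e2dc48d6a) (nat_lit 2561))
 (.node (nat_lit 0x3c00e4b6991) (.leaf (nat_lit 0x38e85848d6a) (nat_lit 2049))
 (.leaf (nat_lit 0x3c00e4b6991) (nat_lit 1281))
))))) (.node (nat_lit 0x3dc04848d6a) (.node (nat_lit 0x3c6460d9406) (.node (nat_lit 0x3c335c2d0ea) (.node (nat_lit 0x3c21742d0ea) (.leaf (nat_lit 0x3c0fd0b6991) (nat_lit 3072))
 (.leaf (nat_lit 0x3c21742d0ea) (nat_lit 2304))
) (.node (nat_lit 0x3c4b004dc16) (.leaf (nat_lit 0x3c335c2d0ea) (nat_lit 2816))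
 (.node (nat_lit 0x3c54144dc16) (.leaf (nat_lit 0x3c4b004dc16) (nat_lit 1792))
 (.leaf (nat_lit 0x3c54144dc16) (nat_lit 1793))
))) (.node (nat_lit 0x3d74142d0ea) (.node (nat_lit 0x3c6dbcd9406) (.leaf (nat_lit 0x3c6460d9406) (nat_lit 1792))
 (.node (nat_lit 0x3d70442d0ea) (.leaf (nat_lit 0x3c6dbcd9406) (nat_lit 2304))
 (.leaf (nat_lit 0x3d70442d0ea) (nat_lit 2305))
)) (.node (nat_lit 0x3d8d244dc16) (.leaf (nat_lit 0x3d74142d0ea) (nat_lit 2561))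
 (.node (nat_lit 0x3d8dbc4dc16) (.leaf (nat_lit 0x3d8d244dc16) (nat_lit 2049))
 (.leaf (nat_lit 0x3d8dbc4dc16) (nat_lit 3072))
)))) (.node (nat_lit 0x3e28d4b6991) (.node (nat_lit 0x3df45c2d0ea) (.node (nat_lit 0x3dcd2448d6a) (.leaf (nat_lit 0x3dc04848d6a) (nat_lit 2817))
 (.node (nat_lit 0x3deb2c2d0ea) (.leaf (nat_lit 0x3dcd2448d6a) (nat_lit 2816))
 (.leaf (nat_lit 0x3deb2c2d0ea) (nat_lit 1280))
)) (.node (nat_lit 0x3e0b0048d6a) (.leaf (nat_lit 0x3df45c2d0ea) (nat_lit 2305))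
 (.node (nat_lit 0x3e0b5848d6a) (.leaf (nat_lit 0x3e0b0048d6a) (nat_lit 256))
 (.leaf (nat_lit 0x3e0b5848d6a) (nat_lit 2817))
))) (.node (nat_lit 0x3ecb582d0ea) (.node (nat_lit 0x3e319cb6991) (.leaf (nat_lit 0x3e28d4b6991) (nat_lit 3073))
 (.node (nat_lit 0x3ec62c2d0ea) (.leaf (nat_lit 0x3e319cb6991) (nat_lit 2561))
 (.leaf (nat_lit 0x3ec62c2d0ea) (nat_lit 1536))
)) (.node (nat_lit 0x3ee5f848d6a) (.leaf (nat_lit 0x3ecb582d0ea) (nat_lit 3073))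
 (.node (nat_lit 0x3ef19c48d6a) (.leaf (nat_lit 0x3ee5f848d6a) (nat_lit 2048))
 (.leaf (nat_lit 0x3ef19c48d6a) (nat_lit 1793))
)))))))) (.node (nat_lit 0x7540e44dc16) (.node (nat_lit 0x66d0444dc16) (.node (nat_lit 0x4760f00c800) (.node (nat_lit 0x44262cd9406) (.node (nat_lit 0x3f8d242d0ea) (.node (nat_lit 0x3f4558b6991) (.node (nat_lit 0x3f341448d6a) (.leaf (nat_lit 0x3f2a3848d6a) (nat_lit 2305))
 (.leaf (nat_lit 0x3f341448d6a) (nat_lit 2816))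
) (.node (nat_lit 0x3f4b58b6991) (.leaf (nat_lit 0x3f4558b6991) (nat_lit 3073))
 (.node (nat_lit 0x3f82942d0ea) (.leaf (nat_lit 0x3f4b58b6991) (nat_lit 768))
 (.leaf (nat_lit 0x3f82942d0ea) (nat_lit 2817))
))) (.node (nat_lit 0x43a558b6991) (.node (nat_lit 0x3fa8d44dc16) (.leaf (nat_lit 0x3f8d242d0ea) (nat_lit 2048))
 (.node (nat_lit 0x3fab2c4dc16) (.leaf (nat_lit 0x3fa8d44dc16) (nat_lit 2560))
 (.leaf (nat_lit 0x3fab2c4dc16) (nat_lit 1280))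
)) (.node (nat_lit 0x43b044b6991) (.leaf (nat_lit 0x43a558b6991) (nat_lit 2560))
 (.node (nat_lit 0x4423c8d9406) (.leaf (nat_lit 0x43b044b6991) (nat_lit 2049))
 (.leaf (nat_lit 0x4423c8d9406) (nat_lit 3073))
)))) (.node (nat_lit 0x45ca042d0ea) (.node (nat_lit 0x448b584dc16) (.node (nat_lit 0x4480484dc16) (.leaf (nat_lit 0x44262cd9406) (nat_lit 1536))
 (.leaf (nat_lit 0x4480484dc16) (nat_lit 2561))
) (.node (nat_lit 0x44ea38b6991) (.leaf (nat_lit 0x448b584dc16) (nat_lit 1536))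
 (.node (nat_lit 0x44f310b6991) (.leaf (nat_lit 0x44ea38b6991) (nat_lit 1792))
 (.leaf (nat_lit 0x44f310b6991) (nat_lit 2816))
))) (.node (nat_lit 0x46135cd9406) (.node (nat_lit 0x45cfd02d0ea) (.leaf (nat_lit 0x45ca042d0ea) (nat_lit 1537))
 (.node (nat_lit 0x460744d9406) (.leaf (nat_lit 0x45cfd02d0ea) (nat_lit 2816))
 (.leaf (nat_lit 0x460744d9406) (nat_lit 2048))
)) (.node (nat_lit 0x4747442d0ea) (.leaf (nat_lit 0x46135cd9406) (nat_lit 2305))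
 (.node (nat_lit 0x474b582d0ea) (.leaf (nat_lit 0x4747442d0ea) (nat_lit 3073))
 (.leaf (nat_lit 0x474b582d0ea) (nat_lit 3072))
))))) (.node (nat_lit 0x5bd310d9406) (.node (nat_lit 0x548b1cd9406) (.node (nat_lit 0x5462942d0ea) (.node (nat_lit 0x476a040c800) (.leaf (nat_lit 0x4760f00c800) (nat_lit 2560))
 (.leaf (nat_lit 0x476a040c800) (nat_lit 769))
) (.node (nat_lit 0x54719c2d0ea) (.leaf (nat_lit 0x5462942d0ea) (nat_lit 2560))
 (.node (nat_lit 0x54862cd9406) (.leaf (nat_lit 0x54719c2d0ea) (nat_lit 1025))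
 (.leaf (nat_lit 0x54862cd9406) (nat_lit 1792))
))) (.node (nat_lit 0x55a558d9406) (.node (nat_lit 0x558294b6991) (.leaf (nat_lit 0x548b1cd9406) (nat_lit 2560))
 (.node (nat_lit 0x559414b6991) (.leaf (nat_lit 0x558294b6991) (nat_lit 1025))
 (.leaf (nat_lit 0x559414b6991) (nat_lit 2305))
)) (.node (nat_lit 0x55a75cd9406) (.leaf (nat_lit 0x55a558d9406) (nat_lit 2561))
 (.node (nat_lit 0x5bc38cd9406) (.leaf (nat_lit 0x55a75cd9406) (nat_lit 2048))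
 (.leaf (nat_lit 0x5bc38cd9406) (nat_lit 2305))
)))) (.node (nat_lit 0x5fcdbc2d0ea) (.node (nat_lit 0x5f80e44dc16) (.node (nat_lit 0x5beb2c0c800) (.leaf (nat_lit 0x5bd310d9406) (nat_lit 2049))
 (.node (nat_lit 0x5bf19c0c800) (.leaf (nat_lit 0x5beb2c0c800) (nat_lit 1793))
 (.leaf (nat_lit 0x5bf19c0c800) (nat_lit 2816))
)) (.node (nat_lit 0x5f88584dc16) (.leaf (nat_lit 0x5f80e44dc16) (nat_lit 2816))
 (.node (nat_lit 0x5fc9042d0ea) (.leaf (nat_lit 0x5f88584dc16) (nat_lit 2049))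
 (.leaf (nat_lit 0x5fc9042d0ea) (nat_lit 3073))
))) (.node (nat_lit 0x66662c2d0ea) (.node (nat_lit 0x664558d9406) (.leaf (nat_lit 0x5fcdbc2d0ea) (nat_lit 1793))
 (.node (nat_lit 0x664aa4d9406) (.leaf (nat_lit 0x664558d9406) (nat_lit 2304))
 (.leaf (nat_lit 0x664aa4d9406) (nat_lit 3072))
)) (.node (nat_lit 0x6667442d0ea) (.leaf (nat_lit 0x66662c2d0ea) (nat_lit 1536))
 (.node (nat_lit 0x66cb1c4dc16) (.leaf (nat_lit 0x6667442d0ea) (nat_lit 2048))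
 (.leaf (nat_lit 0x66cb1c4dc16) (nat_lit 1793))
)))))) (.node (nat_lit 0x71145cb6991) (.node (nat_lit 0x6a4d242d0ea) (.node (nat_lit 0x67c2dcb6991) (.node (nat_lit 0x66e8d42d0ea) (.node (nat_lit 0x66e8582d0ea) (.leaf (nat_lit 0x66d0444dc16) (nat_lit 2816))
 (.leaf (nat_lit 0x66e8582d0ea) (nat_lit 2817))
) (.node (nat_lit 0x678e002d0ea) (.leaf (nat_lit 0x66e8d42d0ea) (nat_lit 1537))
 (.node (nat_lit 0x678fd02d0ea) (.leaf (nat_lit 0x678e002d0ea) (nat_lit 3073))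
 (.leaf (nat_lit 0x678fd02d0ea) (nat_lit 512))
))) (.node (nat_lit 0x68735c48d6a) (.node (nat_lit 0x67d310b6991) (.leaf (nat_lit 0x67c2dcb6991) (nat_lit 2817))
 (.node (nat_lit 0x68690448d6a) (.leaf (nat_lit 0x67d310b6991) (nat_lit 3328))
 (.leaf (nat_lit 0x68690448d6a) (nat_lit 2305))
)) (.node (nat_lit 0x68aa04d9406) (.leaf (nat_lit 0x68735c48d6a) (nat_lit 1536))
 (.node (nat_lit 0x68b3e8d9406) (.leaf (nat_lit 0x68aa04d9406) (nat_lit 2305))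
 (.leaf (nat_lit 0x68b3e8d9406) (nat_lit 1536))
)))) (.node (nat_lit 0x6e4aa44dc16) (.node (nat_lit 0x6a6aa448d6a) (.node (nat_lit 0x6a519c2d0ea) (.leaf (nat_lit 0x6a4d242d0ea) (nat_lit 2305))
 (.leaf (nat_lit 0x6a519c2d0ea) (nat_lit 2561))
) (.node (nat_lit 0x6a741448d6a) (.leaf (nat_lit 0x6a6aa448d6a) (nat_lit 2305))
 (.node (nat_lit 0x6e40484dc16) (.leaf (nat_lit 0x6a741448d6a) (nat_lit 2304))
 (.leaf (nat_lit 0x6e40484dc16) (nat_lit 2561))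
))) (.node (nat_lit 0x6f8294d9406) (.node (nat_lit 0x6e8744d9406) (.leaf (nat_lit 0x6e4aa44dc16) (nat_lit 2560))
 (.node (nat_lit 0x6e8b00d9406) (.leaf (nat_lit 0x6e8744d9406) (nat_lit 2561))
 (.leaf (nat_lit 0x6e8b00d9406) (nat_lit 2305))
)) (.node (nat_lit 0x6f93e8d9406) (.leaf (nat_lit 0x6f8294d9406) (nat_lit 2817))
 (.node (nat_lit 0x710e00b6991) (.leaf (nat_lit 0x6f93e8d9406) (nat_lit 1281))
 (.leaf (nat_lit 0x710e00b6991) (nat_lit 257))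
))))) (.node (nat_lit 0x73e744b6991) (.node (nat_lit 0x736a384dc16) (.node (nat_lit 0x7124602d0ea) (.node (nat_lit 0x7120482d0ea) (.leaf (nat_lit 0x71145cb6991) (nat_lit 3073))
 (.leaf (nat_lit 0x7120482d0ea) (nat_lit 2560))
) (.node (nat_lit 0x7140f0b6991) (.leaf (nat_lit 0x7124602d0ea) (nat_lit 2561))
 (.node (nat_lit 0x71462cb6991) (.leaf (nat_lit 0x7140f0b6991) (nat_lit 2304))
 (.leaf (nat_lit 0x71462cb6991) (nat_lit 2560))
))) (.node (nat_lit 0x73adbcd9406) (.node (nat_lit 0x736d244dc16) (.leaf (nat_lit 0x736a384dc16) (nat_lit 2817))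
 (.node (nat_lit 0x73a0f0d9406) (.leaf (nat_lit 0x736d244dc16) (nat_lit 1280))
 (.leaf (nat_lit 0x73a0f0d9406) (nat_lit 2049))
)) (.node (nat_lit 0x73c04848d6a) (.leaf (nat_lit 0x73adbcd9406) (nat_lit 2817))
 (.node (nat_lit 0x73d3e848d6a) (.leaf (nat_lit 0x73c04848d6a) (nat_lit 1792))
 (.leaf (nat_lit 0x73d3e848d6a) (nat_lit 1281))
)))) (.node (nat_lit 0x7480f048d6a) (.node (nat_lit 0x7454144dc16) (.node (nat_lit 0x73e8d4b6991) (.leaf (nat_lit 0x73e744b6991) (nat_lit 1537))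
 (.node (nat_lit 0x7441744dc16) (.leaf (nat_lit 0x73e8d4b6991) (nat_lit 2560))
 (.leaf (nat_lit 0x7441744dc16) (nat_lit 2304))
)) (.node (nat_lit 0x7460e42d0ea) (.leaf (nat_lit 0x7454144dc16) (nat_lit 1537))
 (.node (nat_lit 0x746b2c2d0ea) (.leaf (nat_lit 0x7460e42d0ea) (nat_lit 2304))
 (.leaf (nat_lit 0x746b2c2d0ea) (nat_lit 2304))
))) (.node (nat_lit 0x74a5f82d0ea) (.node (nat_lit 0x74938448d6a) (.leaf (nat_lit 0x7480f048d6a) (nat_lit 1281))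
 (.node (nat_lit 0x74a0482d0ea) (.leaf (nat_lit 0x74938448d6a) (nat_lit 3073))
 (.leaf (nat_lit 0x74a0482d0ea) (nat_lit 1792))
)) (.node (nat_lit 0x7505f8d9406) (.leaf (nat_lit 0x74a5f82d0ea) (nat_lit 2305))
 (.node (nat_lit 0x751414d9406) (.leaf (nat_lit 0x7505f8d9406) (nat_lit 2049))
 (.leaf (nat_lit 0x751414d9406) (nat_lit 1537))
))))))) (.node (nat_lit 0x8a6b1c2d0ea) (.node (nat_lit 0x7fc048b6991) (.node (nat_lit 0x7c745cb6991) (.node (nat_lit 0x78f38448d6a) (.node (nat_lit 0x78462c4dc16) (.node (nat_lit 0x75475c4dc16) (.leaf (nat_lit 0x7540e44dc16) (nat_lit 1536))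
 (.leaf (nat_lit 0x75475c4dc16) (nat_lit 2304))
) (.node (nat_lit 0x784a044dc16) (.leaf (nat_lit 0x78462c4dc16) (nat_lit 2561))
 (.node (nat_lit 0x78e38c48d6a) (.leaf (nat_lit 0x784a044dc16) (nat_lit 2304))
 (.leaf (nat_lit 0x78e38c48d6a) (nat_lit 1536))
))) (.node (nat_lit 0x7b8b1c2d0ea) (.node (nat_lit 0x7b48d4d9406) (.leaf (nat_lit 0x78f38448d6a) (nat_lit 3072))
 (.node (nat_lit 0x7b5310d9406) (.leaf (nat_lit 0x7b48d4d9406) (nat_lit 2305))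
 (.leaf (nat_lit 0x7b5310d9406) (nat_lit 2817))
)) (.node (nat_lit 0x7b935c2d0ea) (.leaf (nat_lit 0x7b8b1c2d0ea) (nat_lit 2304))
 (.node (nat_lit 0x7c73e8b6991) (.leaf (nat_lit 0x7b935c2d0ea) (nat_lit 2560))
 (.leaf (nat_lit 0x7c73e8b6991) (nat_lit 2304))
)))) (.node (nat_lit 0x7ceaa42d0ea) (.node (nat_lit 0x7c9044d9406) (.node (nat_lit 0x7c8904d9406) (.leaf (nat_lit 0x7c745cb6991) (nat_lit 2049))
 (.leaf (nat_lit 0x7c8904d9406) (nat_lit 3073))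
) (.node (nat_lit 0x7ccfd0d9406) (.leaf (nat_lit 0x7c9044d9406) (nat_lit 1792))
 (.node (nat_lit 0x7cd19cd9406) (.leaf (nat_lit 0x7ccfd0d9406) (nat_lit 513))
 (.leaf (nat_lit 0x7cd19cd9406) (nat_lit 2304))
))) (.node (nat_lit 0x7f5384b6991) (.node (nat_lit 0x7cf3102d0ea) (.leaf (nat_lit 0x7ceaa42d0ea) (nat_lit 2560))
 (.node (nat_lit 0x7f4904b6991) (.leaf (nat_lit 0x7cf3102d0ea) (nat_lit 2817))
 (.leaf (nat_lit 0x7f4904b6991) (nat_lit 2560))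
)) (.node (nat_lit 0x7fb3102d0ea) (.leaf (nat_lit 0x7f5384b6991) (nat_lit 2561))
 (.node (nat_lit 0x7fb3842d0ea) (.leaf (nat_lit 0x7fb3102d0ea) (nat_lit 2561))
 (.leaf (nat_lit 0x7fb3842d0ea) (nat_lit 2817))
))))) (.node (nat_lit 0x84edbc4dc16) (.node (nat_lit 0x808a0448d6a) (.node (nat_lit 0x8020e42d0ea) (.node (nat_lit 0x7fd35cb6991) (.leaf (nat_lit 0x7fc048b6991) (nat_lit 2304))
 (.leaf (nat_lit 0x7fd35cb6991) (nat_lit 2048))
) (.node (nat_lit 0x80345c2d0ea) (.leaf (nat_lit 0x8020e42d0ea) (nat_lit 3585))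
 (.node (nat_lit 0x8082dc48d6a) (.leaf (nat_lit 0x80345c2d0ea) (nat_lit 769))
 (.leaf (nat_lit 0x8082dc48d6a) (nat_lit 2305))
))) (.node (nat_lit 0x84c048d9406) (.node (nat_lit 0x80a38cd9406) (.leaf (nat_lit 0x808a0448d6a) (nat_lit 2048))
 (.node (nat_lit 0x80a8d4d9406) (.leaf (nat_lit 0x80a38cd9406) (nat_lit 2304))
 (.leaf (nat_lit 0x80a8d4d9406) (nat_lit 2560))
)) (.node (nat_lit 0x84c0e4d9406) (.leaf (nat_lit 0x84c048d9406) (nat_lit 2560))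
 (.node (nat_lit 0x84ea384dc16) (.leaf (nat_lit 0x84c0e4d9406) (nat_lit 2816))
 (.leaf (nat_lit 0x84ea384dc16) (nat_lit 3072))
)))) (.node (nat_lit 0x888460b6991) (.node (nat_lit 0x8683c848d6a) (.node (nat_lit 0x866858b6991) (.leaf (nat_lit 0x84edbc4dc16) (nat_lit 2304))
 (.node (nat_lit 0x867414b6991) (.leaf (nat_lit 0x866858b6991) (nat_lit 2560))
 (.leaf (nat_lit 0x867414b6991) (nat_lit 2817))
)) (.node (nat_lit 0x86919c48d6a) (.leaf (nat_lit 0x8683c848d6a) (nat_lit 2048))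
 (.node (nat_lit 0x8883c8b6991) (.leaf (nat_lit 0x86919c48d6a) (nat_lit 2561))
 (.leaf (nat_lit 0x8883c8b6991) (nat_lit 1280))
))) (.node (nat_lit 0x8a42944dc16) (.node (nat_lit 0x88b414d9406) (.leaf (nat_lit 0x888460b6991) (nat_lit 2560))
 (.node (nat_lit 0x88b45cd9406) (.leaf (nat_lit 0x88b414d9406) (nat_lit 1537))
 (.leaf (nat_lit 0x88b45cd9406) (nat_lit 2816))
)) (.node (nat_lit 0x8a49044dc16) (.leaf (nat_lit 0x8a42944dc16) (nat_lit 2560))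
 (.node (nat_lit 0x8a61742d0ea) (.leaf (nat_lit 0x8a49044dc16) (nat_lit 2305))
 (.leaf (nat_lit 0x8a61742d0ea) (nat_lit 1281))
)))))) (.node (nat_lit 0x980b2cd9406) (.node (nat_lit 0x9168d448d6a) (.node (nat_lit 0x91055848d6a) (.node (nat_lit 0x8d2a0448d6a) (.node (nat_lit 0x8d285848d6a) (.leaf (nat_lit 0x8a6b1c2d0ea) (nat_lit 1792))
 (.leaf (nat_lit 0x8d285848d6a) (nat_lit 1792))
) (.node (nat_lit 0x8d43c84dc16) (.leaf (nat_lit 0x8d2a0448d6a) (nat_lit 1537))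
 (.node (nat_lit 0x8d49044dc16) (.leaf (nat_lit 0x8d43c84dc16) (nat_lit 2817))
 (.leaf (nat_lit 0x8d49044dc16) (nat_lit 2305))
))) (.node (nat_lit 0x9123c8b6991) (.node (nat_lit 0x910fd048d6a) (.leaf (nat_lit 0x91055848d6a) (nat_lit 1280))
 (.node (nat_lit 0x912174b6991) (.leaf (nat_lit 0x910fd048d6a) (nat_lit 3329))
 (.leaf (nat_lit 0x912174b6991) (nat_lit 3072))
)) (.node (nat_lit 0x914b00d9406) (.leaf (nat_lit 0x9123c8b6991) (nat_lit 2305))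
 (.node (nat_lit 0x91535cd9406) (.leaf (nat_lit 0x914b00d9406) (nat_lit 1024))
 (.leaf (nat_lit 0x91535cd9406) (nat_lit 2049))
)))) (.node (nat_lit 0x922a04d9406) (.node (nat_lit 0x91e5582d0ea) (.node (nat_lit 0x916dbc48d6a) (.leaf (nat_lit 0x9168d448d6a) (nat_lit 2816))
 (.leaf (nat_lit 0x916dbc48d6a) (nat_lit 2304))
) (.node (nat_lit 0x91e8d42d0ea) (.leaf (nat_lit 0x91e5582d0ea) (nat_lit 3072))
 (.node (nat_lit 0x922294d9406) (.leaf (nat_lit 0x91e8d42d0ea) (nat_lit 2561))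
 (.leaf (nat_lit 0x922294d9406) (nat_lit 1537))
))) (.node (nat_lit 0x93e2dc2d0ea) (.node (nat_lit 0x93a174b6991) (.leaf (nat_lit 0x922a04d9406) (nat_lit 3072))
 (.node (nat_lit 0x93a460b6991) (.leaf (nat_lit 0x93a174b6991) (nat_lit 2049))
 (.leaf (nat_lit 0x93a460b6991) (nat_lit 3073))
)) (.node (nat_lit 0x93e9042d0ea) (.leaf (nat_lit 0x93e2dc2d0ea) (nat_lit 2561))
 (.node (nat_lit 0x980904d9406) (.leaf (nat_lit 0x93e9042d0ea) (nat_lit 2304))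
 (.leaf (nat_lit 0x980904d9406) (nat_lit 2048))
))))) (.node (nat_lit 0xa6c5f84dc16) (.node (nat_lit 0x99862c48d6a) (.node (nat_lit 0x98438c48d6a) (.node (nat_lit 0x9840f048d6a) (.leaf (nat_lit 0x980b2cd9406) (nat_lit 2816))
 (.leaf (nat_lit 0x9840f048d6a) (nat_lit 2816))
) (.node (nat_lit 0x994aa42d0ea) (.leaf (nat_lit 0x98438c48d6a) (nat_lit 3073))
 (.node (nat_lit 0x9953842d0ea) (.leaf (nat_lit 0x994aa42d0ea) (nat_lit 2817))
 (.leaf (nat_lit 0x9953842d0ea) (nat_lit 1793))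
))) (.node (nat_lit 0xa50b5848d6a) (.node (nat_lit 0x99945c48d6a) (.leaf (nat_lit 0x99862c48d6a) (nat_lit 2304))
 (.node (nat_lit 0xa50b2c48d6a) (.leaf (nat_lit 0x99945c48d6a) (nat_lit 1024))
 (.leaf (nat_lit 0xa50b2c48d6a) (nat_lit 2817))
)) (.node (nat_lit 0xa520f02d0ea) (.leaf (nat_lit 0xa50b5848d6a) (nat_lit 2048))
 (.node (nat_lit 0xa534142d0ea) (.leaf (nat_lit 0xa520f02d0ea) (nat_lit 2560))
 (.leaf (nat_lit 0xa534142d0ea) (nat_lit 2305))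
)))) (.node (nat_lit 0xa72b0048d6a) (.node (nat_lit 0xa6efd0d9406) (.node (nat_lit 0xa6c7444dc16) (.leaf (nat_lit 0xa6c5f84dc16) (nat_lit 2049))
 (.node (nat_lit 0xa6ea38d9406) (.leaf (nat_lit 0xa6c7444dc16) (nat_lit 2816))
 (.leaf (nat_lit 0xa6ea38d9406) (nat_lit 2305))
)) (.node (nat_lit 0xa70048d9406) (.leaf (nat_lit 0xa6efd0d9406) (nat_lit 2560))
 (.node (nat_lit 0xa702dcd9406) (.leaf (nat_lit 0xa70048d9406) (nat_lit 1793))
 (.leaf (nat_lit 0xa702dcd9406) (nat_lit 2560))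
))) (.node (nat_lit 0xaa0460d9406) (.node (nat_lit 0xa72b2c48d6a) (.leaf (nat_lit 0xa72b0048d6a) (nat_lit 2561))
 (.node (nat_lit 0xaa00f0d9406) (.leaf (nat_lit 0xa72b2c48d6a) (nat_lit 2048))
 (.leaf (nat_lit 0xaa00f0d9406) (nat_lit 3073))
)) (.node (nat_lit 0xaa475cb6991) (.leaf (nat_lit 0xaa0460d9406) (nat_lit 1792))
 (.node (nat_lit 0xaa4904b6991) (.leaf (nat_lit 0xaa475cb6991) (nat_lit 2816))
 (.leaf (nat_lit 0xaa4904b6991) (nat_lit 1536))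
)))))))))

theorem A6_ok : genOK A [(nat_lit 0x3e0b0048d6a), (nat_lit 0x710e00b6991)] A6_t (nat_lit 360) = true := by decide +kernel

/-- A listed subgroup. -/
noncomputable def J_t : ST :=
(.node (nat_lit 0x1943500c800) (.node (nat_lit 0xa837c0c800) (.node (nat_lit 0x5cda00c800) (.node (nat_lit 0x1aa740c800) (.node (nat_lit 0xc4600c800) (.node (nat_lit 0x30600c800) (.node (nat_lit 0x26740c800) (.node (nat_lit 0x24880c800) (.leaf (nat_lit 0x20e40c800) (nat_lit 0))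
 (.leaf (nat_lit 0x24880c800) (nat_lit 1282))
) (.node (nat_lit 0x2a700c800) (.leaf (nat_lit 0x26740c800) (nat_lit 1538))
 (.node (nat_lit 0x2b540c800) (.leaf (nat_lit 0x2a700c800) (nat_lit 1792))
 (.leaf (nat_lit 0x2b540c800) (nat_lit 2050))
))) (.node (nat_lit 0x33100c800) (.node (nat_lit 0x31580c800) (.leaf (nat_lit 0x30600c800) (nat_lit 1792))
 (.node (nat_lit 0x32500c800) (.leaf (nat_lit 0x31580c800) (nat_lit 1281))
 (.leaf (nat_lit 0x32500c800) (nat_lit 1280))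
)) (.node (nat_lit 0x35e00c800) (.leaf (nat_lit 0x33100c800) (nat_lit 1537))
 (.node (nat_lit 0xc2940c800) (.leaf (nat_lit 0x35e00c800) (nat_lit 1538))
 (.leaf (nat_lit 0xc2940c800) (nat_lit 1537))
)))) (.node (nat_lit 0xd1fc0c800) (.node (nat_lit 0xcd840c800) (.node (nat_lit 0xca0c0c800) (.leaf (nat_lit 0xc4600c800) (nat_lit 1794))
 (.leaf (nat_lit 0xca0c0c800) (nat_lit 1792))
) (.node (nat_lit 0xcda00c800) (.leaf (nat_lit 0xcd840c800) (nat_lit 1025))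
 (.node (nat_lit 0xd1580c800) (.leaf (nat_lit 0xcda00c800) (nat_lit 1538))
 (.leaf (nat_lit 0xd1580c800) (nat_lit 768))
))) (.node (nat_lit 0xd5e00c800) (.node (nat_lit 0xd2080c800) (.leaf (nat_lit 0xd1fc0c800) (nat_lit 1794))
 (.node (nat_lit 0xd2c80c800) (.leaf (nat_lit 0xd2080c800) (nat_lit 1282))
 (.leaf (nat_lit 0xd2c80c800) (nat_lit 1280))
)) (.node (nat_lit 0x1a4600c800) (.leaf (nat_lit 0xd5e00c800) (nat_lit 1793))
 (.node (nat_lit 0x1a7440c800) (.leaf (nat_lit 0x1a4600c800) (nat_lit 1538))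
 (.leaf (nat_lit 0x1a7440c800) (nat_lit 1538))
))))) (.node (nat_lit 0x40a680c800) (.node (nat_lit 0x1b4040c800) (.node (nat_lit 0x1abe40c800) (.node (nat_lit 0x1ab540c800) (.leaf (nat_lit 0x1aa740c800) (nat_lit 1281))
 (.leaf (nat_lit 0x1ab540c800) (nat_lit 1537))
) (.node (nat_lit 0x1b1fc0c800) (.leaf (nat_lit 0x1abe40c800) (nat_lit 1282))
 (.node (nat_lit 0x1b2080c800) (.leaf (nat_lit 0x1b1fc0c800) (nat_lit 1026))
 (.leaf (nat_lit 0x1b2080c800) (nat_lit 1794))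
))) (.node (nat_lit 0x402940c800) (.node (nat_lit 0x1b5900c800) (.leaf (nat_lit 0x1b4040c800) (nat_lit 1537))
 (.node (nat_lit 0x1b5e00c800) (.leaf (nat_lit 0x1b5900c800) (nat_lit 1536))
 (.leaf (nat_lit 0x1b5e00c800) (nat_lit 1281))
)) (.node (nat_lit 0x403580c800) (.leaf (nat_lit 0x402940c800) (nat_lit 1538))
 (.node (nat_lit 0x40a480c800) (.leaf (nat_lit 0x403580c800) (nat_lit 1538))
 (.leaf (nat_lit 0x40a480c800) (nat_lit 1536))
)))) (.node (nat_lit 0x415e00c800) (.node (nat_lit 0x40fd80c800) (.node (nat_lit 0x40a700c800) (.leaf (nat_lit 0x40a680c800) (nat_lit 1280))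
 (.node (nat_lit 0x40be40c800) (.leaf (nat_lit 0x40a700c800) (nat_lit 1794))
 (.leaf (nat_lit 0x40be40c800) (nat_lit 1792))
)) (.node (nat_lit 0x410600c800) (.leaf (nat_lit 0x40fd80c800) (nat_lit 2048))
 (.node (nat_lit 0x413100c800) (.leaf (nat_lit 0x410600c800) (nat_lit 1793))
 (.leaf (nat_lit 0x413100c800) (nat_lit 1281))
))) (.node (nat_lit 0x5c4880c800) (.node (nat_lit 0x5c2940c800) (.leaf (nat_lit 0x415e00c800) (nat_lit 258))
 (.node (nat_lit 0x5c37c0c800) (.leaf (nat_lit 0x5c2940c800) (nat_lit 1536))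
 (.leaf (nat_lit 0x5c37c0c800) (nat_lit 1025))
)) (.node (nat_lit 0x5c5cc0c800) (.leaf (nat_lit 0x5c4880c800) (nat_lit 770))
 (.node (nat_lit 0x5ca740c800) (.leaf (nat_lit 0x5c5cc0c800) (nat_lit 1794))
 (.leaf (nat_lit 0x5ca740c800) (nat_lit 1280))
)))))) (.node (nat_lit 0x873880c800) (.node (nat_lit 0x691fc0c800) (.node (nat_lit 0x680e40c800) (.node (nat_lit 0x5d3100c800) (.node (nat_lit 0x5d1fc0c800) (.leaf (nat_lit 0x5cda00c800) (nat_lit 1792))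
 (.leaf (nat_lit 0x5d1fc0c800) (nat_lit 1282))
) (.node (nat_lit 0x5d3f80c800) (.leaf (nat_lit 0x5d3100c800) (nat_lit 1794))
 (.node (nat_lit 0x5d5900c800) (.leaf (nat_lit 0x5d3f80c800) (nat_lit 1537))
 (.leaf (nat_lit 0x5d5900c800) (nat_lit 1536))
))) (.node (nat_lit 0x68da00c800) (.node (nat_lit 0x683580c800) (.leaf (nat_lit 0x680e40c800) (nat_lit 1536))
 (.node (nat_lit 0x68be40c800) (.leaf (nat_lit 0x683580c800) (nat_lit 1280))
 (.leaf (nat_lit 0x68be40c800) (nat_lit 770))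
)) (.node (nat_lit 0x690440c800) (.leaf (nat_lit 0x68da00c800) (nat_lit 1281))
 (.node (nat_lit 0x690600c800) (.leaf (nat_lit 0x690440c800) (nat_lit 770))
 (.leaf (nat_lit 0x690600c800) (nat_lit 1793))
)))) (.node (nat_lit 0x866740c800) (.node (nat_lit 0x692c80c800) (.node (nat_lit 0x692500c800) (.leaf (nat_lit 0x691fc0c800) (nat_lit 1538))
 (.leaf (nat_lit 0x692500c800) (nat_lit 1792))
) (.node (nat_lit 0x693880c800) (.leaf (nat_lit 0x692c80c800) (nat_lit 1024))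
 (.node (nat_lit 0x863500c800) (.leaf (nat_lit 0x693880c800) (nat_lit 1537))
 (.leaf (nat_lit 0x863500c800) (nat_lit 768))
))) (.node (nat_lit 0x86da00c800) (.node (nat_lit 0x86a680c800) (.leaf (nat_lit 0x866740c800) (nat_lit 1537))
 (.node (nat_lit 0x86a700c800) (.leaf (nat_lit 0x86a680c800) (nat_lit 1537))
 (.leaf (nat_lit 0x86a700c800) (nat_lit 1793))
)) (.node (nat_lit 0x86fd80c800) (.leaf (nat_lit 0x86da00c800) (nat_lit 1281))
 (.node (nat_lit 0x871fc0c800) (.leaf (nat_lit 0x86fd80c800) (nat_lit 1538))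
 (.leaf (nat_lit 0x871fc0c800) (nat_lit 1793))
))))) (.node (nat_lit 0x953880c800) (.node (nat_lit 0x945cc0c800) (.node (nat_lit 0x875dc0c800) (.node (nat_lit 0x875900c800) (.leaf (nat_lit 0x873880c800) (nat_lit 1282))
 (.leaf (nat_lit 0x875900c800) (nat_lit 1280))
) (.node (nat_lit 0x944600c800) (.leaf (nat_lit 0x875dc0c800) (nat_lit 1026))
 (.node (nat_lit 0x944880c800) (.leaf (nat_lit 0x944600c800) (nat_lit 1026))
 (.leaf (nat_lit 0x944880c800) (nat_lit 1280))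
))) (.node (nat_lit 0x94be40c800) (.node (nat_lit 0x946740c800) (.leaf (nat_lit 0x945cc0c800) (nat_lit 1281))
 (.node (nat_lit 0x94a0c0c800) (.leaf (nat_lit 0x946740c800) (nat_lit 1280))
 (.leaf (nat_lit 0x94a0c0c800) (nat_lit 1794))
)) (.node (nat_lit 0x94d840c800) (.leaf (nat_lit 0x94be40c800) (nat_lit 1537))
 (.node (nat_lit 0x953100c800) (.leaf (nat_lit 0x94d840c800) (nat_lit 1282))
 (.leaf (nat_lit 0x953100c800) (nat_lit 1536))
)))) (.node (nat_lit 0x9d0600c800) (.node (nat_lit 0x9ca0c0c800) (.node (nat_lit 0x954040c800) (.leaf (nat_lit 0x953880c800) (nat_lit 1536))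
 (.node (nat_lit 0x9c3580c800) (.leaf (nat_lit 0x954040c800) (nat_lit 1536))
 (.leaf (nat_lit 0x9c3580c800) (nat_lit 1025))
)) (.node (nat_lit 0x9ca740c800) (.leaf (nat_lit 0x9ca0c0c800) (nat_lit 768))
 (.node (nat_lit 0x9cd840c800) (.leaf (nat_lit 0x9ca740c800) (nat_lit 1536))
 (.leaf (nat_lit 0x9cd840c800) (nat_lit 1282))
))) (.node (nat_lit 0x9d2500c800) (.node (nat_lit 0x9d1640c800) (.leaf (nat_lit 0x9d0600c800) (nat_lit 770))
 (.node (nat_lit 0x9d2080c800) (.leaf (nat_lit 0x9d1640c800) (nat_lit 2050))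
 (.leaf (nat_lit 0x9d2080c800) (nat_lit 1280))
)) (.node (nat_lit 0x9d5900c800) (.leaf (nat_lit 0x9d2500c800) (nat_lit 1794))
 (.node (nat_lit 0x9d5dc0c800) (.leaf (nat_lit 0x9d5900c800) (nat_lit 1537))
 (.leaf (nat_lit 0x9d5dc0c800) (nat_lit 1793))
))))))) (.node (nat_lit 0x102a740c800) (.node (nat_lit 0xf25cc0c800) (.node (nat_lit 0xe84880c800) (.node (nat_lit 0xa92080c800) (.node (nat_lit 0xa8fd80c800) (.node (nat_lit 0xa8a0c0c800) (.leaf (nat_lit 0xa837c0c800) (nat_lit 1536))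
 (.leaf (nat_lit 0xa8a0c0c800) (nat_lit 1282))
) (.node (nat_lit 0xa90440c800) (.leaf (nat_lit 0xa8fd80c800) (nat_lit 1538))
 (.node (nat_lit 0xa91580c800) (.leaf (nat_lit 0xa90440c800) (nat_lit 1538))
 (.leaf (nat_lit 0xa91580c800) (nat_lit 1792))
))) (.node (nat_lit 0xa93f80c800) (.node (nat_lit 0xa93100c800) (.leaf (nat_lit 0xa92080c800) (nat_lit 1280))
 (.node (nat_lit 0xa93880c800) (.leaf (nat_lit 0xa93100c800) (nat_lit 1282))
 (.leaf (nat_lit 0xa93880c800) (nat_lit 1282))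
)) (.node (nat_lit 0xa94040c800) (.leaf (nat_lit 0xa93f80c800) (nat_lit 1537))
 (.node (nat_lit 0xe84600c800) (.leaf (nat_lit 0xa94040c800) (nat_lit 1537))
 (.leaf (nat_lit 0xe84600c800) (nat_lit 770))
)))) (.node (nat_lit 0xe90440c800) (.node (nat_lit 0xe8a480c800) (.node (nat_lit 0xe8a0c0c800) (.leaf (nat_lit 0xe84880c800) (nat_lit 1793))
 (.leaf (nat_lit 0xe8a0c0c800) (nat_lit 1792))
) (.node (nat_lit 0xe8b540c800) (.leaf (nat_lit 0xe8a480c800) (nat_lit 2049))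
 (.node (nat_lit 0xe8da00c800) (.leaf (nat_lit 0xe8b540c800) (nat_lit 1282))
 (.leaf (nat_lit 0xe8da00c800) (nat_lit 1024))
))) (.node (nat_lit 0xe95e00c800) (.node (nat_lit 0xe91640c800) (.leaf (nat_lit 0xe90440c800) (nat_lit 1536))
 (.node (nat_lit 0xe93880c800) (.leaf (nat_lit 0xe91640c800) (nat_lit 769))
 (.leaf (nat_lit 0xe93880c800) (nat_lit 1280))
)) (.node (nat_lit 0xf20e40c800) (.leaf (nat_lit 0xe95e00c800) (nat_lit 1536))
 (.node (nat_lit 0xf23500c800) (.leaf (nat_lit 0xf20e40c800) (nat_lit 1793))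
 (.leaf (nat_lit 0xf23500c800) (nat_lit 1280))
))))) (.node (nat_lit 0xfc7440c800) (.node (nat_lit 0xf2a740c800) (.node (nat_lit 0xf2a0c0c800) (.node (nat_lit 0xf25f00c800) (.leaf (nat_lit 0xf25cc0c800) (nat_lit 1536))
 (.leaf (nat_lit 0xf25f00c800) (nat_lit 1793))
) (.node (nat_lit 0xf2a680c800) (.leaf (nat_lit 0xf2a0c0c800) (nat_lit 770))
 (.node (nat_lit 0xf2a700c800) (.leaf (nat_lit 0xf2a680c800) (nat_lit 1280))
 (.leaf (nat_lit 0xf2a700c800) (nat_lit 1025))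
))) (.node (nat_lit 0xfc37c0c800) (.node (nat_lit 0xf30440c800) (.leaf (nat_lit 0xf2a740c800) (nat_lit 1538))
 (.node (nat_lit 0xf32080c800) (.leaf (nat_lit 0xf30440c800) (nat_lit 1537))
 (.leaf (nat_lit 0xf32080c800) (nat_lit 1282))
)) (.node (nat_lit 0xfc4880c800) (.leaf (nat_lit 0xfc37c0c800) (nat_lit 1537))
 (.node (nat_lit 0xfc5cc0c800) (.leaf (nat_lit 0xfc4880c800) (nat_lit 1794))
 (.leaf (nat_lit 0xfc5cc0c800) (nat_lit 1282))
)))) (.node (nat_lit 0xfd5dc0c800) (.node (nat_lit 0xfd0440c800) (.node (nat_lit 0xfca700c800) (.leaf (nat_lit 0xfc7440c800) (nat_lit 769))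
 (.node (nat_lit 0xfcfd80c800) (.leaf (nat_lit 0xfca700c800) (nat_lit 1280))
 (.leaf (nat_lit 0xfcfd80c800) (nat_lit 1794))
)) (.node (nat_lit 0xfd2080c800) (.leaf (nat_lit 0xfd0440c800) (nat_lit 1536))
 (.node (nat_lit 0xfd2c80c800) (.leaf (nat_lit 0xfd2080c800) (nat_lit 1538))
 (.leaf (nat_lit 0xfd2c80c800) (nat_lit 1538))
))) (.node (nat_lit 0x1026740c800) (.node (nat_lit 0x10237c0c800) (.leaf (nat_lit 0xfd5dc0c800) (nat_lit 1024))
 (.node (nat_lit 0x1025f00c800) (.leaf (nat_lit 0x10237c0c800) (nat_lit 1794))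
 (.leaf (nat_lit 0x1025f00c800) (nat_lit 769))
)) (.node (nat_lit 0x1027440c800) (.leaf (nat_lit 0x1026740c800) (nat_lit 768))
 (.node (nat_lit 0x102a480c800) (.leaf (nat_lit 0x1027440c800) (nat_lit 1538))
 (.leaf (nat_lit 0x102a480c800) (nat_lit 1282))
)))))) (.node (nat_lit 0x12d1fc0c800) (.node (nat_lit 0x116be40c800) (.node (nat_lit 0x1160e40c800) (.node (nat_lit 0x1032080c800) (.node (nat_lit 0x102da00c800) (.leaf (nat_lit 0x102a740c800) (nat_lit 1026))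
 (.leaf (nat_lit 0x102da00c800) (nat_lit 1536))
) (.node (nat_lit 0x1033100c800) (.leaf (nat_lit 0x1032080c800) (nat_lit 1282))
 (.node (nat_lit 0x1033880c800) (.leaf (nat_lit 0x1033100c800) (nat_lit 1026))
 (.leaf (nat_lit 0x1033880c800) (nat_lit 769))
))) (.node (nat_lit 0x116a0c0c800) (.node (nat_lit 0x1162940c800) (.leaf (nat_lit 0x1160e40c800) (nat_lit 1793))
 (.node (nat_lit 0x1163500c800) (.leaf (nat_lit 0x1162940c800) (nat_lit 1536))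
 (.leaf (nat_lit 0x1163500c800) (nat_lit 1536))
)) (.node (nat_lit 0x116a480c800) (.leaf (nat_lit 0x116a0c0c800) (nat_lit 1538))
 (.node (nat_lit 0x116a740c800) (.leaf (nat_lit 0x116a480c800) (nat_lit 1282))
 (.leaf (nat_lit 0x116a740c800) (nat_lit 1026))
)))) (.node (nat_lit 0x12c5f00c800) (.node (nat_lit 0x1172500c800) (.node (nat_lit 0x116fd80c800) (.leaf (nat_lit 0x116be40c800) (nat_lit 1794))
 (.leaf (nat_lit 0x116fd80c800) (nat_lit 1792))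
) (.node (nat_lit 0x1175dc0c800) (.leaf (nat_lit 0x1172500c800) (nat_lit 1536))
 (.node (nat_lit 0x12c3580c800) (.leaf (nat_lit 0x1175dc0c800) (nat_lit 1537))
 (.leaf (nat_lit 0x12c3580c800) (nat_lit 1536))
))) (.node (nat_lit 0x12ca0c0c800) (.node (nat_lit 0x12c6740c800) (.leaf (nat_lit 0x12c5f00c800) (nat_lit 1794))
 (.node (nat_lit 0x12c7440c800) (.leaf (nat_lit 0x12c6740c800) (nat_lit 1538))
 (.leaf (nat_lit 0x12c7440c800) (nat_lit 1538))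
)) (.node (nat_lit 0x12ca480c800) (.leaf (nat_lit 0x12ca0c0c800) (nat_lit 1024))
 (.node (nat_lit 0x12d0440c800) (.leaf (nat_lit 0x12ca480c800) (nat_lit 1538))
 (.leaf (nat_lit 0x12d0440c800) (nat_lit 1794))
))))) (.node (nat_lit 0x1693f80c800) (.node (nat_lit 0x168a740c800) (.node (nat_lit 0x12d5900c800) (.node (nat_lit 0x12d2500c800) (.leaf (nat_lit 0x12d1fc0c800) (nat_lit 1538))
 (.leaf (nat_lit 0x12d2500c800) (nat_lit 1536))
) (.node (nat_lit 0x1684600c800) (.leaf (nat_lit 0x12d5900c800) (nat_lit 513))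
 (.node (nat_lit 0x1685f00c800) (.leaf (nat_lit 0x1684600c800) (nat_lit 1537))
 (.leaf (nat_lit 0x1685f00c800) (nat_lit 1537))
))) (.node (nat_lit 0x1690440c800) (.node (nat_lit 0x168d840c800) (.leaf (nat_lit 0x168a740c800) (nat_lit 1794))
 (.node (nat_lit 0x168fd80c800) (.leaf (nat_lit 0x168d840c800) (nat_lit 1794))
 (.leaf (nat_lit 0x168fd80c800) (nat_lit 1536))
)) (.node (nat_lit 0x1690600c800) (.leaf (nat_lit 0x1690440c800) (nat_lit 1792))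
 (.node (nat_lit 0x1691580c800) (.leaf (nat_lit 0x1690600c800) (nat_lit 514))
 (.leaf (nat_lit 0x1691580c800) (nat_lit 1280))
)))) (.node (nat_lit 0x178a0c0c800) (.node (nat_lit 0x17837c0c800) (.node (nat_lit 0x1695dc0c800) (.leaf (nat_lit 0x1693f80c800) (nat_lit 1538))
 (.node (nat_lit 0x1780e40c800) (.leaf (nat_lit 0x1695dc0c800) (nat_lit 1024))
 (.leaf (nat_lit 0x1780e40c800) (nat_lit 1794))
)) (.node (nat_lit 0x1785f00c800) (.leaf (nat_lit 0x17837c0c800) (nat_lit 1026))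
 (.node (nat_lit 0x1787440c800) (.leaf (nat_lit 0x1785f00c800) (nat_lit 1536))
 (.leaf (nat_lit 0x1787440c800) (nat_lit 1792))
))) (.node (nat_lit 0x178be40c800) (.node (nat_lit 0x178a680c800) (.leaf (nat_lit 0x178a0c0c800) (nat_lit 1280))
 (.node (nat_lit 0x178b540c800) (.leaf (nat_lit 0x178a680c800) (nat_lit 1537))
 (.leaf (nat_lit 0x178b540c800) (nat_lit 257))
)) (.node (nat_lit 0x178d840c800) (.leaf (nat_lit 0x178be40c800) (nat_lit 1538))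
 (.node (nat_lit 0x1795900c800) (.leaf (nat_lit 0x178d840c800) (nat_lit 1024))
 (.leaf (nat_lit 0x1795900c800) (nat_lit 1792))
)))))))) (.node (nat_lit 0x2c837c0c800) (.node (nat_lit 0x1cea740c800) (.node (nat_lit 0x19e4880c800) (.node (nat_lit 0x19a5f00c800) (.node (nat_lit 0x194a680c800) (.node (nat_lit 0x1944600c800) (.node (nat_lit 0x19437c0c800) (.leaf (nat_lit 0x1943500c800) (nat_lit 1794))
 (.leaf (nat_lit 0x19437c0c800) (nat_lit 1538))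
) (.node (nat_lit 0x1945cc0c800) (.leaf (nat_lit 0x1944600c800) (nat_lit 1537))
 (.node (nat_lit 0x1947440c800) (.leaf (nat_lit 0x1945cc0c800) (nat_lit 1282))
 (.leaf (nat_lit 0x1947440c800) (nat_lit 1280))
))) (.node (nat_lit 0x1951640c800) (.node (nat_lit 0x1950600c800) (.leaf (nat_lit 0x194a680c800) (nat_lit 1537))
 (.node (nat_lit 0x1951580c800) (.leaf (nat_lit 0x1950600c800) (nat_lit 1282))
 (.leaf (nat_lit 0x1951580c800) (nat_lit 1280))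
)) (.node (nat_lit 0x1952500c800) (.leaf (nat_lit 0x1951640c800) (nat_lit 1536))
 (.node (nat_lit 0x19a2940c800) (.leaf (nat_lit 0x1952500c800) (nat_lit 1282))
 (.leaf (nat_lit 0x19a2940c800) (nat_lit 1538))
)))) (.node (nat_lit 0x19b2500c800) (.node (nat_lit 0x19ada00c800) (.node (nat_lit 0x19abe40c800) (.leaf (nat_lit 0x19a5f00c800) (nat_lit 1538))
 (.leaf (nat_lit 0x19abe40c800) (nat_lit 1280))
) (.node (nat_lit 0x19b0440c800) (.leaf (nat_lit 0x19ada00c800) (nat_lit 1026))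
 (.node (nat_lit 0x19b1640c800) (.leaf (nat_lit 0x19b0440c800) (nat_lit 1536))
 (.leaf (nat_lit 0x19b1640c800) (nat_lit 1025))
))) (.node (nat_lit 0x19b5e00c800) (.node (nat_lit 0x19b4040c800) (.leaf (nat_lit 0x19b2500c800) (nat_lit 1282))
 (.node (nat_lit 0x19b5dc0c800) (.leaf (nat_lit 0x19b4040c800) (nat_lit 1537))
 (.leaf (nat_lit 0x19b5dc0c800) (nat_lit 1281))
)) (.node (nat_lit 0x19e3500c800) (.leaf (nat_lit 0x19b5e00c800) (nat_lit 1280))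
 (.node (nat_lit 0x19e3580c800) (.leaf (nat_lit 0x19e3500c800) (nat_lit 1794))
 (.leaf (nat_lit 0x19e3580c800) (nat_lit 768))
))))) (.node (nat_lit 0x1b237c0c800) (.node (nat_lit 0x19f3f80c800) (.node (nat_lit 0x19ea680c800) (.node (nat_lit 0x19e7440c800) (.leaf (nat_lit 0x19e4880c800) (nat_lit 1282))
 (.leaf (nat_lit 0x19e7440c800) (nat_lit 1025))
) (.node (nat_lit 0x19f2c80c800) (.leaf (nat_lit 0x19ea680c800) (nat_lit 1794))
 (.node (nat_lit 0x19f3100c800) (.leaf (nat_lit 0x19f2c80c800) (nat_lit 1536))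
 (.leaf (nat_lit 0x19f3100c800) (nat_lit 768))
))) (.node (nat_lit 0x1b22940c800) (.node (nat_lit 0x19f5dc0c800) (.leaf (nat_lit 0x19f3f80c800) (nat_lit 1280))
 (.node (nat_lit 0x19f5e00c800) (.leaf (nat_lit 0x19f5dc0c800) (nat_lit 1538))
 (.leaf (nat_lit 0x19f5e00c800) (nat_lit 1282))
)) (.node (nat_lit 0x1b23500c800) (.leaf (nat_lit 0x1b22940c800) (nat_lit 1281))
 (.node (nat_lit 0x1b23580c800) (.leaf (nat_lit 0x1b23500c800) (nat_lit 1537))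
 (.leaf (nat_lit 0x1b23580c800) (nat_lit 1281))
)))) (.node (nat_lit 0x1b35dc0c800) (.node (nat_lit 0x1b2b540c800) (.node (nat_lit 0x1b24600c800) (.leaf (nat_lit 0x1b237c0c800) (nat_lit 1538))
 (.node (nat_lit 0x1b25f00c800) (.leaf (nat_lit 0x1b24600c800) (nat_lit 1792))
 (.leaf (nat_lit 0x1b25f00c800) (nat_lit 1536))
)) (.node (nat_lit 0x1b30600c800) (.leaf (nat_lit 0x1b2b540c800) (nat_lit 1538))
 (.node (nat_lit 0x1b34040c800) (.leaf (nat_lit 0x1b30600c800) (nat_lit 256))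
 (.leaf (nat_lit 0x1b34040c800) (nat_lit 1794))
))) (.node (nat_lit 0x1ce6740c800) (.node (nat_lit 0x1ce2940c800) (.leaf (nat_lit 0x1b35dc0c800) (nat_lit 1536))
 (.node (nat_lit 0x1ce3580c800) (.leaf (nat_lit 0x1ce2940c800) (nat_lit 1792))
 (.leaf (nat_lit 0x1ce3580c800) (nat_lit 1537))
)) (.node (nat_lit 0x1ce7440c800) (.leaf (nat_lit 0x1ce6740c800) (nat_lit 1025))
 (.node (nat_lit 0x1cea680c800) (.leaf (nat_lit 0x1ce7440c800) (nat_lit 1538))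
 (.leaf (nat_lit 0x1cea680c800) (nat_lit 1792))
)))))) (.node (nat_lit 0x21f2500c800) (.node (nat_lit 0x1ed3880c800) (.node (nat_lit 0x1ec0e40c800) (.node (nat_lit 0x1ceda00c800) (.node (nat_lit 0x1ceb540c800) (.leaf (nat_lit 0x1cea740c800) (nat_lit 1281))
 (.leaf (nat_lit 0x1ceb540c800) (nat_lit 1280))
) (.node (nat_lit 0x1cefd80c800) (.leaf (nat_lit 0x1ceda00c800) (nat_lit 1024))
 (.node (nat_lit 0x1cf4040c800) (.leaf (nat_lit 0x1cefd80c800) (nat_lit 1025))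
 (.leaf (nat_lit 0x1cf4040c800) (nat_lit 1282))
))) (.node (nat_lit 0x1ec6740c800) (.node (nat_lit 0x1ec2940c800) (.leaf (nat_lit 0x1ec0e40c800) (nat_lit 1282))
 (.node (nat_lit 0x1ec5cc0c800) (.leaf (nat_lit 0x1ec2940c800) (nat_lit 1281))
 (.leaf (nat_lit 0x1ec5cc0c800) (nat_lit 1793))
)) (.node (nat_lit 0x1ed0600c800) (.leaf (nat_lit 0x1ec6740c800) (nat_lit 1537))
 (.node (nat_lit 0x1ed2c80c800) (.leaf (nat_lit 0x1ed0600c800) (nat_lit 1793))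
 (.leaf (nat_lit 0x1ed2c80c800) (nat_lit 1026))
)))) (.node (nat_lit 0x21e37c0c800) (.node (nat_lit 0x1ed5900c800) (.node (nat_lit 0x1ed3f80c800) (.leaf (nat_lit 0x1ed3880c800) (nat_lit 1280))
 (.leaf (nat_lit 0x1ed3f80c800) (nat_lit 1538))
) (.node (nat_lit 0x1ed5e00c800) (.leaf (nat_lit 0x1ed5900c800) (nat_lit 1026))
 (.node (nat_lit 0x21e0e40c800) (.leaf (nat_lit 0x1ed5e00c800) (nat_lit 1536))
 (.leaf (nat_lit 0x21e0e40c800) (nat_lit 1794))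
))) (.node (nat_lit 0x21ea680c800) (.node (nat_lit 0x21e4600c800) (.leaf (nat_lit 0x21e37c0c800) (nat_lit 1282))
 (.node (nat_lit 0x21ea480c800) (.leaf (nat_lit 0x21e4600c800) (nat_lit 1793))
 (.leaf (nat_lit 0x21ea480c800) (nat_lit 768))
)) (.node (nat_lit 0x21ea700c800) (.leaf (nat_lit 0x21ea680c800) (nat_lit 1538))
 (.node (nat_lit 0x21ed840c800) (.leaf (nat_lit 0x21ea700c800) (nat_lit 1281))
 (.leaf (nat_lit 0x21ed840c800) (nat_lit 1794))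
))))) (.node (nat_lit 0x2553100c800) (.node (nat_lit 0x254a680c800) (.node (nat_lit 0x21f4040c800) (.node (nat_lit 0x21f3f80c800) (.leaf (nat_lit 0x21f2500c800) (nat_lit 1281))
 (.leaf (nat_lit 0x21f3f80c800) (nat_lit 1026))
) (.node (nat_lit 0x2546740c800) (.leaf (nat_lit 0x21f4040c800) (nat_lit 1536))
 (.node (nat_lit 0x254a480c800) (.leaf (nat_lit 0x2546740c800) (nat_lit 1794))
 (.leaf (nat_lit 0x254a480c800) (nat_lit 1537))
))) (.node (nat_lit 0x2551640c800) (.node (nat_lit 0x254b540c800) (.leaf (nat_lit 0x254a680c800) (nat_lit 1538))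
 (.node (nat_lit 0x2550440c800) (.leaf (nat_lit 0x254b540c800) (nat_lit 1538))
 (.leaf (nat_lit 0x2550440c800) (nat_lit 1536))
)) (.node (nat_lit 0x2551fc0c800) (.leaf (nat_lit 0x2551640c800) (nat_lit 1538))
 (.node (nat_lit 0x2552c80c800) (.leaf (nat_lit 0x2551fc0c800) (nat_lit 1792))
 (.leaf (nat_lit 0x2552c80c800) (nat_lit 1281))
)))) (.node (nat_lit 0x268d840c800) (.node (nat_lit 0x2683500c800) (.node (nat_lit 0x2555dc0c800) (.leaf (nat_lit 0x2553100c800) (nat_lit 1538))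
 (.node (nat_lit 0x2680e40c800) (.leaf (nat_lit 0x2555dc0c800) (nat_lit 1282))
 (.leaf (nat_lit 0x2680e40c800) (nat_lit 1537))
)) (.node (nat_lit 0x2685cc0c800) (.leaf (nat_lit 0x2683500c800) (nat_lit 512))
 (.node (nat_lit 0x268a480c800) (.leaf (nat_lit 0x2685cc0c800) (nat_lit 1025))
 (.leaf (nat_lit 0x268a480c800) (nat_lit 1794))
))) (.node (nat_lit 0x2693100c800) (.node (nat_lit 0x268da00c800) (.leaf (nat_lit 0x268d840c800) (nat_lit 1538))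
 (.node (nat_lit 0x268fd80c800) (.leaf (nat_lit 0x268da00c800) (nat_lit 1281))
 (.leaf (nat_lit 0x268fd80c800) (nat_lit 1794))
)) (.node (nat_lit 0x2694040c800) (.leaf (nat_lit 0x2693100c800) (nat_lit 2050))
 (.node (nat_lit 0x2695900c800) (.leaf (nat_lit 0x2694040c800) (nat_lit 1537))
 (.leaf (nat_lit 0x2695900c800) (nat_lit 1792))
))))))) (.node (nat_lit 0x4771640c800) (.node (nat_lit 0x328a700c800) (.node (nat_lit 0x30c3500c800) (.node (nat_lit 0x2c91640c800) (.node (nat_lit 0x2c85f00c800) (.node (nat_lit 0x2c84880c800) (.leaf (nat_lit 0x2c837c0c800) (nat_lit 1792))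
 (.leaf (nat_lit 0x2c84880c800) (nat_lit 1280))
) (.node (nat_lit 0x2c8a740c800) (.leaf (nat_lit 0x2c85f00c800) (nat_lit 1282))
 (.node (nat_lit 0x2c8fd80c800) (.leaf (nat_lit 0x2c8a740c800) (nat_lit 1024))
 (.leaf (nat_lit 0x2c8fd80c800) (nat_lit 514))
))) (.node (nat_lit 0x2c94040c800) (.node (nat_lit 0x2c91fc0c800) (.leaf (nat_lit 0x2c91640c800) (nat_lit 1281))
 (.node (nat_lit 0x2c92c80c800) (.leaf (nat_lit 0x2c91fc0c800) (nat_lit 1538))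
 (.leaf (nat_lit 0x2c92c80c800) (nat_lit 1794))
)) (.node (nat_lit 0x2c95e00c800) (.leaf (nat_lit 0x2c94040c800) (nat_lit 1536))
 (.node (nat_lit 0x30c2940c800) (.leaf (nat_lit 0x2c95e00c800) (nat_lit 2050))
 (.leaf (nat_lit 0x30c2940c800) (nat_lit 1281))
)))) (.node (nat_lit 0x30d1640c800) (.node (nat_lit 0x30c7440c800) (.node (nat_lit 0x30c4880c800) (.leaf (nat_lit 0x30c3500c800) (nat_lit 1793))
 (.leaf (nat_lit 0x30c4880c800) (nat_lit 1536))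
) (.node (nat_lit 0x30cd840c800) (.leaf (nat_lit 0x30c7440c800) (nat_lit 1281))
 (.node (nat_lit 0x30d0600c800) (.leaf (nat_lit 0x30cd840c800) (nat_lit 1536))
 (.leaf (nat_lit 0x30d0600c800) (nat_lit 1026))
))) (.node (nat_lit 0x30d3f80c800) (.node (nat_lit 0x30d1fc0c800) (.leaf (nat_lit 0x30d1640c800) (nat_lit 1538))
 (.node (nat_lit 0x30d2080c800) (.leaf (nat_lit 0x30d1fc0c800) (nat_lit 1026))
 (.leaf (nat_lit 0x30d2080c800) (nat_lit 1281))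
)) (.node (nat_lit 0x328a0c0c800) (.leaf (nat_lit 0x30d3f80c800) (nat_lit 1024))
 (.node (nat_lit 0x328a480c800) (.leaf (nat_lit 0x328a0c0c800) (nat_lit 1281))
 (.leaf (nat_lit 0x328a480c800) (nat_lit 1280))
))))) (.node (nat_lit 0x32ca480c800) (.node (nat_lit 0x3292c80c800) (.node (nat_lit 0x328da00c800) (.node (nat_lit 0x328be40c800) (.leaf (nat_lit 0x328a700c800) (nat_lit 514))
 (.leaf (nat_lit 0x328be40c800) (nat_lit 1025))
) (.node (nat_lit 0x3290600c800) (.leaf (nat_lit 0x328da00c800) (nat_lit 1793))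
 (.node (nat_lit 0x3291580c800) (.leaf (nat_lit 0x3290600c800) (nat_lit 1793))
 (.leaf (nat_lit 0x3291580c800) (nat_lit 1794))
))) (.node (nat_lit 0x32c4880c800) (.node (nat_lit 0x3293f80c800) (.leaf (nat_lit 0x3292c80c800) (nat_lit 1281))
 (.node (nat_lit 0x3294040c800) (.leaf (nat_lit 0x3293f80c800) (nat_lit 1537))
 (.leaf (nat_lit 0x3294040c800) (nat_lit 512))
)) (.node (nat_lit 0x32c5cc0c800) (.leaf (nat_lit 0x32c4880c800) (nat_lit 1794))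
 (.node (nat_lit 0x32c5f00c800) (.leaf (nat_lit 0x32c5cc0c800) (nat_lit 1538))
 (.leaf (nat_lit 0x32c5f00c800) (nat_lit 1024))
)))) (.node (nat_lit 0x32d3880c800) (.node (nat_lit 0x32d1580c800) (.node (nat_lit 0x32ca680c800) (.leaf (nat_lit 0x32ca480c800) (nat_lit 1025))
 (.node (nat_lit 0x32cb540c800) (.leaf (nat_lit 0x32ca680c800) (nat_lit 1026))
 (.leaf (nat_lit 0x32cb540c800) (nat_lit 2050))
)) (.node (nat_lit 0x32d2080c800) (.leaf (nat_lit 0x32d1580c800) (nat_lit 1537))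
 (.node (nat_lit 0x32d2500c800) (.leaf (nat_lit 0x32d2080c800) (nat_lit 1281))
 (.leaf (nat_lit 0x32d2500c800) (nat_lit 1793))
))) (.node (nat_lit 0x476a700c800) (.node (nat_lit 0x4764600c800) (.leaf (nat_lit 0x32d3880c800) (nat_lit 1536))
 (.node (nat_lit 0x4765f00c800) (.leaf (nat_lit 0x4764600c800) (nat_lit 1536))
 (.leaf (nat_lit 0x4765f00c800) (nat_lit 770))
)) (.node (nat_lit 0x476b540c800) (.leaf (nat_lit 0x476a700c800) (nat_lit 1536))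
 (.node (nat_lit 0x476fd80c800) (.leaf (nat_lit 0x476b540c800) (nat_lit 1538))
 (.leaf (nat_lit 0x476fd80c800) (nat_lit 1280))
)))))) (.node (nat_lit 0x6611640c800) (.node (nat_lit 0x5bf1640c800) (.node (nat_lit 0x5be0e40c800) (.node (nat_lit 0x4772c80c800) (.node (nat_lit 0x4772500c800) (.leaf (nat_lit 0x4771640c800) (nat_lit 1537))
 (.leaf (nat_lit 0x4772500c800) (nat_lit 1536))
) (.node (nat_lit 0x4773100c800) (.leaf (nat_lit 0x4772c80c800) (nat_lit 1793))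
 (.node (nat_lit 0x4773f80c800) (.leaf (nat_lit 0x4773100c800) (nat_lit 1025))
 (.leaf (nat_lit 0x4773f80c800) (nat_lit 1537))
))) (.node (nat_lit 0x5be7440c800) (.node (nat_lit 0x5be3580c800) (.leaf (nat_lit 0x5be0e40c800) (nat_lit 1280))
 (.node (nat_lit 0x5be5cc0c800) (.leaf (nat_lit 0x5be3580c800) (nat_lit 1026))
 (.leaf (nat_lit 0x5be5cc0c800) (nat_lit 1792))
)) (.node (nat_lit 0x5bea700c800) (.leaf (nat_lit 0x5be7440c800) (nat_lit 513))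
 (.node (nat_lit 0x5bf1580c800) (.leaf (nat_lit 0x5bea700c800) (nat_lit 1536))
 (.leaf (nat_lit 0x5bf1580c800) (nat_lit 1794))
)))) (.node (nat_lit 0x6603580c800) (.node (nat_lit 0x5bf3880c800) (.node (nat_lit 0x5bf1fc0c800) (.leaf (nat_lit 0x5bf1640c800) (nat_lit 1282))
 (.leaf (nat_lit 0x5bf1fc0c800) (nat_lit 1024))
) (.node (nat_lit 0x5bf5dc0c800) (.leaf (nat_lit 0x5bf3880c800) (nat_lit 1794))
 (.node (nat_lit 0x6600e40c800) (.leaf (nat_lit 0x5bf5dc0c800) (nat_lit 1793))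
 (.leaf (nat_lit 0x6600e40c800) (nat_lit 1024))
))) (.node (nat_lit 0x6606740c800) (.node (nat_lit 0x6604600c800) (.leaf (nat_lit 0x6603580c800) (nat_lit 2050))
 (.node (nat_lit 0x6604880c800) (.leaf (nat_lit 0x6604600c800) (nat_lit 1282))
 (.leaf (nat_lit 0x6604880c800) (nat_lit 1536))
)) (.node (nat_lit 0x660be40c800) (.leaf (nat_lit 0x6606740c800) (nat_lit 1538))
 (.node (nat_lit 0x6611580c800) (.leaf (nat_lit 0x660be40c800) (nat_lit 1794))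
 (.leaf (nat_lit 0x6611580c800) (nat_lit 769))
))))) (.node (nat_lit 0x6773f80c800) (.node (nat_lit 0x67637c0c800) (.node (nat_lit 0x6615900c800) (.node (nat_lit 0x6612080c800) (.leaf (nat_lit 0x6611640c800) (nat_lit 1538))
 (.leaf (nat_lit 0x6612080c800) (nat_lit 1537))
) (.node (nat_lit 0x6763500c800) (.leaf (nat_lit 0x6615900c800) (nat_lit 1026))
 (.node (nat_lit 0x6763580c800) (.leaf (nat_lit 0x6763500c800) (nat_lit 1538))
 (.leaf (nat_lit 0x6763580c800) (nat_lit 2050))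
))) (.node (nat_lit 0x676b540c800) (.node (nat_lit 0x6765cc0c800) (.leaf (nat_lit 0x67637c0c800) (nat_lit 512))
 (.node (nat_lit 0x6766740c800) (.leaf (nat_lit 0x6765cc0c800) (nat_lit 1282))
 (.leaf (nat_lit 0x6766740c800) (nat_lit 2049))
)) (.node (nat_lit 0x676be40c800) (.leaf (nat_lit 0x676b540c800) (nat_lit 1281))
 (.node (nat_lit 0x676d840c800) (.leaf (nat_lit 0x676be40c800) (nat_lit 1536))
 (.leaf (nat_lit 0x676d840c800) (nat_lit 1792))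
)))) (.node (nat_lit 0x8dcd840c800) (.node (nat_lit 0x8dc3500c800) (.node (nat_lit 0x6775e00c800) (.leaf (nat_lit 0x6773f80c800) (nat_lit 1282))
 (.node (nat_lit 0x8dc2940c800) (.leaf (nat_lit 0x6775e00c800) (nat_lit 1281))
 (.leaf (nat_lit 0x8dc2940c800) (nat_lit 1538))
)) (.node (nat_lit 0x8dca700c800) (.leaf (nat_lit 0x8dc3500c800) (nat_lit 1024))
 (.node (nat_lit 0x8dca740c800) (.leaf (nat_lit 0x8dca700c800) (nat_lit 1537))
 (.leaf (nat_lit 0x8dca740c800) (nat_lit 1794))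
))) (.node (nat_lit 0x8dd2c80c800) (.node (nat_lit 0x8dd0440c800) (.leaf (nat_lit 0x8dcd840c800) (nat_lit 1280))
 (.node (nat_lit 0x8dd1580c800) (.leaf (nat_lit 0x8dd0440c800) (nat_lit 769))
 (.leaf (nat_lit 0x8dd1580c800) (nat_lit 1792))
)) (.node (nat_lit 0x8dd3880c800) (.leaf (nat_lit 0x8dd2c80c800) (nat_lit 1024))
 (.node (nat_lit 0x8dd5900c800) (.leaf (nat_lit 0x8dd3880c800) (nat_lit 1282))
 (.leaf (nat_lit 0x8dd5900c800) (nat_lit 1794))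
)))))))))

theorem J_ok : genOK A [(nat_lit 0x1b30600c800), (nat_lit 0x178b540c800), (nat_lit 0x415e00c800)] J_t (nat_lit 360) = true := by decide +kernel

/-- A listed subgroup. -/
noncomputable def G96_t : ST :=
(.node (nat_lit 0x45cefc2d0ea) (.node (nat_lit 0x36c1a42d0ea) (.node (nat_lit 0x19e3500c800) (.node (nat_lit 0x1027440c800) (.node (nat_lit 0x9d1640c800) (.node (nat_lit 0x2b540c800) (.leaf (nat_lit 0x20e40c800) (nat_lit 0))
 (.node (nat_lit 0x9ca0c0c800) (.leaf (nat_lit 0x2b540c800) (nat_lit 1027))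
 (.leaf (nat_lit 0x9ca0c0c800) (nat_lit 514))
)) (.node (nat_lit 0xe8a0c0c800) (.leaf (nat_lit 0x9d1640c800) (nat_lit 1026))
 (.node (nat_lit 0xe91640c800) (.leaf (nat_lit 0xe8a0c0c800) (nat_lit 1282))
 (.leaf (nat_lit 0xe91640c800) (nat_lit 258))
))) (.node (nat_lit 0x140b904dc16) (.node (nat_lit 0x1033880c800) (.leaf (nat_lit 0x1027440c800) (nat_lit 1538))
 (.node (nat_lit 0x1409e04dc16) (.leaf (nat_lit 0x1033880c800) (nat_lit 771))
 (.leaf (nat_lit 0x1409e04dc16) (nat_lit 1537))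
)) (.node (nat_lit 0x1780e40c800) (.leaf (nat_lit 0x140b904dc16) (nat_lit 1282))
 (.node (nat_lit 0x178b540c800) (.leaf (nat_lit 0x1780e40c800) (nat_lit 768))
 (.leaf (nat_lit 0x178b540c800) (nat_lit 259))
)))) (.node (nat_lit 0x28a8d448d6a) (.node (nat_lit 0x1b34040c800) (.node (nat_lit 0x19f3100c800) (.leaf (nat_lit 0x19e3500c800) (nat_lit 1283))
 (.node (nat_lit 0x1b30600c800) (.leaf (nat_lit 0x19f3100c800) (nat_lit 771))
 (.leaf (nat_lit 0x1b30600c800) (nat_lit 770))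
)) (.node (nat_lit 0x2683500c800) (.leaf (nat_lit 0x1b34040c800) (nat_lit 1024))
 (.node (nat_lit 0x2693100c800) (.leaf (nat_lit 0x2683500c800) (nat_lit 515))
 (.leaf (nat_lit 0x2693100c800) (nat_lit 1539))
))) (.node (nat_lit 0x2c92c80c800) (.node (nat_lit 0x28a99c48d6a) (.leaf (nat_lit 0x28a8d448d6a) (nat_lit 1025))
 (.node (nat_lit 0x2c8a740c800) (.leaf (nat_lit 0x28a99c48d6a) (nat_lit 515))
 (.leaf (nat_lit 0x2c8a740c800) (nat_lit 1026))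
)) (.node (nat_lit 0x3290600c800) (.leaf (nat_lit 0x2c92c80c800) (nat_lit 1538))
 (.node (nat_lit 0x3294040c800) (.leaf (nat_lit 0x3290600c800) (nat_lit 1280))
 (.leaf (nat_lit 0x3294040c800) (nat_lit 514))
))))) (.node (nat_lit 0x3e03e848d6a) (.node (nat_lit 0x39418448d6a) (.node (nat_lit 0x36f3bc4dc16) (.node (nat_lit 0x36c2dc2d0ea) (.leaf (nat_lit 0x36c1a42d0ea) (nat_lit 1027))
 (.node (nat_lit 0x36eb004dc16) (.leaf (nat_lit 0x36c2dc2d0ea) (nat_lit 1282))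
 (.leaf (nat_lit 0x36eb004dc16) (nat_lit 1283))
)) (.node (nat_lit 0x38e04848d6a) (.leaf (nat_lit 0x36f3bc4dc16) (nat_lit 1283))
 (.node (nat_lit 0x38eb2048d6a) (.leaf (nat_lit 0x38e04848d6a) (nat_lit 1027))
 (.leaf (nat_lit 0x38eb2048d6a) (nat_lit 1539))
))) (.node (nat_lit 0x3bd3bc4dc16) (.node (nat_lit 0x394fd048d6a) (.leaf (nat_lit 0x39418448d6a) (nat_lit 1539))
 (.node (nat_lit 0x3bcb004dc16) (.leaf (nat_lit 0x394fd048d6a) (nat_lit 1026))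
 (.leaf (nat_lit 0x3bcb004dc16) (nat_lit 1539))
)) (.node (nat_lit 0x3c28002d0ea) (.leaf (nat_lit 0x3bd3bc4dc16) (nat_lit 1027))
 (.node (nat_lit 0x3c335c2d0ea) (.leaf (nat_lit 0x3c28002d0ea) (nat_lit 771))
 (.leaf (nat_lit 0x3c335c2d0ea) (nat_lit 256))
)))) (.node (nat_lit 0x4482b44dc16) (.node (nat_lit 0x410c5048d6a) (.node (nat_lit 0x3e093c48d6a) (.leaf (nat_lit 0x3e03e848d6a) (nat_lit 1537))
 (.node (nat_lit 0x410af048d6a) (.leaf (nat_lit 0x3e093c48d6a) (nat_lit 513))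
 (.leaf (nat_lit 0x410af048d6a) (nat_lit 1794))
)) (.node (nat_lit 0x426af048d6a) (.leaf (nat_lit 0x410c5048d6a) (nat_lit 1282))
 (.node (nat_lit 0x426c5048d6a) (.leaf (nat_lit 0x426af048d6a) (nat_lit 1026))
 (.leaf (nat_lit 0x426c5048d6a) (nat_lit 1793))
))) (.node (nat_lit 0x44ab904dc16) (.node (nat_lit 0x4494104dc16) (.leaf (nat_lit 0x4482b44dc16) (nat_lit 1281))
 (.node (nat_lit 0x44a9e04dc16) (.leaf (nat_lit 0x4494104dc16) (nat_lit 768))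
 (.leaf (nat_lit 0x44a9e04dc16) (nat_lit 1538))
)) (.node (nat_lit 0x45604848d6a) (.leaf (nat_lit 0x44ab904dc16) (nat_lit 1538))
 (.node (nat_lit 0x456b2048d6a) (.leaf (nat_lit 0x45604848d6a) (nat_lit 1795))
 (.leaf (nat_lit 0x456b2048d6a) (nat_lit 771))
)))))) (.node (nat_lit 0x7e03e848d6a) (.node (nat_lit 0x6e438c4dc16) (.node (nat_lit 0x6acefc2d0ea) (.node (nat_lit 0x5bf3880c800) (.node (nat_lit 0x45d5282d0ea) (.leaf (nat_lit 0x45cefc2d0ea) (nat_lit 514))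
 (.node (nat_lit 0x5be7440c800) (.leaf (nat_lit 0x45d5282d0ea) (nat_lit 1026))
 (.leaf (nat_lit 0x5be7440c800) (nat_lit 770))
)) (.node (nat_lit 0x67919c2d0ea) (.leaf (nat_lit 0x5bf3880c800) (nat_lit 1283))
 (.node (nat_lit 0x6794c42d0ea) (.leaf (nat_lit 0x67919c2d0ea) (nat_lit 1283))
 (.leaf (nat_lit 0x6794c42d0ea) (nat_lit 771))
))) (.node (nat_lit 0x6b09602d0ea) (.node (nat_lit 0x6ad5282d0ea) (.leaf (nat_lit 0x6acefc2d0ea) (nat_lit 770))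
 (.node (nat_lit 0x6b06bc2d0ea) (.leaf (nat_lit 0x6ad5282d0ea) (nat_lit 770))
 (.leaf (nat_lit 0x6b06bc2d0ea) (nat_lit 1025))
)) (.node (nat_lit 0x6d93a82d0ea) (.leaf (nat_lit 0x6b09602d0ea) (nat_lit 770))
 (.node (nat_lit 0x6d94a82d0ea) (.leaf (nat_lit 0x6d93a82d0ea) (nat_lit 1282))
 (.leaf (nat_lit 0x6d94a82d0ea) (nat_lit 1538))
)))) (.node (nat_lit 0x7b88002d0ea) (.node (nat_lit 0x7314a82d0ea) (.node (nat_lit 0x6e46084dc16) (.leaf (nat_lit 0x6e438c4dc16) (nat_lit 1538))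
 (.node (nat_lit 0x7313a82d0ea) (.leaf (nat_lit 0x6e46084dc16) (nat_lit 1027))
 (.leaf (nat_lit 0x7313a82d0ea) (nat_lit 1282))
)) (.node (nat_lit 0x736a204dc16) (.leaf (nat_lit 0x7314a82d0ea) (nat_lit 1282))
 (.node (nat_lit 0x736a384dc16) (.leaf (nat_lit 0x736a204dc16) (nat_lit 771))
 (.leaf (nat_lit 0x736a384dc16) (nat_lit 769))
))) (.node (nat_lit 0x7be6084dc16) (.node (nat_lit 0x7b935c2d0ea) (.leaf (nat_lit 0x7b88002d0ea) (nat_lit 515))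
 (.node (nat_lit 0x7be38c4dc16) (.leaf (nat_lit 0x7b935c2d0ea) (nat_lit 513))
 (.leaf (nat_lit 0x7be38c4dc16) (nat_lit 1282))
)) (.node (nat_lit 0x7ce1a42d0ea) (.leaf (nat_lit 0x7be6084dc16) (nat_lit 1283))
 (.node (nat_lit 0x7ce2dc2d0ea) (.leaf (nat_lit 0x7ce1a42d0ea) (nat_lit 1027))
 (.leaf (nat_lit 0x7ce2dc2d0ea) (nat_lit 1026))
))))) (.node (nat_lit 0x87c2b44dc16) (.node (nat_lit 0x81b19c2d0ea) (.node (nat_lit 0x7fa9602d0ea) (.node (nat_lit 0x7e093c48d6a) (.leaf (nat_lit 0x7e03e848d6a) (nat_lit 769))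
 (.node (nat_lit 0x7fa6bc2d0ea) (.leaf (nat_lit 0x7e093c48d6a) (nat_lit 1281))
 (.leaf (nat_lit 0x7fa6bc2d0ea) (nat_lit 1026))
)) (.node (nat_lit 0x80845c48d6a) (.leaf (nat_lit 0x7fa9602d0ea) (nat_lit 769))
 (.node (nat_lit 0x80883848d6a) (.leaf (nat_lit 0x80845c48d6a) (nat_lit 770))
 (.leaf (nat_lit 0x80883848d6a) (nat_lit 1282))
))) (.node (nat_lit 0x84ea384dc16) (.node (nat_lit 0x81b4c42d0ea) (.leaf (nat_lit 0x81b19c2d0ea) (nat_lit 1027))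
 (.node (nat_lit 0x84ea204dc16) (.leaf (nat_lit 0x81b4c42d0ea) (nat_lit 1027))
 (.leaf (nat_lit 0x84ea204dc16) (nat_lit 1027))
)) (.node (nat_lit 0x86c45c48d6a) (.leaf (nat_lit 0x84ea384dc16) (nat_lit 512))
 (.node (nat_lit 0x86c83848d6a) (.leaf (nat_lit 0x86c45c48d6a) (nat_lit 1538))
 (.leaf (nat_lit 0x86c83848d6a) (nat_lit 514))
)))) (.node (nat_lit 0x98e4084dc16) (.node (nat_lit 0x8dd2c80c800) (.node (nat_lit 0x87d4104dc16) (.leaf (nat_lit 0x87c2b44dc16) (nat_lit 1024))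
 (.node (nat_lit 0x8dca740c800) (.leaf (nat_lit 0x87d4104dc16) (nat_lit 1025))
 (.leaf (nat_lit 0x8dca740c800) (nat_lit 1794))
)) (.node (nat_lit 0x9168d448d6a) (.leaf (nat_lit 0x8dd2c80c800) (nat_lit 1026))
 (.node (nat_lit 0x91699c48d6a) (.leaf (nat_lit 0x9168d448d6a) (nat_lit 257))
 (.leaf (nat_lit 0x91699c48d6a) (nat_lit 1283))
))) (.node (nat_lit 0xa6d1e44dc16) (.node (nat_lit 0x98f1e44dc16) (.leaf (nat_lit 0x98e4084dc16) (nat_lit 1282))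
 (.node (nat_lit 0xa6c4084dc16) (.leaf (nat_lit 0x98f1e44dc16) (nat_lit 770))
 (.leaf (nat_lit 0xa6c4084dc16) (nat_lit 1026))
)) (.node (nat_lit 0xa7218448d6a) (.leaf (nat_lit 0xa6d1e44dc16) (nat_lit 1026))
 (.node (nat_lit 0xa72fd048d6a) (.leaf (nat_lit 0xa7218448d6a) (nat_lit 771))
 (.leaf (nat_lit 0xa72fd048d6a) (nat_lit 1794))
)))))))

theorem G96_ok : genOK A [(nat_lit 0x3c335c2d0ea), (nat_lit 0x9168d448d6a), (nat_lit 0xe91640c800), (nat_lit 0x178b540c800)] G96_t (nat_lit 96) = true := by decide +kernel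

/-- A listed class. -/
noncomputable def sW_t : ST :=
(.node (nat_lit 0x2693100c800) (.node (nat_lit 0xfe0f0b6991) (.node (nat_lit 0x48acc0c800) (.node (nat_lit 0x33bc0c800) (.node (nat_lit 0x28080c800) (.node (nat_lit 0x26740c800) (.node (nat_lit 0x24880c800) (.leaf (nat_lit 0x22dc0c800) (nat_lit 2051))
 (.node (nat_lit 0x26040c800) (.leaf (nat_lit 0x24880c800) (nat_lit 1794))
 (.leaf (nat_lit 0x26040c800) (nat_lit 1282))
)) (.node (nat_lit 0x27400c800) (.leaf (nat_lit 0x26740c800) (nat_lit 1539))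
 (.node (nat_lit 0x275c0c800) (.leaf (nat_lit 0x27400c800) (nat_lit 1538))
 (.leaf (nat_lit 0x275c0c800) (nat_lit 1795))
))) (.node (nat_lit 0x2d240c800) (.node (nat_lit 0x2b300c800) (.leaf (nat_lit 0x28080c800) (nat_lit 1539))
 (.node (nat_lit 0x2b540c800) (.leaf (nat_lit 0x2b300c800) (nat_lit 1795))
 (.leaf (nat_lit 0x2b540c800) (nat_lit 2050))
)) (.node (nat_lit 0x30700c800) (.node (nat_lit 0x30400c800) (.leaf (nat_lit 0x2d240c800) (nat_lit 2051))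
 (.leaf (nat_lit 0x30400c800) (nat_lit 1794))
) (.node (nat_lit 0x33100c800) (.leaf (nat_lit 0x30700c800) (nat_lit 2051))
 (.leaf (nat_lit 0x33100c800) (nat_lit 2050))
)))) (.node (nat_lit 0xcb8c0c800) (.node (nat_lit 0xa674b6991) (.node (nat_lit 0x35e00c800) (.leaf (nat_lit 0x33bc0c800) (nat_lit 1794))
 (.node (nat_lit 0xa0e4b6991) (.leaf (nat_lit 0x35e00c800) (nat_lit 1795))
 (.leaf (nat_lit 0xa0e4b6991) (nat_lit 2562))
)) (.node (nat_lit 0xa75cb6991) (.leaf (nat_lit 0xa674b6991) (nat_lit 771))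
 (.node (nat_lit 0xca0c0c800) (.leaf (nat_lit 0xa75cb6991) (nat_lit 2307))
 (.leaf (nat_lit 0xca0c0c800) (nat_lit 1283))
))) (.node (nat_lit 0xd3140c800) (.node (nat_lit 0xcc600c800) (.leaf (nat_lit 0xcb8c0c800) (nat_lit 2050))
 (.node (nat_lit 0xcda00c800) (.leaf (nat_lit 0xcc600c800) (nat_lit 2051))
 (.leaf (nat_lit 0xcda00c800) (nat_lit 1795))
)) (.node (nat_lit 0x1a3c80c800) (.node (nat_lit 0xd45c0c800) (.leaf (nat_lit 0xd3140c800) (nat_lit 2306))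
 (.leaf (nat_lit 0xd45c0c800) (nat_lit 1795))
) (.node (nat_lit 0x1b2080c800) (.leaf (nat_lit 0x1a3c80c800) (nat_lit 770))
 (.leaf (nat_lit 0x1b2080c800) (nat_lit 1283))
))))) (.node (nat_lit 0x9d1640c800) (.node (nat_lit 0x68e000c800) (.node (nat_lit 0x5c46c0c800) (.node (nat_lit 0x48b1c0c800) (.leaf (nat_lit 0x48acc0c800) (nat_lit 1538))
 (.node (nat_lit 0x5c2940c800) (.leaf (nat_lit 0x48b1c0c800) (nat_lit 1282))
 (.leaf (nat_lit 0x5c2940c800) (nat_lit 2306))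
)) (.node (nat_lit 0x66dbc0c800) (.leaf (nat_lit 0x5c46c0c800) (nat_lit 1282))
 (.node (nat_lit 0x675700c800) (.leaf (nat_lit 0x66dbc0c800) (nat_lit 2563))
 (.leaf (nat_lit 0x675700c800) (nat_lit 1026))
))) (.node (nat_lit 0x873880c800) (.node (nat_lit 0x690600c800) (.leaf (nat_lit 0x68e000c800) (nat_lit 1538))
 (.node (nat_lit 0x86a680c800) (.leaf (nat_lit 0x690600c800) (nat_lit 1539))
 (.leaf (nat_lit 0x86a680c800) (nat_lit 1794))
)) (.node (nat_lit 0x944600c800) (.node (nat_lit 0x942980c800) (.leaf (nat_lit 0x873880c800) (nat_lit 1539))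
 (.leaf (nat_lit 0x942980c800) (nat_lit 2307))
) (.node (nat_lit 0x9c95c0c800) (.leaf (nat_lit 0x944600c800) (nat_lit 1283))
 (.leaf (nat_lit 0x9c95c0c800) (nat_lit 1538))
)))) (.node (nat_lit 0xf22dc0c800) (.node (nat_lit 0xe838c0c800) (.node (nat_lit 0xa837c0c800) (.leaf (nat_lit 0x9d1640c800) (nat_lit 2563))
 (.node (nat_lit 0xa90440c800) (.leaf (nat_lit 0xa837c0c800) (nat_lit 2307))
 (.leaf (nat_lit 0xa90440c800) (nat_lit 2819))
)) (.node (nat_lit 0xe90440c800) (.leaf (nat_lit 0xe838c0c800) (nat_lit 1282))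
 (.node (nat_lit 0xf20e40c800) (.leaf (nat_lit 0xe90440c800) (nat_lit 2563))
 (.leaf (nat_lit 0xf20e40c800) (nat_lit 2562))
))) (.node (nat_lit 0xfcc400c800) (.node (nat_lit 0xfc46c0c800) (.leaf (nat_lit 0xf22dc0c800) (nat_lit 1026))
 (.node (nat_lit 0xfc8580c800) (.leaf (nat_lit 0xfc46c0c800) (nat_lit 2051))
 (.leaf (nat_lit 0xfc8580c800) (nat_lit 2051))
)) (.node (nat_lit 0xfcfd80c800) (.node (nat_lit 0xfcc800c800) (.leaf (nat_lit 0xfcc400c800) (nat_lit 2051))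
 (.leaf (nat_lit 0xfcc800c800) (nat_lit 1795))
) (.node (nat_lit 0xfd2080c800) (.leaf (nat_lit 0xfcfd80c800) (nat_lit 1283))
 (.leaf (nat_lit 0xfd2080c800) (nat_lit 1539))
)))))) (.node (nat_lit 0x19a2940c800) (.node (nat_lit 0x12c58c0c800) (.node (nat_lit 0x1167400c800) (.node (nat_lit 0x1027440c800) (.node (nat_lit 0xfe460b6991) (.leaf (nat_lit 0xfe0f0b6991) (nat_lit 1026))
 (.node (nat_lit 0xfea48b6991) (.leaf (nat_lit 0xfe460b6991) (nat_lit 2818))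
 (.leaf (nat_lit 0xfea48b6991) (nat_lit 2562))
)) (.node (nat_lit 0x1033840c800) (.leaf (nat_lit 0x1027440c800) (nat_lit 2307))
 (.node (nat_lit 0x1160e40c800) (.leaf (nat_lit 0x1033840c800) (nat_lit 2307))
 (.leaf (nat_lit 0x1160e40c800) (nat_lit 2307))
))) (.node (nat_lit 0x128fd8b6991) (.node (nat_lit 0x128294b6991) (.leaf (nat_lit 0x1167400c800) (nat_lit 2563))
 (.node (nat_lit 0x128858b6991) (.leaf (nat_lit 0x128294b6991) (nat_lit 515))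
 (.leaf (nat_lit 0x128858b6991) (nat_lit 1538))
)) (.node (nat_lit 0x12c2980c800) (.node (nat_lit 0x12c0f00c800) (.leaf (nat_lit 0x128fd8b6991) (nat_lit 1283))
 (.leaf (nat_lit 0x12c0f00c800) (nat_lit 2307))
) (.node (nat_lit 0x12c3580c800) (.leaf (nat_lit 0x12c2980c800) (nat_lit 1794))
 (.leaf (nat_lit 0x12c3580c800) (nat_lit 1794))
)))) (.node (nat_lit 0x168d840c800) (.node (nat_lit 0x13e42c0782a) (.node (nat_lit 0x12ca480c800) (.leaf (nat_lit 0x12c58c0c800) (nat_lit 1538))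
 (.node (nat_lit 0x12cb000c800) (.leaf (nat_lit 0x12ca480c800) (nat_lit 2306))
 (.leaf (nat_lit 0x12cb000c800) (nat_lit 2307))
)) (.node (nat_lit 0x15290448d6a) (.leaf (nat_lit 0x13e42c0782a) (nat_lit 2562))
 (.node (nat_lit 0x168c600c800) (.leaf (nat_lit 0x15290448d6a) (nat_lit 514))
 (.leaf (nat_lit 0x168c600c800) (nat_lit 2051))
))) (.node (nat_lit 0x188dbc0c800) (.node (nat_lit 0x1780e40c800) (.leaf (nat_lit 0x168d840c800) (nat_lit 1539))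
 (.node (nat_lit 0x178b540c800) (.leaf (nat_lit 0x1780e40c800) (nat_lit 1027))
 (.leaf (nat_lit 0x178b540c800) (nat_lit 1539))
)) (.node (nat_lit 0x1943ec0c800) (.node (nat_lit 0x1894ac0c800) (.leaf (nat_lit 0x188dbc0c800) (nat_lit 1794))
 (.leaf (nat_lit 0x1894ac0c800) (nat_lit 2563))
) (.node (nat_lit 0x1944600c800) (.leaf (nat_lit 0x1943ec0c800) (nat_lit 2307))
 (.leaf (nat_lit 0x1944600c800) (nat_lit 1282))
))))) (.node (nat_lit 0x1ceda00c800) (.node (nat_lit 0x1b0b30b6991) (.node (nat_lit 0x19f5dc0c800) (.node (nat_lit 0x19a5f00c800) (.leaf (nat_lit 0x19a2940c800) (nat_lit 2562))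
 (.node (nat_lit 0x19f35c0c800) (.leaf (nat_lit 0x19a5f00c800) (nat_lit 2051))
 (.leaf (nat_lit 0x19f35c0c800) (nat_lit 2051))
)) (.node (nat_lit 0x1b00e4b6991) (.leaf (nat_lit 0x19f5dc0c800) (nat_lit 1795))
 (.node (nat_lit 0x1b0488b6991) (.leaf (nat_lit 0x1b00e4b6991) (nat_lit 1027))
 (.leaf (nat_lit 0x1b0488b6991) (nat_lit 2563))
))) (.node (nat_lit 0x1b33140c800) (.node (nat_lit 0x1b21740c800) (.leaf (nat_lit 0x1b0b30b6991) (nat_lit 1795))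
 (.node (nat_lit 0x1b2a380c800) (.leaf (nat_lit 0x1b21740c800) (nat_lit 1794))
 (.leaf (nat_lit 0x1b2a380c800) (nat_lit 1795))
)) (.node (nat_lit 0x1b35280c800) (.node (nat_lit 0x1b34040c800) (.leaf (nat_lit 0x1b33140c800) (nat_lit 2051))
 (.leaf (nat_lit 0x1b34040c800) (nat_lit 1539))
) (.node (nat_lit 0x1b35dc0c800) (.leaf (nat_lit 0x1b35280c800) (nat_lit 1795))
 (.leaf (nat_lit 0x1b35dc0c800) (nat_lit 1795))
)))) (.node (nat_lit 0x2551fc0c800) (.node (nat_lit 0x212b2c0c800) (.node (nat_lit 0x1cf4740c800) (.leaf (nat_lit 0x1ceda00c800) (nat_lit 2563))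
 (.node (nat_lit 0x212aa40c800) (.leaf (nat_lit 0x1cf4740c800) (nat_lit 2051))
 (.leaf (nat_lit 0x212aa40c800) (nat_lit 1282))
)) (.node (nat_lit 0x21f0400c800) (.node (nat_lit 0x21e0e40c800) (.leaf (nat_lit 0x212b2c0c800) (nat_lit 2050))
 (.leaf (nat_lit 0x21e0e40c800) (nat_lit 2819))
) (.node (nat_lit 0x2541740c800) (.leaf (nat_lit 0x21f0400c800) (nat_lit 1794))
 (.leaf (nat_lit 0x2541740c800) (nat_lit 1026))
))) (.node (nat_lit 0x267314b6991) (.node (nat_lit 0x266744b6991) (.leaf (nat_lit 0x2551fc0c800) (nat_lit 1795))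
 (.node (nat_lit 0x267044b6991) (.leaf (nat_lit 0x266744b6991) (nat_lit 1027))
 (.leaf (nat_lit 0x267044b6991) (nat_lit 2306))
)) (.node (nat_lit 0x2682b40c800) (.node (nat_lit 0x2680e40c800) (.leaf (nat_lit 0x267314b6991) (nat_lit 2818))
 (.leaf (nat_lit 0x2680e40c800) (nat_lit 2306))
) (.node (nat_lit 0x2689f40c800) (.leaf (nat_lit 0x2682b40c800) (nat_lit 1795))
 (.leaf (nat_lit 0x2689f40c800) (nat_lit 1539))
))))))) (.node (nat_lit 0x6f61540782a) (.node (nat_lit 0x3dc04848d6a) (.node (nat_lit 0x3293f80c800) (.node (nat_lit 0x28a8d448d6a) (.node (nat_lit 0x26e5f80c800) (.node (nat_lit 0x2693a80c800) (.leaf (nat_lit 0x2693100c800) (nat_lit 2307))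
 (.node (nat_lit 0x2695ec0c800) (.leaf (nat_lit 0x2693a80c800) (nat_lit 1282))
 (.leaf (nat_lit 0x2695ec0c800) (nat_lit 1538))
)) (.node (nat_lit 0x26ec480c800) (.leaf (nat_lit 0x26e5f80c800) (nat_lit 2307))
 (.node (nat_lit 0x27c5f84dc16) (.leaf (nat_lit 0x26ec480c800) (nat_lit 2307))
 (.leaf (nat_lit 0x27c5f84dc16) (nat_lit 770))
))) (.node (nat_lit 0x2c8a740c800) (.node (nat_lit 0x28a99c48d6a) (.leaf (nat_lit 0x28a8d448d6a) (nat_lit 0))
 (.node (nat_lit 0x2c81a40c800) (.leaf (nat_lit 0x28a99c48d6a) (nat_lit 1539))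
 (.leaf (nat_lit 0x2c81a40c800) (nat_lit 2307))
)) (.node (nat_lit 0x30c7440c800) (.node (nat_lit 0x30c3500c800) (.leaf (nat_lit 0x2c8a740c800) (nat_lit 1795))
 (.leaf (nat_lit 0x30c3500c800) (nat_lit 1027))
) (.node (nat_lit 0x3289e00c800) (.leaf (nat_lit 0x30c7440c800) (nat_lit 2307))
 (.leaf (nat_lit 0x3289e00c800) (nat_lit 2051))
)))) (.node (nat_lit 0x36f0604dc16) (.node (nat_lit 0x36a2984dc16) (.node (nat_lit 0x34d0444dc16) (.leaf (nat_lit 0x3293f80c800) (nat_lit 2051))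
 (.node (nat_lit 0x34d4744dc16) (.leaf (nat_lit 0x34d0444dc16) (nat_lit 2306))
 (.leaf (nat_lit 0x34d4744dc16) (nat_lit 2051))
)) (.node (nat_lit 0x36a4604dc16) (.leaf (nat_lit 0x36a2984dc16) (nat_lit 2307))
 (.node (nat_lit 0x36ee004dc16) (.leaf (nat_lit 0x36a4604dc16) (nat_lit 2306))
 (.leaf (nat_lit 0x36ee004dc16) (nat_lit 2307))
))) (.node (nat_lit 0x394fd048d6a) (.node (nat_lit 0x38e04848d6a) (.leaf (nat_lit 0x36f0604dc16) (nat_lit 1539))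
 (.node (nat_lit 0x38e20c48d6a) (.leaf (nat_lit 0x38e04848d6a) (nat_lit 2051))
 (.leaf (nat_lit 0x38e20c48d6a) (nat_lit 2051))
)) (.node (nat_lit 0x3c27442d0ea) (.node (nat_lit 0x3b1165768ba) (.leaf (nat_lit 0x394fd048d6a) (nat_lit 2051))
 (.leaf (nat_lit 0x3b1165768ba) (nat_lit 1795))
) (.node (nat_lit 0x3c335c2d0ea) (.leaf (nat_lit 0x3c27442d0ea) (nat_lit 2050))
 (.leaf (nat_lit 0x3c335c2d0ea) (nat_lit 514))
))))) (.node (nat_lit 0x54a38d768ba) (.node (nat_lit 0x412b1d768ba) (.node (nat_lit 0x3f2abc48d6a) (.node (nat_lit 0x3e093c48d6a) (.leaf (nat_lit 0x3dc04848d6a) (nat_lit 2307))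
 (.node (nat_lit 0x3e141448d6a) (.leaf (nat_lit 0x3e093c48d6a) (nat_lit 1538))
 (.leaf (nat_lit 0x3e141448d6a) (nat_lit 2051))
)) (.node (nat_lit 0x3f341448d6a) (.leaf (nat_lit 0x3f2abc48d6a) (nat_lit 2307))
 (.node (nat_lit 0x3f82942d0ea) (.leaf (nat_lit 0x3f341448d6a) (nat_lit 2563))
 (.leaf (nat_lit 0x3f82942d0ea) (nat_lit 259))
))) (.node (nat_lit 0x4423c8d9406) (.node (nat_lit 0x42ac580782a) (.leaf (nat_lit 0x412b1d768ba) (nat_lit 2307))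
 (.node (nat_lit 0x442294d9406) (.leaf (nat_lit 0x42ac580782a) (nat_lit 2819))
 (.leaf (nat_lit 0x442294d9406) (nat_lit 2562))
)) (.node (nat_lit 0x4495e04dc16) (.node (nat_lit 0x4480e44dc16) (.leaf (nat_lit 0x4423c8d9406) (nat_lit 2051))
 (.leaf (nat_lit 0x4480e44dc16) (nat_lit 2563))
) (.node (nat_lit 0x44b3104dc16) (.leaf (nat_lit 0x4495e04dc16) (nat_lit 2306))
 (.leaf (nat_lit 0x44b3104dc16) (nat_lit 2563))
)))) (.node (nat_lit 0x6769b80c800) (.node (nat_lit 0x5bf1580c800) (.node (nat_lit 0x54b405768ba) (.leaf (nat_lit 0x54a38d768ba) (nat_lit 1539))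
 (.node (nat_lit 0x56f311768ba) (.leaf (nat_lit 0x54b405768ba) (nat_lit 1283))
 (.leaf (nat_lit 0x56f311768ba) (nat_lit 2563))
)) (.node (nat_lit 0x5bf19c0c800) (.leaf (nat_lit 0x5bf1580c800) (nat_lit 1283))
 (.node (nat_lit 0x5f80e44dc16) (.leaf (nat_lit 0x5bf19c0c800) (nat_lit 770))
 (.leaf (nat_lit 0x5f80e44dc16) (nat_lit 771))
))) (.node (nat_lit 0x6792c82d0ea) (.node (nat_lit 0x6773f80c800) (.leaf (nat_lit 0x6769b80c800) (nat_lit 1539))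
 (.node (nat_lit 0x6784602d0ea) (.leaf (nat_lit 0x6773f80c800) (nat_lit 1539))
 (.leaf (nat_lit 0x6784602d0ea) (nat_lit 2050))
)) (.node (nat_lit 0x6992a40782a) (.node (nat_lit 0x6983980782a) (.leaf (nat_lit 0x6792c82d0ea) (nat_lit 1283))
 (.leaf (nat_lit 0x6983980782a) (nat_lit 1539))
) (.node (nat_lit 0x6db045768ba) (.leaf (nat_lit 0x6992a40782a) (nat_lit 1283))
 (.leaf (nat_lit 0x6db045768ba) (nat_lit 2306))
)))))) (.node (nat_lit 0x8442180782a) (.node (nat_lit 0x7aa295768ba) (.node (nat_lit 0x7313882d0ea) (.node (nat_lit 0x7125f02d0ea) (.node (nat_lit 0x6f8358d9406) (.leaf (nat_lit 0x6f61540782a) (nat_lit 1539))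
 (.node (nat_lit 0x6f83ecd9406) (.leaf (nat_lit 0x6f8358d9406) (nat_lit 1283))
 (.leaf (nat_lit 0x6f83ecd9406) (nat_lit 1539))
)) (.node (nat_lit 0x712c802d0ea) (.leaf (nat_lit 0x7125f02d0ea) (nat_lit 2306))
 (.node (nat_lit 0x71e460d9406) (.leaf (nat_lit 0x712c802d0ea) (nat_lit 1795))
 (.leaf (nat_lit 0x71e460d9406) (nat_lit 2818))
))) (.node (nat_lit 0x770ae40782a) (.node (nat_lit 0x7363504dc16) (.leaf (nat_lit 0x7313882d0ea) (nat_lit 2306))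
 (.node (nat_lit 0x736a384dc16) (.leaf (nat_lit 0x7363504dc16) (nat_lit 1027))
 (.leaf (nat_lit 0x736a384dc16) (nat_lit 258))
)) (.node (nat_lit 0x7861440782a) (.node (nat_lit 0x7712e80782a) (.leaf (nat_lit 0x770ae40782a) (nat_lit 2050))
 (.leaf (nat_lit 0x7712e80782a) (nat_lit 2307))
) (.node (nat_lit 0x7863980782a) (.leaf (nat_lit 0x7861440782a) (nat_lit 1795))
 (.leaf (nat_lit 0x7863980782a) (nat_lit 2051))
)))) (.node (nat_lit 0x7d7159768ba) (.node (nat_lit 0x7c9044d9406) (.node (nat_lit 0x7aa46d768ba) (.leaf (nat_lit 0x7aa295768ba) (nat_lit 2306))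
 (.node (nat_lit 0x7b5310d9406) (.leaf (nat_lit 0x7aa46d768ba) (nat_lit 1795))
 (.leaf (nat_lit 0x7b5310d9406) (nat_lit 1283))
)) (.node (nat_lit 0x7c91fcd9406) (.leaf (nat_lit 0x7c9044d9406) (nat_lit 2563))
 (.node (nat_lit 0x7cf3102d0ea) (.leaf (nat_lit 0x7c91fcd9406) (nat_lit 1027))
 (.leaf (nat_lit 0x7cf3102d0ea) (nat_lit 771))
))) (.node (nat_lit 0x7fb3842d0ea) (.node (nat_lit 0x7d719d768ba) (.leaf (nat_lit 0x7d7159768ba) (nat_lit 1794))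
 (.node (nat_lit 0x7faa0c2d0ea) (.leaf (nat_lit 0x7d719d768ba) (nat_lit 2051))
 (.leaf (nat_lit 0x7faa0c2d0ea) (nat_lit 1795))
)) (.node (nat_lit 0x8030402d0ea) (.node (nat_lit 0x8020e42d0ea) (.leaf (nat_lit 0x7fb3842d0ea) (nat_lit 2307))
 (.leaf (nat_lit 0x8020e42d0ea) (nat_lit 2562))
) (.node (nat_lit 0x81a0e42d0ea) (.leaf (nat_lit 0x8030402d0ea) (nat_lit 2050))
 (.leaf (nat_lit 0x81a0e42d0ea) (nat_lit 2050))
))))) (.node (nat_lit 0x8dd2c80c800) (.node (nat_lit 0x88a37cd9406) (.node (nat_lit 0x85e0e5768ba) (.node (nat_lit 0x8442c00782a) (.leaf (nat_lit 0x8442180782a) (nat_lit 1539))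
 (.node (nat_lit 0x84c0e4d9406) (.leaf (nat_lit 0x8442c00782a) (nat_lit 2307))
 (.leaf (nat_lit 0x84c0e4d9406) (nat_lit 771))
)) (.node (nat_lit 0x86c83848d6a) (.leaf (nat_lit 0x85e0e5768ba) (nat_lit 2562))
 (.node (nat_lit 0x87ca744dc16) (.leaf (nat_lit 0x86c83848d6a) (nat_lit 2563))
 (.leaf (nat_lit 0x87ca744dc16) (nat_lit 2819))
))) (.node (nat_lit 0x8b042c0782a) (.node (nat_lit 0x88b45cd9406) (.leaf (nat_lit 0x88a37cd9406) (nat_lit 1795))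
 (.node (nat_lit 0x8b01540782a) (.leaf (nat_lit 0x88b45cd9406) (nat_lit 2563))
 (.leaf (nat_lit 0x8b01540782a) (nat_lit 1539))
)) (.node (nat_lit 0x8dad25768ba) (.node (nat_lit 0x8da0e5768ba) (.leaf (nat_lit 0x8b042c0782a) (nat_lit 1794))
 (.leaf (nat_lit 0x8da0e5768ba) (nat_lit 2051))
) (.node (nat_lit 0x8dcb000c800) (.leaf (nat_lit 0x8dad25768ba) (nat_lit 1795))
 (.leaf (nat_lit 0x8dcb000c800) (nat_lit 1795))
)))) (.node (nat_lit 0x994aa42d0ea) (.node (nat_lit 0x910fd048d6a) (.node (nat_lit 0x8ea2180782a) (.leaf (nat_lit 0x8dd2c80c800) (nat_lit 1795))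
 (.node (nat_lit 0x91090448d6a) (.leaf (nat_lit 0x8ea2180782a) (nat_lit 2562))
 (.leaf (nat_lit 0x91090448d6a) (nat_lit 2051))
)) (.node (nat_lit 0x97b2e80782a) (.node (nat_lit 0x9168d448d6a) (.leaf (nat_lit 0x910fd048d6a) (nat_lit 2563))
 (.leaf (nat_lit 0x9168d448d6a) (nat_lit 1026))
) (.node (nat_lit 0x980b2cd9406) (.leaf (nat_lit 0x97b2e80782a) (nat_lit 1027))
 (.leaf (nat_lit 0x980b2cd9406) (nat_lit 1282))
))) (.node (nat_lit 0xa1ed85768ba) (.node (nat_lit 0x9b8a68d9406) (.leaf (nat_lit 0x994aa42d0ea) (nat_lit 2307))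
 (.node (nat_lit 0xa1e745768ba) (.leaf (nat_lit 0x9b8a68d9406) (nat_lit 1283))
 (.leaf (nat_lit 0xa1e745768ba) (nat_lit 2050))
)) (.node (nat_lit 0xaa00e4d9406) (.node (nat_lit 0xa6c7444dc16) (.leaf (nat_lit 0xa1ed85768ba) (nat_lit 1795))
 (.leaf (nat_lit 0xa6c7444dc16) (nat_lit 515))
) (.node (nat_lit 0xaa0740d9406) (.leaf (nat_lit 0xaa00e4d9406) (nat_lit 2050))
 (.leaf (nat_lit 0xaa0740d9406) (nat_lit 1794))
))))))))

theorem sW_ok : orbOK A [(nat_lit 0x40e80d913), (nat_lit 0x12f13800019), (nat_lit 0x3e0b0048d6a), (nat_lit 0x1785780c800)] (nat_lit 0x28a8d448d6a) sW_t (nat_lit 210) = true := by decide +kernel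

/-- A listed class. -/
noncomputable def gW_t : ST :=
(.node (nat_lit 0x2553100c800) (.node (nat_lit 0x1033880c800) (.node (nat_lit 0x86be00c800) (.node (nat_lit 0xd35c0c800) (.node (nat_lit 0xc5c80c800) (.node (nat_lit 0xc4600c800) (.leaf (nat_lit 0xc2940c800) (nat_lit 2051))
 (.node (nat_lit 0xc5540c800) (.leaf (nat_lit 0xc4600c800) (nat_lit 2307))
 (.leaf (nat_lit 0xc5540c800) (nat_lit 2306))
)) (.node (nat_lit 0xd1580c800) (.node (nat_lit 0xce000c800) (.leaf (nat_lit 0xc5c80c800) (nat_lit 2306))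
 (.leaf (nat_lit 0xce000c800) (nat_lit 2307))
) (.node (nat_lit 0xd1fc0c800) (.leaf (nat_lit 0xd1580c800) (nat_lit 2563))
 (.leaf (nat_lit 0xd1fc0c800) (nat_lit 514))
))) (.node (nat_lit 0x48d240c800) (.node (nat_lit 0x1a4600c800) (.leaf (nat_lit 0xd35c0c800) (nat_lit 1794))
 (.node (nat_lit 0x3f044d9406) (.leaf (nat_lit 0x1a4600c800) (nat_lit 2819))
 (.leaf (nat_lit 0x3f044d9406) (nat_lit 1539))
)) (.node (nat_lit 0x66a380c800) (.node (nat_lit 0x5d3100c800) (.leaf (nat_lit 0x48d240c800) (nat_lit 1794))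
 (.leaf (nat_lit 0x5d3100c800) (nat_lit 1283))
) (.node (nat_lit 0x690440c800) (.leaf (nat_lit 0x66a380c800) (nat_lit 1027))
 (.leaf (nat_lit 0x690440c800) (nat_lit 1027))
)))) (.node (nat_lit 0xfc4880c800) (.node (nat_lit 0xa8b2c0c800) (.node (nat_lit 0x953100c800) (.leaf (nat_lit 0x86be00c800) (nat_lit 2050))
 (.node (nat_lit 0x9ca0c0c800) (.leaf (nat_lit 0x953100c800) (nat_lit 2563))
 (.leaf (nat_lit 0x9ca0c0c800) (nat_lit 2051))
)) (.node (nat_lit 0xf2a740c800) (.node (nat_lit 0xe91640c800) (.leaf (nat_lit 0xa8b2c0c800) (nat_lit 1538))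
 (.leaf (nat_lit 0xe91640c800) (nat_lit 1539))
) (.node (nat_lit 0xfc3ec0c800) (.leaf (nat_lit 0xf2a740c800) (nat_lit 2051))
 (.leaf (nat_lit 0xfc3ec0c800) (nat_lit 1282))
))) (.node (nat_lit 0xfd0440c800) (.node (nat_lit 0xfc7440c800) (.leaf (nat_lit 0xfc4880c800) (nat_lit 2307))
 (.node (nat_lit 0xfc75c0c800) (.leaf (nat_lit 0xfc7440c800) (nat_lit 1283))
 (.leaf (nat_lit 0xfc75c0c800) (nat_lit 2306))
)) (.node (nat_lit 0xfd2c80c800) (.node (nat_lit 0xfd25c0c800) (.leaf (nat_lit 0xfd0440c800) (nat_lit 2819))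
 (.leaf (nat_lit 0xfd25c0c800) (nat_lit 2051))
) (.node (nat_lit 0xfd3380c800) (.leaf (nat_lit 0xfd2c80c800) (nat_lit 2051))
 (.leaf (nat_lit 0xfd3380c800) (nat_lit 259))
))))) (.node (nat_lit 0x19aaa40c800) (.node (nat_lit 0x12cb300c800) (.node (nat_lit 0x12c5f00c800) (.node (nat_lit 0x1162940c800) (.leaf (nat_lit 0x1033880c800) (nat_lit 2307))
 (.node (nat_lit 0x12c3c80c800) (.leaf (nat_lit 0x1162940c800) (nat_lit 2051))
 (.leaf (nat_lit 0x12c3c80c800) (nat_lit 515))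
)) (.node (nat_lit 0x12c7440c800) (.node (nat_lit 0x12c6740c800) (.leaf (nat_lit 0x12c5f00c800) (nat_lit 1795))
 (.leaf (nat_lit 0x12c6740c800) (nat_lit 2051))
) (.node (nat_lit 0x12ca5c0c800) (.leaf (nat_lit 0x12c7440c800) (nat_lit 2307))
 (.leaf (nat_lit 0x12ca5c0c800) (nat_lit 2306))
))) (.node (nat_lit 0x1690440c800) (.node (nat_lit 0x12d0440c800) (.leaf (nat_lit 0x12cb300c800) (nat_lit 2563))
 (.node (nat_lit 0x12d3ec0c800) (.leaf (nat_lit 0x12d0440c800) (nat_lit 2307))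
 (.leaf (nat_lit 0x12d3ec0c800) (nat_lit 2563))
)) (.node (nat_lit 0x188c800c800) (.node (nat_lit 0x178b1c0c800) (.leaf (nat_lit 0x1690440c800) (nat_lit 1539))
 (.leaf (nat_lit 0x178b1c0c800) (nat_lit 1794))
) (.node (nat_lit 0x194a680c800) (.leaf (nat_lit 0x188c800c800) (nat_lit 2562))
 (.leaf (nat_lit 0x194a680c800) (nat_lit 2307))
)))) (.node (nat_lit 0x1b319c0c800) (.node (nat_lit 0x1b237c0c800) (.node (nat_lit 0x19f3100c800) (.leaf (nat_lit 0x19aaa40c800) (nat_lit 2562))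
 (.node (nat_lit 0x1b22940c800) (.leaf (nat_lit 0x19f3100c800) (nat_lit 2563))
 (.leaf (nat_lit 0x1b22940c800) (nat_lit 1026))
)) (.node (nat_lit 0x1b2b5c0c800) (.node (nat_lit 0x1b24600c800) (.leaf (nat_lit 0x1b237c0c800) (nat_lit 2307))
 (.leaf (nat_lit 0x1b24600c800) (nat_lit 2307))
) (.node (nat_lit 0x1b30600c800) (.leaf (nat_lit 0x1b2b5c0c800) (nat_lit 2050))
 (.leaf (nat_lit 0x1b30600c800) (nat_lit 0))
))) (.node (nat_lit 0x1ce7440c800) (.node (nat_lit 0x1b33840c800) (.leaf (nat_lit 0x1b319c0c800) (nat_lit 1539))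
 (.node (nat_lit 0x1b35880c800) (.leaf (nat_lit 0x1b33840c800) (nat_lit 1794))
 (.leaf (nat_lit 0x1b35880c800) (nat_lit 2563))
)) (.node (nat_lit 0x212a000c800) (.node (nat_lit 0x1e64604dc16) (.leaf (nat_lit 0x1ce7440c800) (nat_lit 1795))
 (.leaf (nat_lit 0x1e64604dc16) (nat_lit 1282))
) (.node (nat_lit 0x21e4600c800) (.leaf (nat_lit 0x212a000c800) (nat_lit 2050))
 (.leaf (nat_lit 0x21e4600c800) (nat_lit 2563))
)))))) (.node (nat_lit 0x490744b6991) (.node (nat_lit 0x30c5f80c800) (.node (nat_lit 0x268fd80c800) (.node (nat_lit 0x26838c0c800) (.node (nat_lit 0x2680f00c800) (.leaf (nat_lit 0x2553100c800) (nat_lit 1795))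
 (.node (nat_lit 0x2683500c800) (.leaf (nat_lit 0x2680f00c800) (nat_lit 771))
 (.leaf (nat_lit 0x2683500c800) (nat_lit 2563))
)) (.node (nat_lit 0x268a480c800) (.node (nat_lit 0x2688580c800) (.leaf (nat_lit 0x26838c0c800) (nat_lit 771))
 (.leaf (nat_lit 0x2688580c800) (nat_lit 2306))
) (.node (nat_lit 0x268d840c800) (.leaf (nat_lit 0x268a480c800) (nat_lit 2051))
 (.leaf (nat_lit 0x268d840c800) (nat_lit 2562))
))) (.node (nat_lit 0x270dbc48d6a) (.node (nat_lit 0x2694740c800) (.leaf (nat_lit 0x268fd80c800) (nat_lit 2307))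
 (.node (nat_lit 0x26f45c0c800) (.leaf (nat_lit 0x2694740c800) (nat_lit 2306))
 (.leaf (nat_lit 0x26f45c0c800) (nat_lit 1283))
)) (.node (nat_lit 0x2c95e00c800) (.node (nat_lit 0x28a17448d6a) (.leaf (nat_lit 0x270dbc48d6a) (nat_lit 1538))
 (.leaf (nat_lit 0x28a17448d6a) (nat_lit 2050))
) (.node (nat_lit 0x2df044b6991) (.leaf (nat_lit 0x2c95e00c800) (nat_lit 2051))
 (.leaf (nat_lit 0x2df044b6991) (nat_lit 1283))
)))) (.node (nat_lit 0x3c21542d0ea) (.node (nat_lit 0x34c2184dc16) (.node (nat_lit 0x3294040c800) (.leaf (nat_lit 0x30c5f80c800) (nat_lit 1794))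
 (.node (nat_lit 0x32f3f80782a) (.leaf (nat_lit 0x3294040c800) (nat_lit 2307))
 (.leaf (nat_lit 0x32f3f80782a) (nat_lit 1795))
)) (.node (nat_lit 0x36e7444dc16) (.node (nat_lit 0x36b3104dc16) (.leaf (nat_lit 0x34c2184dc16) (nat_lit 2051))
 (.leaf (nat_lit 0x36b3104dc16) (nat_lit 1538))
) (.node (nat_lit 0x38e2dc48d6a) (.leaf (nat_lit 0x36e7444dc16) (nat_lit 1026))
 (.leaf (nat_lit 0x38e2dc48d6a) (nat_lit 1027))
))) (.node (nat_lit 0x3f2c6048d6a) (.node (nat_lit 0x3ca398b6991) (.leaf (nat_lit 0x3c21542d0ea) (nat_lit 2307))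
 (.node (nat_lit 0x3e0b0048d6a) (.leaf (nat_lit 0x3ca398b6991) (nat_lit 1795))
 (.leaf (nat_lit 0x3e0b0048d6a) (nat_lit 1283))
)) (.node (nat_lit 0x4480484dc16) (.node (nat_lit 0x44242cd9406) (.leaf (nat_lit 0x3f2c6048d6a) (nat_lit 1026))
 (.leaf (nat_lit 0x44242cd9406) (nat_lit 1795))
) (.node (nat_lit 0x4747442d0ea) (.leaf (nat_lit 0x4480484dc16) (nat_lit 1795))
 (.leaf (nat_lit 0x4747442d0ea) (nat_lit 1283))
))))) (.node (nat_lit 0x7c8904d9406) (.node (nat_lit 0x698da00782a) (.node (nat_lit 0x5be7440c800) (.node (nat_lit 0x54a745768ba) (.leaf (nat_lit 0x490744b6991) (nat_lit 2307))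
 (.node (nat_lit 0x558294b6991) (.leaf (nat_lit 0x54a745768ba) (nat_lit 2563))
 (.leaf (nat_lit 0x558294b6991) (nat_lit 1539))
)) (.node (nat_lit 0x6763580c800) (.node (nat_lit 0x662295768ba) (.leaf (nat_lit 0x5be7440c800) (nat_lit 1795))
 (.leaf (nat_lit 0x662295768ba) (nat_lit 2307))
) (.node (nat_lit 0x678fd02d0ea) (.leaf (nat_lit 0x6763580c800) (nat_lit 1539))
 (.leaf (nat_lit 0x678fd02d0ea) (nat_lit 1283))
))) (.node (nat_lit 0x7370444dc16) (.node (nat_lit 0x6f8294d9406) (.leaf (nat_lit 0x698da00782a) (nat_lit 2051))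
 (.node (nat_lit 0x7124602d0ea) (.leaf (nat_lit 0x6f8294d9406) (nat_lit 1795))
 (.leaf (nat_lit 0x7124602d0ea) (nat_lit 1795))
)) (.node (nat_lit 0x7872080782a) (.node (nat_lit 0x770b540782a) (.leaf (nat_lit 0x7370444dc16) (nat_lit 1282))
 (.leaf (nat_lit 0x770b540782a) (nat_lit 770))
) (.node (nat_lit 0x7ab311768ba) (.leaf (nat_lit 0x7872080782a) (nat_lit 1795))
 (.leaf (nat_lit 0x7ab311768ba) (nat_lit 770))
)))) (.node (nat_lit 0x8b030c0782a) (.node (nat_lit 0x8022942d0ea) (.node (nat_lit 0x7d7045768ba) (.leaf (nat_lit 0x7c8904d9406) (nat_lit 2050))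
 (.node (nat_lit 0x7fb3102d0ea) (.leaf (nat_lit 0x7d7045768ba) (nat_lit 2051))
 (.leaf (nat_lit 0x7fb3102d0ea) (nat_lit 1539))
)) (.node (nat_lit 0x867414b6991) (.node (nat_lit 0x8455dc0782a) (.leaf (nat_lit 0x8022942d0ea) (nat_lit 1538))
 (.leaf (nat_lit 0x8455dc0782a) (nat_lit 2307))
) (.node (nat_lit 0x88b310d9406) (.leaf (nat_lit 0x867414b6991) (nat_lit 1539))
 (.leaf (nat_lit 0x88b310d9406) (nat_lit 2051))
))) (.node (nat_lit 0x91062448d6a) (.node (nat_lit 0x8db2e9768ba) (.leaf (nat_lit 0x8b030c0782a) (nat_lit 2307))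
 (.node (nat_lit 0x8dc2940c800) (.leaf (nat_lit 0x8db2e9768ba) (nat_lit 2051))
 (.leaf (nat_lit 0x8dc2940c800) (nat_lit 2819))
)) (.node (nat_lit 0xa1e8d5768ba) (.node (nat_lit 0x93a460b6991) (.leaf (nat_lit 0x91062448d6a) (nat_lit 2307))
 (.leaf (nat_lit 0x93a460b6991) (nat_lit 1282))
) (.node (nat_lit 0xaa0460d9406) (.leaf (nat_lit 0xa1e8d5768ba) (nat_lit 1027))
 (.leaf (nat_lit 0xaa0460d9406) (nat_lit 1539))
)))))))

theorem gW_ok : orbOK A [(nat_lit 0x40e80d913), (nat_lit 0x12f13800019), (nat_lit 0x3e0b0048d6a), (nat_lit 0x1785780c800)] (nat_lit 0x1b30600c800) gW_t (nat_lit 112) = true := by decide +kernel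

/-- A listed class. -/
noncomputable def cP3_t : ST :=
(.node (nat_lit 0x41d0f81f81c) (.node (nat_lit 0xc4d5c2001a) (.node (nat_lit 0x4b1081f81c) (.node (nat_lit 0x30c0cc8166) (.leaf (nat_lit 0x2cc04c716b) (nat_lit 1028))
 (.leaf (nat_lit 0x30c0cc8166) (nat_lit 1284))
) (.node (nat_lit 0x4f10c2001a) (.leaf (nat_lit 0x4b1081f81c) (nat_lit 772))
 (.node (nat_lit 0xc2d581f81c) (.leaf (nat_lit 0x4f10c2001a) (nat_lit 1028))
 (.leaf (nat_lit 0xc2d581f81c) (nat_lit 259))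
))) (.node (nat_lit 0xd30d81f09c) (.node (nat_lit 0xc90dc1e89a) (.leaf (nat_lit 0xc4d5c2001a) (nat_lit 515))
 (.leaf (nat_lit 0xc90dc1e89a) (nat_lit 1027))
) (.node (nat_lit 0x1070d81f81c) (.leaf (nat_lit 0xd30d81f09c) (nat_lit 771))
 (.node (nat_lit 0x1090dc2001a) (.leaf (nat_lit 0x1070d81f81c) (nat_lit 1028))
 (.leaf (nat_lit 0x1090dc2001a) (nat_lit 1284))
)))) (.node (nat_lit 0x62c8542001a) (.node (nat_lit 0x53059c7485c) (.node (nat_lit 0x4230fc2001a) (.leaf (nat_lit 0x41d0f81f81c) (nat_lit 772))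
 (.leaf (nat_lit 0x4230fc2001a) (nat_lit 1028))
) (.node (nat_lit 0x53a5907585b) (.leaf (nat_lit 0x53059c7485c) (nat_lit 257))
 (.node (nat_lit 0x62884c1f81c) (.leaf (nat_lit 0x53a5907585b) (nat_lit 0))
 (.leaf (nat_lit 0x62884c1f81c) (nat_lit 516))
))) (.node (nat_lit 0x8f4fc6b6090) (.node (nat_lit 0x8f2fc2b5889) (.leaf (nat_lit 0x62c8542001a) (nat_lit 772))
 (.leaf (nat_lit 0x8f2fc2b5889) (nat_lit 514))
) (.node (nat_lit 0x970eec1f81c) (.leaf (nat_lit 0x8f4fc6b6090) (nat_lit 770))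
 (.node (nat_lit 0x974ee02001a) (.leaf (nat_lit 0x970eec1f81c) (nat_lit 1028))
 (.leaf (nat_lit 0x974ee02001a) (nat_lit 1284))
)))))

theorem cP3_ok : orbOK A [(nat_lit 0x1b30600c800), (nat_lit 0x12f13800019), (nat_lit 0x53a5907585b), (nat_lit 0x3e0b0048d6a), (nat_lit 0x2153e848d6a)] (nat_lit 0x53a5907585b) cP3_t (nat_lit 20) = true := by decide +kernel

/-- A listed class. -/
noncomputable def sU_t : ST :=
(.node (nat_lit 0x3c335c2d0ea) (.leaf (nat_lit 0x28a8d448d6a) (nat_lit 0))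
 (.node (nat_lit 0x736a384dc16) (.leaf (nat_lit 0x3c335c2d0ea) (nat_lit 512))
 (.leaf (nat_lit 0x736a384dc16) (nat_lit 256))
))

theorem sU_ok : orbOK A [(nat_lit 0x3e0b0048d6a), (nat_lit 0x53a5907585b)] (nat_lit 0x28a8d448d6a) sU_t (nat_lit 3) = true := by decide +kernel

/-- A listed class. -/
noncomputable def wU_t : ST :=
(.node (nat_lit 0x30a1cab6892) (.node (nat_lit 0xd50ae0b09b) (.leaf (nat_lit 0xcb0d60b899) (nat_lit 512))
 (.node (nat_lit 0x3081ceb5091) (.leaf (nat_lit 0xd50ae0b09b) (nat_lit 256))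
 (.leaf (nat_lit 0x3081ceb5091) (nat_lit 0))
)) (.node (nat_lit 0x9c95647505a) (.leaf (nat_lit 0x30a1cab6892) (nat_lit 257))
 (.node (nat_lit 0x9cb56074059) (.leaf (nat_lit 0x9c95647505a) (nat_lit 512))
 (.leaf (nat_lit 0x9cb56074059) (nat_lit 513))
)))

theorem wU_ok : orbOK A [(nat_lit 0x3e0b0048d6a), (nat_lit 0x53a5907585b)] (nat_lit 0x3081ceb5091) wU_t (nat_lit 6) = true := by decide +kernel

/-- A listed class. -/
noncomputable def o1_t : ST :=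
(.node (nat_lit 0x28a8d448d6a) (.node (nat_lit 0x12c0f00c800) (.node (nat_lit 0x944600c800) (.node (nat_lit 0x1a3c80c800) (.node (nat_lit 0xa75cb6991) (.leaf (nat_lit 0x2d240c800) (nat_lit 1281))
 (.leaf (nat_lit 0xa75cb6991) (nat_lit 1536))
) (.node (nat_lit 0x48b1c0c800) (.leaf (nat_lit 0x1a3c80c800) (nat_lit 1281))
 (.node (nat_lit 0x68e000c800) (.leaf (nat_lit 0x48b1c0c800) (nat_lit 1025))
 (.leaf (nat_lit 0x68e000c800) (nat_lit 768))
))) (.node (nat_lit 0xfe0f0b6991) (.node (nat_lit 0xe838c0c800) (.leaf (nat_lit 0x944600c800) (nat_lit 1025))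
 (.node (nat_lit 0xf22dc0c800) (.leaf (nat_lit 0xe838c0c800) (nat_lit 512))
 (.leaf (nat_lit 0xf22dc0c800) (nat_lit 1537))
)) (.node (nat_lit 0x128294b6991) (.leaf (nat_lit 0xfe0f0b6991) (nat_lit 1281))
 (.node (nat_lit 0x128858b6991) (.leaf (nat_lit 0x128294b6991) (nat_lit 1025))
 (.leaf (nat_lit 0x128858b6991) (nat_lit 769))
)))) (.node (nat_lit 0x1944600c800) (.node (nat_lit 0x15290448d6a) (.node (nat_lit 0x12cb000c800) (.leaf (nat_lit 0x12c0f00c800) (nat_lit 1280))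
 (.leaf (nat_lit 0x12cb000c800) (nat_lit 1536))
) (.node (nat_lit 0x1780e40c800) (.leaf (nat_lit 0x15290448d6a) (nat_lit 1025))
 (.node (nat_lit 0x188dbc0c800) (.leaf (nat_lit 0x1780e40c800) (nat_lit 513))
 (.leaf (nat_lit 0x188dbc0c800) (nat_lit 1024))
))) (.node (nat_lit 0x2541740c800) (.node (nat_lit 0x1b00e4b6991) (.leaf (nat_lit 0x1944600c800) (nat_lit 769))
 (.node (nat_lit 0x212aa40c800) (.leaf (nat_lit 0x1b00e4b6991) (nat_lit 1024))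
 (.leaf (nat_lit 0x212aa40c800) (nat_lit 1281))
)) (.node (nat_lit 0x266744b6991) (.leaf (nat_lit 0x2541740c800) (nat_lit 1280))
 (.node (nat_lit 0x27c5f84dc16) (.leaf (nat_lit 0x266744b6991) (nat_lit 1280))
 (.leaf (nat_lit 0x27c5f84dc16) (nat_lit 1280))
))))) (.node (nat_lit 0x7b5310d9406) (.node (nat_lit 0x3f341448d6a) (.node (nat_lit 0x36ee004dc16) (.node (nat_lit 0x34d0444dc16) (.leaf (nat_lit 0x28a8d448d6a) (nat_lit 0))
 (.leaf (nat_lit 0x34d0444dc16) (nat_lit 1281))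
) (.node (nat_lit 0x3c335c2d0ea) (.leaf (nat_lit 0x36ee004dc16) (nat_lit 1024))
 (.node (nat_lit 0x3dc04848d6a) (.leaf (nat_lit 0x3c335c2d0ea) (nat_lit 512))
 (.leaf (nat_lit 0x3dc04848d6a) (nat_lit 1281))
))) (.node (nat_lit 0x5bf19c0c800) (.node (nat_lit 0x3f82942d0ea) (.leaf (nat_lit 0x3f341448d6a) (nat_lit 1281))
 (.node (nat_lit 0x4423c8d9406) (.leaf (nat_lit 0x3f82942d0ea) (nat_lit 1537))
 (.leaf (nat_lit 0x4423c8d9406) (nat_lit 1537))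
)) (.node (nat_lit 0x5f80e44dc16) (.leaf (nat_lit 0x5bf19c0c800) (nat_lit 1024))
 (.node (nat_lit 0x736a384dc16) (.leaf (nat_lit 0x5f80e44dc16) (nat_lit 1281))
 (.leaf (nat_lit 0x736a384dc16) (nat_lit 256))
)))) (.node (nat_lit 0x88b45cd9406) (.node (nat_lit 0x7fb3842d0ea) (.node (nat_lit 0x7c9044d9406) (.leaf (nat_lit 0x7b5310d9406) (nat_lit 1280))
 (.node (nat_lit 0x7cf3102d0ea) (.leaf (nat_lit 0x7c9044d9406) (nat_lit 769))
 (.leaf (nat_lit 0x7cf3102d0ea) (nat_lit 768))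
)) (.node (nat_lit 0x8020e42d0ea) (.leaf (nat_lit 0x7fb3842d0ea) (nat_lit 1793))
 (.node (nat_lit 0x84c0e4d9406) (.leaf (nat_lit 0x8020e42d0ea) (nat_lit 1025))
 (.leaf (nat_lit 0x84c0e4d9406) (nat_lit 1024))
))) (.node (nat_lit 0x980b2cd9406) (.node (nat_lit 0x910fd048d6a) (.leaf (nat_lit 0x88b45cd9406) (nat_lit 1536))
 (.node (nat_lit 0x9168d448d6a) (.leaf (nat_lit 0x910fd048d6a) (nat_lit 1280))
 (.leaf (nat_lit 0x9168d448d6a) (nat_lit 257))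
)) (.node (nat_lit 0x994aa42d0ea) (.leaf (nat_lit 0x980b2cd9406) (nat_lit 513))
 (.node (nat_lit 0xa6c7444dc16) (.leaf (nat_lit 0x994aa42d0ea) (nat_lit 1537))
 (.leaf (nat_lit 0xa6c7444dc16) (nat_lit 768))
))))))

theorem o1_ok : orbOK A [(nat_lit 0x3e0b0048d6a), (nat_lit 0x710e00b6991)] (nat_lit 0x28a8d448d6a) o1_t (nat_lit 45) = true := by decide +kernel

/-- A listed class. -/
noncomputable def o2_t : ST :=
(.node (nat_lit 0x178b540c800) (.node (nat_lit 0x48acc0c800) (.node (nat_lit 0x2b540c800) (.leaf (nat_lit 0x26040c800) (nat_lit 768))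
 (.node (nat_lit 0xca0c0c800) (.leaf (nat_lit 0x2b540c800) (nat_lit 513))
 (.leaf (nat_lit 0xca0c0c800) (nat_lit 1025))
)) (.node (nat_lit 0xfcfd80c800) (.node (nat_lit 0x690600c800) (.leaf (nat_lit 0x48acc0c800) (nat_lit 1024))
 (.leaf (nat_lit 0x690600c800) (nat_lit 1025))
) (.node (nat_lit 0x128fd8b6991) (.leaf (nat_lit 0xfcfd80c800) (nat_lit 1024))
 (.leaf (nat_lit 0x128fd8b6991) (nat_lit 769))
))) (.node (nat_lit 0x28a99c48d6a) (.node (nat_lit 0x2551fc0c800) (.node (nat_lit 0x1b35280c800) (.leaf (nat_lit 0x178b540c800) (nat_lit 257))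
 (.leaf (nat_lit 0x1b35280c800) (nat_lit 1024))
) (.node (nat_lit 0x2682b40c800) (.leaf (nat_lit 0x2551fc0c800) (nat_lit 769))
 (.leaf (nat_lit 0x2682b40c800) (nat_lit 256))
)) (.node (nat_lit 0x7c91fcd9406) (.node (nat_lit 0x36f0604dc16) (.leaf (nat_lit 0x28a99c48d6a) (nat_lit 0))
 (.leaf (nat_lit 0x36f0604dc16) (nat_lit 768))
) (.node (nat_lit 0x7faa0c2d0ea) (.leaf (nat_lit 0x7c91fcd9406) (nat_lit 513))
 (.leaf (nat_lit 0x7faa0c2d0ea) (nat_lit 512))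
))))

theorem o2_ok : orbOK A [(nat_lit 0x3e0b0048d6a), (nat_lit 0x710e00b6991)] (nat_lit 0x28a99c48d6a) o2_t (nat_lit 15) = true := by decide +kernel

/-- A listed class. -/
noncomputable def o3_t : ST :=
(.node (nat_lit 0x2c81a40c800) (.node (nat_lit 0xfc46c0c800) (.node (nat_lit 0x1b2080c800) (.node (nat_lit 0x33bc0c800) (.node (nat_lit 0x30400c800) (.leaf (nat_lit 0x24880c800) (nat_lit 1024))
 (.node (nat_lit 0x30700c800) (.leaf (nat_lit 0x30400c800) (nat_lit 1025))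
 (.leaf (nat_lit 0x30700c800) (nat_lit 1536))
)) (.node (nat_lit 0xcb8c0c800) (.node (nat_lit 0xa674b6991) (.leaf (nat_lit 0x33bc0c800) (nat_lit 256))
 (.leaf (nat_lit 0xa674b6991) (nat_lit 1793))
) (.node (nat_lit 0xd3140c800) (.leaf (nat_lit 0xcb8c0c800) (nat_lit 2049))
 (.leaf (nat_lit 0xd3140c800) (nat_lit 1281))
))) (.node (nat_lit 0x942980c800) (.node (nat_lit 0x675700c800) (.node (nat_lit 0x5c46c0c800) (.leaf (nat_lit 0x1b2080c800) (nat_lit 2561))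
 (.leaf (nat_lit 0x5c46c0c800) (nat_lit 2049))
) (.node (nat_lit 0x873880c800) (.leaf (nat_lit 0x675700c800) (nat_lit 1537))
 (.leaf (nat_lit 0x873880c800) (nat_lit 2049))
)) (.node (nat_lit 0x9d1640c800) (.node (nat_lit 0x9c95c0c800) (.leaf (nat_lit 0x942980c800) (nat_lit 1025))
 (.leaf (nat_lit 0x9c95c0c800) (nat_lit 1281))
) (.node (nat_lit 0xa837c0c800) (.leaf (nat_lit 0x9d1640c800) (nat_lit 2048))
 (.leaf (nat_lit 0xa837c0c800) (nat_lit 1024))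
)))) (.node (nat_lit 0x1b0488b6991) (.node (nat_lit 0x1167400c800) (.node (nat_lit 0xfcc400c800) (.leaf (nat_lit 0xfc46c0c800) (nat_lit 513))
 (.node (nat_lit 0xfea48b6991) (.leaf (nat_lit 0xfcc400c800) (nat_lit 2048))
 (.leaf (nat_lit 0xfea48b6991) (nat_lit 1280))
)) (.node (nat_lit 0x168d840c800) (.node (nat_lit 0x13e42c0782a) (.leaf (nat_lit 0x1167400c800) (nat_lit 769))
 (.leaf (nat_lit 0x13e42c0782a) (nat_lit 1280))
) (.node (nat_lit 0x1894ac0c800) (.leaf (nat_lit 0x168d840c800) (nat_lit 257))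
 (.leaf (nat_lit 0x1894ac0c800) (nat_lit 1024))
))) (.node (nat_lit 0x267314b6991) (.node (nat_lit 0x1b35dc0c800) (.node (nat_lit 0x1b34040c800) (.leaf (nat_lit 0x1b0488b6991) (nat_lit 769))
 (.leaf (nat_lit 0x1b34040c800) (nat_lit 1536))
) (.node (nat_lit 0x1ceda00c800) (.leaf (nat_lit 0x1b35dc0c800) (nat_lit 1280))
 (.leaf (nat_lit 0x1ceda00c800) (nat_lit 1280))
)) (.node (nat_lit 0x2695ec0c800) (.node (nat_lit 0x2693a80c800) (.leaf (nat_lit 0x267314b6991) (nat_lit 1792))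
 (.leaf (nat_lit 0x2693a80c800) (nat_lit 1281))
) (.node (nat_lit 0x26ec480c800) (.leaf (nat_lit 0x2695ec0c800) (nat_lit 768))
 (.leaf (nat_lit 0x26ec480c800) (nat_lit 2048))
))))) (.node (nat_lit 0x7313882d0ea) (.node (nat_lit 0x42ac580782a) (.node (nat_lit 0x36a2984dc16) (.node (nat_lit 0x30c3500c800) (.leaf (nat_lit 0x2c81a40c800) (nat_lit 1793))
 (.node (nat_lit 0x3289e00c800) (.leaf (nat_lit 0x30c3500c800) (nat_lit 1792))
 (.leaf (nat_lit 0x3289e00c800) (nat_lit 1537))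
)) (.node (nat_lit 0x3e093c48d6a) (.node (nat_lit 0x38e20c48d6a) (.leaf (nat_lit 0x36a2984dc16) (nat_lit 1281))
 (.leaf (nat_lit 0x38e20c48d6a) (nat_lit 1792))
) (.node (nat_lit 0x3f2abc48d6a) (.leaf (nat_lit 0x3e093c48d6a) (nat_lit 0))
 (.leaf (nat_lit 0x3f2abc48d6a) (nat_lit 1793))
))) (.node (nat_lit 0x6792c82d0ea) (.node (nat_lit 0x5bf1580c800) (.node (nat_lit 0x4495e04dc16) (.leaf (nat_lit 0x42ac580782a) (nat_lit 1025))
 (.leaf (nat_lit 0x4495e04dc16) (nat_lit 768))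
) (.node (nat_lit 0x6773f80c800) (.leaf (nat_lit 0x5bf1580c800) (nat_lit 2305))
 (.leaf (nat_lit 0x6773f80c800) (nat_lit 1281))
)) (.node (nat_lit 0x6f8358d9406) (.node (nat_lit 0x6983980782a) (.leaf (nat_lit 0x6792c82d0ea) (nat_lit 512))
 (.leaf (nat_lit 0x6983980782a) (nat_lit 2305))
) (.node (nat_lit 0x7125f02d0ea) (.leaf (nat_lit 0x6f8358d9406) (nat_lit 513))
 (.leaf (nat_lit 0x7125f02d0ea) (nat_lit 2049))
)))) (.node (nat_lit 0x86c83848d6a) (.node (nat_lit 0x7712e80782a) (.node (nat_lit 0x7363504dc16) (.leaf (nat_lit 0x7313882d0ea) (nat_lit 1793))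
 (.node (nat_lit 0x770ae40782a) (.leaf (nat_lit 0x7363504dc16) (nat_lit 1537))
 (.leaf (nat_lit 0x770ae40782a) (nat_lit 1792))
)) (.node (nat_lit 0x8030402d0ea) (.node (nat_lit 0x7861440782a) (.leaf (nat_lit 0x7712e80782a) (nat_lit 1792))
 (.leaf (nat_lit 0x7861440782a) (nat_lit 1281))
) (.node (nat_lit 0x8442c00782a) (.leaf (nat_lit 0x8030402d0ea) (nat_lit 1537))
 (.leaf (nat_lit 0x8442c00782a) (nat_lit 1024))
))) (.node (nat_lit 0x8ea2180782a) (.node (nat_lit 0x88a37cd9406) (.node (nat_lit 0x87ca744dc16) (.leaf (nat_lit 0x86c83848d6a) (nat_lit 2048))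
 (.leaf (nat_lit 0x87ca744dc16) (nat_lit 2304))
) (.node (nat_lit 0x8b01540782a) (.leaf (nat_lit 0x88a37cd9406) (nat_lit 1536))
 (.leaf (nat_lit 0x8b01540782a) (nat_lit 1536))
)) (.node (nat_lit 0x9b8a68d9406) (.node (nat_lit 0x97b2e80782a) (.leaf (nat_lit 0x8ea2180782a) (nat_lit 1537))
 (.leaf (nat_lit 0x97b2e80782a) (nat_lit 2049))
) (.node (nat_lit 0xaa0740d9406) (.leaf (nat_lit 0x9b8a68d9406) (nat_lit 1537))
 (.leaf (nat_lit 0xaa0740d9406) (nat_lit 2305))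
))))))

theorem o3_ok : orbOK A [(nat_lit 0x3e0b0048d6a), (nat_lit 0x710e00b6991)] (nat_lit 0x3e093c48d6a) o3_t (nat_lit 60) = true := by decide +kernel

/-- A listed class. -/
noncomputable def o4_t : ST :=
(.node (nat_lit 0x2693100c800) (.node (nat_lit 0x1027440c800) (.node (nat_lit 0x5c2940c800) (.node (nat_lit 0x33100c800) (.node (nat_lit 0x275c0c800) (.leaf (nat_lit 0x22dc0c800) (nat_lit 1536))
 (.node (nat_lit 0x2b300c800) (.leaf (nat_lit 0x275c0c800) (nat_lit 1536))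
 (.leaf (nat_lit 0x2b300c800) (nat_lit 1024))
)) (.node (nat_lit 0xcc600c800) (.node (nat_lit 0xa0e4b6991) (.leaf (nat_lit 0x33100c800) (nat_lit 2049))
 (.leaf (nat_lit 0xa0e4b6991) (nat_lit 1793))
) (.node (nat_lit 0xd45c0c800) (.leaf (nat_lit 0xcc600c800) (nat_lit 2048))
 (.leaf (nat_lit 0xd45c0c800) (nat_lit 1024))
))) (.node (nat_lit 0xf20e40c800) (.node (nat_lit 0xa90440c800) (.node (nat_lit 0x66dbc0c800) (.leaf (nat_lit 0x5c2940c800) (nat_lit 257))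
 (.leaf (nat_lit 0x66dbc0c800) (nat_lit 1537))
) (.node (nat_lit 0xe90440c800) (.leaf (nat_lit 0xa90440c800) (nat_lit 2049))
 (.leaf (nat_lit 0xe90440c800) (nat_lit 2049))
)) (.node (nat_lit 0xfcc800c800) (.node (nat_lit 0xfc8580c800) (.leaf (nat_lit 0xf20e40c800) (nat_lit 1280))
 (.leaf (nat_lit 0xfc8580c800) (nat_lit 1793))
) (.node (nat_lit 0xfe460b6991) (.leaf (nat_lit 0xfcc800c800) (nat_lit 2049))
 (.leaf (nat_lit 0xfe460b6991) (nat_lit 1536))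
)))) (.node (nat_lit 0x1b0b30b6991) (.node (nat_lit 0x168c600c800) (.node (nat_lit 0x1033840c800) (.leaf (nat_lit 0x1027440c800) (nat_lit 769))
 (.node (nat_lit 0x1160e40c800) (.leaf (nat_lit 0x1033840c800) (nat_lit 1792))
 (.leaf (nat_lit 0x1160e40c800) (nat_lit 1280))
)) (.node (nat_lit 0x19a2940c800) (.node (nat_lit 0x1943ec0c800) (.leaf (nat_lit 0x168c600c800) (nat_lit 768))
 (.leaf (nat_lit 0x1943ec0c800) (nat_lit 1024))
) (.node (nat_lit 0x19f35c0c800) (.leaf (nat_lit 0x19a2940c800) (nat_lit 1281))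
 (.leaf (nat_lit 0x19f35c0c800) (nat_lit 1280))
))) (.node (nat_lit 0x212b2c0c800) (.node (nat_lit 0x1b2a380c800) (.node (nat_lit 0x1b21740c800) (.leaf (nat_lit 0x1b0b30b6991) (nat_lit 1280))
 (.leaf (nat_lit 0x1b21740c800) (nat_lit 1537))
) (.node (nat_lit 0x1cf4740c800) (.leaf (nat_lit 0x1b2a380c800) (nat_lit 1281))
 (.leaf (nat_lit 0x1cf4740c800) (nat_lit 1280))
)) (.node (nat_lit 0x267044b6991) (.node (nat_lit 0x21e0e40c800) (.leaf (nat_lit 0x212b2c0c800) (nat_lit 1281))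
 (.leaf (nat_lit 0x21e0e40c800) (nat_lit 1025))
) (.node (nat_lit 0x2680e40c800) (.leaf (nat_lit 0x267044b6991) (nat_lit 769))
 (.leaf (nat_lit 0x2680e40c800) (nat_lit 1281))
))))) (.node (nat_lit 0x6784602d0ea) (.node (nat_lit 0x3c27442d0ea) (.node (nat_lit 0x34d4744dc16) (.node (nat_lit 0x26e5f80c800) (.leaf (nat_lit 0x2693100c800) (nat_lit 1025))
 (.node (nat_lit 0x30c7440c800) (.leaf (nat_lit 0x26e5f80c800) (nat_lit 1025))
 (.leaf (nat_lit 0x30c7440c800) (nat_lit 1792))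
)) (.node (nat_lit 0x38e04848d6a) (.node (nat_lit 0x36a4604dc16) (.leaf (nat_lit 0x34d4744dc16) (nat_lit 768))
 (.leaf (nat_lit 0x36a4604dc16) (nat_lit 1537))
) (.node (nat_lit 0x394fd048d6a) (.leaf (nat_lit 0x38e04848d6a) (nat_lit 1792))
 (.leaf (nat_lit 0x394fd048d6a) (nat_lit 0))
))) (.node (nat_lit 0x4480e44dc16) (.node (nat_lit 0x412b1d768ba) (.node (nat_lit 0x3e141448d6a) (.leaf (nat_lit 0x3c27442d0ea) (nat_lit 1537))
 (.leaf (nat_lit 0x3e141448d6a) (nat_lit 1281))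
) (.node (nat_lit 0x442294d9406) (.leaf (nat_lit 0x412b1d768ba) (nat_lit 1024))
 (.leaf (nat_lit 0x442294d9406) (nat_lit 1537))
)) (.node (nat_lit 0x54a38d768ba) (.node (nat_lit 0x44b3104dc16) (.leaf (nat_lit 0x4480e44dc16) (nat_lit 1281))
 (.leaf (nat_lit 0x44b3104dc16) (nat_lit 1024))
) (.node (nat_lit 0x56f311768ba) (.leaf (nat_lit 0x54a38d768ba) (nat_lit 1280))
 (.leaf (nat_lit 0x56f311768ba) (nat_lit 769))
)))) (.node (nat_lit 0x81a0e42d0ea) (.node (nat_lit 0x712c802d0ea) (.node (nat_lit 0x6db045768ba) (.leaf (nat_lit 0x6784602d0ea) (nat_lit 1537))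
 (.node (nat_lit 0x6f83ecd9406) (.leaf (nat_lit 0x6db045768ba) (nat_lit 1025))
 (.leaf (nat_lit 0x6f83ecd9406) (nat_lit 1793))
)) (.node (nat_lit 0x7aa295768ba) (.node (nat_lit 0x71e460d9406) (.leaf (nat_lit 0x712c802d0ea) (nat_lit 1536))
 (.leaf (nat_lit 0x71e460d9406) (nat_lit 1536))
) (.node (nat_lit 0x7d719d768ba) (.leaf (nat_lit 0x7aa295768ba) (nat_lit 1793))
 (.leaf (nat_lit 0x7d719d768ba) (nat_lit 1792))
))) (.node (nat_lit 0x8dcb000c800) (.node (nat_lit 0x8da0e5768ba) (.node (nat_lit 0x85e0e5768ba) (.leaf (nat_lit 0x81a0e42d0ea) (nat_lit 512))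
 (.leaf (nat_lit 0x85e0e5768ba) (nat_lit 512))
) (.node (nat_lit 0x8dad25768ba) (.leaf (nat_lit 0x8da0e5768ba) (nat_lit 513))
 (.leaf (nat_lit 0x8dad25768ba) (nat_lit 768))
)) (.node (nat_lit 0xa1e745768ba) (.node (nat_lit 0x91090448d6a) (.leaf (nat_lit 0x8dcb000c800) (nat_lit 256))
 (.leaf (nat_lit 0x91090448d6a) (nat_lit 1025))
) (.node (nat_lit 0xaa00e4d9406) (.leaf (nat_lit 0xa1e745768ba) (nat_lit 1537))
 (.leaf (nat_lit 0xaa00e4d9406) (nat_lit 513))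
))))))

theorem o4_ok : orbOK A [(nat_lit 0x3e0b0048d6a), (nat_lit 0x710e00b6991)] (nat_lit 0x394fd048d6a) o4_t (nat_lit 60) = true := by decide +kernel

/-- A listed class. -/
noncomputable def o5_t : ST :=
(.node (nat_lit 0x2689f40c800) (.node (nat_lit 0x12c2980c800) (.node (nat_lit 0x35e00c800) (.node (nat_lit 0x27400c800) (.leaf (nat_lit 0x26740c800) (nat_lit 1793))
 (.node (nat_lit 0x28080c800) (.leaf (nat_lit 0x27400c800) (nat_lit 768))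
 (.leaf (nat_lit 0x28080c800) (nat_lit 1792))
)) (.node (nat_lit 0x86a680c800) (.node (nat_lit 0xcda00c800) (.leaf (nat_lit 0x35e00c800) (nat_lit 1025))
 (.leaf (nat_lit 0xcda00c800) (nat_lit 1281))
) (.node (nat_lit 0xfd2080c800) (.leaf (nat_lit 0x86a680c800) (nat_lit 1024))
 (.leaf (nat_lit 0xfd2080c800) (nat_lit 1280))
))) (.node (nat_lit 0x19a5f00c800) (.node (nat_lit 0x12c58c0c800) (.node (nat_lit 0x12c3580c800) (.leaf (nat_lit 0x12c2980c800) (nat_lit 1536))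
 (.leaf (nat_lit 0x12c3580c800) (nat_lit 2048))
) (.node (nat_lit 0x12ca480c800) (.leaf (nat_lit 0x12c58c0c800) (nat_lit 1025))
 (.leaf (nat_lit 0x12ca480c800) (nat_lit 257))
)) (.node (nat_lit 0x1b33140c800) (.node (nat_lit 0x19f5dc0c800) (.leaf (nat_lit 0x19a5f00c800) (nat_lit 1281))
 (.leaf (nat_lit 0x19f5dc0c800) (nat_lit 1537))
) (.node (nat_lit 0x21f0400c800) (.leaf (nat_lit 0x1b33140c800) (nat_lit 768))
 (.leaf (nat_lit 0x21f0400c800) (nat_lit 1536))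
)))) (.node (nat_lit 0x6f61540782a) (.node (nat_lit 0x3b1165768ba) (.node (nat_lit 0x2c8a740c800) (.leaf (nat_lit 0x2689f40c800) (nat_lit 1793))
 (.node (nat_lit 0x3293f80c800) (.leaf (nat_lit 0x2c8a740c800) (nat_lit 0))
 (.leaf (nat_lit 0x3293f80c800) (nat_lit 1537))
)) (.node (nat_lit 0x6769b80c800) (.node (nat_lit 0x54b405768ba) (.leaf (nat_lit 0x3b1165768ba) (nat_lit 1280))
 (.leaf (nat_lit 0x54b405768ba) (nat_lit 1025))
) (.node (nat_lit 0x6992a40782a) (.leaf (nat_lit 0x6769b80c800) (nat_lit 769))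
 (.leaf (nat_lit 0x6992a40782a) (nat_lit 513))
))) (.node (nat_lit 0x8442180782a) (.node (nat_lit 0x7aa46d768ba) (.node (nat_lit 0x7863980782a) (.leaf (nat_lit 0x6f61540782a) (nat_lit 1281))
 (.leaf (nat_lit 0x7863980782a) (nat_lit 512))
) (.node (nat_lit 0x7d7159768ba) (.leaf (nat_lit 0x7aa46d768ba) (nat_lit 2048))
 (.leaf (nat_lit 0x7d7159768ba) (nat_lit 1024))
)) (.node (nat_lit 0x8dd2c80c800) (.node (nat_lit 0x8b042c0782a) (.leaf (nat_lit 0x8442180782a) (nat_lit 1280))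
 (.leaf (nat_lit 0x8b042c0782a) (nat_lit 1793))
) (.node (nat_lit 0xa1ed85768ba) (.leaf (nat_lit 0x8dd2c80c800) (nat_lit 2305))
 (.leaf (nat_lit 0xa1ed85768ba) (nat_lit 1537))
)))))

theorem o5_ok : orbOK A [(nat_lit 0x3e0b0048d6a), (nat_lit 0x710e00b6991)] (nat_lit 0x2c8a740c800) o5_t (nat_lit 30) = true := by decide +kernel

/-- A listed class. -/
noncomputable def cV_t : ST :=
(.node (nat_lit 0x42ac584956d) (.node (nat_lit 0x27e8d0fe974) (.node (nat_lit 0x1789a425cba) (.node (nat_lit 0x28d025cba) (.leaf (nat_lit 0x20e5d147b) (nat_lit 513))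
 (.node (nat_lit 0x28d19b91a) (.leaf (nat_lit 0x28d025cba) (nat_lit 769))
 (.leaf (nat_lit 0x28d19b91a) (nat_lit 1537))
)) (.node (nat_lit 0x27e0e5358c1) (.node (nat_lit 0x178b540c800) (.leaf (nat_lit 0x1789a425cba) (nat_lit 1025))
 (.leaf (nat_lit 0x178b540c800) (nat_lit 0))
) (.node (nat_lit 0x27e0e57f370) (.leaf (nat_lit 0x27e0e5358c1) (nat_lit 768))
 (.leaf (nat_lit 0x27e0e57f370) (nat_lit 1025))
))) (.node (nat_lit 0x3b89691c90b) (.node (nat_lit 0x2cec519b121) (.node (nat_lit 0x2c8a740c800) (.leaf (nat_lit 0x27e8d0fe974) (nat_lit 1025))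
 (.leaf (nat_lit 0x2c8a740c800) (nat_lit 1024))
) (.node (nat_lit 0x3b8968f5c39) (.leaf (nat_lit 0x2cec519b121) (nat_lit 1281))
 (.leaf (nat_lit 0x3b8968f5c39) (nat_lit 256))
)) (.node (nat_lit 0x412ae44956d) (.node (nat_lit 0x410af0fe17a) (.leaf (nat_lit 0x3b89691c90b) (nat_lit 1281))
 (.leaf (nat_lit 0x410af0fe17a) (nat_lit 257))
) (.node (nat_lit 0x426a617e371) (.leaf (nat_lit 0x412ae44956d) (nat_lit 1280))
 (.leaf (nat_lit 0x426a617e371) (nat_lit 1280))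
)))) (.node (nat_lit 0x8dd2c80c800) (.node (nat_lit 0x7d906c3b855) (.node (nat_lit 0x45b36c3b855) (.leaf (nat_lit 0x42ac584956d) (nat_lit 1536))
 (.node (nat_lit 0x45b36e29ce7) (.leaf (nat_lit 0x45b36c3b855) (nat_lit 769))
 (.leaf (nat_lit 0x45b36e29ce7) (nat_lit 768))
)) (.node (nat_lit 0x86a19477086) (.node (nat_lit 0x7db29c77086) (.leaf (nat_lit 0x7d906c3b855) (nat_lit 1280))
 (.leaf (nat_lit 0x7db29c77086) (nat_lit 513))
) (.node (nat_lit 0x86b392294e9) (.leaf (nat_lit 0x86a19477086) (nat_lit 1537))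
 (.leaf (nat_lit 0x86b392294e9) (nat_lit 1536))
))) (.node (nat_lit 0xa692ad1c90b) (.node (nat_lit 0x9149a44956d) (.node (nat_lit 0x8df2c1d1c77) (.leaf (nat_lit 0x8dd2c80c800) (nat_lit 768))
 (.leaf (nat_lit 0x8df2c1d1c77) (nat_lit 769))
) (.node (nat_lit 0x914b55358c1) (.leaf (nat_lit 0x9149a44956d) (nat_lit 512))
 (.leaf (nat_lit 0x914b55358c1) (nat_lit 1025))
)) (.node (nat_lit 0xab2194f643a) (.node (nat_lit 0xa6b068440e6) (.leaf (nat_lit 0xa692ad1c90b) (nat_lit 1025))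
 (.leaf (nat_lit 0xa6b068440e6) (nat_lit 1025))
) (.node (nat_lit 0xab3390440e6) (.leaf (nat_lit 0xab2194f643a) (nat_lit 1281))
 (.leaf (nat_lit 0xab3390440e6) (nat_lit 1281))
)))))

theorem cV_ok : orbOK A [(nat_lit 0x1c039c80b9e), (nat_lit 0x6467aa3296f)] (nat_lit 0x178b540c800) cV_t (nat_lit 30) = true := by decide +kernel

/-- A listed class. -/
noncomputable def cP_t : ST :=
(.node (nat_lit 0x834fb531035) (.node (nat_lit 0x53059c7485c) (.node (nat_lit 0x4b28b16e937) (.node (nat_lit 0x1446fd6d936) (.node (nat_lit 0x1427160b899) (.leaf (nat_lit 0x1427156e937) (nat_lit 1024))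
 (.leaf (nat_lit 0x1427160b899) (nat_lit 1537))
) (.node (nat_lit 0x1446fe0b09b) (.leaf (nat_lit 0x1446fd6d936) (nat_lit 1281))
 (.node (nat_lit 0x4b2769220bf) (.leaf (nat_lit 0x1446fe0b09b) (nat_lit 769))
 (.leaf (nat_lit 0x4b2769220bf) (nat_lit 256))
))) (.node (nat_lit 0x4b4771228c4) (.node (nat_lit 0x4b28b20b899) (.leaf (nat_lit 0x4b28b16e937) (nat_lit 1537))
 (.leaf (nat_lit 0x4b28b20b899) (nat_lit 769))
) (.node (nat_lit 0x4b48b56d936) (.leaf (nat_lit 0x4b4771228c4) (nat_lit 1537))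
 (.node (nat_lit 0x4b48b60b09b) (.leaf (nat_lit 0x4b48b56d936) (nat_lit 1281))
 (.leaf (nat_lit 0x4b48b60b09b) (nat_lit 1281))
)))) (.node (nat_lit 0x5791bd8f023) (.node (nat_lit 0x53a5907585b) (.node (nat_lit 0x53084c29138) (.leaf (nat_lit 0x53059c7485c) (nat_lit 1536))
 (.leaf (nat_lit 0x53084c29138) (nat_lit 1792))
) (.node (nat_lit 0x53a85428139) (.leaf (nat_lit 0x53a5907585b) (nat_lit 0))
 (.node (nat_lit 0x5731b98e024) (.leaf (nat_lit 0x53a85428139) (nat_lit 1280))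
 (.leaf (nat_lit 0x5731b98e024) (nat_lit 768))
))) (.node (nat_lit 0x62884c1f81c) (.node (nat_lit 0x62859d8f023) (.leaf (nat_lit 0x5791bd8f023) (nat_lit 1536))
 (.leaf (nat_lit 0x62859d8f023) (nat_lit 1537))
) (.node (nat_lit 0x62c5918e024) (.leaf (nat_lit 0x62884c1f81c) (nat_lit 1537))
 (.node (nat_lit 0x62c8542001a) (.leaf (nat_lit 0x62c5918e024) (nat_lit 1025))
 (.leaf (nat_lit 0x62c8542001a) (nat_lit 512))
))))) (.node (nat_lit 0x9b47687505a) (.node (nat_lit 0x94f4d5220bf) (.node (nat_lit 0x836fb130033) (.node (nat_lit 0x8354d47505a) (.leaf (nat_lit 0x834fb531035) (nat_lit 1024))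
 (.leaf (nat_lit 0x8354d47505a) (nat_lit 769))
) (.node (nat_lit 0x8374d074059) (.leaf (nat_lit 0x836fb130033) (nat_lit 257))
 (.node (nat_lit 0x94efb60b899) (.leaf (nat_lit 0x8374d074059) (nat_lit 1025))
 (.leaf (nat_lit 0x94efb60b899) (nat_lit 1281))
))) (.node (nat_lit 0x9574d1228c4) (.node (nat_lit 0x956fb20b09b) (.leaf (nat_lit 0x94f4d5220bf) (nat_lit 512))
 (.leaf (nat_lit 0x956fb20b09b) (nat_lit 513))
) (.node (nat_lit 0x96082029138) (.leaf (nat_lit 0x9574d1228c4) (nat_lit 769))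
 (.node (nat_lit 0x96482428139) (.leaf (nat_lit 0x96082029138) (nat_lit 1024))
 (.leaf (nat_lit 0x96482428139) (nat_lit 513))
)))) (.node (nat_lit 0x9b68b530033) (.node (nat_lit 0x9b48b131035) (.node (nat_lit 0x9b47688f909) (.leaf (nat_lit 0x9b47687505a) (nat_lit 1025))
 (.leaf (nat_lit 0x9b47688f909) (nat_lit 1025))
) (.node (nat_lit 0x9b677074059) (.leaf (nat_lit 0x9b48b131035) (nat_lit 768))
 (.node (nat_lit 0x9b67709010a) (.leaf (nat_lit 0x9b677074059) (nat_lit 1793))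
 (.leaf (nat_lit 0x9b67709010a) (nat_lit 1793))
))) (.node (nat_lit 0xa8cd789010a) (.node (nat_lit 0xa8cd7874059) (.leaf (nat_lit 0x9b68b530033) (nat_lit 1281))
 (.leaf (nat_lit 0xa8cd7874059) (nat_lit 1281))
) (.node (nat_lit 0xa8ed7c7505a) (.leaf (nat_lit 0xa8cd789010a) (nat_lit 1537))
 (.node (nat_lit 0xa8ed7c8f909) (.leaf (nat_lit 0xa8ed7c7505a) (nat_lit 1025))
 (.leaf (nat_lit 0xa8ed7c8f909) (nat_lit 1280))
))))))

theorem cP_ok : orbOK A [(nat_lit 0x1c039c80b9e), (nat_lit 0x6467aa3296f)] (nat_lit 0x53a5907585b) cP_t (nat_lit 40) = true := by decide +kernel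

/-- A listed class. -/
noncomputable def cZ_t : ST :=
(.node (nat_lit 0x578fb121874) (.node (nat_lit 0x208fc42001a) (.node (nat_lit 0x108ee18b90f) (.node (nat_lit 0x8d4904b820) (.node (nat_lit 0x2471c1f81c) (.node (nat_lit 0x227182001a) (.leaf (nat_lit 0x53024001) (nat_lit 1537))
 (.leaf (nat_lit 0x227182001a) (nat_lit 1281))
) (.node (nat_lit 0x4a52d07b3a) (.leaf (nat_lit 0x2471c1f81c) (nat_lit 1280))
 (.node (nat_lit 0x4e5050833b) (.leaf (nat_lit 0x4a52d07b3a) (nat_lit 257))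
 (.leaf (nat_lit 0x4e5050833b) (nat_lit 2305))
))) (.node (nat_lit 0xc34e41f81c) (.node (nat_lit 0x914944c01f) (.leaf (nat_lit 0x8d4904b820) (nat_lit 1280))
 (.leaf (nat_lit 0x914944c01f) (nat_lit 513))
) (.node (nat_lit 0xc54e02001a) (.leaf (nat_lit 0xc34e41f81c) (nat_lit 1792))
 (.node (nat_lit 0x106eed8a910) (.leaf (nat_lit 0xc54e02001a) (nat_lit 513))
 (.leaf (nat_lit 0x106eed8a910) (nat_lit 1793))
)))) (.node (nat_lit 0x1a2e856e937) (.node (nat_lit 0x13113c8981b) (.node (nat_lit 0x12f13800019) (.leaf (nat_lit 0x108ee18b90f) (nat_lit 1024))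
 (.leaf (nat_lit 0x12f13800019) (nat_lit 0))
) (.node (nat_lit 0x142d78c60d8) (.leaf (nat_lit 0x13113c8981b) (nat_lit 2049))
 (.node (nat_lit 0x144d7cc50d9) (.leaf (nat_lit 0x142d78c60d8) (nat_lit 768))
 (.leaf (nat_lit 0x144d7cc50d9) (nat_lit 2049))
))) (.node (nat_lit 0x1b823eb5091) (.node (nat_lit 0x1a6e816d936) (.leaf (nat_lit 0x1a2e856e937) (nat_lit 1280))
 (.leaf (nat_lit 0x1a6e816d936) (nat_lit 1025))
) (.node (nat_lit 0x1c223ab6892) (.leaf (nat_lit 0x1b823eb5091) (nat_lit 1536))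
 (.node (nat_lit 0x1f4fc01f81c) (.leaf (nat_lit 0x1c223ab6892) (nat_lit 1537))
 (.leaf (nat_lit 0x1f4fc01f81c) (nat_lit 1024))
))))) (.node (nat_lit 0x5728200b994) (.node (nat_lit 0x4230dc2001a) (.node (nat_lit 0x23408e4d164) (.node (nat_lit 0x22653423002) (.leaf (nat_lit 0x208fc42001a) (nat_lit 1281))
 (.leaf (nat_lit 0x22653423002) (nat_lit 1793))
) (.node (nat_lit 0x2420924d967) (.leaf (nat_lit 0x23408e4d164) (nat_lit 1280))
 (.node (nat_lit 0x41d0d81f81c) (.leaf (nat_lit 0x2420924d967) (nat_lit 2048))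
 (.leaf (nat_lit 0x41d0d81f81c) (nat_lit 1536))
))) (.node (nat_lit 0x53a82428139) (.node (nat_lit 0x53082029138) (.leaf (nat_lit 0x4230dc2001a) (nat_lit 1025))
 (.leaf (nat_lit 0x53082029138) (nat_lit 1281))
) (.node (nat_lit 0x5672f164b31) (.leaf (nat_lit 0x53a82428139) (nat_lit 1536))
 (.node (nat_lit 0x5725918e024) (.leaf (nat_lit 0x5672f164b31) (nat_lit 1793))
 (.leaf (nat_lit 0x5725918e024) (nat_lit 1280))
)))) (.node (nat_lit 0x5754ed220bf) (.node (nat_lit 0x5728542001a) (.node (nat_lit 0x572822542de) (.leaf (nat_lit 0x5728200b994) (nat_lit 1281))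
 (.leaf (nat_lit 0x572822542de) (nat_lit 1537))
) (.node (nat_lit 0x572fb521071) (.leaf (nat_lit 0x5728542001a) (nat_lit 1025))
 (.node (nat_lit 0x5734d48a0cf) (.leaf (nat_lit 0x572fb521071) (nat_lit 1025))
 (.leaf (nat_lit 0x5734d48a0cf) (nat_lit 1793))
))) (.node (nat_lit 0x5788240a995) (.node (nat_lit 0x57859d8f023) (.leaf (nat_lit 0x5754ed220bf) (nat_lit 1537))
 (.leaf (nat_lit 0x57859d8f023) (nat_lit 1281))
) (.node (nat_lit 0x578826532df) (.leaf (nat_lit 0x5788240a995) (nat_lit 1536))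
 (.node (nat_lit 0x57884c1f81c) (.leaf (nat_lit 0x578826532df) (nat_lit 1792))
 (.leaf (nat_lit 0x57884c1f81c) (nat_lit 1792))
)))))) (.node (nat_lit 0x83482574134) (.node (nat_lit 0x5cb494c38cd) (.node (nat_lit 0x5a74e9228c4) (.node (nat_lit 0x5832f565330) (.node (nat_lit 0x5794d08a8d0) (.leaf (nat_lit 0x578fb121874) (nat_lit 1792))
 (.leaf (nat_lit 0x5794d08a8d0) (nat_lit 1281))
) (.node (nat_lit 0x58c7b95d996) (.leaf (nat_lit 0x5832f565330) (nat_lit 1024))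
 (.node (nat_lit 0x58e7bd58197) (.leaf (nat_lit 0x58c7b95d996) (nat_lit 2049))
 (.leaf (nat_lit 0x58e7bd58197) (nat_lit 1281))
))) (.node (nat_lit 0x5c3490c40ce) (.node (nat_lit 0x5c2e5083044) (.leaf (nat_lit 0x5a74e9228c4) (nat_lit 1024))
 (.leaf (nat_lit 0x5c2e5083044) (nat_lit 1024))
) (.node (nat_lit 0x5c349127096) (.leaf (nat_lit 0x5c3490c40ce) (nat_lit 2048))
 (.node (nat_lit 0x5cae5482843) (.leaf (nat_lit 0x5c349127096) (nat_lit 1025))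
 (.leaf (nat_lit 0x5cae5482843) (nat_lit 1537))
)))) (.node (nat_lit 0x61a1b24902e) (.node (nat_lit 0x5e00d93307e) (.node (nat_lit 0x5cb49526094) (.leaf (nat_lit 0x5cb494c38cd) (nat_lit 768))
 (.leaf (nat_lit 0x5cb49526094) (nat_lit 1536))
) (.node (nat_lit 0x5e20dd3407f) (.leaf (nat_lit 0x5e00d93307e) (nat_lit 1792))
 (.node (nat_lit 0x6181ae4982d) (.leaf (nat_lit 0x5e20dd3407f) (nat_lit 1536))
 (.leaf (nat_lit 0x6181ae4982d) (nat_lit 512))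
))) (.node (nat_lit 0x62c8242001a) (.node (nat_lit 0x6288201f81c) (.leaf (nat_lit 0x61a1b24902e) (nat_lit 2305))
 (.leaf (nat_lit 0x6288201f81c) (nat_lit 1537))
) (.node (nat_lit 0x7f6a9c0a006) (.leaf (nat_lit 0x62c8242001a) (nat_lit 769))
 (.node (nat_lit 0x7f8a9809805) (.leaf (nat_lit 0x7f6a9c0a006) (nat_lit 769))
 (.leaf (nat_lit 0x7f8a9809805) (nat_lit 2048))
))))) (.node (nat_lit 0x9706f8940b9) (.node (nat_lit 0x8ca82c9010a) (.node (nat_lit 0x8c01d6b5091) (.node (nat_lit 0x83682175133) (.leaf (nat_lit 0x83482574134) (nat_lit 1536))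
 (.leaf (nat_lit 0x83682175133) (nat_lit 1281))
) (.node (nat_lit 0x8c21dab6892) (.leaf (nat_lit 0x8c01d6b5091) (nat_lit 512))
 (.node (nat_lit 0x8c88288f909) (.leaf (nat_lit 0x8c21dab6892) (nat_lit 1793))
 (.leaf (nat_lit 0x8c88288f909) (nat_lit 1536))
))) (.node (nat_lit 0x8f617136c6e) (.node (nat_lit 0x8ee16d3646f) (.leaf (nat_lit 0x8ca82c9010a) (nat_lit 768))
 (.leaf (nat_lit 0x8ee16d3646f) (nat_lit 1537))
) (.node (nat_lit 0x94e824d504d) (.leaf (nat_lit 0x8f617136c6e) (nat_lit 1537))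
 (.node (nat_lit 0x956820d584e) (.leaf (nat_lit 0x94e824d504d) (nat_lit 1537))
 (.leaf (nat_lit 0x956820d584e) (nat_lit 1537))
)))) (.node (nat_lit 0xa124f6b6892) (.node (nat_lit 0x9d6f7530033) (.node (nat_lit 0x974708948bc) (.leaf (nat_lit 0x9706f8940b9) (nat_lit 1025))
 (.leaf (nat_lit 0x974708948bc) (nat_lit 1793))
) (.node (nat_lit 0x9daf6d31035) (.leaf (nat_lit 0x9d6f7530033) (nat_lit 1792))
 (.node (nat_lit 0xa104f2b5091) (.leaf (nat_lit 0x9daf6d31035) (nat_lit 769))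
 (.leaf (nat_lit 0xa104f2b5091) (nat_lit 1281))
))) (.node (nat_lit 0xa8e6fc37881) (.node (nat_lit 0xa8c71436882) (.leaf (nat_lit 0xa124f6b6892) (nat_lit 2048))
 (.leaf (nat_lit 0xa8c71436882) (nat_lit 256))
) (.node (nat_lit 0xac6ec5198b3) (.leaf (nat_lit 0xa8e6fc37881) (nat_lit 1793))
 (.node (nat_lit 0xacaecd190b4) (.leaf (nat_lit 0xac6ec5198b3) (nat_lit 1536))
 (.leaf (nat_lit 0xacaecd190b4) (nat_lit 1536))
)))))))

theorem cZ_ok : orbOK A [(nat_lit 0x1c039c80b9e), (nat_lit 0x6467aa3296f)] (nat_lit 0x12f13800019) cZ_t (nat_lit 80) = true := by decide +kernel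

/-- A listed class. -/
noncomputable def cW1_t : ST :=
(.node (nat_lit 0x5731b9439be) (.node (nat_lit 0x46a5141f81c) (.node (nat_lit 0xcb56679143) (.node (nat_lit 0x740087485c) (.node (nat_lit 0x720058414d) (.leaf (nat_lit 0x720047585b) (nat_lit 1280))
 (.leaf (nat_lit 0x720058414d) (nat_lit 1024))
) (.node (nat_lit 0x740098594c) (.leaf (nat_lit 0x740087485c) (nat_lit 1025))
 (.node (nat_lit 0xcb0d60b899) (.leaf (nat_lit 0x740098594c) (nat_lit 2049))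
 (.leaf (nat_lit 0xcb0d60b899) (nat_lit 512))
))) (.node (nat_lit 0xd556279944) (.node (nat_lit 0xd50ae0b09b) (.leaf (nat_lit 0xcb56679143) (nat_lit 1280))
 (.leaf (nat_lit 0xd50ae0b09b) (nat_lit 1537))
) (.node (nat_lit 0x4684fc2001a) (.leaf (nat_lit 0xd556279944) (nat_lit 1537))
 (.node (nat_lit 0x4684fd878aa) (.leaf (nat_lit 0x4684fc2001a) (nat_lit 1024))
 (.leaf (nat_lit 0x4684fd878aa) (nat_lit 1536))
)))) (.node (nat_lit 0x4cf22c1f81c) (.node (nat_lit 0x4b276a79143) (.node (nat_lit 0x46a515880a8) (.leaf (nat_lit 0x46a5141f81c) (nat_lit 769))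
 (.leaf (nat_lit 0x46a515880a8) (nat_lit 1537))
) (.node (nat_lit 0x4b477279944) (.leaf (nat_lit 0x4b276a79143) (nat_lit 2305))
 (.node (nat_lit 0x4ce2e5431c2) (.leaf (nat_lit 0x4b477279944) (nat_lit 513))
 (.leaf (nat_lit 0x4ce2e5431c2) (nat_lit 512))
))) (.node (nat_lit 0x4d32282001a) (.node (nat_lit 0x4d22f1439be) (.leaf (nat_lit 0x4cf22c1f81c) (nat_lit 768))
 (.leaf (nat_lit 0x4d22f1439be) (nat_lit 1793))
) (.node (nat_lit 0x5728242001a) (.leaf (nat_lit 0x4d32282001a) (nat_lit 2049))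
 (.node (nat_lit 0x572825878aa) (.leaf (nat_lit 0x5728242001a) (nat_lit 1792))
 (.leaf (nat_lit 0x572825878aa) (nat_lit 1025))
))))) (.node (nat_lit 0x9611bd8594c) (.node (nat_lit 0x5a922e0e3c9) (.node (nat_lit 0x578821880a8) (.node (nat_lit 0x5788201f81c) (.leaf (nat_lit 0x5731b9439be) (nat_lit 1793))
 (.leaf (nat_lit 0x5788201f81c) (nat_lit 1281))
) (.node (nat_lit 0x5791bd431c2) (.leaf (nat_lit 0x578821880a8) (nat_lit 1281))
 (.node (nat_lit 0x5a82e47485c) (.leaf (nat_lit 0x5791bd431c2) (nat_lit 768))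
 (.leaf (nat_lit 0x5a82e47485c) (nat_lit 513))
))) (.node (nat_lit 0x5ab22a0ebc8) (.node (nat_lit 0x5aa2f07585b) (.leaf (nat_lit 0x5a922e0e3c9) (nat_lit 257))
 (.leaf (nat_lit 0x5aa2f07585b) (nat_lit 2305))
) (.node (nat_lit 0x9608220e3c9) (.leaf (nat_lit 0x5ab22a0ebc8) (nat_lit 2049))
 (.node (nat_lit 0x9611bc7485c) (.leaf (nat_lit 0x9608220e3c9) (nat_lit 256))
 (.leaf (nat_lit 0x9611bc7485c) (nat_lit 769))
)))) (.node (nat_lit 0x9b68b4abc6b) (.node (nat_lit 0x9651b87585b) (.node (nat_lit 0x9648260ebc8) (.leaf (nat_lit 0x9611bd8594c) (nat_lit 1537))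
 (.leaf (nat_lit 0x9648260ebc8) (nat_lit 2048))
) (.node (nat_lit 0x9651b98414d) (.leaf (nat_lit 0x9651b87585b) (nat_lit 2304))
 (.node (nat_lit 0x9b48b0acc6c) (.leaf (nat_lit 0x9651b98414d) (nat_lit 1281))
 (.leaf (nat_lit 0x9b48b0acc6c) (nat_lit 2049))
))) (.node (nat_lit 0x9c95647505a) (.node (nat_lit 0x9c90d4acc6c) (.leaf (nat_lit 0x9b68b4abc6b) (nat_lit 1025))
 (.leaf (nat_lit 0x9c90d4acc6c) (nat_lit 1792))
) (.node (nat_lit 0x9cb0acabc6b) (.leaf (nat_lit 0x9c95647505a) (nat_lit 0))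
 (.node (nat_lit 0x9cb56074059) (.leaf (nat_lit 0x9cb0acabc6b) (nat_lit 1025))
 (.leaf (nat_lit 0x9cb56074059) (nat_lit 1793))
))))))

theorem cW1_ok : orbOK A [(nat_lit 0x1c039c80b9e), (nat_lit 0x6467aa3296f)] (nat_lit 0x9c95647505a) cW1_t (nat_lit 40) = true := by decide +kernel

/-- A listed class. -/
noncomputable def cW2_t : ST :=
(.node (nat_lit 0x6fe9255e9f9) (.node (nat_lit 0x402dd530033) (.node (nat_lit 0x1be3b23b443) (.node (nat_lit 0x9149630b78) (.node (nat_lit 0x8d49230379) (.node (nat_lit 0x8ce5284c33) (.leaf (nat_lit 0x8ce506e140) (nat_lit 2048))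
 (.leaf (nat_lit 0x8ce5284c33) (nat_lit 1025))
) (.node (nat_lit 0x90e5470948) (.leaf (nat_lit 0x8d49230379) (nat_lit 1024))
 (.node (nat_lit 0x90e5684434) (.leaf (nat_lit 0x90e5470948) (nat_lit 768))
 (.leaf (nat_lit 0x90e5684434) (nat_lit 1536))
))) (.node (nat_lit 0x144d7ea79ca) (.node (nat_lit 0x142d7aa69cb) (.leaf (nat_lit 0x9149630b78) (nat_lit 1537))
 (.leaf (nat_lit 0x142d7aa69cb) (nat_lit 1793))
) (.node (nat_lit 0x182f2588c8a) (.leaf (nat_lit 0x144d7ea79ca) (nat_lit 256))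
 (.node (nat_lit 0x186f218548b) (.leaf (nat_lit 0x182f2588c8a) (nat_lit 1793))
 (.leaf (nat_lit 0x186f218548b) (nat_lit 1025))
)))) (.node (nat_lit 0x2f4068e9a08) (.node (nat_lit 0x20a8c400019) (.node (nat_lit 0x1c039e3c442) (.leaf (nat_lit 0x1be3b23b443) (nat_lit 2305))
 (.leaf (nat_lit 0x1c039e3c442) (nat_lit 257))
) (.node (nat_lit 0x20c8bc8981b) (.leaf (nat_lit 0x20a8c400019) (nat_lit 1793))
 (.node (nat_lit 0x2e8070e9209) (.leaf (nat_lit 0x20c8bc8981b) (nat_lit 512))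
 (.leaf (nat_lit 0x2e8070e9209) (nat_lit 1537))
))) (.node (nat_lit 0x30a1cab6892) (.node (nat_lit 0x3081ceb5091) (.leaf (nat_lit 0x2f4068e9a08) (nat_lit 1537))
 (.leaf (nat_lit 0x3081ceb5091) (nat_lit 2049))
) (.node (nat_lit 0x30ecfc00019) (.leaf (nat_lit 0x30a1cab6892) (nat_lit 0))
 (.node (nat_lit 0x310cf48981b) (.leaf (nat_lit 0x30ecfc00019) (nat_lit 1537))
 (.leaf (nat_lit 0x310cf48981b) (nat_lit 1536))
))))) (.node (nat_lit 0x608df545b45) (.node (nat_lit 0x49d03000019) (.node (nat_lit 0x48ce9c80b9e) (.node (nat_lit 0x406dd931035) (.leaf (nat_lit 0x402dd530033) (nat_lit 1024))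
 (.leaf (nat_lit 0x406dd931035) (nat_lit 1537))
) (.node (nat_lit 0x48ee987cb9d) (.leaf (nat_lit 0x48ce9c80b9e) (nat_lit 512))
 (.node (nat_lit 0x4990288981b) (.leaf (nat_lit 0x48ee987cb9d) (nat_lit 2305))
 (.leaf (nat_lit 0x4990288981b) (nat_lit 1281))
))) (.node (nat_lit 0x53b1b87585b) (.node (nat_lit 0x5311bc7485c) (.leaf (nat_lit 0x49d03000019) (nat_lit 2048))
 (.leaf (nat_lit 0x5311bc7485c) (nat_lit 1537))
) (.node (nat_lit 0x5c2e50c2cc0) (.leaf (nat_lit 0x53b1b87585b) (nat_lit 769))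
 (.node (nat_lit 0x5cae54c24c2) (.leaf (nat_lit 0x5c2e50c2cc0) (nat_lit 1280))
 (.leaf (nat_lit 0x5cae54c24c2) (nat_lit 513))
)))) (.node (nat_lit 0x6c31753b3d3) (.node (nat_lit 0x6291bd8f023) (.node (nat_lit 0x60ae3546b43) (.leaf (nat_lit 0x608df545b45) (nat_lit 1536))
 (.leaf (nat_lit 0x60ae3546b43) (nat_lit 1536))
) (.node (nat_lit 0x62d1b98e024) (.leaf (nat_lit 0x6291bd8f023) (nat_lit 1281))
 (.node (nat_lit 0x6c11613bbd2) (.leaf (nat_lit 0x62d1b98e024) (nat_lit 1536))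
 (.leaf (nat_lit 0x6c11613bbd2) (nat_lit 1793))
))) (.node (nat_lit 0x6de4ad71303) (.node (nat_lit 0x6dc4a970301) (.leaf (nat_lit 0x6c31753b3d3) (nat_lit 1024))
 (.leaf (nat_lit 0x6dc4a970301) (nat_lit 1281))
) (.node (nat_lit 0x6e04e0aea15) (.leaf (nat_lit 0x6de4ad71303) (nat_lit 2049))
 (.node (nat_lit 0x6e24e4a7a13) (.leaf (nat_lit 0x6e04e0aea15) (nat_lit 1280))
 (.leaf (nat_lit 0x6e24e4a7a13) (nat_lit 2048))
)))))) (.node (nat_lit 0x9651bde83f1) (.node (nat_lit 0x96059c7485c) (.node (nat_lit 0x8371bde6437) (.node (nat_lit 0x8306507585b) (.node (nat_lit 0x70292d5f1fa) (.leaf (nat_lit 0x6fe9255e9f9) (nat_lit 2048))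
 (.leaf (nat_lit 0x70292d5f1fa) (nat_lit 769))
) (.node (nat_lit 0x8326547485c) (.leaf (nat_lit 0x8306507585b) (nat_lit 1281))
 (.node (nat_lit 0x8351b9e7436) (.leaf (nat_lit 0x8326547485c) (nat_lit 1024))
 (.leaf (nat_lit 0x8351b9e7436) (nat_lit 1537))
))) (.node (nat_lit 0x8b61347485c) (.node (nat_lit 0x8b21387585b) (.leaf (nat_lit 0x8371bde6437) (nat_lit 1537))
 (.leaf (nat_lit 0x8b21387585b) (nat_lit 1025))
) (.node (nat_lit 0x94f1ba939c6) (.leaf (nat_lit 0x8b61347485c) (nat_lit 1536))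
 (.node (nat_lit 0x9571be931c7) (.leaf (nat_lit 0x94f1ba939c6) (nat_lit 1536))
 (.leaf (nat_lit 0x9571be931c7) (nat_lit 1281))
)))) (.node (nat_lit 0x9614d0eac05) (.node (nat_lit 0x960fb092a2b) (.node (nat_lit 0x96084c29138) (.leaf (nat_lit 0x96059c7485c) (nat_lit 1792))
 (.leaf (nat_lit 0x96084c29138) (nat_lit 1281))
) (.node (nat_lit 0x9611b902d38) (.leaf (nat_lit 0x960fb092a2b) (nat_lit 1281))
 (.node (nat_lit 0x9611b9e8bf0) (.leaf (nat_lit 0x9611b902d38) (nat_lit 1792))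
 (.leaf (nat_lit 0x9611b9e8bf0) (nat_lit 1536))
))) (.node (nat_lit 0x96485428139) (.node (nat_lit 0x9645907585b) (.leaf (nat_lit 0x9614d0eac05) (nat_lit 1792))
 (.leaf (nat_lit 0x9645907585b) (nat_lit 1025))
) (.node (nat_lit 0x964fb492226) (.leaf (nat_lit 0x96485428139) (nat_lit 1280))
 (.node (nat_lit 0x9651bd03d39) (.leaf (nat_lit 0x964fb492226) (nat_lit 1793))
 (.leaf (nat_lit 0x9651bd03d39) (nat_lit 1537))
))))) (.node (nat_lit 0xa18ce545488) (.node (nat_lit 0x98a4cc7485c) (.node (nat_lit 0x966725220bf) (.node (nat_lit 0x9654d4ea404) (.leaf (nat_lit 0x9651bde83f1) (nat_lit 1281))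
 (.leaf (nat_lit 0x9654d4ea404) (nat_lit 1025))
) (.node (nat_lit 0x968705228c4) (.leaf (nat_lit 0x966725220bf) (nat_lit 769))
 (.node (nat_lit 0x9884d07585b) (.leaf (nat_lit 0x968705228c4) (nat_lit 1792))
 (.leaf (nat_lit 0x9884d07585b) (nat_lit 1281))
))) (.node (nat_lit 0x9c6b787485c) (.node (nat_lit 0x9c4b7c7585b) (.leaf (nat_lit 0x98a4cc7485c) (nat_lit 1280))
 (.leaf (nat_lit 0x9c4b7c7585b) (nat_lit 513))
) (.node (nat_lit 0xa04f616e937) (.leaf (nat_lit 0x9c6b787485c) (nat_lit 1792))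
 (.node (nat_lit 0xa06f656d936) (.leaf (nat_lit 0xa04f616e937) (nat_lit 1536))
 (.leaf (nat_lit 0xa06f656d936) (nat_lit 768))
)))) (.node (nat_lit 0xa8e6fc779f0) (.node (nat_lit 0xa6051c8f909) (.node (nat_lit 0xa1ace144c89) (.leaf (nat_lit 0xa18ce545488) (nat_lit 1536))
 (.leaf (nat_lit 0xa1ace144c89) (nat_lit 1792))
) (.node (nat_lit 0xa645189010a) (.leaf (nat_lit 0xa6051c8f909) (nat_lit 1280))
 (.node (nat_lit 0xa8c714781f1) (.leaf (nat_lit 0xa645189010a) (nat_lit 1025))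
 (.leaf (nat_lit 0xa8c714781f1) (nat_lit 2049))
))) (.node (nat_lit 0xac2e16781fe) (.node (nat_lit 0xabee0e789ff) (.leaf (nat_lit 0xa8e6fc779f0) (nat_lit 768))
 (.leaf (nat_lit 0xabee0e789ff) (nat_lit 1793))
) (.node (nat_lit 0xad42a970945) (.leaf (nat_lit 0xac2e16781fe) (nat_lit 1024))
 (.node (nat_lit 0xada2a17293f) (.leaf (nat_lit 0xad42a970945) (nat_lit 1793))
 (.leaf (nat_lit 0xada2a17293f) (nat_lit 1537))
)))))))

theorem cW2_ok : orbOK A [(nat_lit 0x1c039c80b9e), (nat_lit 0x6467aa3296f)] (nat_lit 0x30a1cab6892) cW2_t (nat_lit 80) = true := by decide +kernel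

/-- A listed class. -/
noncomputable def cW3_t : ST :=
(.node (nat_lit 0x580cf886a38) (.node (nat_lit 0x252e5470948) (.node (nat_lit 0x15f5415fcc1) (.node (nat_lit 0xbc2a65cc50) (.node (nat_lit 0x8ce5412ba5) (.node (nat_lit 0x78e2587108) (.node (nat_lit 0x4ae1548854) (.node (nat_lit 0x224ccaaba0) (.leaf (nat_lit 0xf2424001) (nat_lit 1025))
 (.node (nat_lit 0x244d0ab3a1) (.leaf (nat_lit 0x224ccaaba0) (nat_lit 2561))
 (.leaf (nat_lit 0x244d0ab3a1) (nat_lit 1280))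
)) (.node (nat_lit 0x76e2184907) (.node (nat_lit 0x4ee0d49053) (.leaf (nat_lit 0x4ae1548854) (nat_lit 1793))
 (.leaf (nat_lit 0x4ee0d49053) (nat_lit 2305))
) (.node (nat_lit 0x76e222b0f3) (.leaf (nat_lit 0x76e2184907) (nat_lit 2305))
 (.leaf (nat_lit 0x76e222b0f3) (nat_lit 1793))
))) (.node (nat_lit 0x8c5944b820) (.node (nat_lit 0x7a0ce4b35f) (.node (nat_lit 0x78e262a0f6) (.leaf (nat_lit 0x78e2587108) (nat_lit 2304))
 (.leaf (nat_lit 0x78e262a0f6) (nat_lit 2817))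
) (.node (nat_lit 0x7c0d64ab5e) (.leaf (nat_lit 0x7a0ce4b35f) (nat_lit 2560))
 (.leaf (nat_lit 0x7c0d64ab5e) (nat_lit 1536))
)) (.node (nat_lit 0x8ccba84c33) (.node (nat_lit 0x8c5dab192c) (.leaf (nat_lit 0x8c5944b820) (nat_lit 2561))
 (.leaf (nat_lit 0x8c5dab192c) (nat_lit 2561))
) (.node (nat_lit 0x8ccc841bc2) (.leaf (nat_lit 0x8ccba84c33) (nat_lit 2560))
 (.leaf (nat_lit 0x8ccc841bc2) (nat_lit 2560))
)))) (.node (nat_lit 0x90e5186935) (.node (nat_lit 0x905e2b292d) (.node (nat_lit 0x8ce558612e) (.leaf (nat_lit 0x8ce5412ba5) (nat_lit 2817))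
 (.node (nat_lit 0x905a84c01f) (.leaf (nat_lit 0x8ce558612e) (nat_lit 2305))
 (.leaf (nat_lit 0x905a84c01f) (nat_lit 3072))
)) (.node (nat_lit 0x90ccc423c7) (.node (nat_lit 0x90cbe84434) (.leaf (nat_lit 0x905e2b292d) (nat_lit 2049))
 (.leaf (nat_lit 0x90cbe84434) (nat_lit 1280))
) (.node (nat_lit 0x90e5013ba4) (.leaf (nat_lit 0x90ccc423c7) (nat_lit 2049))
 (.leaf (nat_lit 0x90e5013ba4) (nat_lit 1793))
))) (.node (nat_lit 0xa33310833b) (.node (nat_lit 0x9f32907b3a) (.node (nat_lit 0x9e328d73ac) (.leaf (nat_lit 0x90e5186935) (nat_lit 2560))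
 (.leaf (nat_lit 0x9e328d73ac) (nat_lit 1025))
) (.node (nat_lit 0xa2324d7bab) (.leaf (nat_lit 0x9f32907b3a) (nat_lit 2048))
 (.leaf (nat_lit 0xa2324d7bab) (nat_lit 2560))
)) (.node (nat_lit 0xae26c7922c) (.node (nat_lit 0xaa26478a2d) (.leaf (nat_lit 0xa33310833b) (nat_lit 2816))
 (.leaf (nat_lit 0xaa26478a2d) (nat_lit 2048))
) (.node (nat_lit 0xba29e5dc51) (.leaf (nat_lit 0xae26c7922c) (nat_lit 2560))
 (.leaf (nat_lit 0xba29e5dc51) (nat_lit 2305))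
))))) (.node (nat_lit 0x10717469186) (.node (nat_lit 0xccd194e038) (.node (nat_lit 0xc66653ea0d) (.node (nat_lit 0xc251a51c41) (.leaf (nat_lit 0xbc2a65cc50) (nat_lit 1792))
 (.node (nat_lit 0xc451e50c40) (.leaf (nat_lit 0xc251a51c41) (nat_lit 2816))
 (.leaf (nat_lit 0xc451e50c40) (nat_lit 1792))
)) (.node (nat_lit 0xc8f981e89a) (.node (nat_lit 0xc718d479bc) (.leaf (nat_lit 0xc66653ea0d) (nat_lit 2817))
 (.leaf (nat_lit 0xc718d479bc) (nat_lit 2049))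
) (.node (nat_lit 0xc8f98430ee) (.leaf (nat_lit 0xc8f981e89a) (nat_lit 2049))
 (.leaf (nat_lit 0xc8f98430ee) (nat_lit 2049))
))) (.node (nat_lit 0xd0d114b834) (.node (nat_lit 0xce6614420c) (.node (nat_lit 0xccd1a2a809) (.leaf (nat_lit 0xccd194e038) (nat_lit 3073))
 (.leaf (nat_lit 0xccd1a2a809) (nat_lit 2816))
) (.node (nat_lit 0xcf189471bd) (.leaf (nat_lit 0xce6614420c) (nat_lit 2561))
 (.leaf (nat_lit 0xcf189471bd) (nat_lit 1792))
)) (.node (nat_lit 0xd2f9c1f09c) (.node (nat_lit 0xd0d122b80b) (.leaf (nat_lit 0xd0d114b834) (nat_lit 1537))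
 (.leaf (nat_lit 0xd0d122b80b) (nat_lit 2561))
) (.node (nat_lit 0xd2f9c428ed) (.leaf (nat_lit 0xd2f9c1f09c) (nat_lit 2561))
 (.leaf (nat_lit 0xd2f9c428ed) (nat_lit 2561))
)))) (.node (nat_lit 0x14aeda0f8c6) (.node (nat_lit 0x10d1ad02435) (.node (nat_lit 0x1091606b192) (.leaf (nat_lit 0x10717469186) (nat_lit 2560))
 (.node (nat_lit 0x10b1b10342b) (.leaf (nat_lit 0x1091606b192) (nat_lit 2049))
 (.leaf (nat_lit 0x10b1b10342b) (nat_lit 1537))
)) (.node (nat_lit 0x1310288981b) (.node (nat_lit 0x12f03000019) (.leaf (nat_lit 0x10d1ad02435) (nat_lit 2048))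
 (.leaf (nat_lit 0x12f03000019) (nat_lit 2305))
) (.node (nat_lit 0x14adcc97b52) (.leaf (nat_lit 0x1310288981b) (nat_lit 2304))
 (.leaf (nat_lit 0x14adcc97b52) (nat_lit 2305))
))) (.node (nat_lit 0x1570feb6090) (.node (nat_lit 0x14cede0f0c5) (.node (nat_lit 0x14cddc98b53) (.leaf (nat_lit 0x14aeda0f8c6) (nat_lit 2816))
 (.leaf (nat_lit 0x14cddc98b53) (nat_lit 1793))
) (.node (nat_lit 0x1570fc72887) (.leaf (nat_lit 0x14cede0f0c5) (nat_lit 1792))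
 (.leaf (nat_lit 0x1570fc72887) (nat_lit 2305))
)) (.node (nat_lit 0x15b0fab5889) (.node (nat_lit 0x15b0f873088) (.leaf (nat_lit 0x1570feb6090) (nat_lit 2560))
 (.leaf (nat_lit 0x15b0f873088) (nat_lit 2561))
) (.node (nat_lit 0x15e8758a910) (.leaf (nat_lit 0x15b0fab5889) (nat_lit 1280))
 (.leaf (nat_lit 0x15e8758a910) (nat_lit 2817))
)))))) (.node (nat_lit 0x1ef1105c1a5) (.node (nat_lit 0x1ac3263b443) (.node (nat_lit 0x1854f546b43) (.node (nat_lit 0x180e323c94a) (.node (nat_lit 0x1608858b90f) (.leaf (nat_lit 0x15f5415fcc1) (nat_lit 1793))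
 (.node (nat_lit 0x161549604c3) (.leaf (nat_lit 0x1608858b90f) (nat_lit 2816))
 (.leaf (nat_lit 0x161549604c3) (nat_lit 1536))
)) (.node (nat_lit 0x18253188c8a) (.node (nat_lit 0x1814f145b45) (.leaf (nat_lit 0x180e323c94a) (nat_lit 1024))
 (.leaf (nat_lit 0x1814f145b45) (nat_lit 2817))
) (.node (nat_lit 0x184e2e3d149) (.leaf (nat_lit 0x18253188c8a) (nat_lit 1536))
 (.leaf (nat_lit 0x184e2e3d149) (nat_lit 2305))
))) (.node (nat_lit 0x1a532856b44) (.node (nat_lit 0x1a2b7e7d53a) (.node (nat_lit 0x1865358548b) (.leaf (nat_lit 0x1854f546b43) (nat_lit 2817))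
 (.leaf (nat_lit 0x1865358548b) (nat_lit 2560))
) (.node (nat_lit 0x1a432a3c442) (.leaf (nat_lit 0x1a2b7e7d53a) (nat_lit 2560))
 (.leaf (nat_lit 0x1a432a3c442) (nat_lit 2817))
)) (.node (nat_lit 0x1a834103d39) (.node (nat_lit 0x1a6b7a7dd3b) (.leaf (nat_lit 0x1a532856b44) (nat_lit 2817))
 (.leaf (nat_lit 0x1a6b7a7dd3b) (nat_lit 2305))
) (.node (nat_lit 0x1aa33d02d38) (.leaf (nat_lit 0x1a834103d39) (nat_lit 1792))
 (.leaf (nat_lit 0x1aa33d02d38) (nat_lit 2304))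
)))) (.node (nat_lit 0x1c8880ad93b) (.node (nat_lit 0x1ba87cad13a) (.node (nat_lit 0x1ad33055b46) (.leaf (nat_lit 0x1ac3263b443) (nat_lit 2049))
 (.node (nat_lit 0x1b88bc61a6a) (.leaf (nat_lit 0x1ad33055b46) (nat_lit 2304))
 (.leaf (nat_lit 0x1b88bc61a6a) (nat_lit 1793))
)) (.node (nat_lit 0x1c12f457d29) (.node (nat_lit 0x1bf2f058528) (.leaf (nat_lit 0x1ba87cad13a) (nat_lit 1793))
 (.leaf (nat_lit 0x1bf2f058528) (nat_lit 2304))
) (.node (nat_lit 0x1c28c460a6b) (.leaf (nat_lit 0x1c12f457d29) (nat_lit 2561))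
 (.leaf (nat_lit 0x1c28c460a6b) (nat_lit 2304))
))) (.node (nat_lit 0x1e26e1579f6) (.node (nat_lit 0x1cc5107f559) (.node (nat_lit 0x1ca50c7c558) (.leaf (nat_lit 0x1c8880ad93b) (nat_lit 2560))
 (.leaf (nat_lit 0x1ca50c7c558) (nat_lit 1537))
) (.node (nat_lit 0x1e26e0723f2) (.leaf (nat_lit 0x1cc5107f559) (nat_lit 2048))
 (.leaf (nat_lit 0x1e26e0723f2) (nat_lit 2305))
)) (.node (nat_lit 0x1e46d5571f7) (.node (nat_lit 0x1e46d46ebf3) (.leaf (nat_lit 0x1e26e1579f6) (nat_lit 1025))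
 (.leaf (nat_lit 0x1e46d46ebf3) (nat_lit 2305))
) (.node (nat_lit 0x1eedf164b31) (.leaf (nat_lit 0x1e46d5571f7) (nat_lit 2305))
 (.leaf (nat_lit 0x1eedf164b31) (nat_lit 2560))
))))) (.node (nat_lit 0x2025a2b5091) (.node (nat_lit 0x1f71145b9a3) (.node (nat_lit 0x1f25a4ba1fd) (.node (nat_lit 0x1f0e51309c4) (.leaf (nat_lit 0x1ef1105c1a5) (nat_lit 1537))
 (.node (nat_lit 0x1f1490981e9) (.leaf (nat_lit 0x1f0e51309c4) (nat_lit 2561))
 (.leaf (nat_lit 0x1f1490981e9) (nat_lit 2560))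
)) (.node (nat_lit 0x1f4f64af1c0) (.node (nat_lit 0x1f25a6b6892) (.leaf (nat_lit 0x1f25a4ba1fd) (nat_lit 2561))
 (.leaf (nat_lit 0x1f25a6b6892) (nat_lit 2305))
) (.node (nat_lit 0x1f6e2965330) (.leaf (nat_lit 0x1f4f64af1c0) (nat_lit 2304))
 (.leaf (nat_lit 0x1f6e2965330) (nat_lit 2561))
))) (.node (nat_lit 0x1fec022a809) (.node (nat_lit 0x1fd494991ed) (.node (nat_lit 0x1fce55319c3) (.leaf (nat_lit 0x1f71145b9a3) (nat_lit 2817))
 (.leaf (nat_lit 0x1fce55319c3) (nat_lit 2561))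
) (.node (nat_lit 0x1fec014e038) (.leaf (nat_lit 0x1fd494991ed) (nat_lit 2561))
 (.leaf (nat_lit 0x1fec014e038) (nat_lit 2561))
)) (.node (nat_lit 0x200c0a2b80b) (.node (nat_lit 0x200c094b834) (.leaf (nat_lit 0x1fec022a809) (nat_lit 2561))
 (.leaf (nat_lit 0x200c094b834) (nat_lit 2816))
) (.node (nat_lit 0x2025a0bd1fc) (.leaf (nat_lit 0x200c0a2b80b) (nat_lit 3073))
 (.leaf (nat_lit 0x2025a0bd1fc) (nat_lit 2560))
)))) (.node (nat_lit 0x22d0100b994) (.node (nat_lit 0x20c23e5c04c) (.node (nat_lit 0x208f60af9c8) (.leaf (nat_lit 0x2025a2b5091) (nat_lit 2049))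
 (.node (nat_lit 0x20a23a5d04b) (.leaf (nat_lit 0x208f60af9c8) (nat_lit 2304))
 (.leaf (nat_lit 0x20a23a5d04b) (nat_lit 512))
)) (.node (nat_lit 0x21a1641d9da) (.node (nat_lit 0x2161681e1dc) (.leaf (nat_lit 0x20c23e5c04c) (nat_lit 1793))
 (.leaf (nat_lit 0x2161681e1dc) (nat_lit 1793))
) (.node (nat_lit 0x226f2023002) (.leaf (nat_lit 0x21a1641d9da) (nat_lit 2560))
 (.leaf (nat_lit 0x226f2023002) (nat_lit 2048))
))) (.node (nat_lit 0x2450c028c69) (.node (nat_lit 0x234070e9209) (.node (nat_lit 0x22f0140a995) (.leaf (nat_lit 0x22d0100b994) (nat_lit 2304))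
 (.leaf (nat_lit 0x22f0140a995) (nat_lit 2048))
) (.node (nat_lit 0x242068e9a08) (.leaf (nat_lit 0x234070e9209) (nat_lit 1537))
 (.leaf (nat_lit 0x242068e9a08) (nat_lit 2560))
)) (.node (nat_lit 0x250e506e140) (.node (nat_lit 0x2470bc27c6a) (.leaf (nat_lit 0x2450c028c69) (nat_lit 1537))
 (.leaf (nat_lit 0x2470bc27c6a) (nat_lit 2561))
) (.node (nat_lit 0x25149230379) (.leaf (nat_lit 0x250e506e140) (nat_lit 3073))
 (.leaf (nat_lit 0x25149230379) (nat_lit 1792))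
))))))) (.node (nat_lit 0x48ca9cad93b) (.node (nat_lit 0x30e1da5d04b) (.node (nat_lit 0x2b74f5df99a) (.node (nat_lit 0x29f18d82b55) (.node (nat_lit 0x264f15460cb) (.node (nat_lit 0x25349630b78) (.leaf (nat_lit 0x252e5470948) (nat_lit 2561))
 (.node (nat_lit 0x260f19480c8) (.leaf (nat_lit 0x25349630b78) (nat_lit 2049))
 (.leaf (nat_lit 0x260f19480c8) (nat_lit 1536))
)) (.node (nat_lit 0x29cc0c87339) (.node (nat_lit 0x29c659831ef) (.leaf (nat_lit 0x264f15460cb) (nat_lit 2561))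
 (.leaf (nat_lit 0x29c659831ef) (nat_lit 2305))
) (.node (nat_lit 0x29e665b0079) (.leaf (nat_lit 0x29cc0c87339) (nat_lit 1792))
 (.leaf (nat_lit 0x29e665b0079) (nat_lit 1537))
))) (.node (nat_lit 0x2b114080b9e) (.node (nat_lit 0x2a8c0486338) (.node (nat_lit 0x2a865d839ee) (.leaf (nat_lit 0x29f18d82b55) (nat_lit 1537))
 (.leaf (nat_lit 0x2a865d839ee) (nat_lit 2304))
) (.node (nat_lit 0x2b008832512) (.leaf (nat_lit 0x2a8c0486338) (nat_lit 2305))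
 (.leaf (nat_lit 0x2b008832512) (nat_lit 2305))
)) (.node (nat_lit 0x2b54f1e099b) (.node (nat_lit 0x2b4e31190b4) (.leaf (nat_lit 0x2b114080b9e) (nat_lit 2305))
 (.leaf (nat_lit 0x2b4e31190b4) (nat_lit 2816))
) (.node (nat_lit 0x2b6e2d198b3) (.leaf (nat_lit 0x2b54f1e099b) (nat_lit 1025))
 (.leaf (nat_lit 0x2b6e2d198b3) (nat_lit 2816))
)))) (.node (nat_lit 0x30022eba8b2) (.node (nat_lit 0x2ba661b087a) (.node (nat_lit 0x2b808434d13) (.leaf (nat_lit 0x2b74f5df99a) (nat_lit 2305))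
 (.node (nat_lit 0x2b91447cb9d) (.leaf (nat_lit 0x2b808434d13) (nat_lit 1792))
 (.leaf (nat_lit 0x2b91447cb9d) (nat_lit 2304))
)) (.node (nat_lit 0x2e808e4d164) (.node (nat_lit 0x2bb18982354) (.leaf (nat_lit 0x2ba661b087a) (nat_lit 2817))
 (.leaf (nat_lit 0x2bb18982354) (nat_lit 2304))
) (.node (nat_lit 0x2f40924d967) (.leaf (nat_lit 0x2e808e4d164) (nat_lit 2048))
 (.leaf (nat_lit 0x2f40924d967) (nat_lit 2817))
))) (.node (nat_lit 0x306dd072887) (.node (nat_lit 0x304dc873088) (.node (nat_lit 0x302236ba0b1) (.leaf (nat_lit 0x30022eba8b2) (nat_lit 2049))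
 (.leaf (nat_lit 0x302236ba0b1) (nat_lit 2049))
) (.node (nat_lit 0x304dcab5889) (.leaf (nat_lit 0x304dc873088) (nat_lit 2560))
 (.leaf (nat_lit 0x304dcab5889) (nat_lit 2560))
)) (.node (nat_lit 0x3084f2b5091) (.node (nat_lit 0x306dd2b6090) (.leaf (nat_lit 0x306dd072887) (nat_lit 2305))
 (.leaf (nat_lit 0x306dd2b6090) (nat_lit 2561))
) (.node (nat_lit 0x30a4f6b6892) (.leaf (nat_lit 0x3084f2b5091) (nat_lit 2816))
 (.leaf (nat_lit 0x30a4f6b6892) (nat_lit 2305))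
))))) (.node (nat_lit 0x4074eab79cd) (.node (nat_lit 0x3a273492226) (.node (nat_lit 0x35cd64430ee) (.node (nat_lit 0x3101d65c04c) (.leaf (nat_lit 0x30e1da5d04b) (nat_lit 2304))
 (.node (nat_lit 0x35cd641e89a) (.leaf (nat_lit 0x3101d65c04c) (nat_lit 1793))
 (.leaf (nat_lit 0x35cd641e89a) (nat_lit 2817))
)) (.node (nat_lit 0x35ed60428ed) (.node (nat_lit 0x35ed601f09c) (.leaf (nat_lit 0x35cd64430ee) (nat_lit 1537))
 (.leaf (nat_lit 0x35ed601f09c) (nat_lit 2049))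
) (.node (nat_lit 0x3a073092a2b) (.leaf (nat_lit 0x35ed60428ed) (nat_lit 2305))
 (.leaf (nat_lit 0x3a073092a2b) (nat_lit 2304))
))) (.node (nat_lit 0x3a601d231f4) (.node (nat_lit 0x3a4021239fb) (.node (nat_lit 0x3a40206f80c) (.leaf (nat_lit 0x3a273492226) (nat_lit 2048))
 (.leaf (nat_lit 0x3a40206f80c) (nat_lit 2817))
) (.node (nat_lit 0x3a601c7000d) (.leaf (nat_lit 0x3a4021239fb) (nat_lit 2305))
 (.leaf (nat_lit 0x3a601c7000d) (nat_lit 1793))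
)) (.node (nat_lit 0x4034eeb89cc) (.node (nat_lit 0x400e7e73c53) (.leaf (nat_lit 0x3a601d231f4) (nat_lit 2304))
 (.leaf (nat_lit 0x400e7e73c53) (nat_lit 2304))
) (.node (nat_lit 0x404e6e74c52) (.leaf (nat_lit 0x4034eeb89cc) (nat_lit 2561))
 (.leaf (nat_lit 0x404e6e74c52) (nat_lit 2817))
)))) (.node (nat_lit 0x41f12a3bba3) (.node (nat_lit 0x40ce52bf08c) (.node (nat_lit 0x408e56bf88a) (.leaf (nat_lit 0x4074eab79cd) (nat_lit 1281))
 (.node (nat_lit 0x40949491a3b) (.leaf (nat_lit 0x408e56bf88a) (nat_lit 2561))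
 (.leaf (nat_lit 0x40949491a3b) (nat_lit 2561))
)) (.node (nat_lit 0x41c139e7a0b) (.node (nat_lit 0x40d4909123a) (.leaf (nat_lit 0x40ce52bf08c) (nat_lit 2305))
 (.leaf (nat_lit 0x40d4909123a) (nat_lit 1537))
) (.node (nat_lit 0x41f1288981b) (.leaf (nat_lit 0x41c139e7a0b) (nat_lit 2816))
 (.leaf (nat_lit 0x41f1288981b) (nat_lit 2561))
))) (.node (nat_lit 0x46435c8d337) (.node (nat_lit 0x42112e3dba2) (.node (nat_lit 0x42112c00019) (.leaf (nat_lit 0x41f12a3bba3) (nat_lit 2561))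
 (.leaf (nat_lit 0x42112c00019) (nat_lit 1793))
) (.node (nat_lit 0x422135e6a0a) (.leaf (nat_lit 0x42112e3dba2) (nat_lit 2048))
 (.leaf (nat_lit 0x422135e6a0a) (nat_lit 1792))
)) (.node (nat_lit 0x46636890b36) (.node (nat_lit 0x464ffc00019) (.leaf (nat_lit 0x46435c8d337) (nat_lit 2817))
 (.leaf (nat_lit 0x464ffc00019) (nat_lit 1536))
) (.node (nat_lit 0x4670008981b) (.leaf (nat_lit 0x46636890b36) (nat_lit 1024))
 (.leaf (nat_lit 0x4670008981b) (nat_lit 2049))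
)))))) (.node (nat_lit 0x51808a4982d) (.node (nat_lit 0x4ecd69b82fe) (.node (nat_lit 0x4c6eb869186) (.node (nat_lit 0x49b09521071) (.node (nat_lit 0x48ea98ad13a) (.leaf (nat_lit 0x48ca9cad93b) (nat_lit 2305))
 (.node (nat_lit 0x49913c8981b) (.leaf (nat_lit 0x48ea98ad13a) (nat_lit 2048))
 (.leaf (nat_lit 0x49913c8981b) (nat_lit 2816))
)) (.node (nat_lit 0x49f09121874) (.node (nat_lit 0x49d13800019) (.leaf (nat_lit 0x49b09521071) (nat_lit 1792))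
 (.leaf (nat_lit 0x49d13800019) (nat_lit 1281))
) (.node (nat_lit 0x4c2ebc6b192) (.leaf (nat_lit 0x49f09121874) (nat_lit 2049))
 (.leaf (nat_lit 0x4c2ebc6b192) (nat_lit 2048))
))) (.node (nat_lit 0x4db00986935) (.node (nat_lit 0x4d900d8612e) (.node (nat_lit 0x4d900c12ba5) (.leaf (nat_lit 0x4c6eb869186) (nat_lit 768))
 (.leaf (nat_lit 0x4d900c12ba5) (nat_lit 2305))
) (.node (nat_lit 0x4db00813ba4) (.leaf (nat_lit 0x4d900d8612e) (nat_lit 2304))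
 (.leaf (nat_lit 0x4db00813ba4) (nat_lit 2048))
)) (.node (nat_lit 0x4e47d60acca) (.node (nat_lit 0x4e27ca0a4cc) (.leaf (nat_lit 0x4db00986935) (nat_lit 3072))
 (.leaf (nat_lit 0x4e27ca0a4cc) (nat_lit 1793))
) (.node (nat_lit 0x4ec636b6892) (.leaf (nat_lit 0x4e47d60acca) (nat_lit 2048))
 (.leaf (nat_lit 0x4ec636b6892) (nat_lit 2304))
)))) (.node (nat_lit 0x4fa7861c9eb) (.node (nat_lit 0x4f0896b5889) (.node (nat_lit 0x4ee64eb5091) (.leaf (nat_lit 0x4ecd69b82fe) (nat_lit 2049))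
 (.node (nat_lit 0x4eed6db8afc) (.leaf (nat_lit 0x4ee64eb5091) (nat_lit 1537))
 (.leaf (nat_lit 0x4eed6db8afc) (nat_lit 2048))
)) (.node (nat_lit 0x4f4315b4049) (.node (nat_lit 0x4f28aab6090) (.leaf (nat_lit 0x4f0896b5889) (nat_lit 2305))
 (.leaf (nat_lit 0x4f28aab6090) (nat_lit 2305))
) (.node (nat_lit 0x4f6206939c6) (.leaf (nat_lit 0x4f4315b4049) (nat_lit 2561))
 (.leaf (nat_lit 0x4f6206939c6) (nat_lit 2049))
))) (.node (nat_lit 0x5081d1e8bf0) (.node (nat_lit 0x50420a931c7) (.node (nat_lit 0x4fe319b484a) (.leaf (nat_lit 0x4fa7861c9eb) (nat_lit 2304))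
 (.leaf (nat_lit 0x4fe319b484a) (nat_lit 2049))
) (.node (nat_lit 0x5061c5e83f1) (.leaf (nat_lit 0x50420a931c7) (nat_lit 2304))
 (.leaf (nat_lit 0x5061c5e83f1) (nat_lit 2304))
)) (.node (nat_lit 0x51635eb6892) (.node (nat_lit 0x5107821d1ec) (.leaf (nat_lit 0x5081d1e8bf0) (nat_lit 2304))
 (.leaf (nat_lit 0x5107821d1ec) (nat_lit 2817))
) (.node (nat_lit 0x516ffdb82fe) (.leaf (nat_lit 0x51635eb6892) (nat_lit 2305))
 (.leaf (nat_lit 0x516ffdb82fe) (nat_lit 2304))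
))))) (.node (nat_lit 0x533222bc12b) (.node (nat_lit 0x521144c1b00) (.node (nat_lit 0x51b001b8afc) (.node (nat_lit 0x519140c1302) (.leaf (nat_lit 0x51808a4982d) (nat_lit 2304))
 (.node (nat_lit 0x51a36ab5091) (.leaf (nat_lit 0x519140c1302) (nat_lit 2048))
 (.leaf (nat_lit 0x51a36ab5091) (nat_lit 2561))
)) (.node (nat_lit 0x51ef721c9eb) (.node (nat_lit 0x51cf6a1d1ec) (.leaf (nat_lit 0x51b001b8afc) (nat_lit 2048))
 (.leaf (nat_lit 0x51cf6a1d1ec) (nat_lit 2816))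
) (.node (nat_lit 0x5200864902e) (.leaf (nat_lit 0x51ef721c9eb) (nat_lit 1793))
 (.leaf (nat_lit 0x5200864902e) (nat_lit 2561))
))) (.node (nat_lit 0x5255493b3d3) (.node (nat_lit 0x5235413bbd2) (.node (nat_lit 0x52287633977) (.leaf (nat_lit 0x521144c1b00) (nat_lit 2817))
 (.leaf (nat_lit 0x52287633977) (nat_lit 2817))
) (.node (nat_lit 0x52488633179) (.leaf (nat_lit 0x5235413bbd2) (nat_lit 2817))
 (.leaf (nat_lit 0x52488633179) (nat_lit 513))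
)) (.node (nat_lit 0x52d226bc92a) (.node (nat_lit 0x52c1f942837) (.leaf (nat_lit 0x5255493b3d3) (nat_lit 2561))
 (.leaf (nat_lit 0x52c1f942837) (nat_lit 1793))
) (.node (nat_lit 0x5321fd3e036) (.leaf (nat_lit 0x52d226bc92a) (nat_lit 1793))
 (.leaf (nat_lit 0x5321fd3e036) (nat_lit 2817))
)))) (.node (nat_lit 0x55d43d49053) (.node (nat_lit 0x5360b46f06c) (.node (nat_lit 0x5340b86d86b) (.leaf (nat_lit 0x533222bc12b) (nat_lit 2304))
 (.node (nat_lit 0x5340b96e14b) (.leaf (nat_lit 0x5340b86d86b) (nat_lit 2561))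
 (.leaf (nat_lit 0x5340b96e14b) (nat_lit 2049))
)) (.node (nat_lit 0x53cfbaa69cb) (.node (nat_lit 0x5360b56d141) (.leaf (nat_lit 0x5360b46f06c) (nat_lit 2561))
 (.leaf (nat_lit 0x5360b56d141) (nat_lit 2816))
) (.node (nat_lit 0x53efbea79ca) (.leaf (nat_lit 0x53cfbaa69cb) (nat_lit 1792))
 (.leaf (nat_lit 0x53efbea79ca) (nat_lit 1793))
))) (.node (nat_lit 0x574dd493a12) (.node (nat_lit 0x5663b27a822) (.node (nat_lit 0x55f43948854) (.leaf (nat_lit 0x55d43d49053) (nat_lit 2305))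
 (.leaf (nat_lit 0x55f43948854) (nat_lit 2048))
) (.node (nat_lit 0x5708ae542de) (.leaf (nat_lit 0x5663b27a822) (nat_lit 1793))
 (.leaf (nat_lit 0x5708ae542de) (nat_lit 2560))
)) (.node (nat_lit 0x57ecf085a39) (.node (nat_lit 0x57e6d2b6090) (.leaf (nat_lit 0x574dd493a12) (nat_lit 1281))
 (.leaf (nat_lit 0x57e6d2b6090) (nat_lit 2560))
) (.node (nat_lit 0x5806deb5889) (.leaf (nat_lit 0x57ecf085a39) (nat_lit 2049))
 (.leaf (nat_lit 0x5806deb5889) (nat_lit 2305))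
)))))))) (.node (nat_lit 0x8cc6dc2b878) (.node (nat_lit 0x64012881c31) (.node (nat_lit 0x5d710c7a3a7) (.node (nat_lit 0x5c25d9b0079) (.node (nat_lit 0x5a012970301) (.node (nat_lit 0x58e4aeba0b1) (.node (nat_lit 0x58239e7a021) (.leaf (nat_lit 0x580cf886a38) (nat_lit 2048))
 (.node (nat_lit 0x58c4aaba8b2) (.leaf (nat_lit 0x58239e7a021) (nat_lit 2561))
 (.leaf (nat_lit 0x58c4aaba8b2) (nat_lit 2560))
)) (.node (nat_lit 0x59812571303) (.node (nat_lit 0x59089a532df) (.leaf (nat_lit 0x58e4aeba0b1) (nat_lit 2049))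
 (.leaf (nat_lit 0x59089a532df) (nat_lit 2816))
) (.node (nat_lit 0x59850aa41b9) (.leaf (nat_lit 0x59812571303) (nat_lit 1536))
 (.leaf (nat_lit 0x59850aa41b9) (nat_lit 1281))
))) (.node (nat_lit 0x5a4f812c542) (.node (nat_lit 0x5a2f8929543) (.node (nat_lit 0x5a04faa51ba) (.leaf (nat_lit 0x5a012970301) (nat_lit 2817))
 (.leaf (nat_lit 0x5a04faa51ba) (nat_lit 2305))
) (.node (nat_lit 0x5a30a55e9f9) (.leaf (nat_lit 0x5a2f8929543) (nat_lit 2817))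
 (.leaf (nat_lit 0x5a30a55e9f9) (nat_lit 2305))
)) (.node (nat_lit 0x5a6dd893214) (.node (nat_lit 0x5a50a15f1fa) (.leaf (nat_lit 0x5a4f812c542) (nat_lit 1792))
 (.leaf (nat_lit 0x5a50a15f1fa) (nat_lit 2561))
) (.node (nat_lit 0x5c259527096) (.leaf (nat_lit 0x5a6dd893214) (nat_lit 2304))
 (.leaf (nat_lit 0x5c259527096) (nat_lit 2049))
)))) (.node (nat_lit 0x5ca5a926094) (.node (nat_lit 0x5c34947000d) (.node (nat_lit 0x5c2cb8c2cc0) (.leaf (nat_lit 0x5c25d9b0079) (nat_lit 2049))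
 (.node (nat_lit 0x5c2cc982b55) (.leaf (nat_lit 0x5c2cb8c2cc0) (nat_lit 2561))
 (.leaf (nat_lit 0x5c2cc982b55) (nat_lit 3073))
)) (.node (nat_lit 0x5c627eb6090) (.node (nat_lit 0x5c3495231f4) (.leaf (nat_lit 0x5c34947000d) (nat_lit 513))
 (.leaf (nat_lit 0x5c3495231f4) (nat_lit 2305))
) (.node (nat_lit 0x5c8282b5889) (.leaf (nat_lit 0x5c627eb6090) (nat_lit 2304))
 (.leaf (nat_lit 0x5c8282b5889) (nat_lit 2305))
))) (.node (nat_lit 0x5cb4906f80c) (.node (nat_lit 0x5cacbcc24c2) (.node (nat_lit 0x5ca5e1b087a) (.leaf (nat_lit 0x5ca5a926094) (nat_lit 1280))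
 (.leaf (nat_lit 0x5ca5e1b087a) (nat_lit 2049))
) (.node (nat_lit 0x5caccd82354) (.leaf (nat_lit 0x5cacbcc24c2) (nat_lit 1536))
 (.leaf (nat_lit 0x5caccd82354) (nat_lit 2048))
)) (.node (nat_lit 0x5d31087aba6) (.node (nat_lit 0x5cb491239fb) (.leaf (nat_lit 0x5cb4906f80c) (nat_lit 2305))
 (.leaf (nat_lit 0x5cb491239fb) (nat_lit 2817))
) (.node (nat_lit 0x5d3108be0ec) (.leaf (nat_lit 0x5d31087aba6) (nat_lit 2049))
 (.leaf (nat_lit 0x5d3108be0ec) (nat_lit 2561))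
))))) (.node (nat_lit 0x614e5083044) (.node (nat_lit 0x5f30c497b52) (.node (nat_lit 0x5e2ce18e942) (.node (nat_lit 0x5d710cbd8e7) (.leaf (nat_lit 0x5d710c7a3a7) (nat_lit 1024))
 (.node (nat_lit 0x5e0ce58f93e) (.leaf (nat_lit 0x5d710cbd8e7) (nat_lit 2561))
 (.leaf (nat_lit 0x5e0ce58f93e) (nat_lit 2561))
)) (.node (nat_lit 0x5f10c898b53) (.node (nat_lit 0x5f06e60f0c5) (.leaf (nat_lit 0x5e2ce18e942) (nat_lit 1537))
 (.leaf (nat_lit 0x5f06e60f0c5) (nat_lit 2817))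
) (.node (nat_lit 0x5f26ea0f8c6) (.leaf (nat_lit 0x5f10c898b53) (nat_lit 1280))
 (.leaf (nat_lit 0x5f26ea0f8c6) (nat_lit 1792))
))) (.node (nat_lit 0x5f70c82b2ff) (.node (nat_lit 0x5f50c42c2fd) (.node (nat_lit 0x5f46eab108b) (.leaf (nat_lit 0x5f30c497b52) (nat_lit 2305))
 (.leaf (nat_lit 0x5f46eab108b) (nat_lit 1281))
) (.node (nat_lit 0x5f66e6b208d) (.leaf (nat_lit 0x5f50c42c2fd) (nat_lit 1792))
 (.leaf (nat_lit 0x5f66e6b208d) (nat_lit 2304))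
)) (.node (nat_lit 0x60aecd460cb) (.node (nat_lit 0x608ec5480c8) (.leaf (nat_lit 0x5f70c82b2ff) (nat_lit 2560))
 (.leaf (nat_lit 0x608ec5480c8) (nat_lit 2049))
) (.node (nat_lit 0x612680601ea) (.leaf (nat_lit 0x60aecd460cb) (nat_lit 2049))
 (.leaf (nat_lit 0x612680601ea) (nat_lit 2304))
)))) (.node (nat_lit 0x62a64c90b36) (.node (nat_lit 0x61a924601ea) (.node (nat_lit 0x615490c40ce) (.leaf (nat_lit 0x614e5083044) (nat_lit 768))
 (.node (nat_lit 0x61892c611e8) (.leaf (nat_lit 0x615490c40ce) (nat_lit 2048))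
 (.leaf (nat_lit 0x61892c611e8) (nat_lit 2560))
)) (.node (nat_lit 0x622e5482843) (.node (nat_lit 0x61c684611e8) (.leaf (nat_lit 0x61a924601ea) (nat_lit 2305))
 (.leaf (nat_lit 0x61c684611e8) (nat_lit 1536))
) (.node (nat_lit 0x623494c38cd) (.leaf (nat_lit 0x622e5482843) (nat_lit 2561))
 (.leaf (nat_lit 0x623494c38cd) (nat_lit 2561))
))) (.node (nat_lit 0x6342c53407f) (.node (nat_lit 0x62e6348d337) (.node (nat_lit 0x62ad6c8981b) (.leaf (nat_lit 0x62a64c90b36) (nat_lit 2048))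
 (.leaf (nat_lit 0x62ad6c8981b) (nat_lit 2560))
) (.node (nat_lit 0x62ed6800019) (.leaf (nat_lit 0x62e6348d337) (nat_lit 2817))
 (.leaf (nat_lit 0x62ed6800019) (nat_lit 2305))
)) (.node (nat_lit 0x6362c93307e) (.node (nat_lit 0x63533698bb6) (.leaf (nat_lit 0x6342c53407f) (nat_lit 2304))
 (.leaf (nat_lit 0x63533698bb6) (nat_lit 2817))
) (.node (nat_lit 0x63732e99bb7) (.leaf (nat_lit 0x6362c93307e) (nat_lit 2048))
 (.leaf (nat_lit 0x63732e99bb7) (nat_lit 3329))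
)))))) (.node (nat_lit 0x7e88508a8d0) (.node (nat_lit 0x6cf44c8c8a9) (.node (nat_lit 0x6470a6823b9) (.node (nat_lit 0x6425095d996) (.node (nat_lit 0x6404f958197) (.leaf (nat_lit 0x64012881c31) (nat_lit 2305))
 (.node (nat_lit 0x64212481432) (.leaf (nat_lit 0x6404f958197) (nat_lit 2305))
 (.leaf (nat_lit 0x64212481432) (nat_lit 2817))
)) (.node (nat_lit 0x6450a283bba) (.node (nat_lit 0x644f800a006) (.leaf (nat_lit 0x6425095d996) (nat_lit 1536))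
 (.leaf (nat_lit 0x644f800a006) (nat_lit 2560))
) (.node (nat_lit 0x646f8809805) (.leaf (nat_lit 0x6450a283bba) (nat_lit 2561))
 (.leaf (nat_lit 0x646f8809805) (nat_lit 2305))
))) (.node (nat_lit 0x6c2eec28c69) (.node (nat_lit 0x6920e27a822) (.node (nat_lit 0x6900d27a021) (.leaf (nat_lit 0x6470a6823b9) (nat_lit 1536))
 (.leaf (nat_lit 0x6900d27a021) (nat_lit 2048))
) (.node (nat_lit 0x6c0ee027c6a) (.leaf (nat_lit 0x6920e27a822) (nat_lit 2305))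
 (.leaf (nat_lit 0x6c0ee027c6a) (nat_lit 3073))
)) (.node (nat_lit 0x6cd4488f0a7) (.node (nat_lit 0x6cd448131f5) (.leaf (nat_lit 0x6c2eec28c69) (nat_lit 2049))
 (.leaf (nat_lit 0x6cd448131f5) (nat_lit 2561))
) (.node (nat_lit 0x6cf44c141f2) (.leaf (nat_lit 0x6cd4488f0a7) (nat_lit 2816))
 (.leaf (nat_lit 0x6cf44c141f2) (nat_lit 2561))
)))) (.node (nat_lit 0x77c365e7436) (.node (nat_lit 0x6e017136c6e) (.node (nat_lit 0x6dc7b8564cd) (.leaf (nat_lit 0x6cf44c8c8a9) (nat_lit 2049))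
 (.node (nat_lit 0x6de7bc574cb) (.leaf (nat_lit 0x6dc7b8564cd) (nat_lit 2049))
 (.leaf (nat_lit 0x6de7bc574cb) (nat_lit 2561))
)) (.node (nat_lit 0x6fe1b2bb8c9) (.node (nat_lit 0x6e216d3646f) (.leaf (nat_lit 0x6e017136c6e) (nat_lit 1537))
 (.leaf (nat_lit 0x6e216d3646f) (nat_lit 2305))
) (.node (nat_lit 0x7021aebb0ca) (.leaf (nat_lit 0x6fe1b2bb8c9) (nat_lit 2305))
 (.leaf (nat_lit 0x7021aebb0ca) (nat_lit 2049))
))) (.node (nat_lit 0x782d5c1e89a) (.node (nat_lit 0x77f3182a877) (.node (nat_lit 0x77ed581f09c) (.leaf (nat_lit 0x77c365e7436) (nat_lit 1793))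
 (.leaf (nat_lit 0x77ed581f09c) (nat_lit 1536))
) (.node (nat_lit 0x780361e6437) (.leaf (nat_lit 0x77f3182a877) (nat_lit 2049))
 (.leaf (nat_lit 0x780361e6437) (nat_lit 3073))
)) (.node (nat_lit 0x79510037881) (.node (nat_lit 0x78331c2b878) (.leaf (nat_lit 0x782d5c1e89a) (nat_lit 2561))
 (.leaf (nat_lit 0x78331c2b878) (nat_lit 2048))
) (.node (nat_lit 0x79710436882) (.leaf (nat_lit 0x79510037881) (nat_lit 2561))
 (.leaf (nat_lit 0x79710436882) (nat_lit 1793))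
))))) (.node (nat_lit 0x85918d0023f) (.node (nat_lit 0x7f8e9a0a4cc) (.node (nat_lit 0x7ecced6e14b) (.node (nat_lit 0x7ea8488a0cf) (.leaf (nat_lit 0x7e88508a8d0) (nat_lit 1281))
 (.node (nat_lit 0x7eccec6d86b) (.leaf (nat_lit 0x7ea8488a0cf) (nat_lit 2817))
 (.leaf (nat_lit 0x7eccec6d86b) (nat_lit 2561))
)) (.node (nat_lit 0x7f0ce96d141) (.node (nat_lit 0x7f0ce86f06c) (.leaf (nat_lit 0x7ecced6e14b) (nat_lit 2304))
 (.leaf (nat_lit 0x7f0ce86f06c) (nat_lit 2049))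
) (.node (nat_lit 0x7f6e9e0acca) (.leaf (nat_lit 0x7f0ce96d141) (nat_lit 2049))
 (.leaf (nat_lit 0x7f6e9e0acca) (nat_lit 2305))
))) (.node (nat_lit 0x81ec06bc12b) (.node (nat_lit 0x81cc0ebc92a) (.node (nat_lit 0x81c65942837) (.leaf (nat_lit 0x7f8e9a0a4cc) (nat_lit 2305))
 (.leaf (nat_lit 0x81c65942837) (nat_lit 1792))
) (.node (nat_lit 0x81e65d3e036) (.leaf (nat_lit 0x81cc0ebc92a) (nat_lit 2305))
 (.leaf (nat_lit 0x81e65d3e036) (nat_lit 2304))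
)) (.node (nat_lit 0x83282dc8a28) (.node (nat_lit 0x830829c9a29) (.leaf (nat_lit 0x81ec06bc12b) (nat_lit 1280))
 (.leaf (nat_lit 0x830829c9a29) (nat_lit 2817))
) (.node (nat_lit 0x8586666bab6) (.leaf (nat_lit 0x83282dc8a28) (nat_lit 2049))
 (.leaf (nat_lit 0x8586666bab6) (nat_lit 2561))
)))) (.node (nat_lit 0x8b30dabd3d8) (.node (nat_lit 0x872426163ec) (.node (nat_lit 0x85a66269ab4) (.leaf (nat_lit 0x85918d0023f) (nat_lit 3073))
 (.node (nat_lit 0x85b1890123d) (.leaf (nat_lit 0x85a66269ab4) (nat_lit 769))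
 (.leaf (nat_lit 0x85b1890123d) (nat_lit 2561))
)) (.node (nat_lit 0x8a91b457d29) (.node (nat_lit 0x87442a16bed) (.leaf (nat_lit 0x872426163ec) (nat_lit 1025))
 (.leaf (nat_lit 0x87442a16bed) (nat_lit 2048))
) (.node (nat_lit 0x8ad1a058528) (.leaf (nat_lit 0x8a91b457d29) (nat_lit 2048))
 (.leaf (nat_lit 0x8ad1a058528) (nat_lit 1281))
))) (.node (nat_lit 0x8c0cf461a6a) (.node (nat_lit 0x8b70debdbd9) (.node (nat_lit 0x8b47c4d504d) (.leaf (nat_lit 0x8b30dabd3d8) (nat_lit 1792))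
 (.leaf (nat_lit 0x8b47c4d504d) (nat_lit 1792))
) (.node (nat_lit 0x8b87c0d584e) (.leaf (nat_lit 0x8b70debdbd9) (nat_lit 2816))
 (.leaf (nat_lit 0x8b87c0d584e) (nat_lit 1537))
)) (.node (nat_lit 0x8c86513f3db) (.node (nat_lit 0x8c2cfc60a6b) (.leaf (nat_lit 0x8c0cf461a6a) (nat_lit 1793))
 (.leaf (nat_lit 0x8c2cfc60a6b) (nat_lit 2816))
) (.node (nat_lit 0x8ca65549bdd) (.leaf (nat_lit 0x8c86513f3db) (nat_lit 2816))
 (.leaf (nat_lit 0x8ca65549bdd) (nat_lit 2304))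
))))))) (.node (nat_lit 0x9d4e601f09c) (.node (nat_lit 0x92d18e2b0f3) (.node (nat_lit 0x8fc700c60d8) (.node (nat_lit 0x8f02f8bd1fc) (.node (nat_lit 0x8cecf01f09c) (.node (nat_lit 0x8cccf81e89a) (.leaf (nat_lit 0x8cc6dc2b878) (nat_lit 2816))
 (.node (nat_lit 0x8ce6d02a877) (.leaf (nat_lit 0x8cccf81e89a) (nat_lit 2561))
 (.leaf (nat_lit 0x8ce6d02a877) (nat_lit 2049))
)) (.node (nat_lit 0x8ec2f6b6892) (.node (nat_lit 0x8ec2f4ba1fd) (.leaf (nat_lit 0x8cecf01f09c) (nat_lit 1536))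
 (.leaf (nat_lit 0x8ec2f4ba1fd) (nat_lit 2561))
) (.node (nat_lit 0x8ee4e4a7a13) (.leaf (nat_lit 0x8ec2f6b6892) (nat_lit 2817))
 (.leaf (nat_lit 0x8ee4e4a7a13) (nat_lit 2817))
))) (.node (nat_lit 0x8f4d5885a39) (.node (nat_lit 0x8f2d5c86a38) (.node (nat_lit 0x8f02fab5091) (.leaf (nat_lit 0x8f02f8bd1fc) (nat_lit 768))
 (.leaf (nat_lit 0x8f02fab5091) (nat_lit 2048))
) (.node (nat_lit 0x8f331eb5889) (.leaf (nat_lit 0x8f2d5c86a38) (nat_lit 1793))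
 (.leaf (nat_lit 0x8f331eb5889) (nat_lit 2561))
)) (.node (nat_lit 0x8f64e0aea15) (.node (nat_lit 0x8f531ab6090) (.leaf (nat_lit 0x8f4d5885a39) (nat_lit 2048))
 (.leaf (nat_lit 0x8f531ab6090) (nat_lit 1536))
) (.node (nat_lit 0x8fa720c50d9) (.leaf (nat_lit 0x8f64e0aea15) (nat_lit 2048))
 (.leaf (nat_lit 0x8fa720c50d9) (nat_lit 2304))
)))) (.node (nat_lit 0x92aed695c49) (.node (nat_lit 0x926cd08981b) (.node (nat_lit 0x924cd400019) (.leaf (nat_lit 0x8fc700c60d8) (nat_lit 1281))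
 (.node (nat_lit 0x924cd63dba2) (.leaf (nat_lit 0x924cd400019) (nat_lit 2817))
 (.leaf (nat_lit 0x924cd63dba2) (nat_lit 2305))
)) (.node (nat_lit 0x92a0bc981e9) (.node (nat_lit 0x926cd23bba3) (.leaf (nat_lit 0x926cd08981b) (nat_lit 2049))
 (.leaf (nat_lit 0x926cd23bba3) (nat_lit 2561))
) (.node (nat_lit 0x92aa89309c4) (.leaf (nat_lit 0x92a0bc981e9) (nat_lit 2304))
 (.leaf (nat_lit 0x92aa89309c4) (nat_lit 1792))
))) (.node (nat_lit 0x92c0c0991ed) (.node (nat_lit 0x92b18a2a0f6) (.node (nat_lit 0x92b18987108) (.leaf (nat_lit 0x92aed695c49) (nat_lit 1281))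
 (.leaf (nat_lit 0x92b18987108) (nat_lit 2305))
) (.node (nat_lit 0x92b325721f3) (.leaf (nat_lit 0x92b18a2a0f6) (nat_lit 1792))
 (.leaf (nat_lit 0x92b325721f3) (nat_lit 2561))
)) (.node (nat_lit 0x92ced295448) (.node (nat_lit 0x92ca81319c3) (.leaf (nat_lit 0x92c0c0991ed) (nat_lit 2049))
 (.leaf (nat_lit 0x92ca81319c3) (nat_lit 2049))
) (.node (nat_lit 0x92d18d84907) (.leaf (nat_lit 0x92ced295448) (nat_lit 2561))
 (.leaf (nat_lit 0x92d18d84907) (nat_lit 2816))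
))))) (.node (nat_lit 0x9742a0948bc) (.node (nat_lit 0x95ed4c564cd) (.node (nat_lit 0x935188423c7) (.node (nat_lit 0x92d321719f8) (.leaf (nat_lit 0x92d18e2b0f3) (nat_lit 2560))
 (.node (nat_lit 0x934662b292d) (.leaf (nat_lit 0x92d321719f8) (nat_lit 2561))
 (.leaf (nat_lit 0x934662b292d) (nat_lit 2817))
)) (.node (nat_lit 0x93718c41bc2) (.node (nat_lit 0x936666b192c) (.leaf (nat_lit 0x935188423c7) (nat_lit 2304))
 (.leaf (nat_lit 0x936666b192c) (nat_lit 1536))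
) (.node (nat_lit 0x95cd48574cb) (.leaf (nat_lit 0x93718c41bc2) (nat_lit 1537))
 (.leaf (nat_lit 0x95cd48574cb) (nat_lit 2560))
))) (.node (nat_lit 0x96ce78be0ec) (.node (nat_lit 0x968f6d9348d) (.node (nat_lit 0x966f7592c8c) (.leaf (nat_lit 0x95ed4c564cd) (nat_lit 2048))
 (.leaf (nat_lit 0x966f7592c8c) (nat_lit 2816))
) (.node (nat_lit 0x96ce787aba6) (.leaf (nat_lit 0x968f6d9348d) (nat_lit 769))
 (.leaf (nat_lit 0x96ce787aba6) (nat_lit 2816))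
)) (.node (nat_lit 0x96ee74bd8e7) (.node (nat_lit 0x96ee747a3a7) (.leaf (nat_lit 0x96ce78be0ec) (nat_lit 769))
 (.leaf (nat_lit 0x96ee747a3a7) (nat_lit 2561))
) (.node (nat_lit 0x9702a8940b9) (.leaf (nat_lit 0x96ee74bd8e7) (nat_lit 2049))
 (.leaf (nat_lit 0x9702a8940b9) (nat_lit 2560))
)))) (.node (nat_lit 0x9a709e74c52) (.node (nat_lit 0x9a02c677373) (.node (nat_lit 0x98871ceb946) (.leaf (nat_lit 0x9742a0948bc) (nat_lit 2560))
 (.node (nat_lit 0x98a718eb147) (.leaf (nat_lit 0x98871ceb946) (nat_lit 2561))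
 (.leaf (nat_lit 0x98a718eb147) (nat_lit 2304))
)) (.node (nat_lit 0x9a22ca77b77) (.node (nat_lit 0x9a133545488) (.leaf (nat_lit 0x9a02c677373) (nat_lit 2817))
 (.leaf (nat_lit 0x9a133545488) (nat_lit 2305))
) (.node (nat_lit 0x9a332d44c89) (.leaf (nat_lit 0x9a22ca77b77) (nat_lit 1792))
 (.leaf (nat_lit 0x9a332d44c89) (nat_lit 1024))
))) (.node (nat_lit 0x9c4e8573bee) (.node (nat_lit 0x9b08a0779f0) (.node (nat_lit 0x9af09a73c53) (.leaf (nat_lit 0x9a709e74c52) (nat_lit 2816))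
 (.leaf (nat_lit 0x9af09a73c53) (nat_lit 2304))
) (.node (nat_lit 0x9b28a4781f1) (.leaf (nat_lit 0x9b08a0779f0) (nat_lit 2305))
 (.leaf (nat_lit 0x9b28a4781f1) (nat_lit 2304))
)) (.node (nat_lit 0x9ce4dc31d34) (.node (nat_lit 0x9c6e81733ef) (.leaf (nat_lit 0x9c4e8573bee) (nat_lit 2561))
 (.leaf (nat_lit 0x9c6e81733ef) (nat_lit 2816))
) (.node (nat_lit 0x9d24d833d35) (.leaf (nat_lit 0x9ce4dc31d34) (nat_lit 2049))
 (.leaf (nat_lit 0x9d24d833d35) (nat_lit 2048))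
)))))) (.node (nat_lit 0xa9272d74134) (.node (nat_lit 0xa0cedab108b) (.node (nat_lit 0x9faeb08f0a7) (.node (nat_lit 0x9da705b2c24) (.node (nat_lit 0x9d6725b1c25) (.leaf (nat_lit 0x9d4e601f09c) (nat_lit 3328))
 (.node (nat_lit 0x9d8e641e89a) (.leaf (nat_lit 0x9d6725b1c25) (nat_lit 1793))
 (.leaf (nat_lit 0x9d8e641e89a) (nat_lit 2305))
)) (.node (nat_lit 0x9f8eac8c8a9) (.node (nat_lit 0x9f8eac141f2) (.leaf (nat_lit 0x9da705b2c24) (nat_lit 2049))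
 (.leaf (nat_lit 0x9f8eac141f2) (nat_lit 2304))
) (.node (nat_lit 0x9faeb0131f5) (.leaf (nat_lit 0x9f8eac8c8a9) (nat_lit 257))
 (.leaf (nat_lit 0x9faeb0131f5) (nat_lit 2561))
))) (.node (nat_lit 0xa06fc1899c1) (.node (nat_lit 0xa03234ea404) (.node (nat_lit 0xa01230eac05) (.leaf (nat_lit 0x9faeb08f0a7) (nat_lit 2561))
 (.leaf (nat_lit 0xa01230eac05) (nat_lit 3073))
) (.node (nat_lit 0xa04fc5891c9) (.leaf (nat_lit 0xa03234ea404) (nat_lit 1792))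
 (.leaf (nat_lit 0xa04fc5891c9) (nat_lit 2561))
)) (.node (nat_lit 0xa0aedeb208d) (.node (nat_lit 0xa0addc2b2ff) (.leaf (nat_lit 0xa06fc1899c1) (nat_lit 2304))
 (.leaf (nat_lit 0xa0addc2b2ff) (nat_lit 1793))
) (.node (nat_lit 0xa0cdcc2c2fd) (.leaf (nat_lit 0xa0aedeb208d) (nat_lit 1793))
 (.leaf (nat_lit 0xa0cdcc2c2fd) (nat_lit 1792))
)))) (.node (nat_lit 0xa3adf071c86) (.node (nat_lit 0xa180d9b4049) (.node (nat_lit 0xa101ceb5091) (.leaf (nat_lit 0xa0cedab108b) (nat_lit 2305))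
 (.node (nat_lit 0xa121cab6892) (.leaf (nat_lit 0xa101ceb5091) (nat_lit 0))
 (.leaf (nat_lit 0xa121cab6892) (nat_lit 2305))
)) (.node (nat_lit 0xa38e2871487) (.node (nat_lit 0xa1a0ddb484a) (.leaf (nat_lit 0xa180d9b4049) (nat_lit 2048))
 (.leaf (nat_lit 0xa1a0ddb484a) (nat_lit 2561))
) (.node (nat_lit 0xa39116781fe) (.leaf (nat_lit 0xa38e2871487) (nat_lit 1280))
 (.leaf (nat_lit 0xa39116781fe) (nat_lit 2561))
))) (.node (nat_lit 0xa614e28b375) (.node (nat_lit 0xa54db01f09c) (.node (nat_lit 0xa3b112789ff) (.leaf (nat_lit 0xa3adf071c86) (nat_lit 2816))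
 (.leaf (nat_lit 0xa3b112789ff) (nat_lit 1793))
) (.node (nat_lit 0xa56db41e89a) (.leaf (nat_lit 0xa54db01f09c) (nat_lit 2816))
 (.leaf (nat_lit 0xa56db41e89a) (nat_lit 1792))
)) (.node (nat_lit 0xa7c02ebb0ca) (.node (nat_lit 0xa654e68bb76) (.leaf (nat_lit 0xa614e28b375) (nat_lit 2305))
 (.leaf (nat_lit 0xa654e68bb76) (nat_lit 2816))
) (.node (nat_lit 0xa7e026bb8c9) (.leaf (nat_lit 0xa7c02ebb0ca) (nat_lit 2560))
 (.leaf (nat_lit 0xa7e026bb8c9) (nat_lit 1793))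
))))) (.node (nat_lit 0xaaabfd8e942) (.node (nat_lit 0xa993213cb9a) (.node (nat_lit 0xa986646ebf3) (.node (nat_lit 0xa9672975133) (.leaf (nat_lit 0xa9272d74134) (nat_lit 2817))
 (.node (nat_lit 0xa980c091a3b) (.leaf (nat_lit 0xa9672975133) (nat_lit 1793))
 (.leaf (nat_lit 0xa980c091a3b) (nat_lit 1025))
)) (.node (nat_lit 0xa98a82bf88a) (.node (nat_lit 0xa98665571f7) (.leaf (nat_lit 0xa986646ebf3) (nat_lit 2560))
 (.leaf (nat_lit 0xa98665571f7) (nat_lit 2560))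
) (.node (nat_lit 0xa98ed275171) (.leaf (nat_lit 0xa98a82bf88a) (nat_lit 2048))
 (.leaf (nat_lit 0xa98ed275171) (nat_lit 2561))
))) (.node (nat_lit 0xa9ca8abf08c) (.node (nat_lit 0xa9c660723f2) (.node (nat_lit 0xa9c0bc9123a) (.leaf (nat_lit 0xa993213cb9a) (nat_lit 2049))
 (.leaf (nat_lit 0xa9c0bc9123a) (nat_lit 3073))
) (.node (nat_lit 0xa9c661579f6) (.leaf (nat_lit 0xa9c660723f2) (nat_lit 2305))
 (.leaf (nat_lit 0xa9c661579f6) (nat_lit 2305))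
)) (.node (nat_lit 0xa9d3253c39c) (.node (nat_lit 0xa9ced676170) (.leaf (nat_lit 0xa9ca8abf08c) (nat_lit 3073))
 (.leaf (nat_lit 0xa9ced676170) (nat_lit 2561))
) (.node (nat_lit 0xaa8bf58f93e) (.leaf (nat_lit 0xa9d3253c39c) (nat_lit 1280))
 (.leaf (nat_lit 0xaa8bf58f93e) (nat_lit 2049))
)))) (.node (nat_lit 0xad82fea71bf) (.node (nat_lit 0xac6df4ac566) (.node (nat_lit 0xabe5065cc50) (.leaf (nat_lit 0xaaabfd8e942) (nat_lit 2561))
 (.node (nat_lit 0xac252e5dc51) (.leaf (nat_lit 0xabe5065cc50) (nat_lit 2560))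
 (.leaf (nat_lit 0xac252e5dc51) (nat_lit 2304))
)) (.node (nat_lit 0xad46f970945) (.node (nat_lit 0xacae34ae567) (.leaf (nat_lit 0xac6df4ac566) (nat_lit 3072))
 (.leaf (nat_lit 0xacae34ae567) (nat_lit 2049))
) (.node (nat_lit 0xad6312a61c5) (.leaf (nat_lit 0xad46f970945) (nat_lit 2305))
 (.leaf (nat_lit 0xad6312a61c5) (nat_lit 1536))
))) (.node (nat_lit 0xae01fd839ee) (.node (nat_lit 0xadc1f9831ef) (.node (nat_lit 0xada7097293f) (.leaf (nat_lit 0xad82fea71bf) (nat_lit 2560))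
 (.leaf (nat_lit 0xada7097293f) (nat_lit 2049))
) (.node (nat_lit 0xadd22487339) (.leaf (nat_lit 0xadc1f9831ef) (nat_lit 1793))
 (.leaf (nat_lit 0xadd22487339) (nat_lit 1792))
)) (.node (nat_lit 0xafcd2cae567) (.node (nat_lit 0xae122086338) (.leaf (nat_lit 0xae01fd839ee) (nat_lit 2048))
 (.leaf (nat_lit 0xae122086338) (nat_lit 1793))
) (.node (nat_lit 0xafed28ac566) (.leaf (nat_lit 0xafcd2cae567) (nat_lit 2049))
 (.leaf (nat_lit 0xafed28ac566) (nat_lit 256))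
)))))))))

theorem cW3_ok : orbOK A [(nat_lit 0x1c039c80b9e), (nat_lit 0x6467aa3296f)] (nat_lit 0xa101ceb5091) cW3_t (nat_lit 480) = true := by decide +kernel

end Cfsg.Agent.Rec.HN
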