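import Mathlib
import Cfsg.Agent.Rec.HN.Cod
import Cfsg.Agent.Rec.Orb

/-! A class of involutions of `2.HS.2`. -/

set_option autoImplicit false
set_option maxRecDepth 100000
set_option exponentiation.threshold 100000

namespace Cfsg.Agent.Rec.HN

open Cfsg.Agent.Spor Cfsg.Agent.Rec

/-- Part of a listed class. -/
noncomputable def S0_t : ST :=
(.node (nat_lit 0x5c055818a1) (.node (nat_lit 0x31689a884) (.node (nat_lit 0x293525100) (.node (nat_lit 0x238e4fd47) (.node (nat_lit 0x217401800) (.node (nat_lit 0x20e6098e1) (.node (nat_lit 0x20e496827) (.node (nat_lit 0x20e40c861) (.node (nat_lit 0x20b05eab9) (.node (nat_lit 0x20a86d314) (.leaf (nat_lit 0x20a811084) (nat_lit 3328))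
 (.leaf (nat_lit 0x20a86d314) (nat_lit 3073))
) (.node (nat_lit 0x20b0a5c64) (.leaf (nat_lit 0x20b05eab9) (nat_lit 2049))
 (.node (nat_lit 0x20e401afb) (.leaf (nat_lit 0x20b0a5c64) (nat_lit 3328))
 (.leaf (nat_lit 0x20e401afb) (nat_lit 3074))
))) (.node (nat_lit 0x20e43e904) (.node (nat_lit 0x20e418000) (.leaf (nat_lit 0x20e40c861) (nat_lit 3074))
 (.node (nat_lit 0x20e43c000) (.leaf (nat_lit 0x20e418000) (nat_lit 2817))
 (.leaf (nat_lit 0x20e43c000) (nat_lit 3074))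
)) (.node (nat_lit 0x20e449cb6) (.leaf (nat_lit 0x20e43e904) (nat_lit 2816))
 (.node (nat_lit 0x20e462800) (.leaf (nat_lit 0x20e449cb6) (nat_lit 3329))
 (.leaf (nat_lit 0x20e462800) (nat_lit 2818))
)))) (.node (nat_lit 0x20e5182e5) (.node (nat_lit 0x20e4b618f) (.node (nat_lit 0x20e4b4000) (.leaf (nat_lit 0x20e496827) (nat_lit 3329))
 (.leaf (nat_lit 0x20e4b4000) (nat_lit 3074))
) (.node (nat_lit 0x20e4f24d0) (.leaf (nat_lit 0x20e4b618f) (nat_lit 2560))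
 (.node (nat_lit 0x20e4ff101) (.leaf (nat_lit 0x20e4f24d0) (nat_lit 3073))
 (.leaf (nat_lit 0x20e4ff101) (nat_lit 2817))
))) (.node (nat_lit 0x20e556ad8) (.node (nat_lit 0x20e532000) (.leaf (nat_lit 0x20e5182e5) (nat_lit 3072))
 (.node (nat_lit 0x20e551d47) (.leaf (nat_lit 0x20e532000) (nat_lit 3330))
 (.leaf (nat_lit 0x20e551d47) (nat_lit 3329))
)) (.node (nat_lit 0x20e5d147b) (.leaf (nat_lit 0x20e556ad8) (nat_lit 3073))
 (.node (nat_lit 0x20e5e9ad1) (.leaf (nat_lit 0x20e5d147b) (nat_lit 1281))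
 (.leaf (nat_lit 0x20e5e9ad1) (nat_lit 3330))
))))) (.node (nat_lit 0x213cb74ab) (.node (nat_lit 0x20e66395b) (.node (nat_lit 0x20e61dcad) (.node (nat_lit 0x20e61a30d) (.leaf (nat_lit 0x20e6098e1) (nat_lit 2561))
 (.leaf (nat_lit 0x20e61a30d) (nat_lit 1792))
) (.node (nat_lit 0x20e634a8d) (.leaf (nat_lit 0x20e61dcad) (nat_lit 3073))
 (.node (nat_lit 0x20e64fa8c) (.leaf (nat_lit 0x20e634a8d) (nat_lit 3074))
 (.leaf (nat_lit 0x20e64fa8c) (nat_lit 3072))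
))) (.node (nat_lit 0x20f5bc28d) (.node (nat_lit 0x20e68a8a1) (.leaf (nat_lit 0x20e66395b) (nat_lit 3328))
 (.node (nat_lit 0x20f426000) (.leaf (nat_lit 0x20e68a8a1) (nat_lit 2305))
 (.leaf (nat_lit 0x20f426000) (nat_lit 2818))
)) (.node (nat_lit 0x20f9252d1) (.leaf (nat_lit 0x20f5bc28d) (nat_lit 2818))
 (.node (nat_lit 0x20fa48ad8) (.leaf (nat_lit 0x20f9252d1) (nat_lit 3329))
 (.leaf (nat_lit 0x20fa48ad8) (nat_lit 2049))
)))) (.node (nat_lit 0x214a21508) (.node (nat_lit 0x21406d000) (.node (nat_lit 0x213ccc4ab) (.leaf (nat_lit 0x213cb74ab) (nat_lit 3585))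
 (.node (nat_lit 0x214036000) (.leaf (nat_lit 0x213ccc4ab) (nat_lit 3586))
 (.leaf (nat_lit 0x214036000) (nat_lit 3328))
)) (.node (nat_lit 0x21459b8d3) (.leaf (nat_lit 0x21406d000) (nat_lit 2049))
 (.node (nat_lit 0x2146488d3) (.leaf (nat_lit 0x21459b8d3) (nat_lit 3073))
 (.leaf (nat_lit 0x2146488d3) (nat_lit 2561))
))) (.node (nat_lit 0x2155cb461) (.node (nat_lit 0x214a9c508) (.leaf (nat_lit 0x214a21508) (nat_lit 3330))
 (.node (nat_lit 0x21550cc61) (.leaf (nat_lit 0x214a9c508) (nat_lit 2562))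
 (.leaf (nat_lit 0x21550cc61) (nat_lit 3586))
)) (.node (nat_lit 0x215cb74ed) (.leaf (nat_lit 0x2155cb461) (nat_lit 2816))
 (.node (nat_lit 0x215dba4ed) (.leaf (nat_lit 0x215cb74ed) (nat_lit 2562))
 (.leaf (nat_lit 0x215dba4ed) (nat_lit 2306))
)))))) (.node (nat_lit 0x22b847800) (.node (nat_lit 0x21f247a8c) (.node (nat_lit 0x21964fad3) (.node (nat_lit 0x2178f240e) (.node (nat_lit 0x217439800) (.leaf (nat_lit 0x217401800) (nat_lit 1794))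
 (.leaf (nat_lit 0x217439800) (nat_lit 2818))
) (.node (nat_lit 0x217a6440e) (.leaf (nat_lit 0x2178f240e) (nat_lit 3329))
 (.node (nat_lit 0x2194f23fc) (.leaf (nat_lit 0x217a6440e) (nat_lit 3073))
 (.leaf (nat_lit 0x2194f23fc) (nat_lit 2050))
))) (.node (nat_lit 0x21ecb5000) (.node (nat_lit 0x21a80cb14) (.leaf (nat_lit 0x21964fad3) (nat_lit 2305))
 (.node (nat_lit 0x21aa1a565) (.leaf (nat_lit 0x21a80cb14) (nat_lit 3329))
 (.leaf (nat_lit 0x21aa1a565) (nat_lit 2560))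
)) (.node (nat_lit 0x21edbc8e1) (.leaf (nat_lit 0x21ecb5000) (nat_lit 2561))
 (.node (nat_lit 0x21f0b715b) (.leaf (nat_lit 0x21edbc8e1) (nat_lit 2305))
 (.leaf (nat_lit 0x21f0b715b) (nat_lit 2562))
)))) (.node (nat_lit 0x22ac0e800) (.node (nat_lit 0x22150daf1) (.node (nat_lit 0x2214b2811) (.leaf (nat_lit 0x21f247a8c) (nat_lit 3074))
 (.leaf (nat_lit 0x2214b2811) (nat_lit 1794))
) (.node (nat_lit 0x2218bc4db) (.leaf (nat_lit 0x22150daf1) (nat_lit 2306))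
 (.node (nat_lit 0x221925461) (.leaf (nat_lit 0x2218bc4db) (nat_lit 2560))
 (.leaf (nat_lit 0x221925461) (nat_lit 2818))
))) (.node (nat_lit 0x22b292104) (.node (nat_lit 0x22ae4fc7b) (.leaf (nat_lit 0x22ac0e800) (nat_lit 3329))
 (.node (nat_lit 0x22b1594d0) (.leaf (nat_lit 0x22ae4fc7b) (nat_lit 2304))
 (.leaf (nat_lit 0x22b1594d0) (nat_lit 2818))
)) (.node (nat_lit 0x22b4b618f) (.leaf (nat_lit 0x22b292104) (nat_lit 3073))
 (.node (nat_lit 0x22b594ad8) (.leaf (nat_lit 0x22b4b618f) (nat_lit 3073))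
 (.leaf (nat_lit 0x22b594ad8) (nat_lit 2561))
))))) (.node (nat_lit 0x235156ae5) (.node (nat_lit 0x22c1b9259) (.node (nat_lit 0x22bcb2811) (.node (nat_lit 0x22ba9c4ad) (.leaf (nat_lit 0x22b847800) (nat_lit 3072))
 (.leaf (nat_lit 0x22ba9c4ad) (nat_lit 2818))
) (.node (nat_lit 0x22bcb711a) (.leaf (nat_lit 0x22bcb2811) (nat_lit 2048))
 (.node (nat_lit 0x22c0bc4ed) (.leaf (nat_lit 0x22bcb711a) (nat_lit 2306))
 (.leaf (nat_lit 0x22c0bc4ed) (nat_lit 2560))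
))) (.node (nat_lit 0x22e0a940e) (.node (nat_lit 0x22dc0c800) (.leaf (nat_lit 0x22c1b9259) (nat_lit 2562))
 (.node (nat_lit 0x22dc62800) (.leaf (nat_lit 0x22dc0c800) (nat_lit 2560))
 (.leaf (nat_lit 0x22dc62800) (nat_lit 3330))
)) (.node (nat_lit 0x22e194c0e) (.leaf (nat_lit 0x22e0a940e) (nat_lit 2050))
 (.node (nat_lit 0x2350db28c) (.leaf (nat_lit 0x22e194c0e) (nat_lit 2305))
 (.leaf (nat_lit 0x2350db28c) (nat_lit 3073))
)))) (.node (nat_lit 0x237cf20e1) (.node (nat_lit 0x23745f000) (.node (nat_lit 0x235532000) (.leaf (nat_lit 0x235156ae5) (nat_lit 3328))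
 (.node (nat_lit 0x2355e395b) (.leaf (nat_lit 0x235532000) (nat_lit 3329))
 (.leaf (nat_lit 0x2355e395b) (nat_lit 3073))
)) (.node (nat_lit 0x23749e000) (.leaf (nat_lit 0x23745f000) (nat_lit 2817))
 (.node (nat_lit 0x237cef15b) (.leaf (nat_lit 0x23749e000) (nat_lit 2817))
 (.leaf (nat_lit 0x237cef15b) (nat_lit 3329))
))) (.node (nat_lit 0x2388a92d1) (.node (nat_lit 0x238132000) (.leaf (nat_lit 0x237cf20e1) (nat_lit 3073))
 (.node (nat_lit 0x2381a1ae5) (.leaf (nat_lit 0x238132000) (nat_lit 2816))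
 (.leaf (nat_lit 0x2381a1ae5) (nat_lit 2817))
)) (.node (nat_lit 0x238932000) (.leaf (nat_lit 0x2388a92d1) (nat_lit 3074))
 (.node (nat_lit 0x238dd42d8) (.leaf (nat_lit 0x238932000) (nat_lit 3328))
 (.leaf (nat_lit 0x238dd42d8) (nat_lit 2562))
))))))) (.node (nat_lit 0x26040c800) (.node (nat_lit 0x248c84000) (.node (nat_lit 0x242db911a) (.node (nat_lit 0x23992541b) (.node (nat_lit 0x239059000) (.node (nat_lit 0x239047800) (.leaf (nat_lit 0x238e4fd47) (nat_lit 3074))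
 (.leaf (nat_lit 0x239047800) (nat_lit 3330))
) (.node (nat_lit 0x2395990d3) (.leaf (nat_lit 0x239059000) (nat_lit 2818))
 (.node (nat_lit 0x239599259) (.leaf (nat_lit 0x2395990d3) (nat_lit 2306))
 (.leaf (nat_lit 0x239599259) (nat_lit 2561))
))) (.node (nat_lit 0x23f2948d3) (.node (nat_lit 0x239925461) (.leaf (nat_lit 0x23992541b) (nat_lit 2560))
 (.node (nat_lit 0x23f0a0461) (.leaf (nat_lit 0x239925461) (nat_lit 3073))
 (.leaf (nat_lit 0x23f0a0461) (nat_lit 2818))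
)) (.node (nat_lit 0x23f5d5259) (.leaf (nat_lit 0x23f2948d3) (nat_lit 2304))
 (.node (nat_lit 0x23f5ef91a) (.leaf (nat_lit 0x23f5d5259) (nat_lit 3074))
 (.leaf (nat_lit 0x23f5ef91a) (nat_lit 3072))
)))) (.node (nat_lit 0x2435bc3fc) (.node (nat_lit 0x243047cb6) (.node (nat_lit 0x242ea0461) (.leaf (nat_lit 0x242db911a) (nat_lit 2561))
 (.leaf (nat_lit 0x242ea0461) (nat_lit 2561))
) (.node (nat_lit 0x2431abcd0) (.leaf (nat_lit 0x243047cb6) (nat_lit 3330))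
 (.node (nat_lit 0x2434b74ab) (.leaf (nat_lit 0x2431abcd0) (nat_lit 2561))
 (.leaf (nat_lit 0x2434b74ab) (nat_lit 2817))
))) (.node (nat_lit 0x24880c800) (.node (nat_lit 0x243836000) (.leaf (nat_lit 0x2435bc3fc) (nat_lit 3329))
 (.node (nat_lit 0x243858827) (.leaf (nat_lit 0x243836000) (nat_lit 3330))
 (.leaf (nat_lit 0x243858827) (nat_lit 3072))
)) (.node (nat_lit 0x24883c000) (.leaf (nat_lit 0x24880c800) (nat_lit 3585))
 (.node (nat_lit 0x248c0e800) (.leaf (nat_lit 0x24883c000) (nat_lit 3072))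
 (.leaf (nat_lit 0x248c0e800) (nat_lit 3330))
))))) (.node (nat_lit 0x25d5520d3) (.node (nat_lit 0x25800f2b9) (.node (nat_lit 0x24c0a0901) (.node (nat_lit 0x24c06d000) (.leaf (nat_lit 0x248c84000) (nat_lit 3330))
 (.leaf (nat_lit 0x24c06d000) (nat_lit 2561))
) (.node (nat_lit 0x24c958ad1) (.leaf (nat_lit 0x24c0a0901) (nat_lit 1538))
 (.node (nat_lit 0x24ca210e1) (.leaf (nat_lit 0x24c958ad1) (nat_lit 2818))
 (.leaf (nat_lit 0x24ca210e1) (nat_lit 3073))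
))) (.node (nat_lit 0x2584f1259) (.node (nat_lit 0x25805b2b9) (.leaf (nat_lit 0x25800f2b9) (nat_lit 1793))
 (.node (nat_lit 0x2584cfa59) (.leaf (nat_lit 0x25805b2b9) (nat_lit 3073))
 (.leaf (nat_lit 0x2584cfa59) (nat_lit 2561))
)) (.node (nat_lit 0x25d1a92d3) (.leaf (nat_lit 0x2584f1259) (nat_lit 2560))
 (.node (nat_lit 0x25d2bead3) (.leaf (nat_lit 0x25d1a92d3) (nat_lit 2817))
 (.leaf (nat_lit 0x25d2bead3) (nat_lit 3072))
)))) (.node (nat_lit 0x25f8d4000) (.node (nat_lit 0x25e89d084) (.node (nat_lit 0x25d5ef900) (.leaf (nat_lit 0x25d5520d3) (nat_lit 2561))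
 (.node (nat_lit 0x25e883884) (.leaf (nat_lit 0x25d5ef900) (nat_lit 2304))
 (.leaf (nat_lit 0x25e883884) (nat_lit 3074))
)) (.node (nat_lit 0x25f464027) (.leaf (nat_lit 0x25e89d084) (nat_lit 3072))
 (.node (nat_lit 0x25f4f647b) (.leaf (nat_lit 0x25f464027) (nat_lit 2561))
 (.leaf (nat_lit 0x25f4f647b) (nat_lit 2305))
))) (.node (nat_lit 0x25fe8a464) (.node (nat_lit 0x25fa648a1) (.leaf (nat_lit 0x25f8d4000) (nat_lit 1792))
 (.node (nat_lit 0x25fdd2d65) (.leaf (nat_lit 0x25fa648a1) (nat_lit 2049))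
 (.leaf (nat_lit 0x25fdd2d65) (nat_lit 3074))
)) (.node (nat_lit 0x2600a4101) (.leaf (nat_lit 0x25fe8a464) (nat_lit 3330))
 (.node (nat_lit 0x2600cf2d8) (.leaf (nat_lit 0x2600a4101) (nat_lit 3328))
 (.leaf (nat_lit 0x2600cf2d8) (nat_lit 2562))
)))))) (.node (nat_lit 0x280001800) (.node (nat_lit 0x26a89e000) (.node (nat_lit 0x2621f8c0e) (.node (nat_lit 0x261c47800) (.node (nat_lit 0x2604b618f) (.leaf (nat_lit 0x26040c800) (nat_lit 2817))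
 (.leaf (nat_lit 0x2604b618f) (nat_lit 3329))
) (.node (nat_lit 0x261e92800) (.leaf (nat_lit 0x261c47800) (nat_lit 3585))
 (.node (nat_lit 0x2621ab40e) (.leaf (nat_lit 0x261e92800) (nat_lit 1536))
 (.leaf (nat_lit 0x2621ab40e) (nat_lit 3585))
))) (.node (nat_lit 0x26740c800) (.node (nat_lit 0x2670f20a1) (.leaf (nat_lit 0x2621f8c0e) (nat_lit 2816))
 (.node (nat_lit 0x267156cad) (.leaf (nat_lit 0x2670f20a1) (nat_lit 3074))
 (.leaf (nat_lit 0x267156cad) (nat_lit 2050))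
)) (.node (nat_lit 0x26764fa8c) (.leaf (nat_lit 0x26740c800) (nat_lit 1793))
 (.node (nat_lit 0x26a86d000) (.leaf (nat_lit 0x26764fa8c) (nat_lit 3072))
 (.leaf (nat_lit 0x26a86d000) (nat_lit 2561))
)))) (.node (nat_lit 0x2745c2ae5) (.node (nat_lit 0x26ac59000) (.node (nat_lit 0x26ac10800) (.leaf (nat_lit 0x26a89e000) (nat_lit 2048))
 (.leaf (nat_lit 0x26ac10800) (nat_lit 3330))
) (.node (nat_lit 0x27400c800) (.leaf (nat_lit 0x26ac59000) (nat_lit 3329))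
 (.node (nat_lit 0x274096827) (.leaf (nat_lit 0x27400c800) (nat_lit 3329))
 (.leaf (nat_lit 0x274096827) (nat_lit 2305))
))) (.node (nat_lit 0x275a4fc7b) (.node (nat_lit 0x274602ad8) (.leaf (nat_lit 0x2745c2ae5) (nat_lit 2816))
 (.node (nat_lit 0x275a1a101) (.leaf (nat_lit 0x274602ad8) (nat_lit 2050))
 (.leaf (nat_lit 0x275a1a101) (nat_lit 2817))
)) (.node (nat_lit 0x275c0c800) (.leaf (nat_lit 0x275a4fc7b) (nat_lit 3328))
 (.node (nat_lit 0x275d56ad8) (.leaf (nat_lit 0x275c0c800) (nat_lit 3073))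
 (.leaf (nat_lit 0x275d56ad8) (nat_lit 3329))
))))) (.node (nat_lit 0x28d5cb8d3) (.node (nat_lit 0x280932000) (.node (nat_lit 0x2804e2565) (.node (nat_lit 0x280049800) (.leaf (nat_lit 0x280001800) (nat_lit 2817))
 (.leaf (nat_lit 0x280049800) (nat_lit 3328))
) (.node (nat_lit 0x2805a9565) (.leaf (nat_lit 0x2804e2565) (nat_lit 2562))
 (.node (nat_lit 0x28080c800) (.leaf (nat_lit 0x2805a9565) (nat_lit 3073))
 (.leaf (nat_lit 0x28080c800) (nat_lit 2816))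
))) (.node (nat_lit 0x28d025cba) (.node (nat_lit 0x280c444ba) (.leaf (nat_lit 0x280932000) (nat_lit 3073))
 (.node (nat_lit 0x280c774ba) (.leaf (nat_lit 0x280c444ba) (nat_lit 3073))
 (.leaf (nat_lit 0x280c774ba) (nat_lit 3330))
)) (.node (nat_lit 0x28d19b91a) (.leaf (nat_lit 0x28d025cba) (nat_lit 2049))
 (.node (nat_lit 0x28d4b7464) (.leaf (nat_lit 0x28d19b91a) (nat_lit 3328))
 (.leaf (nat_lit 0x28d4b7464) (nat_lit 2306))
)))) (.node (nat_lit 0x291980901) (.node (nat_lit 0x2904bb464) (.node (nat_lit 0x29012541b) (.leaf (nat_lit 0x28d5cb8d3) (nat_lit 2817))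
 (.node (nat_lit 0x29023141b) (.leaf (nat_lit 0x29012541b) (nat_lit 3073))
 (.leaf (nat_lit 0x29023141b) (nat_lit 1792))
)) (.node (nat_lit 0x29059b464) (.leaf (nat_lit 0x2904bb464) (nat_lit 2818))
 (.node (nat_lit 0x2919808e1) (.leaf (nat_lit 0x29059b464) (nat_lit 2818))
 (.leaf (nat_lit 0x2919808e1) (nat_lit 2816))
))) (.node (nat_lit 0x29306d4b6) (.node (nat_lit 0x291c6d000) (.leaf (nat_lit 0x291980901) (nat_lit 3329))
 (.node (nat_lit 0x291c6d061) (.leaf (nat_lit 0x291c6d000) (nat_lit 3073))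
 (.leaf (nat_lit 0x291c6d061) (nat_lit 2560))
)) (.node (nat_lit 0x29329cb0d) (.leaf (nat_lit 0x29306d4b6) (nat_lit 3329))
 (.node (nat_lit 0x2934cc900) (.leaf (nat_lit 0x29329cb0d) (nat_lit 2818))
 (.leaf (nat_lit 0x2934cc900) (nat_lit 3073))
)))))))) (.node (nat_lit 0x2b51e3d08) (.node (nat_lit 0x2a083bcba) (.node (nat_lit 0x29ba64d47) (.node (nat_lit 0x295ca84d0) (.node (nat_lit 0x29400f2b9) (.node (nat_lit 0x293a92800) (.node (nat_lit 0x29389e904) (.leaf (nat_lit 0x293525100) (nat_lit 2817))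
 (.leaf (nat_lit 0x29389e904) (nat_lit 2817))
) (.node (nat_lit 0x293d0dcdb) (.leaf (nat_lit 0x293a92800) (nat_lit 3072))
 (.node (nat_lit 0x293e47cdb) (.leaf (nat_lit 0x293d0dcdb) (nat_lit 2818))
 (.leaf (nat_lit 0x293e47cdb) (nat_lit 2816))
))) (.node (nat_lit 0x29520941b) (.node (nat_lit 0x2941d1ad3) (.leaf (nat_lit 0x29400f2b9) (nat_lit 2048))
 (.node (nat_lit 0x2950774ba) (.leaf (nat_lit 0x2941d1ad3) (nat_lit 3073))
 (.leaf (nat_lit 0x2950774ba) (nat_lit 3329))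
)) (.node (nat_lit 0x295866000) (.leaf (nat_lit 0x29520941b) (nat_lit 2818))
 (.node (nat_lit 0x295889104) (.leaf (nat_lit 0x295866000) (nat_lit 3072))
 (.leaf (nat_lit 0x295889104) (nat_lit 3073))
)))) (.node (nat_lit 0x299e31ad3) (.node (nat_lit 0x299835827) (.node (nat_lit 0x295d13101) (.leaf (nat_lit 0x295ca84d0) (nat_lit 2816))
 (.leaf (nat_lit 0x295d13101) (nat_lit 3072))
) (.node (nat_lit 0x299847afb) (.leaf (nat_lit 0x299835827) (nat_lit 3073))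
 (.node (nat_lit 0x299dcbc1b) (.leaf (nat_lit 0x299847afb) (nat_lit 2816))
 (.leaf (nat_lit 0x299dcbc1b) (nat_lit 2816))
))) (.node (nat_lit 0x29a425cba) (.node (nat_lit 0x29a05f000) (.leaf (nat_lit 0x299e31ad3) (nat_lit 2305))
 (.node (nat_lit 0x29a29cae5) (.leaf (nat_lit 0x29a05f000) (nat_lit 2304))
 (.leaf (nat_lit 0x29a29cae5) (nat_lit 2560))
)) (.node (nat_lit 0x29a5252f1) (.leaf (nat_lit 0x29a425cba) (nat_lit 2560))
 (.node (nat_lit 0x29b91747b) (.leaf (nat_lit 0x29a5252f1) (nat_lit 2049))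
 (.leaf (nat_lit 0x29b91747b) (nat_lit 2305))
))))) (.node (nat_lit 0x29d9a7100) (.node (nat_lit 0x29c801a0e) (.node (nat_lit 0x29c2094d0) (.node (nat_lit 0x29c097000) (.leaf (nat_lit 0x29ba64d47) (nat_lit 3330))
 (.leaf (nat_lit 0x29c097000) (nat_lit 3074))
) (.node (nat_lit 0x29c4d4811) (.leaf (nat_lit 0x29c2094d0) (nat_lit 2049))
 (.node (nat_lit 0x29c64f8d3) (.leaf (nat_lit 0x29c4d4811) (nat_lit 3073))
 (.leaf (nat_lit 0x29c64f8d3) (nat_lit 3586))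
))) (.node (nat_lit 0x29d11f11a) (.node (nat_lit 0x29c915d65) (.leaf (nat_lit 0x29c801a0e) (nat_lit 2305))
 (.node (nat_lit 0x29d0f591a) (.leaf (nat_lit 0x29c915d65) (nat_lit 2305))
 (.leaf (nat_lit 0x29d0f591a) (nat_lit 2817))
)) (.node (nat_lit 0x29d40cb14) (.leaf (nat_lit 0x29d11f11a) (nat_lit 2562))
 (.node (nat_lit 0x29d532314) (.leaf (nat_lit 0x29d40cb14) (nat_lit 3330))
 (.leaf (nat_lit 0x29d532314) (nat_lit 3073))
)))) (.node (nat_lit 0x29e5acd47) (.node (nat_lit 0x29de4f8d3) (.node (nat_lit 0x29dabe41b) (.leaf (nat_lit 0x29d9a7100) (nat_lit 2817))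
 (.node (nat_lit 0x29dc0cb14) (.leaf (nat_lit 0x29dabe41b) (nat_lit 3329))
 (.leaf (nat_lit 0x29dc0cb14) (nat_lit 3329))
)) (.node (nat_lit 0x29e045000) (.leaf (nat_lit 0x29de4f8d3) (nat_lit 2306))
 (.node (nat_lit 0x29e0e215b) (.leaf (nat_lit 0x29e045000) (nat_lit 3073))
 (.leaf (nat_lit 0x29e0e215b) (nat_lit 3074))
))) (.node (nat_lit 0x29ed13100) (.node (nat_lit 0x29e5c1cd0) (.leaf (nat_lit 0x29e5acd47) (nat_lit 3330))
 (.node (nat_lit 0x29ec63084) (.leaf (nat_lit 0x29e5c1cd0) (nat_lit 3072))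
 (.leaf (nat_lit 0x29ec63084) (nat_lit 3072))
)) (.node (nat_lit 0x29f4b618f) (.leaf (nat_lit 0x29ed13100) (nat_lit 3073))
 (.node (nat_lit 0x29f5d7cad) (.leaf (nat_lit 0x29f4b618f) (nat_lit 2817))
 (.leaf (nat_lit 0x29f5d7cad) (nat_lit 2561))
)))))) (.node (nat_lit 0x2abcb711a) (.node (nat_lit 0x2a3e9428c) (.node (nat_lit 0x2a11a74d0) (.node (nat_lit 0x2a0c0ccb6) (.node (nat_lit 0x2a09acbfc) (.leaf (nat_lit 0x2a083bcba) (nat_lit 3073))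
 (.leaf (nat_lit 0x2a09acbfc) (nat_lit 3328))
) (.node (nat_lit 0x2a0cf20e1) (.leaf (nat_lit 0x2a0c0ccb6) (nat_lit 3074))
 (.node (nat_lit 0x2a1065800) (.leaf (nat_lit 0x2a0cf20e1) (nat_lit 3073))
 (.leaf (nat_lit 0x2a1065800) (nat_lit 2561))
))) (.node (nat_lit 0x2a380cafb) (.node (nat_lit 0x2a205a800) (.leaf (nat_lit 0x2a11a74d0) (nat_lit 2305))
 (.node (nat_lit 0x2a20f20a1) (.leaf (nat_lit 0x2a205a800) (nat_lit 3074))
 (.leaf (nat_lit 0x2a20f20a1) (nat_lit 3330))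
)) (.node (nat_lit 0x2a3a4fd47) (.leaf (nat_lit 0x2a380cafb) (nat_lit 3073))
 (.node (nat_lit 0x2a3c88800) (.leaf (nat_lit 0x2a3a4fd47) (nat_lit 2304))
 (.leaf (nat_lit 0x2a3c88800) (nat_lit 3074))
)))) (.node (nat_lit 0x2aa11b000) (.node (nat_lit 0x2a691e4d0) (.node (nat_lit 0x2a68f115b) (.leaf (nat_lit 0x2a3e9428c) (nat_lit 3072))
 (.leaf (nat_lit 0x2a68f115b) (nat_lit 3329))
) (.node (nat_lit 0x2a6c97000) (.leaf (nat_lit 0x2a691e4d0) (nat_lit 2049))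
 (.node (nat_lit 0x2a6dd2c7b) (.leaf (nat_lit 0x2a6c97000) (nat_lit 2816))
 (.leaf (nat_lit 0x2a6dd2c7b) (nat_lit 2817))
))) (.node (nat_lit 0x2aa6bead1) (.node (nat_lit 0x2aa1924ad) (.leaf (nat_lit 0x2aa11b000) (nat_lit 2304))
 (.node (nat_lit 0x2aa4a030d) (.leaf (nat_lit 0x2aa1924ad) (nat_lit 3073))
 (.leaf (nat_lit 0x2aa4a030d) (nat_lit 3074))
)) (.node (nat_lit 0x2ab8ccced) (.leaf (nat_lit 0x2aa6bead1) (nat_lit 3584))
 (.node (nat_lit 0x2ab9cb2d3) (.leaf (nat_lit 0x2ab8ccced) (nat_lit 2561))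
 (.leaf (nat_lit 0x2ab9cb2d3) (nat_lit 2305))
))))) (.node (nat_lit 0x2b2581a8d) (.node (nat_lit 0x2aedf80e1) (.node (nat_lit 0x2ac058827) (.node (nat_lit 0x2abea0900) (.leaf (nat_lit 0x2abcb711a) (nat_lit 2817))
 (.leaf (nat_lit 0x2abea0900) (nat_lit 2306))
) (.node (nat_lit 0x2ac221cd0) (.leaf (nat_lit 0x2ac058827) (nat_lit 2817))
 (.node (nat_lit 0x2aec47800) (.leaf (nat_lit 0x2ac221cd0) (nat_lit 3328))
 (.leaf (nat_lit 0x2aec47800) (nat_lit 3328))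
))) (.node (nat_lit 0x2b0c0ca0e) (.node (nat_lit 0x2b0956a59) (.leaf (nat_lit 0x2aedf80e1) (nat_lit 2817))
 (.node (nat_lit 0x2b0a1a565) (.leaf (nat_lit 0x2b0956a59) (nat_lit 3073))
 (.leaf (nat_lit 0x2b0a1a565) (nat_lit 3072))
)) (.node (nat_lit 0x2b0cf23fc) (.leaf (nat_lit 0x2b0c0ca0e) (nat_lit 3585))
 (.node (nat_lit 0x2b25818a1) (.leaf (nat_lit 0x2b0cf23fc) (nat_lit 2050))
 (.leaf (nat_lit 0x2b25818a1) (nat_lit 3074))
)))) (.node (nat_lit 0x2b30b4000) (.node (nat_lit 0x2b2cffa8d) (.node (nat_lit 0x2b2847800) (.leaf (nat_lit 0x2b2581a8d) (nat_lit 3073))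
 (.node (nat_lit 0x2b2847861) (.leaf (nat_lit 0x2b2847800) (nat_lit 2562))
 (.leaf (nat_lit 0x2b2847861) (nat_lit 3586))
)) (.node (nat_lit 0x2b2e29d47) (.leaf (nat_lit 0x2b2cffa8d) (nat_lit 3074))
 (.node (nat_lit 0x2b300c800) (.leaf (nat_lit 0x2b2e29d47) (nat_lit 3584))
 (.leaf (nat_lit 0x2b300c800) (nat_lit 3584))
))) (.node (nat_lit 0x2b405a800) (.node (nat_lit 0x2b3440000) (.leaf (nat_lit 0x2b30b4000) (nat_lit 2817))
 (.node (nat_lit 0x2b35c1ad8) (.leaf (nat_lit 0x2b3440000) (nat_lit 2818))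
 (.leaf (nat_lit 0x2b35c1ad8) (nat_lit 2305))
)) (.node (nat_lit 0x2b409d800) (.leaf (nat_lit 0x2b405a800) (nat_lit 3074))
 (.node (nat_lit 0x2b51d2508) (.leaf (nat_lit 0x2b409d800) (nat_lit 3074))
 (.leaf (nat_lit 0x2b51d2508) (nat_lit 2305))
))))))) (.node (nat_lit 0x2dbc96000) (.node (nat_lit 0x2c4c64027) (.node (nat_lit 0x2c106d2fb) (.node (nat_lit 0x2b90b618f) (.node (nat_lit 0x2b5418000) (.node (nat_lit 0x2b540c800) (.leaf (nat_lit 0x2b51e3d08) (nat_lit 2561))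
 (.leaf (nat_lit 0x2b540c800) (nat_lit 3072))
) (.node (nat_lit 0x2b8c0ccb6) (.leaf (nat_lit 0x2b5418000) (nat_lit 2050))
 (.node (nat_lit 0x2b8c49800) (.leaf (nat_lit 0x2b8c0ccb6) (nat_lit 3073))
 (.leaf (nat_lit 0x2b8c49800) (nat_lit 2306))
))) (.node (nat_lit 0x2ba1588a1) (.node (nat_lit 0x2b91322fb) (.leaf (nat_lit 0x2b90b618f) (nat_lit 3073))
 (.node (nat_lit 0x2ba047800) (.leaf (nat_lit 0x2b91322fb) (nat_lit 3073))
 (.leaf (nat_lit 0x2ba047800) (nat_lit 2049))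
)) (.node (nat_lit 0x2ba8a095b) (.leaf (nat_lit 0x2ba1588a1) (nat_lit 2562))
 (.node (nat_lit 0x2ba9f8a8d) (.leaf (nat_lit 0x2ba8a095b) (nat_lit 2818))
 (.leaf (nat_lit 0x2ba9f8a8d) (nat_lit 3073))
)))) (.node (nat_lit 0x2c24eeaf1) (.node (nat_lit 0x2c1410800) (.node (nat_lit 0x2c1292104) (.leaf (nat_lit 0x2c106d2fb) (nat_lit 3073))
 (.leaf (nat_lit 0x2c1292104) (nat_lit 3584))
) (.node (nat_lit 0x2c15abd47) (.leaf (nat_lit 0x2c1410800) (nat_lit 2049))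
 (.node (nat_lit 0x2c24ddad3) (.leaf (nat_lit 0x2c15abd47) (nat_lit 2561))
 (.leaf (nat_lit 0x2c24ddad3) (nat_lit 2305))
))) (.node (nat_lit 0x2c49da8a1) (.node (nat_lit 0x2c390e4db) (.leaf (nat_lit 0x2c24eeaf1) (nat_lit 2817))
 (.node (nat_lit 0x2c391e464) (.leaf (nat_lit 0x2c390e4db) (nat_lit 3073))
 (.leaf (nat_lit 0x2c391e464) (nat_lit 2818))
)) (.node (nat_lit 0x2c49e130d) (.leaf (nat_lit 0x2c49da8a1) (nat_lit 3585))
 (.node (nat_lit 0x2c4c45000) (.leaf (nat_lit 0x2c49e130d) (nat_lit 3074))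
 (.leaf (nat_lit 0x2c4c45000) (nat_lit 2306))
))))) (.node (nat_lit 0x2d240c800) (.node (nat_lit 0x2d00b5000) (.node (nat_lit 0x2c6049800) (.node (nat_lit 0x2c6020800) (.leaf (nat_lit 0x2c4c64027) (nat_lit 2817))
 (.leaf (nat_lit 0x2c6020800) (nat_lit 3074))
) (.node (nat_lit 0x2c64f240e) (.leaf (nat_lit 0x2c6049800) (nat_lit 2304))
 (.node (nat_lit 0x2c65ac40e) (.leaf (nat_lit 0x2c64f240e) (nat_lit 2818))
 (.leaf (nat_lit 0x2c65ac40e) (nat_lit 2816))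
))) (.node (nat_lit 0x2d059b47b) (.node (nat_lit 0x2d0231547) (.leaf (nat_lit 0x2d00b5000) (nat_lit 2306))
 (.node (nat_lit 0x2d04b715b) (.leaf (nat_lit 0x2d0231547) (nat_lit 2817))
 (.leaf (nat_lit 0x2d04b715b) (nat_lit 3073))
)) (.node (nat_lit 0x2d20f1cad) (.leaf (nat_lit 0x2d059b47b) (nat_lit 2817))
 (.node (nat_lit 0x2d2294101) (.leaf (nat_lit 0x2d20f1cad) (nat_lit 3072))
 (.leaf (nat_lit 0x2d2294101) (nat_lit 3073))
)))) (.node (nat_lit 0x2da049800) (.node (nat_lit 0x2d82638a1) (.node (nat_lit 0x2d24f24d0) (.leaf (nat_lit 0x2d240c800) (nat_lit 3329))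
 (.node (nat_lit 0x2d800c861) (.leaf (nat_lit 0x2d24f24d0) (nat_lit 2049))
 (.leaf (nat_lit 0x2d800c861) (nat_lit 2561))
)) (.node (nat_lit 0x2d8476800) (.leaf (nat_lit 0x2d82638a1) (nat_lit 3073))
 (.node (nat_lit 0x2d862915b) (.leaf (nat_lit 0x2d8476800) (nat_lit 2817))
 (.leaf (nat_lit 0x2d862915b) (nat_lit 3073))
))) (.node (nat_lit 0x2da61a508) (.node (nat_lit 0x2da076800) (.leaf (nat_lit 0x2da049800) (nat_lit 3074))
 (.node (nat_lit 0x2da602d08) (.leaf (nat_lit 0x2da076800) (nat_lit 3073))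
 (.leaf (nat_lit 0x2da602d08) (nat_lit 3329))
)) (.node (nat_lit 0x2db99640e) (.leaf (nat_lit 0x2da61a508) (nat_lit 2049))
 (.node (nat_lit 0x2dba6340e) (.leaf (nat_lit 0x2db99640e) (nat_lit 3074))
 (.leaf (nat_lit 0x2dba6340e) (nat_lit 2818))
)))))) (.node (nat_lit 0x30400c800) (.node (nat_lit 0x2f29d92f1) (.node (nat_lit 0x2e080cafb) (.node (nat_lit 0x2e0046027) (.node (nat_lit 0x2dbcd4000) (.leaf (nat_lit 0x2dbc96000) (nat_lit 2818))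
 (.leaf (nat_lit 0x2dbcd4000) (nat_lit 2049))
) (.node (nat_lit 0x2e01d92d8) (.leaf (nat_lit 0x2e0046027) (nat_lit 3074))
 (.node (nat_lit 0x2e0801800) (.leaf (nat_lit 0x2e01d92d8) (nat_lit 2562))
 (.leaf (nat_lit 0x2e0801800) (nat_lit 2816))
))) (.node (nat_lit 0x2f011ccba) (.node (nat_lit 0x2ef801b14) (.leaf (nat_lit 0x2e080cafb) (nat_lit 2817))
 (.node (nat_lit 0x2ef9da3fc) (.leaf (nat_lit 0x2ef801b14) (nat_lit 3328))
 (.leaf (nat_lit 0x2ef9da3fc) (nat_lit 3328))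
)) (.node (nat_lit 0x2f0156cdb) (.leaf (nat_lit 0x2f011ccba) (nat_lit 3074))
 (.node (nat_lit 0x2f28a42f1) (.leaf (nat_lit 0x2f0156cdb) (nat_lit 3074))
 (.leaf (nat_lit 0x2f28a42f1) (nat_lit 768))
)))) (.node (nat_lit 0x2fd525100) (.node (nat_lit 0x2f2d3220e) (.node (nat_lit 0x2f2c0ca0e) (.leaf (nat_lit 0x2f29d92f1) (nat_lit 3329))
 (.leaf (nat_lit 0x2f2c0ca0e) (nat_lit 3328))
) (.node (nat_lit 0x2fd231af1) (.leaf (nat_lit 0x2f2d3220e) (nat_lit 3329))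
 (.node (nat_lit 0x2fd2a0c64) (.leaf (nat_lit 0x2fd231af1) (nat_lit 2817))
 (.leaf (nat_lit 0x2fd2a0c64) (nat_lit 2562))
))) (.node (nat_lit 0x2fde1c259) (.node (nat_lit 0x2fd5bcd65) (.leaf (nat_lit 0x2fd525100) (nat_lit 1281))
 (.node (nat_lit 0x2fdc9d084) (.leaf (nat_lit 0x2fd5bcd65) (nat_lit 3329))
 (.leaf (nat_lit 0x2fdc9d084) (nat_lit 3328))
)) (.node (nat_lit 0x2fe421011) (.leaf (nat_lit 0x2fde1c259) (nat_lit 3074))
 (.node (nat_lit 0x2fe6354ed) (.leaf (nat_lit 0x2fe421011) (nat_lit 1282))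
 (.leaf (nat_lit 0x2fe6354ed) (nat_lit 2560))
))))) (.node (nat_lit 0x3075a9a8c) (.node (nat_lit 0x3060cf0e1) (.node (nat_lit 0x3044fb547) (.node (nat_lit 0x30403e904) (.leaf (nat_lit 0x30400c800) (nat_lit 3073))
 (.leaf (nat_lit 0x30403e904) (nat_lit 3330))
) (.node (nat_lit 0x3045ac28c) (.leaf (nat_lit 0x3044fb547) (nat_lit 3329))
 (.node (nat_lit 0x306046027) (.leaf (nat_lit 0x3045ac28c) (nat_lit 3073))
 (.leaf (nat_lit 0x306046027) (nat_lit 3072))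
))) (.node (nat_lit 0x30700c800) (.node (nat_lit 0x30640ccb6) (.leaf (nat_lit 0x3060cf0e1) (nat_lit 3073))
 (.node (nat_lit 0x306449800) (.leaf (nat_lit 0x30640ccb6) (nat_lit 3585))
 (.leaf (nat_lit 0x306449800) (nat_lit 3330))
)) (.node (nat_lit 0x3070b618f) (.leaf (nat_lit 0x30700c800) (nat_lit 2305))
 (.node (nat_lit 0x30751f0a1) (.leaf (nat_lit 0x3070b618f) (nat_lit 1793))
 (.leaf (nat_lit 0x30751f0a1) (nat_lit 2816))
)))) (.node (nat_lit 0x31500cafb) (.node (nat_lit 0x30e8a82f1) (.node (nat_lit 0x30e483884) (.leaf (nat_lit 0x3075a9a8c) (nat_lit 2818))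
 (.node (nat_lit 0x30e4b4811) (.leaf (nat_lit 0x30e483884) (nat_lit 3329))
 (.leaf (nat_lit 0x30e4b4811) (nat_lit 2305))
)) (.node (nat_lit 0x30e9e9461) (.leaf (nat_lit 0x30e8a82f1) (nat_lit 2306))
 (.node (nat_lit 0x315001800) (.leaf (nat_lit 0x30e9e9461) (nat_lit 2562))
 (.leaf (nat_lit 0x315001800) (nat_lit 3329))
))) (.node (nat_lit 0x31651c000) (.node (nat_lit 0x315863904) (.leaf (nat_lit 0x31500cafb) (nat_lit 2562))
 (.node (nat_lit 0x3158f5a8c) (.leaf (nat_lit 0x315863904) (nat_lit 3073))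
 (.leaf (nat_lit 0x3158f5a8c) (nat_lit 2562))
)) (.node (nat_lit 0x3165cf101) (.leaf (nat_lit 0x31651c000) (nat_lit 2817))
 (.node (nat_lit 0x316849a0e) (.leaf (nat_lit 0x3165cf101) (nat_lit 2817))
 (.leaf (nat_lit 0x316849a0e) (nat_lit 3329))
))))))))) (.node (nat_lit 0xc0e40ccb6) (.node (nat_lit 0x3414b74ed) (.node (nat_lit 0x33580ca0e) (.node (nat_lit 0x3248a5b0d) (.node (nat_lit 0x31f4f64ab) (.node (nat_lit 0x31980ccb6) (.node (nat_lit 0x316dd84ad) (.node (nat_lit 0x316c89104) (.leaf (nat_lit 0x31689a884) (nat_lit 2817))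
 (.leaf (nat_lit 0x316c89104) (nat_lit 1794))
) (.node (nat_lit 0x317156a59) (.leaf (nat_lit 0x316dd84ad) (nat_lit 3072))
 (.node (nat_lit 0x3171c2bfc) (.leaf (nat_lit 0x317156a59) (nat_lit 2049))
 (.leaf (nat_lit 0x3171c2bfc) (nat_lit 2818))
))) (.node (nat_lit 0x319da9a8d) (.node (nat_lit 0x319849800) (.leaf (nat_lit 0x31980ccb6) (nat_lit 3584))
 (.node (nat_lit 0x319c63904) (.leaf (nat_lit 0x319849800) (nat_lit 3074))
 (.leaf (nat_lit 0x319c63904) (nat_lit 2049))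
)) (.node (nat_lit 0x31f00c861) (.leaf (nat_lit 0x319da9a8d) (nat_lit 2305))
 (.node (nat_lit 0x31f209ad1) (.leaf (nat_lit 0x31f00c861) (nat_lit 1537))
 (.leaf (nat_lit 0x31f209ad1) (nat_lit 3329))
)))) (.node (nat_lit 0x31fd968e1) (.node (nat_lit 0x31f9a2a59) (.node (nat_lit 0x31f694d65) (.leaf (nat_lit 0x31f4f64ab) (nat_lit 2304))
 (.leaf (nat_lit 0x31f694d65) (nat_lit 2817))
) (.node (nat_lit 0x31f9d72f1) (.leaf (nat_lit 0x31f9a2a59) (nat_lit 1537))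
 (.node (nat_lit 0x31fc43800) (.leaf (nat_lit 0x31f9d72f1) (nat_lit 2050))
 (.leaf (nat_lit 0x31fc43800) (nat_lit 3330))
))) (.node (nat_lit 0x321417ab9) (.node (nat_lit 0x3211d191a) (.leaf (nat_lit 0x31fd968e1) (nat_lit 2304))
 (.node (nat_lit 0x3211d54ab) (.leaf (nat_lit 0x3211d191a) (nat_lit 2817))
 (.leaf (nat_lit 0x3211d54ab) (nat_lit 2560))
)) (.node (nat_lit 0x321439011) (.leaf (nat_lit 0x321417ab9) (nat_lit 1794))
 (.node (nat_lit 0x324835827) (.leaf (nat_lit 0x321439011) (nat_lit 2818))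
 (.leaf (nat_lit 0x324835827) (nat_lit 1025))
))))) (.node (nat_lit 0x32e46d000) (.node (nat_lit 0x32a8bb259) (.node (nat_lit 0x324dab47b) (.node (nat_lit 0x324c6d000) (.leaf (nat_lit 0x3248a5b0d) (nat_lit 1793))
 (.leaf (nat_lit 0x324c6d000) (nat_lit 3328))
) (.node (nat_lit 0x32a5252f1) (.leaf (nat_lit 0x324dab47b) (nat_lit 2818))
 (.node (nat_lit 0x32a6a04ab) (.leaf (nat_lit 0x32a5252f1) (nat_lit 2818))
 (.leaf (nat_lit 0x32a6a04ab) (nat_lit 2560))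
))) (.node (nat_lit 0x32cc63084) (.node (nat_lit 0x32a8cc41b) (.leaf (nat_lit 0x32a8bb259) (nat_lit 2561))
 (.node (nat_lit 0x32cc444ba) (.leaf (nat_lit 0x32a8cc41b) (nat_lit 3841))
 (.leaf (nat_lit 0x32cc444ba) (nat_lit 2561))
)) (.node (nat_lit 0x32d0dd900) (.leaf (nat_lit 0x32cc63084) (nat_lit 3328))
 (.node (nat_lit 0x32d21c2f1) (.leaf (nat_lit 0x32d0dd900) (nat_lit 2818))
 (.leaf (nat_lit 0x32d21c2f1) (nat_lit 2816))
)))) (.node (nat_lit 0x331401cb6) (.node (nat_lit 0x32edf830d) (.node (nat_lit 0x32e621a8d) (.leaf (nat_lit 0x32e46d000) (nat_lit 3585))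
 (.node (nat_lit 0x32ec9e904) (.leaf (nat_lit 0x32e621a8d) (nat_lit 3330))
 (.leaf (nat_lit 0x32ec9e904) (nat_lit 2818))
)) (.node (nat_lit 0x33100c800) (.leaf (nat_lit 0x32edf830d) (nat_lit 3073))
 (.node (nat_lit 0x3310b618f) (.leaf (nat_lit 0x33100c800) (nat_lit 3328))
 (.leaf (nat_lit 0x3310b618f) (nat_lit 3073))
))) (.node (nat_lit 0x334e3495b) (.node (nat_lit 0x331532061) (.leaf (nat_lit 0x331401cb6) (nat_lit 2561))
 (.node (nat_lit 0x334c0c861) (.leaf (nat_lit 0x331532061) (nat_lit 2304))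
 (.leaf (nat_lit 0x334c0c861) (nat_lit 3073))
)) (.node (nat_lit 0x335515c61) (.leaf (nat_lit 0x334e3495b) (nat_lit 2560))
 (.node (nat_lit 0x33551bab9) (.leaf (nat_lit 0x335515c61) (nat_lit 3074))
 (.leaf (nat_lit 0x33551bab9) (nat_lit 2306))
)))))) (.node (nat_lit 0x33b09d800) (.node (nat_lit 0x338cfba8c) (.node (nat_lit 0x338196d47) (.node (nat_lit 0x335c39800) (.node (nat_lit 0x3358ff41b) (.leaf (nat_lit 0x33580ca0e) (nat_lit 3329))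
 (.leaf (nat_lit 0x3358ff41b) (nat_lit 2817))
) (.node (nat_lit 0x335da1a8d) (.leaf (nat_lit 0x335c39800) (nat_lit 2306))
 (.node (nat_lit 0x338132000) (.leaf (nat_lit 0x335da1a8d) (nat_lit 2306))
 (.leaf (nat_lit 0x338132000) (nat_lit 2816))
))) (.node (nat_lit 0x3389d72e5) (.node (nat_lit 0x3385ef2d1) (.leaf (nat_lit 0x338196d47) (nat_lit 3586))
 (.node (nat_lit 0x33861a28d) (.leaf (nat_lit 0x3385ef2d1) (nat_lit 2561))
 (.leaf (nat_lit 0x33861a28d) (nat_lit 2562))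
)) (.node (nat_lit 0x338a8a0e1) (.leaf (nat_lit 0x3389d72e5) (nat_lit 3330))
 (.node (nat_lit 0x338c96000) (.leaf (nat_lit 0x338a8a0e1) (nat_lit 2562))
 (.leaf (nat_lit 0x338c96000) (nat_lit 3328))
)))) (.node (nat_lit 0x339cffc61) (.node (nat_lit 0x33928aced) (.node (nat_lit 0x33900cb14) (.leaf (nat_lit 0x338cfba8c) (nat_lit 2560))
 (.leaf (nat_lit 0x33900cb14) (nat_lit 2305))
) (.node (nat_lit 0x33949a884) (.leaf (nat_lit 0x33928aced) (nat_lit 2305))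
 (.node (nat_lit 0x3395da464) (.leaf (nat_lit 0x33949a884) (nat_lit 2048))
 (.leaf (nat_lit 0x3395da464) (nat_lit 2561))
))) (.node (nat_lit 0x33a5174db) (.node (nat_lit 0x339d923fc) (.leaf (nat_lit 0x339cffc61) (nat_lit 2817))
 (.node (nat_lit 0x33a4eecab) (.leaf (nat_lit 0x339d923fc) (nat_lit 2305))
 (.leaf (nat_lit 0x33a4eecab) (nat_lit 2817))
)) (.node (nat_lit 0x33a8b618f) (.leaf (nat_lit 0x33a5174db) (nat_lit 3073))
 (.node (nat_lit 0x33a9d228c) (.leaf (nat_lit 0x33a8b618f) (nat_lit 2817))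
 (.leaf (nat_lit 0x33a9d228c) (nat_lit 3585))
))))) (.node (nat_lit 0x33f1d14ed) (.node (nat_lit 0x33bc0c861) (.node (nat_lit 0x33b80cafb) (.node (nat_lit 0x33b156cad) (.leaf (nat_lit 0x33b09d800) (nat_lit 2561))
 (.leaf (nat_lit 0x33b156cad) (nat_lit 2561))
) (.node (nat_lit 0x33b80ccb6) (.leaf (nat_lit 0x33b80cafb) (nat_lit 3329))
 (.node (nat_lit 0x33bc0c800) (.leaf (nat_lit 0x33b80ccb6) (nat_lit 3073))
 (.leaf (nat_lit 0x33bc0c800) (nat_lit 2817))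
))) (.node (nat_lit 0x33c50e3fc) (.node (nat_lit 0x33c1962d3) (.leaf (nat_lit 0x33bc0c861) (nat_lit 2817))
 (.node (nat_lit 0x33c22991a) (.leaf (nat_lit 0x33c1962d3) (nat_lit 2562))
 (.leaf (nat_lit 0x33c22991a) (nat_lit 2817))
)) (.node (nat_lit 0x33c5d8100) (.leaf (nat_lit 0x33c50e3fc) (nat_lit 3328))
 (.node (nat_lit 0x33f00ca0e) (.leaf (nat_lit 0x33c5d8100) (nat_lit 3073))
 (.leaf (nat_lit 0x33f00ca0e) (nat_lit 2818))
)))) (.node (nat_lit 0x33fde9508) (.node (nat_lit 0x33f840000) (.node (nat_lit 0x33f4db41b) (.leaf (nat_lit 0x33f1d14ed) (nat_lit 1024))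
 (.node (nat_lit 0x33f5ef4ab) (.leaf (nat_lit 0x33f4db41b) (nat_lit 2561))
 (.leaf (nat_lit 0x33f5ef4ab) (nat_lit 2306))
)) (.node (nat_lit 0x33f91c000) (.leaf (nat_lit 0x33f840000) (nat_lit 2305))
 (.node (nat_lit 0x33fda2d08) (.leaf (nat_lit 0x33f91c000) (nat_lit 3074))
 (.leaf (nat_lit 0x33fda2d08) (nat_lit 2562))
))) (.node (nat_lit 0x34040cafb) (.node (nat_lit 0x340065800) (.leaf (nat_lit 0x33fde9508) (nat_lit 2816))
 (.node (nat_lit 0x34010f2d8) (.leaf (nat_lit 0x340065800) (nat_lit 2817))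
 (.leaf (nat_lit 0x34010f2d8) (nat_lit 3073))
)) (.node (nat_lit 0x340556ae5) (.leaf (nat_lit 0x34040cafb) (nat_lit 2817))
 (.node (nat_lit 0x3414b7464) (.leaf (nat_lit 0x340556ae5) (nat_lit 3074))
 (.leaf (nat_lit 0x3414b7464) (nat_lit 3072))
))))))) (.node (nat_lit 0x3574fbb0d) (.node (nat_lit 0x34adcf2e5) (.node (nat_lit 0x34700c861) (.node (nat_lit 0x3435e111a) (.node (nat_lit 0x341999cdb) (.node (nat_lit 0x341999ad3) (.leaf (nat_lit 0x3414b74ed) (nat_lit 2306))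
 (.leaf (nat_lit 0x341999ad3) (nat_lit 2561))
) (.node (nat_lit 0x34303bcba) (.leaf (nat_lit 0x341999cdb) (nat_lit 2561))
 (.node (nat_lit 0x34305b2b9) (.leaf (nat_lit 0x34303bcba) (nat_lit 3330))
 (.leaf (nat_lit 0x34305b2b9) (nat_lit 3074))
))) (.node (nat_lit 0x3458e1b0d) (.node (nat_lit 0x343663464) (.leaf (nat_lit 0x3435e111a) (nat_lit 3329))
 (.node (nat_lit 0x345888800) (.leaf (nat_lit 0x343663464) (nat_lit 2817))
 (.leaf (nat_lit 0x345888800) (nat_lit 1794))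
)) (.node (nat_lit 0x345c0ccb6) (.leaf (nat_lit 0x3458e1b0d) (nat_lit 3073))
 (.node (nat_lit 0x345e1a28d) (.leaf (nat_lit 0x345c0ccb6) (nat_lit 3074))
 (.leaf (nat_lit 0x345e1a28d) (nat_lit 3072))
)))) (.node (nat_lit 0x347dd44ed) (.node (nat_lit 0x347420800) (.node (nat_lit 0x3471e9901) (.leaf (nat_lit 0x34700c861) (nat_lit 3585))
 (.leaf (nat_lit 0x3471e9901) (nat_lit 2562))
) (.node (nat_lit 0x3475d7ad1) (.leaf (nat_lit 0x347420800) (nat_lit 3074))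
 (.node (nat_lit 0x347cef100) (.leaf (nat_lit 0x3475d7ad1) (nat_lit 2304))
 (.leaf (nat_lit 0x347cef100) (nat_lit 2561))
))) (.node (nat_lit 0x34a91b000) (.node (nat_lit 0x348c0cb14) (.leaf (nat_lit 0x347dd44ed) (nat_lit 3074))
 (.node (nat_lit 0x348e1dc1b) (.leaf (nat_lit 0x348c0cb14) (nat_lit 2306))
 (.leaf (nat_lit 0x348e1dc1b) (nat_lit 2818))
)) (.node (nat_lit 0x34aa3530d) (.leaf (nat_lit 0x34a91b000) (nat_lit 2560))
 (.node (nat_lit 0x34ad524ad) (.leaf (nat_lit 0x34aa3530d) (nat_lit 3330))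
 (.leaf (nat_lit 0x34ad524ad) (nat_lit 3585))
))))) (.node (nat_lit 0x352ccfbfc) (.node (nat_lit 0x352049861) (.node (nat_lit 0x34f951cdb) (.node (nat_lit 0x34f80cb14) (.leaf (nat_lit 0x34adcf2e5) (nat_lit 3073))
 (.leaf (nat_lit 0x34f80cb14) (nat_lit 3073))
) (.node (nat_lit 0x34fd1ccba) (.leaf (nat_lit 0x34f951cdb) (nat_lit 2818))
 (.node (nat_lit 0x34fe640d3) (.leaf (nat_lit 0x34fd1ccba) (nat_lit 3330))
 (.leaf (nat_lit 0x34fe640d3) (nat_lit 1793))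
))) (.node (nat_lit 0x352439011) (.node (nat_lit 0x3520b618f) (.leaf (nat_lit 0x352049861) (nat_lit 2816))
 (.node (nat_lit 0x352421011) (.leaf (nat_lit 0x3520b618f) (nat_lit 3072))
 (.leaf (nat_lit 0x352421011) (nat_lit 2304))
)) (.node (nat_lit 0x352801800) (.leaf (nat_lit 0x352439011) (nat_lit 3074))
 (.node (nat_lit 0x35280cafb) (.leaf (nat_lit 0x352801800) (nat_lit 3073))
 (.leaf (nat_lit 0x35280cafb) (nat_lit 2049))
)))) (.node (nat_lit 0x355817ab9) (.node (nat_lit 0x355156cdb) (.node (nat_lit 0x352da83fc) (.leaf (nat_lit 0x352ccfbfc) (nat_lit 2817))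
 (.node (nat_lit 0x35500ca0e) (.leaf (nat_lit 0x352da83fc) (nat_lit 3329))
 (.leaf (nat_lit 0x35500ca0e) (nat_lit 2306))
)) (.node (nat_lit 0x3554e1cab) (.leaf (nat_lit 0x355156cdb) (nat_lit 3073))
 (.node (nat_lit 0x3554f1ced) (.leaf (nat_lit 0x3554e1cab) (nat_lit 1792))
 (.leaf (nat_lit 0x3554f1ced) (nat_lit 3073))
))) (.node (nat_lit 0x355e02565) (.node (nat_lit 0x3559dacab) (.leaf (nat_lit 0x355817ab9) (nat_lit 2818))
 (.node (nat_lit 0x355cb4811) (.leaf (nat_lit 0x3559dacab) (nat_lit 3328))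
 (.leaf (nat_lit 0x355cb4811) (nat_lit 1538))
)) (.node (nat_lit 0x357066000) (.leaf (nat_lit 0x355e02565) (nat_lit 3073))
 (.node (nat_lit 0x3571a82d1) (.leaf (nat_lit 0x357066000) (nat_lit 3073))
 (.leaf (nat_lit 0x3571a82d1) (nat_lit 3328))
)))))) (.node (nat_lit 0x35e00c800) (.node (nat_lit 0x35b1ba2e5) (.node (nat_lit 0x35a51bab9) (.node (nat_lit 0x35a0fb565) (.node (nat_lit 0x3576022e5) (.leaf (nat_lit 0x3574fbb0d) (nat_lit 2560))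
 (.leaf (nat_lit 0x3576022e5) (nat_lit 3073))
) (.node (nat_lit 0x35a24fad3) (.leaf (nat_lit 0x35a0fb565) (nat_lit 3328))
 (.node (nat_lit 0x35a449b14) (.leaf (nat_lit 0x35a24fad3) (nat_lit 3072))
 (.leaf (nat_lit 0x35a449b14) (nat_lit 2561))
))) (.node (nat_lit 0x35ad0ccad) (.node (nat_lit 0x35a811084) (.leaf (nat_lit 0x35a51bab9) (nat_lit 3074))
 (.node (nat_lit 0x35a959461) (.leaf (nat_lit 0x35a811084) (nat_lit 3072))
 (.leaf (nat_lit 0x35a959461) (nat_lit 2818))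
)) (.node (nat_lit 0x35ad252d1) (.leaf (nat_lit 0x35ad0ccad) (nat_lit 2562))
 (.node (nat_lit 0x35b026000) (.leaf (nat_lit 0x35ad252d1) (nat_lit 3074))
 (.leaf (nat_lit 0x35b026000) (nat_lit 3329))
)))) (.node (nat_lit 0x35c00ca0e) (.node (nat_lit 0x35b45eab9) (.node (nat_lit 0x35b447a0e) (.leaf (nat_lit 0x35b1ba2e5) (nat_lit 2305))
 (.leaf (nat_lit 0x35b447a0e) (nat_lit 3329))
) (.node (nat_lit 0x35b8d4811) (.leaf (nat_lit 0x35b45eab9) (nat_lit 3328))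
 (.node (nat_lit 0x35b9cecdb) (.leaf (nat_lit 0x35b8d4811) (nat_lit 3072))
 (.leaf (nat_lit 0x35b9cecdb) (nat_lit 3329))
))) (.node (nat_lit 0x35da1a508) (.node (nat_lit 0x35c1180d3) (.leaf (nat_lit 0x35c00ca0e) (nat_lit 2818))
 (.node (nat_lit 0x35d9ced08) (.leaf (nat_lit 0x35c1180d3) (nat_lit 3330))
 (.leaf (nat_lit 0x35d9ced08) (nat_lit 2816))
)) (.node (nat_lit 0x35dc01800) (.leaf (nat_lit 0x35da1a508) (nat_lit 2816))
 (.node (nat_lit 0x35dc43800) (.leaf (nat_lit 0x35dc01800) (nat_lit 3330))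
 (.leaf (nat_lit 0x35dc43800) (nat_lit 3072))
))))) (.node (nat_lit 0xa3906bafa) (.node (nat_lit 0x35ea1a101) (.node (nat_lit 0x35e50f0a1) (.node (nat_lit 0x35e21a30d) (.leaf (nat_lit 0x35e00c800) (nat_lit 2305))
 (.leaf (nat_lit 0x35e21a30d) (nat_lit 2049))
) (.node (nat_lit 0x35e6be47b) (.leaf (nat_lit 0x35e50f0a1) (nat_lit 2816))
 (.node (nat_lit 0x35e884000) (.leaf (nat_lit 0x35e6be47b) (nat_lit 1536))
 (.leaf (nat_lit 0x35e884000) (nat_lit 2818))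
))) (.node (nat_lit 0xa0a847211) (.node (nat_lit 0x35ecb618f) (.leaf (nat_lit 0x35ea1a101) (nat_lit 2817))
 (.node (nat_lit 0x35ee2947b) (.leaf (nat_lit 0x35ecb618f) (nat_lit 3329))
 (.leaf (nat_lit 0x35ee2947b) (nat_lit 2305))
)) (.node (nat_lit 0xa0e4b6991) (.leaf (nat_lit 0xa0a847211) (nat_lit 3072))
 (.node (nat_lit 0xa0e532afa) (.leaf (nat_lit 0xa0e4b6991) (nat_lit 3585))
 (.leaf (nat_lit 0xa0e532afa) (nat_lit 2817))
)))) (.node (nat_lit 0xaba8474b7) (.node (nat_lit 0xa6a8472fa) (.node (nat_lit 0xa4c86bcb7) (.leaf (nat_lit 0xa3906bafa) (nat_lit 3328))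
 (.node (nat_lit 0xa674b6991) (.leaf (nat_lit 0xa4c86bcb7) (nat_lit 2560))
 (.leaf (nat_lit 0xa674b6991) (nat_lit 3073))
)) (.node (nat_lit 0xa75cb6991) (.leaf (nat_lit 0xa6a8472fa) (nat_lit 2305))
 (.node (nat_lit 0xab904acb7) (.leaf (nat_lit 0xa75cb6991) (nat_lit 1537))
 (.leaf (nat_lit 0xab904acb7) (nat_lit 2817))
))) (.node (nat_lit 0xb4fc4ab16) (.node (nat_lit 0xb3f132b16) (.leaf (nat_lit 0xaba8474b7) (nat_lit 3073))
 (.node (nat_lit 0xb48d32a11) (.leaf (nat_lit 0xb3f132b16) (nat_lit 3073))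
 (.leaf (nat_lit 0xb48d32a11) (nat_lit 2305))
)) (.node (nat_lit 0xb5b46bb16) (.leaf (nat_lit 0xb4fc4ab16) (nat_lit 2560))
 (.node (nat_lit 0xb5b84aa11) (.leaf (nat_lit 0xb5b46bb16) (nat_lit 3072))
 (.leaf (nat_lit 0xb5b84aa11) (nat_lit 3328))
)))))))) (.node (nat_lit 0x203d43a800) (.node (nat_lit 0x183c61c4ac) (.node (nat_lit 0x129e0da066) (.node (nat_lit 0xd3b8b618f) (.node (nat_lit 0xca0c0c800) (.node (nat_lit 0xc43047800) (.node (nat_lit 0xc0e449800) (.leaf (nat_lit 0xc0e40ccb6) (nat_lit 2305))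
 (.leaf (nat_lit 0xc0e449800) (nat_lit 3074))
) (.node (nat_lit 0xc8000cafb) (.leaf (nat_lit 0xc43047800) (nat_lit 3330))
 (.node (nat_lit 0xc9306d000) (.leaf (nat_lit 0xc8000cafb) (nat_lit 2817))
 (.leaf (nat_lit 0xc9306d000) (nat_lit 2560))
))) (.node (nat_lit 0xcda00c800) (.node (nat_lit 0xcb8c0c800) (.leaf (nat_lit 0xca0c0c800) (nat_lit 1793))
 (.node (nat_lit 0xcc600c800) (.leaf (nat_lit 0xcb8c0c800) (nat_lit 3073))
 (.leaf (nat_lit 0xcc600c800) (nat_lit 3584))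
)) (.node (nat_lit 0xd1680ca0e) (.leaf (nat_lit 0xcda00c800) (nat_lit 2561))
 (.node (nat_lit 0xd3140c800) (.leaf (nat_lit 0xd1680ca0e) (nat_lit 2560))
 (.leaf (nat_lit 0xd3140c800) (nat_lit 3073))
)))) (.node (nat_lit 0x120e57e066) (.node (nat_lit 0xd52132000) (.node (nat_lit 0xd45c0c800) (.leaf (nat_lit 0xd3b8b618f) (nat_lit 3073))
 (.leaf (nat_lit 0xd45c0c800) (nat_lit 3329))
) (.node (nat_lit 0xd5a40cb14) (.leaf (nat_lit 0xd52132000) (nat_lit 2305))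
 (.node (nat_lit 0x120e513866) (.leaf (nat_lit 0xd5a40cb14) (nat_lit 3072))
 (.leaf (nat_lit 0x120e513866) (nat_lit 3072))
))) (.node (nat_lit 0x126057e066) (.node (nat_lit 0x123761f066) (.leaf (nat_lit 0x120e57e066) (nat_lit 2048))
 (.node (nat_lit 0x1248e9b066) (.leaf (nat_lit 0x123761f066) (nat_lit 2049))
 (.leaf (nat_lit 0x1248e9b066) (nat_lit 2049))
)) (.node (nat_lit 0x126aa1f066) (.leaf (nat_lit 0x126057e066) (nat_lit 3074))
 (.node (nat_lit 0x12809cf866) (.leaf (nat_lit 0x126aa1f066) (nat_lit 3330))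
 (.leaf (nat_lit 0x12809cf866) (nat_lit 3073))
))))) (.node (nat_lit 0x16389a6868) (.node (nat_lit 0x133b112866) (.node (nat_lit 0x12b40d3866) (.node (nat_lit 0x12a109f066) (.leaf (nat_lit 0x129e0da066) (nat_lit 2817))
 (.leaf (nat_lit 0x12a109f066) (nat_lit 2305))
) (.node (nat_lit 0x1319912866) (.leaf (nat_lit 0x12b40d3866) (nat_lit 3072))
 (.node (nat_lit 0x1335e9b066) (.leaf (nat_lit 0x1319912866) (nat_lit 3072))
 (.leaf (nat_lit 0x1335e9b066) (nat_lit 2305))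
))) (.node (nat_lit 0x160e4d3068) (.node (nat_lit 0x134009f066) (.leaf (nat_lit 0x133b112866) (nat_lit 3584))
 (.node (nat_lit 0x135b0dc066) (.leaf (nat_lit 0x134009f066) (nat_lit 3330))
 (.leaf (nat_lit 0x135b0dc066) (nat_lit 3585))
)) (.node (nat_lit 0x160e550868) (.leaf (nat_lit 0x160e4d3068) (nat_lit 2817))
 (.node (nat_lit 0x161ecda868) (.leaf (nat_lit 0x160e550868) (nat_lit 3586))
 (.leaf (nat_lit 0x161ecda868) (nat_lit 3073))
)))) (.node (nat_lit 0x17248e3068) (.node (nat_lit 0x16959ff068) (.node (nat_lit 0x165f6a9068) (.leaf (nat_lit 0x16389a6868) (nat_lit 2304))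
 (.node (nat_lit 0x166ace3068) (.leaf (nat_lit 0x165f6a9068) (nat_lit 2560))
 (.leaf (nat_lit 0x166ace3068) (nat_lit 3330))
)) (.node (nat_lit 0x16c48db868) (.leaf (nat_lit 0x16959ff068) (nat_lit 3074))
 (.node (nat_lit 0x17166a9068) (.leaf (nat_lit 0x16c48db868) (nat_lit 1792))
 (.leaf (nat_lit 0x17166a9068) (nat_lit 1282))
))) (.node (nat_lit 0x173bd50868) (.node (nat_lit 0x17381a6868) (.leaf (nat_lit 0x17248e3068) (nat_lit 2818))
 (.node (nat_lit 0x1738dff068) (.leaf (nat_lit 0x17381a6868) (nat_lit 2816))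
 (.leaf (nat_lit 0x1738dff068) (nat_lit 2305))
)) (.node (nat_lit 0x17529cd868) (.leaf (nat_lit 0x173bd50868) (nat_lit 2818))
 (.node (nat_lit 0x175e512068) (.leaf (nat_lit 0x17529cd868) (nat_lit 2817))
 (.leaf (nat_lit 0x175e512068) (nat_lit 2561))
)))))) (.node (nat_lit 0x1a85a94101) (.node (nat_lit 0x18a5abe2ba) (.node (nat_lit 0x18639cb4d1) (.node (nat_lit 0x18461134d1) (.node (nat_lit 0x18460a80f9) (.leaf (nat_lit 0x183c61c4ac) (nat_lit 3330))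
 (.leaf (nat_lit 0x18460a80f9) (nat_lit 3329))
) (.node (nat_lit 0x185ec0c8fa) (.leaf (nat_lit 0x18461134d1) (nat_lit 3073))
 (.node (nat_lit 0x185ecff4ac) (.leaf (nat_lit 0x185ec0c8fa) (nat_lit 1538))
 (.leaf (nat_lit 0x185ecff4ac) (nat_lit 2816))
))) (.node (nat_lit 0x18955a72ba) (.node (nat_lit 0x1884158cd1) (.leaf (nat_lit 0x18639cb4d1) (nat_lit 2305))
 (.node (nat_lit 0x18842928fa) (.leaf (nat_lit 0x1884158cd1) (nat_lit 2816))
 (.leaf (nat_lit 0x18842928fa) (nat_lit 3073))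
)) (.node (nat_lit 0x18955d7aba) (.leaf (nat_lit 0x18955a72ba) (nat_lit 2305))
 (.node (nat_lit 0x18a49d80f9) (.leaf (nat_lit 0x18955d7aba) (nat_lit 770))
 (.leaf (nat_lit 0x18a49d80f9) (nat_lit 2048))
)))) (.node (nat_lit 0x1a0ed924ad) (.node (nat_lit 0x18c84a00f9) (.node (nat_lit 0x18c3c0c8fa) (.leaf (nat_lit 0x18a5abe2ba) (nat_lit 3330))
 (.leaf (nat_lit 0x18c3c0c8fa) (nat_lit 3074))
) (.node (nat_lit 0x18c84ddcac) (.leaf (nat_lit 0x18c84a00f9) (nat_lit 3074))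
 (.node (nat_lit 0x1a0ed1b000) (.leaf (nat_lit 0x18c84ddcac) (nat_lit 2816))
 (.leaf (nat_lit 0x1a0ed1b000) (nat_lit 3073))
))) (.node (nat_lit 0x1a3c80c800) (.node (nat_lit 0x1a34866000) (.leaf (nat_lit 0x1a0ed924ad) (nat_lit 3074))
 (.node (nat_lit 0x1a349c1cd0) (.leaf (nat_lit 0x1a34866000) (nat_lit 2562))
 (.leaf (nat_lit 0x1a349c1cd0) (nat_lit 2817))
)) (.node (nat_lit 0x1a64026000) (.leaf (nat_lit 0x1a3c80c800) (nat_lit 3073))
 (.node (nat_lit 0x1a85839800) (.leaf (nat_lit 0x1a64026000) (nat_lit 3074))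
 (.leaf (nat_lit 0x1a85839800) (nat_lit 1282))
))))) (.node (nat_lit 0x1e35a2c28b) (.node (nat_lit 0x1ac5692104) (.node (nat_lit 0x1aa65a92d3) (.node (nat_lit 0x1aa4488800) (.leaf (nat_lit 0x1a85a94101) (nat_lit 2562))
 (.leaf (nat_lit 0x1aa4488800) (nat_lit 2818))
) (.node (nat_lit 0x1ac4040000) (.leaf (nat_lit 0x1aa65a92d3) (nat_lit 2817))
 (.node (nat_lit 0x1ac549e000) (.leaf (nat_lit 0x1ac4040000) (nat_lit 2306))
 (.leaf (nat_lit 0x1ac549e000) (nat_lit 2562))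
))) (.node (nat_lit 0x1e05d09a8b) (.node (nat_lit 0x1b2080c800) (.leaf (nat_lit 0x1ac5692104) (nat_lit 3329))
 (.node (nat_lit 0x1b20862800) (.leaf (nat_lit 0x1b2080c800) (nat_lit 3585))
 (.leaf (nat_lit 0x1b20862800) (nat_lit 3330))
)) (.node (nat_lit 0x1e05ddc2d2) (.leaf (nat_lit 0x1e05d09a8b) (nat_lit 3072))
 (.node (nat_lit 0x1e35a11546) (.leaf (nat_lit 0x1e05ddc2d2) (nat_lit 3073))
 (.leaf (nat_lit 0x1e35a11546) (nat_lit 3073))
)))) (.node (nat_lit 0x1ec3e3a546) (.node (nat_lit 0x1e955a6465) (.node (nat_lit 0x1e5ee11546) (.leaf (nat_lit 0x1e35a2c28b) (nat_lit 3074))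
 (.node (nat_lit 0x1e95450465) (.leaf (nat_lit 0x1e5ee11546) (nat_lit 3072))
 (.leaf (nat_lit 0x1e95450465) (nat_lit 1536))
)) (.node (nat_lit 0x1ea59a6465) (.leaf (nat_lit 0x1e955a6465) (nat_lit 2817))
 (.node (nat_lit 0x1ec3de1ad9) (.leaf (nat_lit 0x1ea59a6465) (nat_lit 2816))
 (.leaf (nat_lit 0x1ec3de1ad9) (nat_lit 2306))
))) (.node (nat_lit 0x1efe1e1ad9) (.node (nat_lit 0x1ec5ddc2d2) (.leaf (nat_lit 0x1ec3e3a546) (nat_lit 3072))
 (.node (nat_lit 0x1efe1bd2d2) (.leaf (nat_lit 0x1ec5ddc2d2) (nat_lit 1538))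
 (.leaf (nat_lit 0x1efe1bd2d2) (nat_lit 2818))
)) (.node (nat_lit 0x1f2a25e2d9) (.leaf (nat_lit 0x1efe1e1ad9) (nat_lit 1794))
 (.node (nat_lit 0x1f2ca2c28b) (.leaf (nat_lit 0x1f2a25e2d9) (nat_lit 3329))
 (.leaf (nat_lit 0x1f2ca2c28b) (nat_lit 2562))
))))))) (.node (nat_lit 0x46049993fb) (.node (nat_lit 0x34b0804211) (.node (nat_lit 0x2120935000) (.node (nat_lit 0x2083c1b000) (.node (nat_lit 0x2058804800) (.node (nat_lit 0x203d65ead8) (.leaf (nat_lit 0x203d43a800) (nat_lit 3073))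
 (.leaf (nat_lit 0x203d65ead8) (nat_lit 3585))
) (.node (nat_lit 0x20589bdad1) (.leaf (nat_lit 0x2058804800) (nat_lit 1538))
 (.node (nat_lit 0x205f135000) (.leaf (nat_lit 0x20589bdad1) (nat_lit 3074))
 (.leaf (nat_lit 0x205f135000) (nat_lit 2817))
))) (.node (nat_lit 0x20a463ad47) (.node (nat_lit 0x2083d0aa8d) (.leaf (nat_lit 0x2083c1b000) (nat_lit 2818))
 (.node (nat_lit 0x20a4404800) (.leaf (nat_lit 0x2083d0aa8d) (nat_lit 2818))
 (.leaf (nat_lit 0x20a4404800) (nat_lit 2049))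
)) (.node (nat_lit 0x20a644fc64) (.leaf (nat_lit 0x20a463ad47) (nat_lit 2817))
 (.node (nat_lit 0x20c541b000) (.leaf (nat_lit 0x20a644fc64) (nat_lit 2561))
 (.leaf (nat_lit 0x20c541b000) (nat_lit 2562))
)))) (.node (nat_lit 0x340e4044b7) (.node (nat_lit 0x212983a800) (.node (nat_lit 0x2120a38000) (.leaf (nat_lit 0x2120935000) (nat_lit 2562))
 (.leaf (nat_lit 0x2120a38000) (nat_lit 3073))
) (.node (nat_lit 0x212c238000) (.leaf (nat_lit 0x212983a800) (nat_lit 3329))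
 (.node (nat_lit 0x340e4042fa) (.leaf (nat_lit 0x212c238000) (nat_lit 2818))
 (.leaf (nat_lit 0x340e4042fa) (nat_lit 3072))
))) (.node (nat_lit 0x3467004062) (.node (nat_lit 0x3419404316) (.leaf (nat_lit 0x340e4044b7) (nat_lit 2816))
 (.node (nat_lit 0x34488044b7) (.leaf (nat_lit 0x3419404316) (nat_lit 3073))
 (.leaf (nat_lit 0x34488044b7) (nat_lit 2561))
)) (.node (nat_lit 0x34740042fa) (.leaf (nat_lit 0x3467004062) (nat_lit 1281))
 (.node (nat_lit 0x3475804062) (.leaf (nat_lit 0x34740042fa) (nat_lit 3072))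
 (.leaf (nat_lit 0x3475804062) (nat_lit 3073))
))))) (.node (nat_lit 0x3880003cb6) (.node (nat_lit 0x3548c04211) (.node (nat_lit 0x35040042fa) (.node (nat_lit 0x34b30044b7) (.leaf (nat_lit 0x34b0804211) (nat_lit 3074))
 (.leaf (nat_lit 0x34b30044b7) (nat_lit 3329))
) (.node (nat_lit 0x353b804062) (.leaf (nat_lit 0x35040042fa) (nat_lit 3074))
 (.node (nat_lit 0x353f004316) (.leaf (nat_lit 0x353b804062) (nat_lit 3329))
 (.leaf (nat_lit 0x353f004316) (nat_lit 3328))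
))) (.node (nat_lit 0x380e403800) (.node (nat_lit 0x354f804211) (.leaf (nat_lit 0x3548c04211) (nat_lit 3074))
 (.node (nat_lit 0x355c004316) (.leaf (nat_lit 0x354f804211) (nat_lit 3329))
 (.leaf (nat_lit 0x355c004316) (nat_lit 2561))
)) (.node (nat_lit 0x380e403861) (.leaf (nat_lit 0x380e403800) (nat_lit 3074))
 (.node (nat_lit 0x382dc03800) (.leaf (nat_lit 0x380e403861) (nat_lit 3329))
 (.leaf (nat_lit 0x382dc03800) (nat_lit 3074))
)))) (.node (nat_lit 0x3934c03800) (.node (nat_lit 0x38d8003800) (.node (nat_lit 0x38b5403800) (.leaf (nat_lit 0x3880003cb6) (nat_lit 2562))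
 (.node (nat_lit 0x38b9003800) (.leaf (nat_lit 0x38b5403800) (nat_lit 2306))
 (.leaf (nat_lit 0x38b9003800) (nat_lit 2562))
)) (.node (nat_lit 0x391f003800) (.leaf (nat_lit 0x38d8003800) (nat_lit 2561))
 (.node (nat_lit 0x3931403afb) (.leaf (nat_lit 0x391f003800) (nat_lit 2049))
 (.leaf (nat_lit 0x3931403afb) (nat_lit 3073))
))) (.node (nat_lit 0x393bc03800) (.node (nat_lit 0x3935803a0e) (.leaf (nat_lit 0x3934c03800) (nat_lit 3585))
 (.node (nat_lit 0x3939003b14) (.leaf (nat_lit 0x3935803a0e) (nat_lit 2306))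
 (.leaf (nat_lit 0x3939003b14) (nat_lit 2818))
)) (.node (nat_lit 0x3947003800) (.leaf (nat_lit 0x393bc03800) (nat_lit 2817))
 (.node (nat_lit 0x3952003800) (.leaf (nat_lit 0x3947003800) (nat_lit 3330))
 (.leaf (nat_lit 0x3952003800) (nat_lit 2562))
)))))) (.node (nat_lit 0x48acc0c800) (.node (nat_lit 0x4729dc28d1) (.node (nat_lit 0x468450caf0) (.node (nat_lit 0x4620e478d1) (.node (nat_lit 0x46049ba3fb) (.leaf (nat_lit 0x46049993fb) (nat_lit 2306))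
 (.leaf (nat_lit 0x46049ba3fb) (nat_lit 3329))
) (.node (nat_lit 0x46485182f0) (.leaf (nat_lit 0x4620e478d1) (nat_lit 3842))
 (.node (nat_lit 0x46844bc2f0) (.leaf (nat_lit 0x46485182f0) (nat_lit 2560))
 (.leaf (nat_lit 0x46844bc2f0) (nat_lit 3073))
))) (.node (nat_lit 0x47068cf3fb) (.node (nat_lit 0x469680cabc) (.leaf (nat_lit 0x468450caf0) (nat_lit 2817))
 (.node (nat_lit 0x46968182bc) (.leaf (nat_lit 0x469680cabc) (nat_lit 2562))
 (.leaf (nat_lit 0x46968182bc) (nat_lit 2305))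
)) (.node (nat_lit 0x47180f14eb) (.leaf (nat_lit 0x47068cf3fb) (nat_lit 3328))
 (.node (nat_lit 0x47181d74eb) (.leaf (nat_lit 0x47180f14eb) (nat_lit 3329))
 (.leaf (nat_lit 0x47181d74eb) (nat_lit 3074))
)))) (.node (nat_lit 0x482119b8d3) (.node (nat_lit 0x4758d924eb) (.node (nat_lit 0x4729dd90d1) (.leaf (nat_lit 0x4729dc28d1) (nat_lit 2817))
 (.node (nat_lit 0x473680cabc) (.leaf (nat_lit 0x4729dd90d1) (nat_lit 3073))
 (.leaf (nat_lit 0x473680cabc) (nat_lit 3329))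
)) (.node (nat_lit 0x481900e800) (.leaf (nat_lit 0x4758d924eb) (nat_lit 2818))
 (.node (nat_lit 0x481905a800) (.leaf (nat_lit 0x481900e800) (nat_lit 2817))
 (.leaf (nat_lit 0x481905a800) (nat_lit 2561))
))) (.node (nat_lit 0x48468a82f1) (.node (nat_lit 0x4826036000) (.leaf (nat_lit 0x482119b8d3) (nat_lit 3073))
 (.node (nat_lit 0x482605f000) (.leaf (nat_lit 0x4826036000) (nat_lit 2304))
 (.leaf (nat_lit 0x482605f000) (nat_lit 3328))
)) (.node (nat_lit 0x48a6040000) (.leaf (nat_lit 0x48468a82f1) (nat_lit 3329))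
 (.node (nat_lit 0x48a611b000) (.leaf (nat_lit 0x48a6040000) (nat_lit 2560))
 (.leaf (nat_lit 0x48a611b000) (nat_lit 2818))
))))) (.node (nat_lit 0x5a58de3b0c) (.node (nat_lit 0x4936c17ab9) (.node (nat_lit 0x48b1c0c800) (.node (nat_lit 0x48acc62800) (.leaf (nat_lit 0x48acc0c800) (nat_lit 2817))
 (.leaf (nat_lit 0x48acc62800) (nat_lit 2817))
) (.node (nat_lit 0x48b1cb4000) (.leaf (nat_lit 0x48b1c0c800) (nat_lit 2049))
 (.node (nat_lit 0x4906da83fc) (.leaf (nat_lit 0x48b1cb4000) (nat_lit 3074))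
 (.leaf (nat_lit 0x4906da83fc) (nat_lit 3329))
))) (.node (nat_lit 0x5a359efb0c) (.node (nat_lit 0x49595d14ed) (.leaf (nat_lit 0x4936c17ab9) (nat_lit 2817))
 (.node (nat_lit 0x5a29896025) (.leaf (nat_lit 0x49595d14ed) (nat_lit 3329))
 (.leaf (nat_lit 0x5a29896025) (nat_lit 2305))
)) (.node (nat_lit 0x5a3ecf60a2) (.leaf (nat_lit 0x5a359efb0c) (nat_lit 2816))
 (.node (nat_lit 0x5a58dda0a2) (.leaf (nat_lit 0x5a3ecf60a2) (nat_lit 3330))
 (.leaf (nat_lit 0x5a58dda0a2) (nat_lit 3329))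
)))) (.node (nat_lit 0x5a954ee8ff) (.node (nat_lit 0x5a840a5c77) (.node (nat_lit 0x5a638cc8a2) (.leaf (nat_lit 0x5a58de3b0c) (nat_lit 2561))
 (.node (nat_lit 0x5a6399bc77) (.leaf (nat_lit 0x5a638cc8a2) (nat_lit 2818))
 (.leaf (nat_lit 0x5a6399bc77) (nat_lit 3073))
)) (.node (nat_lit 0x5a85c0c825) (.leaf (nat_lit 0x5a840a5c77) (nat_lit 3585))
 (.node (nat_lit 0x5a85e8ac77) (.leaf (nat_lit 0x5a85c0c825) (nat_lit 3585))
 (.leaf (nat_lit 0x5a85e8ac77) (nat_lit 3328))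
))) (.node (nat_lit 0x5b2c80c825) (.node (nat_lit 0x5a956350ff) (.leaf (nat_lit 0x5a954ee8ff) (nat_lit 3330))
 (.node (nat_lit 0x5aa5a638ff) (.leaf (nat_lit 0x5a956350ff) (nat_lit 2818))
 (.leaf (nat_lit 0x5aa5a638ff) (nat_lit 3073))
)) (.node (nat_lit 0x5b2c9d130c) (.leaf (nat_lit 0x5b2c80c825) (nat_lit 2305))
 (.node (nat_lit 0x5c0549e000) (.leaf (nat_lit 0x5b2c9d130c) (nat_lit 1537))
 (.leaf (nat_lit 0x5c0549e000) (nat_lit 2816))
)))))))))) (.node (nat_lit 0xfe298024b7) (.node (nat_lit 0x9c0e5cf101) (.node (nat_lit 0x700e5e10a2) (.node (nat_lit 0x6a0e596c0f) (.node (nat_lit 0x66ba010800) (.node (nat_lit 0x5d2091c000) (.node (nat_lit 0x5c3dc65800) (.node (nat_lit 0x5c34862800) (.node (nat_lit 0x5c2940c800) (.leaf (nat_lit 0x5c055818a1) (nat_lit 2818))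
 (.leaf (nat_lit 0x5c2940c800) (nat_lit 2305))
) (.node (nat_lit 0x5c3c820800) (.leaf (nat_lit 0x5c34862800) (nat_lit 2818))
 (.node (nat_lit 0x5c3cabe47b) (.leaf (nat_lit 0x5c3c820800) (nat_lit 2562))
 (.leaf (nat_lit 0x5c3cabe47b) (nat_lit 3072))
))) (.node (nat_lit 0x5c83c36000) (.node (nat_lit 0x5c46c0c800) (.leaf (nat_lit 0x5c3dc65800) (nat_lit 2817))
 (.node (nat_lit 0x5c46c96827) (.leaf (nat_lit 0x5c46c0c800) (nat_lit 2817))
 (.leaf (nat_lit 0x5c46c96827) (nat_lit 2306))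
)) (.node (nat_lit 0x5ca64dd900) (.leaf (nat_lit 0x5c83c36000) (nat_lit 1793))
 (.node (nat_lit 0x5d20845000) (.leaf (nat_lit 0x5ca64dd900) (nat_lit 3074))
 (.leaf (nat_lit 0x5d20845000) (nat_lit 2562))
)))) (.node (nat_lit 0x6617484000) (.node (nat_lit 0x5d299f830d) (.node (nat_lit 0x5d29859000) (.leaf (nat_lit 0x5d2091c000) (nat_lit 2817))
 (.leaf (nat_lit 0x5d29859000) (nat_lit 2816))
) (.node (nat_lit 0x660e466000) (.leaf (nat_lit 0x5d299f830d) (nat_lit 2562))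
 (.node (nat_lit 0x660e497000) (.leaf (nat_lit 0x660e466000) (nat_lit 2818))
 (.leaf (nat_lit 0x660e497000) (nat_lit 3328))
))) (.node (nat_lit 0x6691c5f000) (.node (nat_lit 0x662dc20800) (.leaf (nat_lit 0x6617484000) (nat_lit 3073))
 (.node (nat_lit 0x6661c59000) (.leaf (nat_lit 0x662dc20800) (nat_lit 2562))
 (.leaf (nat_lit 0x6661c59000) (nat_lit 3328))
)) (.node (nat_lit 0x6699ccc41b) (.leaf (nat_lit 0x6691c5f000) (nat_lit 3073))
 (.node (nat_lit 0x669ec9d084) (.leaf (nat_lit 0x6699ccc41b) (nat_lit 3329))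
 (.leaf (nat_lit 0x669ec9d084) (nat_lit 3074))
))))) (.node (nat_lit 0x686aa9cb0d) (.node (nat_lit 0x674f90e4db) (.node (nat_lit 0x66dbc0c800) (.node (nat_lit 0x66c6594c0e) (.leaf (nat_lit 0x66ba010800) (nat_lit 2817))
 (.leaf (nat_lit 0x66c6594c0e) (nat_lit 3073))
) (.node (nat_lit 0x673b062800) (.leaf (nat_lit 0x66dbc0c800) (nat_lit 3073))
 (.node (nat_lit 0x67435ef91a) (.leaf (nat_lit 0x673b062800) (nat_lit 2561))
 (.leaf (nat_lit 0x67435ef91a) (nat_lit 2560))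
))) (.node (nat_lit 0x680e465800) (.node (nat_lit 0x675700c800) (.leaf (nat_lit 0x674f90e4db) (nat_lit 2305))
 (.node (nat_lit 0x680e446027) (.leaf (nat_lit 0x675700c800) (nat_lit 3329))
 (.leaf (nat_lit 0x680e446027) (nat_lit 2817))
)) (.node (nat_lit 0x682dc39800) (.leaf (nat_lit 0x680e465800) (nat_lit 3073))
 (.node (nat_lit 0x685f40e800) (.leaf (nat_lit 0x682dc39800) (nat_lit 2816))
 (.leaf (nat_lit 0x685f40e800) (nat_lit 1537))
)))) (.node (nat_lit 0x68e000c800) (.node (nat_lit 0x68b09a2a59) (.node (nat_lit 0x6899859000) (.leaf (nat_lit 0x686aa9cb0d) (nat_lit 3330))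
 (.node (nat_lit 0x68ac036000) (.leaf (nat_lit 0x6899859000) (nat_lit 2816))
 (.leaf (nat_lit 0x68ac036000) (nat_lit 2561))
)) (.node (nat_lit 0x68c4c96000) (.leaf (nat_lit 0x68b09a2a59) (nat_lit 3328))
 (.node (nat_lit 0x68da03c000) (.leaf (nat_lit 0x68c4c96000) (nat_lit 3074))
 (.leaf (nat_lit 0x68da03c000) (nat_lit 2561))
))) (.node (nat_lit 0x692d1a7100) (.node (nat_lit 0x690600c800) (.leaf (nat_lit 0x68e000c800) (nat_lit 3328))
 (.node (nat_lit 0x69249588a1) (.leaf (nat_lit 0x690600c800) (nat_lit 3073))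
 (.leaf (nat_lit 0x69249588a1) (nat_lit 2818))
)) (.node (nat_lit 0x695e466000) (.leaf (nat_lit 0x692d1a7100) (nat_lit 2304))
 (.node (nat_lit 0x6a0e4db40f) (.leaf (nat_lit 0x695e466000) (nat_lit 2561))
 (.leaf (nat_lit 0x6a0e4db40f) (nat_lit 3072))
)))))) (.node (nat_lit 0x6cc59c4299) (.node (nat_lit 0x6b3f40c883) (.node (nat_lit 0x6b0e66441a) (.node (nat_lit 0x6a3f6be4da) (.node (nat_lit 0x6a2be47c1a) (.leaf (nat_lit 0x6a0e596c0f) (nat_lit 3329))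
 (.leaf (nat_lit 0x6a2be47c1a) (nat_lit 3074))
) (.node (nat_lit 0x6ac61d1c0f) (.leaf (nat_lit 0x6a3f6be4da) (nat_lit 2817))
 (.node (nat_lit 0x6afdd184da) (.leaf (nat_lit 0x6ac61d1c0f) (nat_lit 3073))
 (.leaf (nat_lit 0x6afdd184da) (nat_lit 2817))
))) (.node (nat_lit 0x6b2a5cb41a) (.node (nat_lit 0x6b1700c883) (.leaf (nat_lit 0x6b0e66441a) (nat_lit 3072))
 (.node (nat_lit 0x6b215ac121) (.leaf (nat_lit 0x6b1700c883) (nat_lit 2561))
 (.leaf (nat_lit 0x6b215ac121) (nat_lit 3072))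
)) (.node (nat_lit 0x6b35951921) (.leaf (nat_lit 0x6b2a5cb41a) (nat_lit 3329))
 (.node (nat_lit 0x6b3a49d883) (.leaf (nat_lit 0x6b35951921) (nat_lit 3074))
 (.leaf (nat_lit 0x6b3a49d883) (nat_lit 2561))
)))) (.node (nat_lit 0x6c3fe06a99) (.node (nat_lit 0x6b5c0f5cda) (.node (nat_lit 0x6b55229121) (.leaf (nat_lit 0x6b3f40c883) (nat_lit 2561))
 (.leaf (nat_lit 0x6b55229121) (nat_lit 3072))
) (.node (nat_lit 0x6c344f0299) (.leaf (nat_lit 0x6b5c0f5cda) (nat_lit 3074))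
 (.node (nat_lit 0x6c345cc299) (.leaf (nat_lit 0x6c344f0299) (nat_lit 2050))
 (.leaf (nat_lit 0x6c345cc299) (nat_lit 2562))
))) (.node (nat_lit 0x6caf19f299) (.node (nat_lit 0x6cae9cc299) (.leaf (nat_lit 0x6c3fe06a99) (nat_lit 3073))
 (.node (nat_lit 0x6caf0fe299) (.leaf (nat_lit 0x6cae9cc299) (nat_lit 2817))
 (.leaf (nat_lit 0x6caf0fe299) (nat_lit 2562))
)) (.node (nat_lit 0x6cbc206a99) (.leaf (nat_lit 0x6caf19f299) (nat_lit 513))
 (.node (nat_lit 0x6cbc265299) (.leaf (nat_lit 0x6cbc206a99) (nat_lit 2305))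
 (.leaf (nat_lit 0x6cbc265299) (nat_lit 3329))
))))) (.node (nat_lit 0x6e839c5296) (.node (nat_lit 0x6d3adf3a99) (.node (nat_lit 0x6cfedff299) (.node (nat_lit 0x6cfedf3a99) (.leaf (nat_lit 0x6cc59c4299) (nat_lit 2817))
 (.leaf (nat_lit 0x6cfedf3a99) (nat_lit 2048))
) (.node (nat_lit 0x6d19665299) (.leaf (nat_lit 0x6cfedff299) (nat_lit 2816))
 (.node (nat_lit 0x6d2e0fe299) (.leaf (nat_lit 0x6d19665299) (nat_lit 3330))
 (.leaf (nat_lit 0x6d2e0fe299) (nat_lit 3328))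
))) (.node (nat_lit 0x6e045ea296) (.node (nat_lit 0x6d3adfd299) (.leaf (nat_lit 0x6d3adf3a99) (nat_lit 3328))
 (.node (nat_lit 0x6e0459e296) (.leaf (nat_lit 0x6d3adfd299) (nat_lit 2817))
 (.leaf (nat_lit 0x6e0459e296) (nat_lit 770))
)) (.node (nat_lit 0x6e400f8a96) (.leaf (nat_lit 0x6e045ea296) (nat_lit 3074))
 (.node (nat_lit 0x6e839c4a96) (.leaf (nat_lit 0x6e400f8a96) (nat_lit 3073))
 (.leaf (nat_lit 0x6e839c4a96) (nat_lit 3330))
)))) (.node (nat_lit 0x6f18611a96) (.node (nat_lit 0x6eb4cf0a96) (.node (nat_lit 0x6e96600a96) (.leaf (nat_lit 0x6e839c5296) (nat_lit 3073))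
 (.node (nat_lit 0x6e96611a96) (.leaf (nat_lit 0x6e96600a96) (nat_lit 2305))
 (.leaf (nat_lit 0x6e96611a96) (nat_lit 3329))
)) (.node (nat_lit 0x6ec51c5296) (.leaf (nat_lit 0x6eb4cf0a96) (nat_lit 2818))
 (.node (nat_lit 0x6f185fea96) (.leaf (nat_lit 0x6ec51c5296) (nat_lit 2049))
 (.leaf (nat_lit 0x6f185fea96) (nat_lit 3328))
))) (.node (nat_lit 0x6f2acf8a96) (.node (nat_lit 0x6f190da296) (.leaf (nat_lit 0x6f18611a96) (nat_lit 2817))
 (.node (nat_lit 0x6f2acda296) (.leaf (nat_lit 0x6f190da296) (nat_lit 2816))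
 (.leaf (nat_lit 0x6f2acda296) (nat_lit 2049))
)) (.node (nat_lit 0x6f2e9ea296) (.leaf (nat_lit 0x6f2acf8a96) (nat_lit 1536))
 (.node (nat_lit 0x700e5dab0c) (.leaf (nat_lit 0x6f2e9ea296) (nat_lit 3073))
 (.leaf (nat_lit 0x700e5dab0c) (nat_lit 3329))
))))))) (.node (nat_lit 0x923ca1dcd1) (.node (nat_lit 0x86ba836000) (.node (nat_lit 0x711fa350ff) (.node (nat_lit 0x70800e230c) (.node (nat_lit 0x70394cc0ff) (.node (nat_lit 0x702bea0a5a) (.leaf (nat_lit 0x700e5e10a2) (nat_lit 1281))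
 (.leaf (nat_lit 0x702bea0a5a) (nat_lit 2816))
) (.node (nat_lit 0x70489efb0c) (.leaf (nat_lit 0x70394cc0ff) (nat_lit 3074))
 (.node (nat_lit 0x7060045025) (.leaf (nat_lit 0x70489efb0c) (nat_lit 2816))
 (.leaf (nat_lit 0x7060045025) (nat_lit 3073))
))) (.node (nat_lit 0x70ab9b90ff) (.node (nat_lit 0x709d91f25a) (.leaf (nat_lit 0x70800e230c) (nat_lit 3329))
 (.node (nat_lit 0x709e40c825) (.leaf (nat_lit 0x709d91f25a) (nat_lit 3072))
 (.leaf (nat_lit 0x709e40c825) (nat_lit 3074))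
)) (.node (nat_lit 0x70c480c825) (.leaf (nat_lit 0x70ab9b90ff) (nat_lit 2049))
 (.node (nat_lit 0x70fd4bc25a) (.leaf (nat_lit 0x70c480c825) (nat_lit 3329))
 (.leaf (nat_lit 0x70fd4bc25a) (nat_lit 3329))
)))) (.node (nat_lit 0x861f1ba2e5) (.node (nat_lit 0x713b2630a2) (.node (nat_lit 0x7135cf10a2) (.leaf (nat_lit 0x711fa350ff) (nat_lit 2049))
 (.leaf (nat_lit 0x7135cf10a2) (nat_lit 2305))
) (.node (nat_lit 0x860e4f115b) (.leaf (nat_lit 0x713b2630a2) (nat_lit 2050))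
 (.node (nat_lit 0x860e51c000) (.leaf (nat_lit 0x860e4f115b) (nat_lit 1794))
 (.leaf (nat_lit 0x860e51c000) (nat_lit 2818))
))) (.node (nat_lit 0x86399cb461) (.node (nat_lit 0x8635484000) (.leaf (nat_lit 0x861f1ba2e5) (nat_lit 2305))
 (.node (nat_lit 0x8637c76800) (.leaf (nat_lit 0x8635484000) (nat_lit 2561))
 (.leaf (nat_lit 0x8637c76800) (nat_lit 2817))
)) (.node (nat_lit 0x86488db28c) (.leaf (nat_lit 0x86399cb461) (nat_lit 3073))
 (.node (nat_lit 0x86a680c800) (.leaf (nat_lit 0x86488db28c) (nat_lit 3074))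
 (.leaf (nat_lit 0x86a680c800) (nat_lit 3329))
))))) (.node (nat_lit 0x886aa9ca90) (.node (nat_lit 0x87430444ba) (.node (nat_lit 0x86dbd1b000) (.node (nat_lit 0x86d0426000) (.leaf (nat_lit 0x86ba836000) (nat_lit 3073))
 (.leaf (nat_lit 0x86d0426000) (nat_lit 2304))
) (.node (nat_lit 0x8734c66000) (.leaf (nat_lit 0x86dbd1b000) (nat_lit 2818))
 (.node (nat_lit 0x873880c800) (.leaf (nat_lit 0x8734c66000) (nat_lit 2816))
 (.leaf (nat_lit 0x873880c800) (nat_lit 3329))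
))) (.node (nat_lit 0x880e515ae1) (.node (nat_lit 0x875dc3c000) (.leaf (nat_lit 0x87430444ba) (nat_lit 2817))
 (.node (nat_lit 0x880e4fb290) (.leaf (nat_lit 0x875dc3c000) (nat_lit 3074))
 (.leaf (nat_lit 0x880e4fb290) (nat_lit 2305))
)) (.node (nat_lit 0x88350ff95a) (.leaf (nat_lit 0x880e515ae1) (nat_lit 2049))
 (.node (nat_lit 0x88430a595a) (.leaf (nat_lit 0x88350ff95a) (nat_lit 3074))
 (.leaf (nat_lit 0x88430a595a) (nat_lit 2818))
)))) (.node (nat_lit 0x890e843cb8) (.node (nat_lit 0x88b3234a90) (.node (nat_lit 0x88951a1c60) (.leaf (nat_lit 0x886aa9ca90) (nat_lit 2817))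
 (.node (nat_lit 0x88aa1a9ae1) (.leaf (nat_lit 0x88951a1c60) (nat_lit 2818))
 (.leaf (nat_lit 0x88aa1a9ae1) (nat_lit 2560))
)) (.node (nat_lit 0x88e0a02ae1) (.leaf (nat_lit 0x88b3234a90) (nat_lit 2818))
 (.node (nat_lit 0x88ef80ccb8) (.leaf (nat_lit 0x88e0a02ae1) (nat_lit 3329))
 (.leaf (nat_lit 0x88ef80ccb8) (nat_lit 3074))
))) (.node (nat_lit 0x893a5e3c60) (.node (nat_lit 0x892cde9c60) (.leaf (nat_lit 0x890e843cb8) (nat_lit 3072))
 (.node (nat_lit 0x893540ccb8) (.leaf (nat_lit 0x892cde9c60) (nat_lit 2818))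
 (.leaf (nat_lit 0x893540ccb8) (nat_lit 2304))
)) (.node (nat_lit 0x894729415a) (.leaf (nat_lit 0x893a5e3c60) (nat_lit 3330))
 (.node (nat_lit 0x923c80c8fa) (.leaf (nat_lit 0x894729415a) (nat_lit 2306))
 (.leaf (nat_lit 0x923c80c8fa) (nat_lit 3073))
)))))) (.node (nat_lit 0x9484292800) (.node (nat_lit 0x92c40a94d1) (.node (nat_lit 0x9283d594ac) (.node (nat_lit 0x925f1d80f9) (.node (nat_lit 0x9246c400fa) (.leaf (nat_lit 0x923ca1dcd1) (nat_lit 2305))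
 (.leaf (nat_lit 0x9246c400fa) (nat_lit 2817))
) (.node (nat_lit 0x92640cc0f9) (.leaf (nat_lit 0x925f1d80f9) (nat_lit 2817))
 (.node (nat_lit 0x926410dcac) (.leaf (nat_lit 0x92640cc0f9) (nat_lit 2305))
 (.leaf (nat_lit 0x926410dcac) (nat_lit 1537))
))) (.node (nat_lit 0x92a44ff4ac) (.node (nat_lit 0x92945e9ca7) (.leaf (nat_lit 0x9283d594ac) (nat_lit 3073))
 (.node (nat_lit 0x92a440c8fa) (.leaf (nat_lit 0x92945e9ca7) (nat_lit 2562))
 (.leaf (nat_lit 0x92a440c8fa) (nat_lit 1793))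
)) (.node (nat_lit 0x92a65efca7) (.leaf (nat_lit 0x92a44ff4ac) (nat_lit 3073))
 (.node (nat_lit 0x92a66094a7) (.leaf (nat_lit 0x92a65efca7) (nat_lit 2561))
 (.leaf (nat_lit 0x92a66094a7) (nat_lit 2049))
)))) (.node (nat_lit 0x942980c800) (.node (nat_lit 0x92c80eecd1) (.node (nat_lit 0x92c41158f9) (.leaf (nat_lit 0x92c40a94d1) (nat_lit 2816))
 (.leaf (nat_lit 0x92c41158f9) (nat_lit 3073))
) (.node (nat_lit 0x9405c59000) (.leaf (nat_lit 0x92c80eecd1) (nat_lit 2049))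
 (.node (nat_lit 0x9405d80901) (.leaf (nat_lit 0x9405c59000) (nat_lit 2561))
 (.leaf (nat_lit 0x9405d80901) (nat_lit 2817))
))) (.node (nat_lit 0x943d221cd0) (.node (nat_lit 0x942983e904) (.leaf (nat_lit 0x942980c800) (nat_lit 2049))
 (.node (nat_lit 0x943d09e000) (.leaf (nat_lit 0x942983e904) (nat_lit 2817))
 (.leaf (nat_lit 0x943d09e000) (nat_lit 2817))
)) (.node (nat_lit 0x944600c800) (.leaf (nat_lit 0x943d221cd0) (nat_lit 3074))
 (.node (nat_lit 0x945ec88800) (.leaf (nat_lit 0x944600c800) (nat_lit 3585))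
 (.leaf (nat_lit 0x945ec88800) (nat_lit 2817))
))))) (.node (nat_lit 0x9a99ea0ca7) (.node (nat_lit 0x952c876800) (.node (nat_lit 0x94b0066000) (.node (nat_lit 0x94955d54ab) (.leaf (nat_lit 0x9484292800) (nat_lit 3329))
 (.leaf (nat_lit 0x94955d54ab) (nat_lit 2304))
) (.node (nat_lit 0x94b00d4000) (.leaf (nat_lit 0x94b0066000) (nat_lit 2561))
 (.node (nat_lit 0x94c8418000) (.leaf (nat_lit 0x94b00d4000) (nat_lit 3329))
 (.leaf (nat_lit 0x94c8418000) (nat_lit 2561))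
))) (.node (nat_lit 0x9a0e5d94ac) (.node (nat_lit 0x952c8f1cad) (.leaf (nat_lit 0x952c876800) (nat_lit 2561))
 (.node (nat_lit 0x9a0e4888fa) (.leaf (nat_lit 0x952c8f1cad) (nat_lit 2817))
 (.leaf (nat_lit 0x9a0e4888fa) (nat_lit 2305))
)) (.node (nat_lit 0x9a42d0cca7) (.leaf (nat_lit 0x9a0e5d94ac) (nat_lit 3072))
 (.node (nat_lit 0x9a800ddcac) (.leaf (nat_lit 0x9a42d0cca7) (nat_lit 2817))
 (.leaf (nat_lit 0x9a800ddcac) (nat_lit 2818))
)))) (.node (nat_lit 0x9b2a6312ba) (.node (nat_lit 0x9ad04cc0f9) (.node (nat_lit 0x9aa3c0c8fa) (.leaf (nat_lit 0x9a99ea0ca7) (nat_lit 2049))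
 (.node (nat_lit 0x9ab31ef4ac) (.leaf (nat_lit 0x9aa3c0c8fa) (nat_lit 2561))
 (.leaf (nat_lit 0x9ab31ef4ac) (nat_lit 2561))
)) (.node (nat_lit 0x9b062be8f9) (.leaf (nat_lit 0x9ad04cc0f9) (nat_lit 1281))
 (.node (nat_lit 0x9b16cff8f9) (.leaf (nat_lit 0x9b062be8f9) (nat_lit 3328))
 (.leaf (nat_lit 0x9b16cff8f9) (nat_lit 2818))
))) (.node (nat_lit 0x9b558a42ba) (.node (nat_lit 0x9b3c5d7aba) (.leaf (nat_lit 0x9b2a6312ba) (nat_lit 2305))
 (.node (nat_lit 0x9b4580c8fa) (.leaf (nat_lit 0x9b3c5d7aba) (nat_lit 2049))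
 (.leaf (nat_lit 0x9b4580c8fa) (nat_lit 3330))
)) (.node (nat_lit 0x9b5a1e9ca7) (.leaf (nat_lit 0x9b558a42ba) (nat_lit 2560))
 (.node (nat_lit 0x9c0e51c000) (.leaf (nat_lit 0x9b5a1e9ca7) (nat_lit 3073))
 (.leaf (nat_lit 0x9c0e51c000) (nat_lit 3074))
)))))))) (.node (nat_lit 0xe80e4fb547) (.node (nat_lit 0xb20e535000) (.node (nat_lit 0xa69b9d2a90) (.node (nat_lit 0x9d1640c800) (.node (nat_lit 0x9c60065800) (.node (nat_lit 0x9c17440000) (.node (nat_lit 0x9c1409e000) (.leaf (nat_lit 0x9c0e5cf101) (nat_lit 2562))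
 (.leaf (nat_lit 0x9c1409e000) (nat_lit 2562))
) (.node (nat_lit 0x9c2b05f000) (.leaf (nat_lit 0x9c17440000) (nat_lit 2817))
 (.node (nat_lit 0x9c3929c4ad) (.leaf (nat_lit 0x9c2b05f000) (nat_lit 2818))
 (.leaf (nat_lit 0x9c3929c4ad) (nat_lit 3074))
))) (.node (nat_lit 0x9c95c0c800) (.node (nat_lit 0x9c75866000) (.leaf (nat_lit 0x9c60065800) (nat_lit 2561))
 (.node (nat_lit 0x9c91a92800) (.leaf (nat_lit 0x9c75866000) (nat_lit 1793))
 (.leaf (nat_lit 0x9c91a92800) (nat_lit 3330))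
)) (.node (nat_lit 0x9cc25d1ad3) (.leaf (nat_lit 0x9c95c0c800) (nat_lit 2817))
 (.node (nat_lit 0x9cd2089104) (.leaf (nat_lit 0x9cc25d1ad3) (nat_lit 3330))
 (.leaf (nat_lit 0x9cd2089104) (nat_lit 2562))
)))) (.node (nat_lit 0xa6391f82e1) (.node (nat_lit 0x9d47097000) (.node (nat_lit 0x9d3f4f64ab) (.leaf (nat_lit 0x9d1640c800) (nat_lit 2305))
 (.leaf (nat_lit 0x9d3f4f64ab) (nat_lit 3074))
) (.node (nat_lit 0xa60e4a00dc) (.leaf (nat_lit 0x9d47097000) (nat_lit 2305))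
 (.node (nat_lit 0xa60e5a2ae1) (.leaf (nat_lit 0xa60e4a00dc) (nat_lit 2560))
 (.leaf (nat_lit 0xa60e5a2ae1) (nat_lit 3329))
))) (.node (nat_lit 0xa6801a9ae1) (.node (nat_lit 0xa63f00ccb8) (.leaf (nat_lit 0xa6391f82e1) (nat_lit 2817))
 (.node (nat_lit 0xa6439818dc) (.leaf (nat_lit 0xa63f00ccb8) (nat_lit 3074))
 (.leaf (nat_lit 0xa6439818dc) (nat_lit 1792))
)) (.node (nat_lit 0xa68d1bcc60) (.leaf (nat_lit 0xa6801a9ae1) (nat_lit 2561))
 (.node (nat_lit 0xa695113460) (.leaf (nat_lit 0xa68d1bcc60) (nat_lit 2305))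
 (.leaf (nat_lit 0xa695113460) (nat_lit 3328))
))))) (.node (nat_lit 0xa8351968e1) (.node (nat_lit 0xa7389e9290) (.node (nat_lit 0xa70e4fbc60) (.node (nat_lit 0xa6b269ca90) (.leaf (nat_lit 0xa69b9d2a90) (nat_lit 3585))
 (.leaf (nat_lit 0xa6b269ca90) (nat_lit 2818))
) (.node (nat_lit 0xa72d00ccb8) (.leaf (nat_lit 0xa70e4fbc60) (nat_lit 2817))
 (.node (nat_lit 0xa735476cb8) (.leaf (nat_lit 0xa72d00ccb8) (nat_lit 3073))
 (.leaf (nat_lit 0xa735476cb8) (nat_lit 3072))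
))) (.node (nat_lit 0xa80e5ac28c) (.node (nat_lit 0xa7475cf0dc) (.leaf (nat_lit 0xa7389e9290) (nat_lit 3073))
 (.node (nat_lit 0xa80e443800) (.leaf (nat_lit 0xa7475cf0dc) (nat_lit 3073))
 (.leaf (nat_lit 0xa80e443800) (nat_lit 2816))
)) (.node (nat_lit 0xa817420800) (.leaf (nat_lit 0xa80e5ac28c) (nat_lit 2562))
 (.node (nat_lit 0xa81f026000) (.leaf (nat_lit 0xa817420800) (nat_lit 2561))
 (.leaf (nat_lit 0xa81f026000) (nat_lit 3330))
)))) (.node (nat_lit 0xa907440000) (.node (nat_lit 0xa8489d72e5) (.node (nat_lit 0xa837c0c800) (.leaf (nat_lit 0xa8351968e1) (nat_lit 2560))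
 (.node (nat_lit 0xa842d0cc61) (.leaf (nat_lit 0xa837c0c800) (nat_lit 3073))
 (.leaf (nat_lit 0xa842d0cc61) (nat_lit 3073))
)) (.node (nat_lit 0xa8da11c000) (.leaf (nat_lit 0xa8489d72e5) (nat_lit 2562))
 (.node (nat_lit 0xa90440c800) (.leaf (nat_lit 0xa8da11c000) (nat_lit 3073))
 (.leaf (nat_lit 0xa90440c800) (nat_lit 3329))
))) (.node (nat_lit 0xa93a897000) (.node (nat_lit 0xa91583c000) (.leaf (nat_lit 0xa907440000) (nat_lit 3330))
 (.node (nat_lit 0xa938c0e800) (.leaf (nat_lit 0xa91583c000) (nat_lit 3329))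
 (.leaf (nat_lit 0xa938c0e800) (nat_lit 2560))
)) (.node (nat_lit 0xa94fc774ba) (.leaf (nat_lit 0xa93a897000) (nat_lit 3329))
 (.node (nat_lit 0xb20e404800) (.leaf (nat_lit 0xa94fc774ba) (nat_lit 2817))
 (.leaf (nat_lit 0xb20e404800) (nat_lit 2816))
)))))) (.node (nat_lit 0xb49c9fe921) (.node (nat_lit 0xb2c39f3cdb) (.node (nat_lit 0xb261c3a800) (.node (nat_lit 0xb21aa65565) (.node (nat_lit 0xb2174c9800) (.leaf (nat_lit 0xb20e535000) (nat_lit 2816))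
 (.leaf (nat_lit 0xb2174c9800) (nat_lit 3074))
) (.node (nat_lit 0xb22e1cc40e) (.leaf (nat_lit 0xb21aa65565) (nat_lit 3072))
 (.node (nat_lit 0xb260404800) (.leaf (nat_lit 0xb22e1cc40e) (nat_lit 3073))
 (.leaf (nat_lit 0xb260404800) (nat_lit 3584))
))) (.node (nat_lit 0xb2a6e38000) (.node (nat_lit 0xb267535000) (.leaf (nat_lit 0xb261c3a800) (nat_lit 2306))
 (.node (nat_lit 0xb295206c1b) (.leaf (nat_lit 0xb267535000) (nat_lit 2818))
 (.leaf (nat_lit 0xb295206c1b) (nat_lit 2818))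
)) (.node (nat_lit 0xb2abcfe11a) (.leaf (nat_lit 0xb2a6e38000) (nat_lit 3330))
 (.node (nat_lit 0xb2c143a800) (.leaf (nat_lit 0xb2abcfe11a) (nat_lit 3074))
 (.leaf (nat_lit 0xb2c143a800) (nat_lit 2561))
)))) (.node (nat_lit 0xb4215c4cda) (.node (nat_lit 0xb2dbe38000) (.node (nat_lit 0xb2c60c9800) (.leaf (nat_lit 0xb2c39f3cdb) (nat_lit 2562))
 (.leaf (nat_lit 0xb2c60c9800) (nat_lit 3074))
) (.node (nat_lit 0xb40e4f0c0f) (.leaf (nat_lit 0xb2dbe38000) (nat_lit 2050))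
 (.node (nat_lit 0xb40e5ccc0f) (.leaf (nat_lit 0xb40e4f0c0f) (nat_lit 2050))
 (.leaf (nat_lit 0xb40e5ccc0f) (nat_lit 3073))
))) (.node (nat_lit 0xb43999e563) (.node (nat_lit 0xb42c0fe921) (.leaf (nat_lit 0xb4215c4cda) (nat_lit 2562))
 (.node (nat_lit 0xb42dcf0c0f) (.leaf (nat_lit 0xb42c0fe921) (nat_lit 3073))
 (.leaf (nat_lit 0xb42dcf0c0f) (nat_lit 3330))
)) (.node (nat_lit 0xb43f5f34da) (.leaf (nat_lit 0xb43999e563) (nat_lit 2305))
 (.node (nat_lit 0xb442d9e563) (.leaf (nat_lit 0xb43f5f34da) (nat_lit 2304))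
 (.leaf (nat_lit 0xb442d9e563) (nat_lit 2817))
))))) (.node (nat_lit 0xe2489a828b) (.node (nat_lit 0xb555e05c1a) (.node (nat_lit 0xb52a9c4cda) (.node (nat_lit 0xb4b0e66563) (.leaf (nat_lit 0xb49c9fe921) (nat_lit 2305))
 (.leaf (nat_lit 0xb4b0e66563) (nat_lit 2817))
) (.node (nat_lit 0xb535600c1a) (.leaf (nat_lit 0xb52a9c4cda) (nat_lit 3328))
 (.node (nat_lit 0xb5551fe921) (.leaf (nat_lit 0xb535600c1a) (nat_lit 2560))
 (.leaf (nat_lit 0xb5551fe921) (nat_lit 2817))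
))) (.node (nat_lit 0xe20e51e28b) (.node (nat_lit 0xb55ba00c1a) (.leaf (nat_lit 0xb555e05c1a) (nat_lit 2817))
 (.node (nat_lit 0xe20e4a82d2) (.leaf (nat_lit 0xb55ba00c1a) (nat_lit 3074))
 (.leaf (nat_lit 0xe20e4a82d2) (nat_lit 3072))
)) (.node (nat_lit 0xe2215bc465) (.leaf (nat_lit 0xe20e51e28b) (nat_lit 2562))
 (.node (nat_lit 0xe23922128b) (.leaf (nat_lit 0xe2215bc465) (nat_lit 2562))
 (.leaf (nat_lit 0xe23922128b) (nat_lit 3328))
)))) (.node (nat_lit 0xe2fdc0c812) (.node (nat_lit 0xe299958d46) (.node (nat_lit 0xe25fcd4012) (.leaf (nat_lit 0xe2489a828b) (nat_lit 2304))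
 (.node (nat_lit 0xe291df8ad2) (.leaf (nat_lit 0xe25fcd4012) (nat_lit 3584))
 (.leaf (nat_lit 0xe291df8ad2) (nat_lit 2048))
)) (.node (nat_lit 0xe29c68ac65) (.leaf (nat_lit 0xe299958d46) (nat_lit 3330))
 (.node (nat_lit 0xe2c380c812) (.leaf (nat_lit 0xe29c68ac65) (nat_lit 3329))
 (.leaf (nat_lit 0xe2c380c812) (nat_lit 1794))
))) (.node (nat_lit 0xe34a9acad2) (.node (nat_lit 0xe3385da546) (.leaf (nat_lit 0xe2fdc0c812) (nat_lit 1537))
 (.node (nat_lit 0xe339196c65) (.leaf (nat_lit 0xe3385da546) (nat_lit 2304))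
 (.leaf (nat_lit 0xe339196c65) (nat_lit 2560))
)) (.node (nat_lit 0xe35ee64546) (.leaf (nat_lit 0xe34a9acad2) (nat_lit 2818))
 (.node (nat_lit 0xe80e420800) (.leaf (nat_lit 0xe35ee64546) (nat_lit 3073))
 (.leaf (nat_lit 0xe80e420800) (nat_lit 1538))
))))))) (.node (nat_lit 0xf20e40c800) (.node (nat_lit 0xeb06ea9251) (.node (nat_lit 0xe90440c800) (.node (nat_lit 0xe89e465800) (.node (nat_lit 0xe838c0c800) (.node (nat_lit 0xe80f8b5000) (.leaf (nat_lit 0xe80e4fb547) (nat_lit 2562))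
 (.leaf (nat_lit 0xe80f8b5000) (nat_lit 2562))
) (.node (nat_lit 0xe88d6a0c64) (.leaf (nat_lit 0xe838c0c800) (nat_lit 3329))
 (.node (nat_lit 0xe89b884000) (.leaf (nat_lit 0xe88d6a0c64) (nat_lit 2561))
 (.leaf (nat_lit 0xe89b884000) (nat_lit 2817))
))) (.node (nat_lit 0xe8b31a9a8d) (.node (nat_lit 0xe8a3839800) (.leaf (nat_lit 0xe89e465800) (nat_lit 3329))
 (.node (nat_lit 0xe8b2def2d1) (.leaf (nat_lit 0xe8a3839800) (nat_lit 2306))
 (.leaf (nat_lit 0xe8b2def2d1) (nat_lit 2816))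
)) (.node (nat_lit 0xe8b543c000) (.leaf (nat_lit 0xe8b31a9a8d) (nat_lit 2816))
 (.node (nat_lit 0xe8dbcb4000) (.leaf (nat_lit 0xe8b543c000) (nat_lit 2306))
 (.leaf (nat_lit 0xe8dbcb4000) (nat_lit 1282))
)))) (.node (nat_lit 0xea211c7a51) (.node (nat_lit 0xe955cd4811) (.node (nat_lit 0xe938040000) (.leaf (nat_lit 0xe90440c800) (nat_lit 3073))
 (.leaf (nat_lit 0xe938040000) (nat_lit 2561))
) (.node (nat_lit 0xea045c7a51) (.leaf (nat_lit 0xe955cd4811) (nat_lit 3328))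
 (.node (nat_lit 0xea2110ea51) (.leaf (nat_lit 0xea045c7a51) (nat_lit 1792))
 (.leaf (nat_lit 0xea2110ea51) (nat_lit 2817))
))) (.node (nat_lit 0xea839c5251) (.node (nat_lit 0xea46a13251) (.leaf (nat_lit 0xea211c7a51) (nat_lit 2818))
 (.node (nat_lit 0xea46a6e251) (.leaf (nat_lit 0xea46a13251) (nat_lit 2816))
 (.leaf (nat_lit 0xea46a6e251) (nat_lit 3328))
)) (.node (nat_lit 0xea96660251) (.leaf (nat_lit 0xea839c5251) (nat_lit 2306))
 (.node (nat_lit 0xeb06ded251) (.leaf (nat_lit 0xea96660251) (nat_lit 3328))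
 (.leaf (nat_lit 0xeb06ded251) (nat_lit 2817))
))))) (.node (nat_lit 0xec969f2255) (.node (nat_lit 0xeb595ed251) (.node (nat_lit 0xeb2ae13251) (.node (nat_lit 0xeb1866e251) (.leaf (nat_lit 0xeb06ea9251) (nat_lit 3585))
 (.leaf (nat_lit 0xeb1866e251) (nat_lit 3329))
) (.node (nat_lit 0xeb36df1a51) (.leaf (nat_lit 0xeb2ae13251) (nat_lit 2306))
 (.node (nat_lit 0xeb36e60251) (.leaf (nat_lit 0xeb36df1a51) (nat_lit 2306))
 (.leaf (nat_lit 0xeb36e60251) (nat_lit 2816))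
))) (.node (nat_lit 0xec3fde2255) (.node (nat_lit 0xeb59622251) (.leaf (nat_lit 0xeb595ed251) (nat_lit 3330))
 (.node (nat_lit 0xec048dc255) (.leaf (nat_lit 0xeb59622251) (nat_lit 2305))
 (.leaf (nat_lit 0xec048dc255) (nat_lit 3585))
)) (.node (nat_lit 0xec3fdf5255) (.leaf (nat_lit 0xec3fde2255) (nat_lit 3073))
 (.node (nat_lit 0xec845c4255) (.leaf (nat_lit 0xec3fdf5255) (nat_lit 2049))
 (.leaf (nat_lit 0xec845c4255) (nat_lit 3330))
)))) (.node (nat_lit 0xed1949fa55) (.node (nat_lit 0xecc59be255) (.node (nat_lit 0xecae89fa55) (.leaf (nat_lit 0xec969f2255) (nat_lit 2561))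
 (.node (nat_lit 0xecaeaa8255) (.leaf (nat_lit 0xecae89fa55) (nat_lit 3074))
 (.leaf (nat_lit 0xecaeaa8255) (nat_lit 2050))
)) (.node (nat_lit 0xecc59c4255) (.leaf (nat_lit 0xecc59be255) (nat_lit 2560))
 (.node (nat_lit 0xed181f5255) (.leaf (nat_lit 0xecc59c4255) (nat_lit 2817))
 (.leaf (nat_lit 0xed181f5255) (nat_lit 2818))
))) (.node (nat_lit 0xed2e0dc255) (.node (nat_lit 0xed19622a55) (.leaf (nat_lit 0xed1949fa55) (nat_lit 2816))
 (.node (nat_lit 0xed29de2255) (.leaf (nat_lit 0xed19622a55) (nat_lit 2306))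
 (.leaf (nat_lit 0xed29de2255) (nat_lit 3329))
)) (.node (nat_lit 0xed2e110a55) (.leaf (nat_lit 0xed2e0dc255) (nat_lit 2560))
 (.node (nat_lit 0xf20b0a5c64) (.leaf (nat_lit 0xed2e110a55) (nat_lit 3329))
 (.leaf (nat_lit 0xf20b0a5c64) (nat_lit 3330))
)))))) (.node (nat_lit 0xf4a69a828b) (.node (nat_lit 0xf319c20800) (.node (nat_lit 0xf22dc0c800) (.node (nat_lit 0xf20f426000) (.node (nat_lit 0xf20e634a8d) (.leaf (nat_lit 0xf20e40c800) (nat_lit 2048))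
 (.leaf (nat_lit 0xf20e634a8d) (nat_lit 3329))
) (.node (nat_lit 0xf214036000) (.leaf (nat_lit 0xf20f426000) (nat_lit 3074))
 (.node (nat_lit 0xf22bcb2811) (.leaf (nat_lit 0xf214036000) (nat_lit 3585))
 (.leaf (nat_lit 0xf22bcb2811) (nat_lit 2562))
))) (.node (nat_lit 0xf2b2c39800) (.node (nat_lit 0xf238cd4000) (.leaf (nat_lit 0xf22dc0c800) (nat_lit 2304))
 (.node (nat_lit 0xf2b249e000) (.leaf (nat_lit 0xf238cd4000) (nat_lit 3330))
 (.leaf (nat_lit 0xf2b249e000) (nat_lit 2561))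
)) (.node (nat_lit 0xf2b31d7ad1) (.leaf (nat_lit 0xf2b2c39800) (nat_lit 2818))
 (.node (nat_lit 0xf2ba85f000) (.leaf (nat_lit 0xf2b31d7ad1) (nat_lit 3329))
 (.leaf (nat_lit 0xf2ba85f000) (nat_lit 3072))
)))) (.node (nat_lit 0xf4218b5012) (.node (nat_lit 0xf40e6632d9) (.node (nat_lit 0xf3385d92d8) (.leaf (nat_lit 0xf319c20800) (nat_lit 2562))
 (.node (nat_lit 0xf345cb4000) (.leaf (nat_lit 0xf3385d92d8) (nat_lit 2561))
 (.leaf (nat_lit 0xf345cb4000) (nat_lit 2562))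
)) (.node (nat_lit 0xf40e68a2d2) (.leaf (nat_lit 0xf40e6632d9) (nat_lit 3073))
 (.node (nat_lit 0xf40f9bca8b) (.leaf (nat_lit 0xf40e68a2d2) (nat_lit 3329))
 (.leaf (nat_lit 0xf40f9bca8b) (nat_lit 3073))
))) (.node (nat_lit 0xf4802092d2) (.node (nat_lit 0xf45fc0c812) (.leaf (nat_lit 0xf4218b5012) (nat_lit 2306))
 (.node (nat_lit 0xf46a9f8ad2) (.leaf (nat_lit 0xf45fc0c812) (nat_lit 2817))
 (.leaf (nat_lit 0xf46a9f8ad2) (nat_lit 3330))
)) (.node (nat_lit 0xf49a181ad9) (.leaf (nat_lit 0xf4802092d2) (nat_lit 3329))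
 (.node (nat_lit 0xf49c4a9465) (.leaf (nat_lit 0xf49a181ad9) (nat_lit 3073))
 (.leaf (nat_lit 0xf49c4a9465) (nat_lit 3330))
))))) (.node (nat_lit 0xfca640cb14) (.node (nat_lit 0xf55e90e2d9) (.node (nat_lit 0xf515994a8b) (.node (nat_lit 0xf4c251f465) (.leaf (nat_lit 0xf4a69a828b) (nat_lit 3328))
 (.leaf (nat_lit 0xf4c251f465) (nat_lit 2816))
) (.node (nat_lit 0xf5215c1c65) (.leaf (nat_lit 0xf515994a8b) (nat_lit 3073))
 (.node (nat_lit 0xf54340c812) (.leaf (nat_lit 0xf5215c1c65) (nat_lit 2561))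
 (.leaf (nat_lit 0xf54340c812) (nat_lit 2817))
))) (.node (nat_lit 0xfc3dc49800) (.node (nat_lit 0xfc3d447800) (.leaf (nat_lit 0xf55e90e2d9) (nat_lit 3072))
 (.node (nat_lit 0xfc3dc0ccb6) (.leaf (nat_lit 0xfc3d447800) (nat_lit 3073))
 (.leaf (nat_lit 0xfc3dc0ccb6) (nat_lit 2562))
)) (.node (nat_lit 0xfc46c0c800) (.leaf (nat_lit 0xfc3dc49800) (nat_lit 3586))
 (.node (nat_lit 0xfc8580c800) (.leaf (nat_lit 0xfc46c0c800) (nat_lit 2560))
 (.leaf (nat_lit 0xfc8580c800) (nat_lit 3329))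
)))) (.node (nat_lit 0xfd2080c800) (.node (nat_lit 0xfcc800c800) (.node (nat_lit 0xfcc400c800) (.leaf (nat_lit 0xfca640cb14) (nat_lit 3330))
 (.node (nat_lit 0xfcc40b618f) (.leaf (nat_lit 0xfcc400c800) (nat_lit 2817))
 (.leaf (nat_lit 0xfcc40b618f) (nat_lit 2305))
)) (.node (nat_lit 0xfcc800c861) (.leaf (nat_lit 0xfcc800c800) (nat_lit 3073))
 (.node (nat_lit 0xfcfd80c800) (.leaf (nat_lit 0xfcc800c861) (nat_lit 2560))
 (.leaf (nat_lit 0xfcfd80c800) (nat_lit 3072))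
))) (.node (nat_lit 0xfd2c00cafb) (.node (nat_lit 0xfd20932000) (.leaf (nat_lit 0xfd2080c800) (nat_lit 3585))
 (.node (nat_lit 0xfd2c001800) (.leaf (nat_lit 0xfd20932000) (nat_lit 2304))
 (.leaf (nat_lit 0xfd2c001800) (nat_lit 2561))
)) (.node (nat_lit 0xfe0f04a862) (.leaf (nat_lit 0xfd2c00cafb) (nat_lit 3329))
 (.node (nat_lit 0xfe0f0b6991) (.leaf (nat_lit 0xfe0f04a862) (nat_lit 3330))
 (.leaf (nat_lit 0xfe0f0b6991) (nat_lit 3073))
))))))))) (.node (nat_lit 0x14037e06d7f) (.node (nat_lit 0x1243ecc9800) (.node (nat_lit 0x11614a21508) (.node (nat_lit 0x102c60d4000) (.node (nat_lit 0xff2a0472fa) (.node (nat_lit 0xfe95402316) (.node (nat_lit 0xfe3d047062) (.node (nat_lit 0xfe29932862) (.leaf (nat_lit 0xfe298024b7) (nat_lit 2818))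
 (.leaf (nat_lit 0xfe29932862) (nat_lit 2561))
) (.node (nat_lit 0xfe460b6991) (.leaf (nat_lit 0xfe3d047062) (nat_lit 3073))
 (.node (nat_lit 0xfe85c4acb7) (.leaf (nat_lit 0xfe460b6991) (nat_lit 3073))
 (.leaf (nat_lit 0xfe85c4acb7) (nat_lit 3329))
))) (.node (nat_lit 0xfea4932afa) (.node (nat_lit 0xfe9544ab16) (.leaf (nat_lit 0xfe95402316) (nat_lit 2817))
 (.node (nat_lit 0xfea48b6991) (.leaf (nat_lit 0xfe9544ab16) (nat_lit 3072))
 (.leaf (nat_lit 0xfea48b6991) (nat_lit 2817))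
)) (.node (nat_lit 0xfea5932b16) (.leaf (nat_lit 0xfea4932afa) (nat_lit 3328))
 (.node (nat_lit 0xfefe0022fa) (.leaf (nat_lit 0xfea5932b16) (nat_lit 3072))
 (.leaf (nat_lit 0xfefe0022fa) (nat_lit 3073))
)))) (.node (nat_lit 0x1022b51b000) (.node (nat_lit 0x1020e439800) (.node (nat_lit 0xff2a0474b7) (.leaf (nat_lit 0xff2a0472fa) (nat_lit 2817))
 (.leaf (nat_lit 0xff2a0474b7) (nat_lit 3330))
) (.node (nat_lit 0x1020e602ad8) (.leaf (nat_lit 0x1020e439800) (nat_lit 2817))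
 (.node (nat_lit 0x1020f8b5000) (.leaf (nat_lit 0x1020e602ad8) (nat_lit 2817))
 (.leaf (nat_lit 0x1020f8b5000) (nat_lit 2818))
))) (.node (nat_lit 0x1027440c800) (.node (nat_lit 0x10238da1a8d) (.leaf (nat_lit 0x1022b51b000) (nat_lit 2816))
 (.node (nat_lit 0x10260096000) (.leaf (nat_lit 0x10238da1a8d) (nat_lit 3073))
 (.leaf (nat_lit 0x10260096000) (nat_lit 3328))
)) (.node (nat_lit 0x102b3229d47) (.leaf (nat_lit 0x1027440c800) (nat_lit 2560))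
 (.node (nat_lit 0x102b349d800) (.leaf (nat_lit 0x102b3229d47) (nat_lit 3074))
 (.leaf (nat_lit 0x102b349d800) (nat_lit 3586))
))))) (.node (nat_lit 0x104919abad9) (.node (nat_lit 0x1035dc76800) (.node (nat_lit 0x102fd19b464) (.node (nat_lit 0x102e00b4000) (.leaf (nat_lit 0x102c60d4000) (nat_lit 3328))
 (.leaf (nat_lit 0x102e00b4000) (nat_lit 2305))
) (.node (nat_lit 0x1033840c800) (.leaf (nat_lit 0x102fd19b464) (nat_lit 2816))
 (.node (nat_lit 0x1035b821011) (.leaf (nat_lit 0x1033840c800) (nat_lit 3328))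
 (.leaf (nat_lit 0x1035b821011) (nat_lit 2560))
))) (.node (nat_lit 0x104215bc465) (.node (nat_lit 0x1040e51e28b) (.leaf (nat_lit 0x1035dc76800) (nat_lit 2560))
 (.node (nat_lit 0x1040e596546) (.leaf (nat_lit 0x1040e51e28b) (nat_lit 3072))
 (.leaf (nat_lit 0x1040e596546) (nat_lit 3585))
)) (.node (nat_lit 0x1046aa21d46) (.leaf (nat_lit 0x104215bc465) (nat_lit 2816))
 (.node (nat_lit 0x104800cf546) (.leaf (nat_lit 0x1046aa21d46) (nat_lit 3584))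
 (.leaf (nat_lit 0x104800cf546) (nat_lit 3329))
)))) (.node (nat_lit 0x1052100c812) (.node (nat_lit 0x104c380c812) (.node (nat_lit 0x10493980a8b) (.leaf (nat_lit 0x104919abad9) (nat_lit 2816))
 (.node (nat_lit 0x104b2e632d9) (.leaf (nat_lit 0x10493980a8b) (nat_lit 2561))
 (.leaf (nat_lit 0x104b2e632d9) (nat_lit 3073))
)) (.node (nat_lit 0x104d8664a8b) (.leaf (nat_lit 0x104c380c812) (nat_lit 2562))
 (.node (nat_lit 0x104fe5dac65) (.leaf (nat_lit 0x104d8664a8b) (nat_lit 3072))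
 (.leaf (nat_lit 0x104fe5dac65) (nat_lit 2818))
))) (.node (nat_lit 0x1054ad922d9) (.node (nat_lit 0x10539420812) (.leaf (nat_lit 0x1052100c812) (nat_lit 3072))
 (.node (nat_lit 0x105431c1c65) (.leaf (nat_lit 0x10539420812) (nat_lit 2817))
 (.leaf (nat_lit 0x105431c1c65) (nat_lit 3329))
)) (.node (nat_lit 0x1160e40c800) (.leaf (nat_lit 0x1054ad922d9) (nat_lit 3073))
 (.node (nat_lit 0x1160e43c000) (.leaf (nat_lit 0x1160e40c800) (nat_lit 3072))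
 (.leaf (nat_lit 0x1160e43c000) (nat_lit 2817))
)))))) (.node (nat_lit 0x11ac38cfaf0) (.node (nat_lit 0x1175b45eab9) (.node (nat_lit 0x116a105a800) (.node (nat_lit 0x116395cb8d3) (.node (nat_lit 0x11621631af1) (.leaf (nat_lit 0x11614a21508) (nat_lit 3074))
 (.leaf (nat_lit 0x11621631af1) (nat_lit 2816))
) (.node (nat_lit 0x116435bc3fc) (.leaf (nat_lit 0x116395cb8d3) (nat_lit 2816))
 (.node (nat_lit 0x1167400c800) (.leaf (nat_lit 0x116435bc3fc) (nat_lit 2561))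
 (.leaf (nat_lit 0x1167400c800) (nat_lit 3073))
))) (.node (nat_lit 0x116da11b000) (.node (nat_lit 0x116b549d800) (.leaf (nat_lit 0x116a105a800) (nat_lit 2305))
 (.node (nat_lit 0x116d00b5000) (.leaf (nat_lit 0x116b549d800) (nat_lit 2306))
 (.leaf (nat_lit 0x116d00b5000) (nat_lit 2816))
)) (.node (nat_lit 0x11715018000) (.leaf (nat_lit 0x116da11b000) (nat_lit 3073))
 (.node (nat_lit 0x1173f80e800) (.leaf (nat_lit 0x11715018000) (nat_lit 2817))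
 (.leaf (nat_lit 0x1173f80e800) (nat_lit 2050))
)))) (.node (nat_lit 0x11a1429cd09) (.node (nat_lit 0x11a0a85f2bc) (.node (nat_lit 0x1175dc88800) (.leaf (nat_lit 0x1175b45eab9) (nat_lit 2050))
 (.leaf (nat_lit 0x1175dc88800) (nat_lit 2562))
) (.node (nat_lit 0x11a0e552509) (.leaf (nat_lit 0x11a0a85f2bc) (nat_lit 2562))
 (.node (nat_lit 0x11a0e61c509) (.leaf (nat_lit 0x11a0e552509) (nat_lit 3073))
 (.leaf (nat_lit 0x11a0e61c509) (nat_lit 3329))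
))) (.node (nat_lit 0x11a8d50dbfb) (.node (nat_lit 0x11a195170d1) (.leaf (nat_lit 0x11a1429cd09) (nat_lit 2560))
 (.node (nat_lit 0x11a5d40cabc) (.leaf (nat_lit 0x11a195170d1) (nat_lit 3329))
 (.leaf (nat_lit 0x11a5d40cabc) (nat_lit 2818))
)) (.node (nat_lit 0x11a941a28d1) (.leaf (nat_lit 0x11a8d50dbfb) (nat_lit 2306))
 (.node (nat_lit 0x11a9d9c28d1) (.leaf (nat_lit 0x11a941a28d1) (nat_lit 3073))
 (.leaf (nat_lit 0x11a9d9c28d1) (nat_lit 2304))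
))))) (.node (nat_lit 0x1223d4f7a90) (.node (nat_lit 0x11b5a602af0) (.node (nat_lit 0x11afd1993fb) (.node (nat_lit 0x11aef9d82f0) (.leaf (nat_lit 0x11ac38cfaf0) (nat_lit 2561))
 (.leaf (nat_lit 0x11aef9d82f0) (nat_lit 3074))
) (.node (nat_lit 0x11b2d00cabc) (.leaf (nat_lit 0x11afd1993fb) (nat_lit 2561))
 (.node (nat_lit 0x11b3c10f3fb) (.leaf (nat_lit 0x11b2d00cabc) (nat_lit 2048))
 (.leaf (nat_lit 0x11b3c10f3fb) (nat_lit 2818))
))) (.node (nat_lit 0x1220ec5395a) (.node (nat_lit 0x122054e395a) (.leaf (nat_lit 0x11b5a602af0) (nat_lit 3072))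
 (.node (nat_lit 0x1220561b8dc) (.leaf (nat_lit 0x122054e395a) (nat_lit 3073))
 (.leaf (nat_lit 0x1220561b8dc) (nat_lit 3072))
)) (.node (nat_lit 0x1220ecf8290) (.leaf (nat_lit 0x1220ec5395a) (nat_lit 2306))
 (.node (nat_lit 0x1223ca440dc) (.leaf (nat_lit 0x1220ecf8290) (nat_lit 2817))
 (.leaf (nat_lit 0x1223ca440dc) (nat_lit 2560))
)))) (.node (nat_lit 0x122a64fcc60) (.node (nat_lit 0x12258a452e1) (.node (nat_lit 0x1223dca2ae1) (.leaf (nat_lit 0x1223d4f7a90) (nat_lit 2817))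
 (.node (nat_lit 0x122588f8290) (.leaf (nat_lit 0x1223dca2ae1) (nat_lit 3074))
 (.leaf (nat_lit 0x122588f8290) (nat_lit 2817))
)) (.node (nat_lit 0x122944fcc60) (.leaf (nat_lit 0x12258a452e1) (nat_lit 2562))
 (.node (nat_lit 0x122a64e5c60) (.leaf (nat_lit 0x122944fcc60) (nat_lit 2816))
 (.leaf (nat_lit 0x122a64e5c60) (nat_lit 2818))
))) (.node (nat_lit 0x122c82440dc) (.node (nat_lit 0x122c54e395a) (.leaf (nat_lit 0x122a64fcc60) (nat_lit 3074))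
 (.node (nat_lit 0x122c80a2ae1) (.leaf (nat_lit 0x122c54e395a) (nat_lit 3073))
 (.leaf (nat_lit 0x122c80a2ae1) (nat_lit 2050))
)) (.node (nat_lit 0x1243c404800) (.leaf (nat_lit 0x122c82440dc) (nat_lit 2560))
 (.node (nat_lit 0x1243d01b000) (.leaf (nat_lit 0x1243c404800) (nat_lit 2818))
 (.leaf (nat_lit 0x1243d01b000) (nat_lit 2818))
))))))) (.node (nat_lit 0x1321401b000) (.node (nat_lit 0x128a444acb7) (.node (nat_lit 0x1252a01b000) (.node (nat_lit 0x124954e5461) (.node (nat_lit 0x1248421b0e1) (.node (nat_lit 0x1248403a800) (.leaf (nat_lit 0x1243ecc9800) (nat_lit 2817))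
 (.leaf (nat_lit 0x1248403a800) (nat_lit 3072))
) (.node (nat_lit 0x12485e38000) (.leaf (nat_lit 0x1248421b0e1) (nat_lit 2560))
 (.node (nat_lit 0x12485e45ae5) (.leaf (nat_lit 0x12485e38000) (nat_lit 3073))
 (.leaf (nat_lit 0x12485e45ae5) (nat_lit 3074))
))) (.node (nat_lit 0x124c3c5495b) (.node (nat_lit 0x124b0004800) (.leaf (nat_lit 0x124954e5461) (nat_lit 3329))
 (.node (nat_lit 0x124b00c9800) (.leaf (nat_lit 0x124b0004800) (nat_lit 2818))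
 (.leaf (nat_lit 0x124b00c9800) (nat_lit 3328))
)) (.node (nat_lit 0x124c3e38000) (.leaf (nat_lit 0x124c3c5495b) (nat_lit 2561))
 (.node (nat_lit 0x124c5c3a800) (.leaf (nat_lit 0x124c3e38000) (nat_lit 3328))
 (.leaf (nat_lit 0x124c5c3a800) (nat_lit 2305))
)))) (.node (nat_lit 0x1283d46bcb7) (.node (nat_lit 0x1280ec022fa) (.node (nat_lit 0x1252a0f728c) (.leaf (nat_lit 0x1252a01b000) (nat_lit 2818))
 (.leaf (nat_lit 0x1252a0f728c) (nat_lit 2817))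
) (.node (nat_lit 0x128294b6991) (.leaf (nat_lit 0x1280ec022fa) (nat_lit 2816))
 (.node (nat_lit 0x1283d46bafa) (.leaf (nat_lit 0x128294b6991) (nat_lit 3328))
 (.leaf (nat_lit 0x1283d46bafa) (nat_lit 2817))
))) (.node (nat_lit 0x128858b6991) (.node (nat_lit 0x12846c024b7) (.leaf (nat_lit 0x1283d46bcb7) (nat_lit 2817))
 (.node (nat_lit 0x12846d32862) (.leaf (nat_lit 0x12846c024b7) (nat_lit 3073))
 (.leaf (nat_lit 0x12846d32862) (nat_lit 3330))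
)) (.node (nat_lit 0x12885932afa) (.leaf (nat_lit 0x128858b6991) (nat_lit 2817))
 (.node (nat_lit 0x12894532a11) (.leaf (nat_lit 0x12885932afa) (nat_lit 2816))
 (.leaf (nat_lit 0x12894532a11) (nat_lit 3072))
))))) (.node (nat_lit 0x12c3c40cafb) (.node (nat_lit 0x1292986b862) (.node (nat_lit 0x128a644aa11) (.node (nat_lit 0x128a6402211) (.leaf (nat_lit 0x128a444acb7) (nat_lit 3074))
 (.leaf (nat_lit 0x128a6402211) (nat_lit 2561))
) (.node (nat_lit 0x128fd84a862) (.leaf (nat_lit 0x128a644aa11) (nat_lit 3074))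
 (.node (nat_lit 0x128fd8b6991) (.leaf (nat_lit 0x128fd84a862) (nat_lit 3074))
 (.leaf (nat_lit 0x128fd8b6991) (nat_lit 2817))
))) (.node (nat_lit 0x12c3580c800) (.node (nat_lit 0x12c0f00c800) (.leaf (nat_lit 0x1292986b862) (nat_lit 2818))
 (.node (nat_lit 0x12c2980c800) (.leaf (nat_lit 0x12c0f00c800) (nat_lit 3329))
 (.leaf (nat_lit 0x12c2980c800) (nat_lit 2560))
)) (.node (nat_lit 0x12c3580c861) (.leaf (nat_lit 0x12c3580c800) (nat_lit 2561))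
 (.node (nat_lit 0x12c3c401800) (.leaf (nat_lit 0x12c3580c861) (nat_lit 2560))
 (.leaf (nat_lit 0x12c3c401800) (nat_lit 2818))
)))) (.node (nat_lit 0x12ca480c800) (.node (nat_lit 0x12c5ec0ccb6) (.node (nat_lit 0x12c58c0c800) (.leaf (nat_lit 0x12c3c40cafb) (nat_lit 3074))
 (.node (nat_lit 0x12c58cb618f) (.leaf (nat_lit 0x12c58c0c800) (nat_lit 3329))
 (.leaf (nat_lit 0x12c58cb618f) (nat_lit 2817))
)) (.node (nat_lit 0x12c5ec49800) (.leaf (nat_lit 0x12c5ec0ccb6) (nat_lit 3073))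
 (.node (nat_lit 0x12c9540ca0e) (.leaf (nat_lit 0x12c5ec49800) (nat_lit 2817))
 (.leaf (nat_lit 0x12c9540ca0e) (nat_lit 3328))
))) (.node (nat_lit 0x12d2a06d000) (.node (nat_lit 0x12cb000c800) (.leaf (nat_lit 0x12ca480c800) (nat_lit 3072))
 (.node (nat_lit 0x12cb0132000) (.leaf (nat_lit 0x12cb000c800) (nat_lit 3329))
 (.leaf (nat_lit 0x12cb0132000) (nat_lit 3073))
)) (.node (nat_lit 0x1320e49f30d) (.leaf (nat_lit 0x12d2a06d000) (nat_lit 3329))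
 (.node (nat_lit 0x1320e535000) (.leaf (nat_lit 0x1320e49f30d) (nat_lit 2561))
 (.leaf (nat_lit 0x1320e535000) (nat_lit 2817))
)))))) (.node (nat_lit 0x136b30d30a2) (.node (nat_lit 0x13357638000) (.node (nat_lit 0x132c497e47b) (.node (nat_lit 0x1326aa1f0a1) (.node (nat_lit 0x1325f638000) (.leaf (nat_lit 0x1321401b000) (nat_lit 2818))
 (.leaf (nat_lit 0x1325f638000) (nat_lit 1281))
) (.node (nat_lit 0x1329301b000) (.leaf (nat_lit 0x1326aa1f0a1) (nat_lit 2818))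
 (.node (nat_lit 0x132aa4c9800) (.leaf (nat_lit 0x1329301b000) (nat_lit 3330))
 (.leaf (nat_lit 0x132aa4c9800) (nat_lit 3584))
))) (.node (nat_lit 0x1332483a800) (.node (nat_lit 0x132dbcc9800) (.leaf (nat_lit 0x132c497e47b) (nat_lit 2817))
 (.node (nat_lit 0x132fde9b259) (.leaf (nat_lit 0x132dbcc9800) (nat_lit 3073))
 (.leaf (nat_lit 0x132fde9b259) (nat_lit 3584))
)) (.node (nat_lit 0x1332ec3a800) (.leaf (nat_lit 0x1332483a800) (nat_lit 2306))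
 (.node (nat_lit 0x1333c512900) (.leaf (nat_lit 0x1332ec3a800) (nat_lit 2561))
 (.leaf (nat_lit 0x1333c512900) (nat_lit 3073))
)))) (.node (nat_lit 0x136398daa5a) (.node (nat_lit 0x1360e4d30a2) (.node (nat_lit 0x1335e135000) (.leaf (nat_lit 0x13357638000) (nat_lit 2817))
 (.leaf (nat_lit 0x1335e135000) (nat_lit 3073))
) (.node (nat_lit 0x1360e4dbc77) (.leaf (nat_lit 0x1360e4d30a2) (nat_lit 1537))
 (.node (nat_lit 0x1363921f8a2) (.leaf (nat_lit 0x1360e4dbc77) (nat_lit 3329))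
 (.leaf (nat_lit 0x1363921f8a2) (nat_lit 1794))
))) (.node (nat_lit 0x1369e17f477) (.node (nat_lit 0x136604dbc77) (.leaf (nat_lit 0x136398daa5a) (nat_lit 3074))
 (.node (nat_lit 0x1369ddcd8ff) (.leaf (nat_lit 0x136604dbc77) (nat_lit 3073))
 (.leaf (nat_lit 0x1369ddcd8ff) (nat_lit 3073))
)) (.node (nat_lit 0x1369ee9ba5a) (.leaf (nat_lit 0x1369e17f477) (nat_lit 3330))
 (.node (nat_lit 0x136a0d1230c) (.leaf (nat_lit 0x1369ee9ba5a) (nat_lit 2561))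
 (.leaf (nat_lit 0x136a0d1230c) (nat_lit 2305))
))))) (.node (nat_lit 0x13eb8e00a9e) (.node (nat_lit 0x1375e4a130c) (.node (nat_lit 0x137171cd8ff) (.node (nat_lit 0x136fd4daa5a) (.leaf (nat_lit 0x136b30d30a2) (nat_lit 2817))
 (.leaf (nat_lit 0x136fd4daa5a) (nat_lit 2049))
) (.node (nat_lit 0x1371f9150ff) (.leaf (nat_lit 0x137171cd8ff) (nat_lit 3586))
 (.node (nat_lit 0x1374051230c) (.leaf (nat_lit 0x1371f9150ff) (nat_lit 2817))
 (.leaf (nat_lit 0x1374051230c) (nat_lit 2817))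
))) (.node (nat_lit 0x13e42c0782a) (.node (nat_lit 0x13e0e4f8185) (.leaf (nat_lit 0x1375e4a130c) (nat_lit 2049))
 (.node (nat_lit 0x13e0e6a929e) (.leaf (nat_lit 0x13e0e4f8185) (nat_lit 2818))
 (.leaf (nat_lit 0x13e0e6a929e) (nat_lit 2560))
)) (.node (nat_lit 0x13e805ff4e4) (.leaf (nat_lit 0x13e42c0782a) (nat_lit 3329))
 (.node (nat_lit 0x13e9e44cc17) (.leaf (nat_lit 0x13e805ff4e4) (nat_lit 3073))
 (.leaf (nat_lit 0x13e9e44cc17) (nat_lit 2049))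
)))) (.node (nat_lit 0x13f401f5af4) (.node (nat_lit 0x13f0e5ff568) (.node (nat_lit 0x13ec14e32f4) (.leaf (nat_lit 0x13eb8e00a9e) (nat_lit 2561))
 (.node (nat_lit 0x13eef950a71) (.leaf (nat_lit 0x13ec14e32f4) (nat_lit 2817))
 (.leaf (nat_lit 0x13eef950a71) (nat_lit 2817))
)) (.node (nat_lit 0x13f2ece3125) (.leaf (nat_lit 0x13f0e5ff568) (nat_lit 2817))
 (.node (nat_lit 0x13f3bea925c) (.leaf (nat_lit 0x13f2ece3125) (nat_lit 3074))
 (.leaf (nat_lit 0x13f3bea925c) (nat_lit 2050))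
))) (.node (nat_lit 0x13f5dd50985) (.node (nat_lit 0x13f525f2568) (.leaf (nat_lit 0x13f401f5af4) (nat_lit 2561))
 (.node (nat_lit 0x13f5704cc17) (.leaf (nat_lit 0x13f525f2568) (nat_lit 2305))
 (.leaf (nat_lit 0x13f5704cc17) (nat_lit 2048))
)) (.node (nat_lit 0x1400e5f5124) (.leaf (nat_lit 0x13f5dd50985) (nat_lit 1536))
 (.node (nat_lit 0x1400e6602e0) (.leaf (nat_lit 0x1400e5f5124) (nat_lit 3329))
 (.leaf (nat_lit 0x1400e6602e0) (nat_lit 3073))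
)))))))) (.node (nat_lit 0x16817a6340e) (.node (nat_lit 0x152215c4cfc) (.node (nat_lit 0x14eb25dda9e) (.node (nat_lit 0x14147cf8a72) (.node (nat_lit 0x140ac0f757f) (.node (nat_lit 0x14099c0802c) (.node (nat_lit 0x140585f1ce5) (.leaf (nat_lit 0x14037e06d7f) (nat_lit 2817))
 (.leaf (nat_lit 0x140585f1ce5) (nat_lit 3329))
) (.node (nat_lit 0x1409da17d0c) (.leaf (nat_lit 0x14099c0802c) (nat_lit 2816))
 (.node (nat_lit 0x140a1217c80) (.leaf (nat_lit 0x1409da17d0c) (nat_lit 1793))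
 (.leaf (nat_lit 0x140a1217c80) (nat_lit 2561))
))) (.node (nat_lit 0x1412e4f72e0) (.node (nat_lit 0x140f2e6050c) (.leaf (nat_lit 0x140ac0f757f) (nat_lit 2817))
 (.node (nat_lit 0x14107206c80) (.leaf (nat_lit 0x140f2e6050c) (nat_lit 3072))
 (.leaf (nat_lit 0x14107206c80) (nat_lit 2562))
)) (.node (nat_lit 0x141354c6bf5) (.leaf (nat_lit 0x1412e4f72e0) (nat_lit 3330))
 (.node (nat_lit 0x1413f4c6bf5) (.leaf (nat_lit 0x141354c6bf5) (nat_lit 2561))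
 (.leaf (nat_lit 0x1413f4c6bf5) (nat_lit 1280))
)))) (.node (nat_lit 0x14e175b6d1a) (.node (nat_lit 0x14e0e5bdb81) (.node (nat_lit 0x141529fd25d) (.leaf (nat_lit 0x14147cf8a72) (nat_lit 3329))
 (.leaf (nat_lit 0x141529fd25d) (nat_lit 2818))
) (.node (nat_lit 0x14e0e5bdd1a) (.leaf (nat_lit 0x14e0e5bdb81) (nat_lit 3072))
 (.node (nat_lit 0x14e1444956d) (.leaf (nat_lit 0x14e0e5bdd1a) (nat_lit 2306))
 (.leaf (nat_lit 0x14e1444956d) (nat_lit 3329))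
))) (.node (nat_lit 0x14e42d0ed3f) (.node (nat_lit 0x14e1edc427a) (.leaf (nat_lit 0x14e175b6d1a) (nat_lit 2561))
 (.node (nat_lit 0x14e3566e381) (.leaf (nat_lit 0x14e1edc427a) (nat_lit 3328))
 (.leaf (nat_lit 0x14e3566e381) (nat_lit 2562))
)) (.node (nat_lit 0x14e9d5358e6) (.leaf (nat_lit 0x14e42d0ed3f) (nat_lit 2562))
 (.node (nat_lit 0x14eab9ea4d6) (.leaf (nat_lit 0x14e9d5358e6) (nat_lit 3072))
 (.leaf (nat_lit 0x14eab9ea4d6) (nat_lit 3329))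
))))) (.node (nat_lit 0x15080ce1d6e) (.node (nat_lit 0x14f5edf3c98) (.node (nat_lit 0x14f151f3b66) (.node (nat_lit 0x14f071b6b66) (.leaf (nat_lit 0x14eb25dda9e) (nat_lit 2818))
 (.leaf (nat_lit 0x14f071b6b66) (nat_lit 3074))
) (.node (nat_lit 0x14f19a6e498) (.leaf (nat_lit 0x14f151f3b66) (nat_lit 3074))
 (.node (nat_lit 0x14f5a5358e6) (.leaf (nat_lit 0x14f19a6e498) (nat_lit 2306))
 (.leaf (nat_lit 0x14f5a5358e6) (nat_lit 3072))
))) (.node (nat_lit 0x15014599c3a) (.node (nat_lit 0x1500e4402e9) (.leaf (nat_lit 0x14f5edf3c98) (nat_lit 2561))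
 (.node (nat_lit 0x1500e4b4989) (.leaf (nat_lit 0x1500e4402e9) (nat_lit 3073))
 (.leaf (nat_lit 0x1500e4b4989) (nat_lit 2816))
)) (.node (nat_lit 0x1501943b886) (.leaf (nat_lit 0x15014599c3a) (nat_lit 2305))
 (.node (nat_lit 0x150389ef362) (.leaf (nat_lit 0x1501943b886) (nat_lit 3330))
 (.leaf (nat_lit 0x150389ef362) (nat_lit 3074))
)))) (.node (nat_lit 0x150b340cae9) (.node (nat_lit 0x1509e0f6371) (.node (nat_lit 0x15099a9c498) (.leaf (nat_lit 0x15080ce1d6e) (nat_lit 2562))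
 (.node (nat_lit 0x1509a5b956e) (.leaf (nat_lit 0x15099a9c498) (nat_lit 3072))
 (.leaf (nat_lit 0x1509a5b956e) (nat_lit 2049))
)) (.node (nat_lit 0x150a3cdb371) (.leaf (nat_lit 0x1509e0f6371) (nat_lit 2562))
 (.node (nat_lit 0x150aee210db) (.leaf (nat_lit 0x150a3cdb371) (nat_lit 2305))
 (.leaf (nat_lit 0x150aee210db) (nat_lit 2560))
))) (.node (nat_lit 0x15155c0ca35) (.node (nat_lit 0x150dbc21189) (.leaf (nat_lit 0x150b340cae9) (nat_lit 2561))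
 (.node (nat_lit 0x1513a9a90db) (.leaf (nat_lit 0x150dbc21189) (nat_lit 2049))
 (.leaf (nat_lit 0x1513a9a90db) (nat_lit 2561))
)) (.node (nat_lit 0x1520e5ff29f) (.leaf (nat_lit 0x15155c0ca35) (nat_lit 1025))
 (.node (nat_lit 0x1520e5ff2c4) (.leaf (nat_lit 0x1520e5ff29f) (nat_lit 2306))
 (.leaf (nat_lit 0x1520e5ff2c4) (nat_lit 2305))
)))))) (.node (nat_lit 0x1552e621cd9) (.node (nat_lit 0x15338da6a7f) (.node (nat_lit 0x1529b84cc17) (.node (nat_lit 0x15290448d6a) (.node (nat_lit 0x15280da6cfc) (.leaf (nat_lit 0x152215c4cfc) (nat_lit 2817))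
 (.leaf (nat_lit 0x15280da6cfc) (nat_lit 2818))
) (.node (nat_lit 0x15295c4cc17) (.leaf (nat_lit 0x15290448d6a) (nat_lit 2817))
 (.node (nat_lit 0x15299deaa72) (.leaf (nat_lit 0x15295c4cc17) (nat_lit 2817))
 (.leaf (nat_lit 0x15299deaa72) (nat_lit 2561))
))) (.node (nat_lit 0x1530e550d3e) (.node (nat_lit 0x152a6d50d2c) (.leaf (nat_lit 0x1529b84cc17) (nat_lit 3585))
 (.node (nat_lit 0x152b29dc2c4) (.leaf (nat_lit 0x152a6d50d2c) (nat_lit 2050))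
 (.leaf (nat_lit 0x152b29dc2c4) (nat_lit 3073))
)) (.node (nat_lit 0x1531faa94d5) (.leaf (nat_lit 0x1530e550d3e) (nat_lit 2560))
 (.node (nat_lit 0x1532d2a9272) (.leaf (nat_lit 0x1531faa94d5) (nat_lit 3073))
 (.leaf (nat_lit 0x1532d2a9272) (nat_lit 3584))
)))) (.node (nat_lit 0x1546068acd9) (.node (nat_lit 0x1540e40c870) (.node (nat_lit 0x1535b110d2c) (.leaf (nat_lit 0x15338da6a7f) (nat_lit 3073))
 (.leaf (nat_lit 0x1535b110d2c) (nat_lit 2818))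
) (.node (nat_lit 0x1540e518499) (.leaf (nat_lit 0x1540e40c870) (nat_lit 2306))
 (.node (nat_lit 0x1542c19bce7) (.leaf (nat_lit 0x1540e518499) (nat_lit 2562))
 (.leaf (nat_lit 0x1542c19bce7) (nat_lit 2305))
))) (.node (nat_lit 0x1549a05f070) (.node (nat_lit 0x154904bb4e7) (.leaf (nat_lit 0x1546068acd9) (nat_lit 3074))
 (.node (nat_lit 0x154934ccc39) (.leaf (nat_lit 0x154904bb4e7) (nat_lit 2562))
 (.leaf (nat_lit 0x154934ccc39) (nat_lit 3074))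
)) (.node (nat_lit 0x154d226429f) (.leaf (nat_lit 0x1549a05f070) (nat_lit 3072))
 (.node (nat_lit 0x154fdcd4a34) (.leaf (nat_lit 0x154d226429f) (nat_lit 2049))
 (.leaf (nat_lit 0x154fdcd4a34) (nat_lit 769))
))))) (.node (nat_lit 0x166435cb921) (.node (nat_lit 0x1555eebe29f) (.node (nat_lit 0x1553911c8e6) (.node (nat_lit 0x155380a8364) (.leaf (nat_lit 0x1552e621cd9) (nat_lit 2306))
 (.leaf (nat_lit 0x155380a8364) (nat_lit 3072))
) (.node (nat_lit 0x1553f00c885) (.leaf (nat_lit 0x1553911c8e6) (nat_lit 2050))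
 (.node (nat_lit 0x155418258e6) (.leaf (nat_lit 0x1553f00c885) (nat_lit 2305))
 (.leaf (nat_lit 0x155418258e6) (nat_lit 2816))
))) (.node (nat_lit 0x166174db40f) (.node (nat_lit 0x1660e5acc0f) (.leaf (nat_lit 0x1555eebe29f) (nat_lit 2305))
 (.node (nat_lit 0x1660e694c0f) (.leaf (nat_lit 0x1660e5acc0f) (nat_lit 3072))
 (.leaf (nat_lit 0x1660e694c0f) (nat_lit 2561))
)) (.node (nat_lit 0x1662be31c1a) (.leaf (nat_lit 0x166174db40f) (nat_lit 2561))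
 (.node (nat_lit 0x1663999bd63) (.leaf (nat_lit 0x1662be31c1a) (nat_lit 2305))
 (.leaf (nat_lit 0x1663999bd63) (nat_lit 3584))
)))) (.node (nat_lit 0x167359a9121) (.node (nat_lit 0x167169d1121) (.node (nat_lit 0x1669c5d2563) (.leaf (nat_lit 0x166435cb921) (nat_lit 3585))
 (.node (nat_lit 0x1670e80c883) (.leaf (nat_lit 0x1669c5d2563) (nat_lit 2817))
 (.leaf (nat_lit 0x1670e80c883) (nat_lit 3072))
)) (.node (nat_lit 0x1671f40c883) (.leaf (nat_lit 0x167169d1121) (nat_lit 3074))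
 (.node (nat_lit 0x16721097083) (.leaf (nat_lit 0x1671f40c883) (nat_lit 2817))
 (.leaf (nat_lit 0x16721097083) (nat_lit 2816))
))) (.node (nat_lit 0x1675a9ab563) (.node (nat_lit 0x1673f26441a) (.leaf (nat_lit 0x167359a9121) (nat_lit 2306))
 (.node (nat_lit 0x16755e29c1a) (.leaf (nat_lit 0x1673f26441a) (nat_lit 2561))
 (.leaf (nat_lit 0x16755e29c1a) (nat_lit 3585))
)) (.node (nat_lit 0x1680e476800) (.leaf (nat_lit 0x1675a9ab563) (nat_lit 3073))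
 (.node (nat_lit 0x1680e484000) (.leaf (nat_lit 0x1680e476800) (nat_lit 3330))
 (.leaf (nat_lit 0x1680e484000) (nat_lit 3074))
))))))) (.node (nat_lit 0x17e2b1594ac) (.node (nat_lit 0x172c1580a90) (.node (nat_lit 0x1693c11f11a) (.node (nat_lit 0x168c600c800) (.node (nat_lit 0x1685fd15d65) (.node (nat_lit 0x1682dc88800) (.leaf (nat_lit 0x16817a6340e) (nat_lit 2562))
 (.leaf (nat_lit 0x1682dc88800) (nat_lit 2305))
) (.node (nat_lit 0x16861c10800) (.leaf (nat_lit 0x1685fd15d65) (nat_lit 2561))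
 (.node (nat_lit 0x1689c062800) (.leaf (nat_lit 0x16861c10800) (nat_lit 3074))
 (.leaf (nat_lit 0x1689c062800) (nat_lit 2818))
))) (.node (nat_lit 0x1690649d800) (.node (nat_lit 0x168d840c800) (.leaf (nat_lit 0x168c600c800) (nat_lit 2560))
 (.node (nat_lit 0x168dbc39800) (.leaf (nat_lit 0x168d840c800) (nat_lit 3073))
 (.leaf (nat_lit 0x168dbc39800) (nat_lit 3330))
)) (.node (nat_lit 0x1692cc9a884) (.leaf (nat_lit 0x1690649d800) (nat_lit 3073))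
 (.node (nat_lit 0x1692e436000) (.leaf (nat_lit 0x1692cc9a884) (nat_lit 2560))
 (.leaf (nat_lit 0x1692e436000) (nat_lit 3329))
)))) (.node (nat_lit 0x1723922115a) (.node (nat_lit 0x1720e4ff95a) (.node (nat_lit 0x16948cff41b) (.leaf (nat_lit 0x1693c11f11a) (nat_lit 1794))
 (.leaf (nat_lit 0x16948cff41b) (nat_lit 2817))
) (.node (nat_lit 0x1720e5e9290) (.leaf (nat_lit 0x1720e4ff95a) (nat_lit 3585))
 (.node (nat_lit 0x1721f1bc0dc) (.leaf (nat_lit 0x1720e5e9290) (nat_lit 3330))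
 (.leaf (nat_lit 0x1721f1bc0dc) (nat_lit 2305))
))) (.node (nat_lit 0x1728d4264b8) (.node (nat_lit 0x1723f4a4460) (.leaf (nat_lit 0x1723922115a) (nat_lit 2561))
 (.node (nat_lit 0x1728023515a) (.leaf (nat_lit 0x1723f4a4460) (nat_lit 2816))
 (.leaf (nat_lit 0x1728023515a) (nat_lit 2305))
)) (.node (nat_lit 0x172a2294a90) (.leaf (nat_lit 0x1728d4264b8) (nat_lit 2818))
 (.node (nat_lit 0x172aa4e20dc) (.leaf (nat_lit 0x172a2294a90) (nat_lit 2817))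
 (.leaf (nat_lit 0x172aa4e20dc) (nat_lit 3074))
))))) (.node (nat_lit 0x17848a2915b) (.node (nat_lit 0x17339c0ccb8) (.node (nat_lit 0x172f01e3c60) (.node (nat_lit 0x172e01d20dc) (.leaf (nat_lit 0x172c1580a90) (nat_lit 3328))
 (.leaf (nat_lit 0x172e01d20dc) (nat_lit 2560))
) (.node (nat_lit 0x1730e80ccb8) (.leaf (nat_lit 0x172f01e3c60) (nat_lit 3329))
 (.node (nat_lit 0x1732ccfbc60) (.leaf (nat_lit 0x1730e80ccb8) (nat_lit 3584))
 (.leaf (nat_lit 0x1732ccfbc60) (nat_lit 2304))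
))) (.node (nat_lit 0x1781ecb5000) (.node (nat_lit 0x1780e40c800) (.leaf (nat_lit 0x17339c0ccb8) (nat_lit 3329))
 (.node (nat_lit 0x1780e6098e1) (.leaf (nat_lit 0x1780e40c800) (nat_lit 2816))
 (.leaf (nat_lit 0x1780e6098e1) (nat_lit 2561))
)) (.node (nat_lit 0x1783511c000) (.leaf (nat_lit 0x1781ecb5000) (nat_lit 2818))
 (.node (nat_lit 0x17837cf5a8c) (.leaf (nat_lit 0x1783511c000) (nat_lit 2562))
 (.leaf (nat_lit 0x17837cf5a8c) (nat_lit 2818))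
)))) (.node (nat_lit 0x178b540c800) (.node (nat_lit 0x17891859000) (.node (nat_lit 0x1784c810800) (.leaf (nat_lit 0x17848a2915b) (nat_lit 2817))
 (.node (nat_lit 0x17861e92800) (.leaf (nat_lit 0x1784c810800) (nat_lit 2817))
 (.leaf (nat_lit 0x17861e92800) (nat_lit 2818))
)) (.node (nat_lit 0x1789a425cba) (.leaf (nat_lit 0x17891859000) (nat_lit 2306))
 (.node (nat_lit 0x178a0c3c000) (.leaf (nat_lit 0x1789a425cba) (nat_lit 3330))
 (.leaf (nat_lit 0x178a0c3c000) (nat_lit 2561))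
))) (.node (nat_lit 0x1795a959461) (.node (nat_lit 0x17906076800) (.leaf (nat_lit 0x178b540c800) (nat_lit 3073))
 (.node (nat_lit 0x17938843800) (.leaf (nat_lit 0x17906076800) (nat_lit 3074))
 (.leaf (nat_lit 0x17938843800) (nat_lit 3074))
)) (.node (nat_lit 0x17e0e40c8fa) (.leaf (nat_lit 0x1795a959461) (nat_lit 3074))
 (.node (nat_lit 0x17e0e61dcd1) (.leaf (nat_lit 0x17e0e40c8fa) (nat_lit 3328))
 (.leaf (nat_lit 0x17e0e61dcd1) (nat_lit 3073))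
)))))) (.node (nat_lit 0x188dbc0c800) (.node (nat_lit 0x17f55cef4a7) (.node (nat_lit 0x17ed01cb4d1) (.node (nat_lit 0x17e4880c8fa) (.node (nat_lit 0x17e2b5d74ac) (.leaf (nat_lit 0x17e2b1594ac) (nat_lit 2818))
 (.leaf (nat_lit 0x17e2b5d74ac) (nat_lit 3072))
) (.node (nat_lit 0x17e6a89e0fa) (.leaf (nat_lit 0x17e4880c8fa) (nat_lit 2816))
 (.node (nat_lit 0x17e99e31ca7) (.leaf (nat_lit 0x17e6a89e0fa) (nat_lit 2817))
 (.leaf (nat_lit 0x17e99e31ca7) (nat_lit 3329))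
))) (.node (nat_lit 0x17f2a6a02ba) (.node (nat_lit 0x17f06609cd1) (.leaf (nat_lit 0x17ed01cb4d1) (nat_lit 3072))
 (.node (nat_lit 0x17f1f1ef4ac) (.leaf (nat_lit 0x17f06609cd1) (nat_lit 1537))
 (.leaf (nat_lit 0x17f1f1ef4ac) (nat_lit 3328))
)) (.node (nat_lit 0x17f4190cca7) (.leaf (nat_lit 0x17f2a6a02ba) (nat_lit 2561))
 (.node (nat_lit 0x17f554db2ba) (.leaf (nat_lit 0x17f4190cca7) (nat_lit 2817))
 (.leaf (nat_lit 0x17f554db2ba) (nat_lit 2817))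
)))) (.node (nat_lit 0x18867040000) (.node (nat_lit 0x1880e5524ad) (.node (nat_lit 0x17f5a5a72ba) (.leaf (nat_lit 0x17f55cef4a7) (nat_lit 3328))
 (.node (nat_lit 0x1880e496000) (.leaf (nat_lit 0x17f5a5a72ba) (nat_lit 3072))
 (.leaf (nat_lit 0x1880e496000) (nat_lit 2818))
)) (.node (nat_lit 0x1882ba92800) (.leaf (nat_lit 0x1880e5524ad) (nat_lit 3329))
 (.node (nat_lit 0x1883909e904) (.leaf (nat_lit 0x1882ba92800) (nat_lit 3073))
 (.leaf (nat_lit 0x1883909e904) (nat_lit 3329))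
))) (.node (nat_lit 0x188ab999ad3) (.node (nat_lit 0x18895c88800) (.leaf (nat_lit 0x18867040000) (nat_lit 2050))
 (.node (nat_lit 0x1889f40e800) (.leaf (nat_lit 0x18895c88800) (nat_lit 3329))
 (.leaf (nat_lit 0x1889f40e800) (nat_lit 2050))
)) (.node (nat_lit 0x188d2084000) (.leaf (nat_lit 0x188ab999ad3) (nat_lit 3073))
 (.node (nat_lit 0x188da066000) (.leaf (nat_lit 0x188d2084000) (nat_lit 2817))
 (.leaf (nat_lit 0x188da066000) (nat_lit 2306))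
))))) (.node (nat_lit 0x192a64b4012) (.node (nat_lit 0x192055ab546) (.node (nat_lit 0x1893a5dacab) (.node (nat_lit 0x18916d1e4d0) (.leaf (nat_lit 0x188dbc0c800) (nat_lit 3073))
 (.leaf (nat_lit 0x18916d1e4d0) (nat_lit 2305))
) (.node (nat_lit 0x1894ac0c800) (.leaf (nat_lit 0x1893a5dacab) (nat_lit 1026))
 (.node (nat_lit 0x1895acb5000) (.leaf (nat_lit 0x1894ac0c800) (nat_lit 2561))
 (.leaf (nat_lit 0x1895acb5000) (nat_lit 3073))
))) (.node (nat_lit 0x1925f194a8b) (.node (nat_lit 0x19234a09ad9) (.leaf (nat_lit 0x192055ab546) (nat_lit 2817))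
 (.node (nat_lit 0x1925f10f2d2) (.leaf (nat_lit 0x19234a09ad9) (nat_lit 3074))
 (.leaf (nat_lit 0x1925f10f2d2) (nat_lit 2818))
)) (.node (nat_lit 0x1929440c812) (.leaf (nat_lit 0x1925f194a8b) (nat_lit 3330))
 (.node (nat_lit 0x192a640c812) (.leaf (nat_lit 0x1929440c812) (nat_lit 3841))
 (.leaf (nat_lit 0x192a640c812) (nat_lit 3073))
)))) (.node (nat_lit 0x193299f828b) (.node (nat_lit 0x192c5621d46) (.node (nat_lit 0x192c41a72d2) (.leaf (nat_lit 0x192a64b4012) (nat_lit 3074))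
 (.node (nat_lit 0x192c5581ad9) (.leaf (nat_lit 0x192c41a72d2) (nat_lit 2817))
 (.leaf (nat_lit 0x192c5581ad9) (nat_lit 2562))
)) (.node (nat_lit 0x192fda64a8b) (.leaf (nat_lit 0x192c5621d46) (nat_lit 3073))
 (.node (nat_lit 0x19329958d46) (.leaf (nat_lit 0x192fda64a8b) (nat_lit 3072))
 (.leaf (nat_lit 0x19329958d46) (nat_lit 3072))
))) (.node (nat_lit 0x19405c10800) (.node (nat_lit 0x1932c0cfad9) (.leaf (nat_lit 0x193299f828b) (nat_lit 3073))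
 (.node (nat_lit 0x1932c1acad2) (.leaf (nat_lit 0x1932c0cfad9) (nat_lit 3073))
 (.leaf (nat_lit 0x1932c1acad2) (nat_lit 3074))
)) (.node (nat_lit 0x1940f0d4000) (.leaf (nat_lit 0x19405c10800) (nat_lit 2817))
 (.node (nat_lit 0x1940f0ffa8d) (.leaf (nat_lit 0x1940f0d4000) (nat_lit 3074))
 (.leaf (nat_lit 0x1940f0ffa8d) (nat_lit 2816))
)))))))))))

/-- Part of a listed class. -/
noncomputable def S1_t : ST :=
(.node (nat_lit 0x3703c9b60a4) (.node (nat_lit 0x28a48cd3530) (.node (nat_lit 0x2203f1a9121) (.node (nat_lit 0x1b2800b618f) (.node (nat_lit 0x19e93859000) (.node (nat_lit 0x19ac80d4000) (.node (nat_lit 0x194fe018000) (.node (nat_lit 0x194638b5000) (.node (nat_lit 0x1943ed51d47) (.node (nat_lit 0x1943ec0c800) (.leaf (nat_lit 0x1943591c000) (nat_lit 3074))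
 (.leaf (nat_lit 0x1943ec0c800) (nat_lit 2817))
) (.node (nat_lit 0x1944600c800) (.leaf (nat_lit 0x1943ed51d47) (nat_lit 3072))
 (.node (nat_lit 0x194461e9ad1) (.leaf (nat_lit 0x1944600c800) (nat_lit 3329))
 (.leaf (nat_lit 0x194461e9ad1) (nat_lit 3329))
))) (.node (nat_lit 0x194b0020800) (.node (nat_lit 0x19463a48ad8) (.leaf (nat_lit 0x194638b5000) (nat_lit 3330))
 (.node (nat_lit 0x194954b4811) (.leaf (nat_lit 0x19463a48ad8) (nat_lit 2306))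
 (.leaf (nat_lit 0x194954b4811) (nat_lit 2562))
)) (.node (nat_lit 0x194b0039800) (.leaf (nat_lit 0x194b0020800) (nat_lit 2050))
 (.node (nat_lit 0x194c3c66000) (.leaf (nat_lit 0x194b0039800) (nat_lit 3328))
 (.leaf (nat_lit 0x194c3c66000) (nat_lit 3072))
)))) (.node (nat_lit 0x19a58845000) (.node (nat_lit 0x19a0ec62800) (.node (nat_lit 0x19a0545f000) (.leaf (nat_lit 0x194fe018000) (nat_lit 2305))
 (.leaf (nat_lit 0x19a0545f000) (nat_lit 2816))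
) (.node (nat_lit 0x19a2940c800) (.leaf (nat_lit 0x19a0ec62800) (nat_lit 3074))
 (.node (nat_lit 0x19a2966395b) (.leaf (nat_lit 0x19a2940c800) (nat_lit 3073))
 (.leaf (nat_lit 0x19a2966395b) (nat_lit 2817))
))) (.node (nat_lit 0x19a64026000) (.node (nat_lit 0x19a5f00c800) (.leaf (nat_lit 0x19a58845000) (nat_lit 3073))
 (.node (nat_lit 0x19a5f1182e5) (.leaf (nat_lit 0x19a5f00c800) (nat_lit 2817))
 (.leaf (nat_lit 0x19a5f1182e5) (nat_lit 3328))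
)) (.node (nat_lit 0x19a64247a8c) (.leaf (nat_lit 0x19a64026000) (nat_lit 2817))
 (.node (nat_lit 0x19aa643bcba) (.leaf (nat_lit 0x19a64247a8c) (nat_lit 2562))
 (.leaf (nat_lit 0x19aa643bcba) (nat_lit 3328))
))))) (.node (nat_lit 0x19c3edd20dc) (.node (nat_lit 0x19c05e9c2e1) (.node (nat_lit 0x19afda8a0e1) (.node (nat_lit 0x19afd91c000) (.leaf (nat_lit 0x19ac80d4000) (nat_lit 3073))
 (.leaf (nat_lit 0x19afd91c000) (nat_lit 3073))
) (.node (nat_lit 0x19b20843800) (.leaf (nat_lit 0x19afda8a0e1) (nat_lit 3073))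
 (.node (nat_lit 0x19b20876800) (.leaf (nat_lit 0x19b20843800) (nat_lit 3330))
 (.leaf (nat_lit 0x19b20876800) (nat_lit 3330))
))) (.node (nat_lit 0x19c3c60215a) (.node (nat_lit 0x19c0f1cf0dc) (.leaf (nat_lit 0x19c05e9c2e1) (nat_lit 3586))
 (.node (nat_lit 0x19c3c5a9290) (.leaf (nat_lit 0x19c0f1cf0dc) (nat_lit 2818))
 (.leaf (nat_lit 0x19c3c5a9290) (nat_lit 2562))
)) (.node (nat_lit 0x19c3d0a0ae1) (.leaf (nat_lit 0x19c3c60215a) (nat_lit 3072))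
 (.node (nat_lit 0x19c3d2218dc) (.leaf (nat_lit 0x19c3d0a0ae1) (nat_lit 2560))
 (.leaf (nat_lit 0x19c3d2218dc) (nat_lit 3329))
)))) (.node (nat_lit 0x19cc5d80a90) (.node (nat_lit 0x19c9540ccb8) (.node (nat_lit 0x19c3ee9415a) (.leaf (nat_lit 0x19c3edd20dc) (nat_lit 3329))
 (.node (nat_lit 0x19c58ce195a) (.leaf (nat_lit 0x19c3ee9415a) (nat_lit 2818))
 (.leaf (nat_lit 0x19c58ce195a) (nat_lit 2561))
)) (.node (nat_lit 0x19c9543c4b8) (.leaf (nat_lit 0x19c9540ccb8) (nat_lit 3330))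
 (.node (nat_lit 0x19ca580ccb8) (.leaf (nat_lit 0x19c9543c4b8) (nat_lit 3328))
 (.leaf (nat_lit 0x19ca580ccb8) (nat_lit 2818))
))) (.node (nat_lit 0x19e0e40e800) (.node (nat_lit 0x19cc5df82e1) (.leaf (nat_lit 0x19cc5d80a90) (nat_lit 2306))
 (.node (nat_lit 0x19cc8634a90) (.leaf (nat_lit 0x19cc5df82e1) (nat_lit 3329))
 (.leaf (nat_lit 0x19cc8634a90) (nat_lit 2306))
)) (.node (nat_lit 0x19e0e439800) (.leaf (nat_lit 0x19e0e40e800) (nat_lit 2561))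
 (.node (nat_lit 0x19e1405f000) (.leaf (nat_lit 0x19e0e439800) (nat_lit 2306))
 (.leaf (nat_lit 0x19e1405f000) (nat_lit 2306))
)))))) (.node (nat_lit 0x1a13f952509) (.node (nat_lit 0x19f5dc0c800) (.node (nat_lit 0x19eda084000) (.node (nat_lit 0x19ea211b000) (.node (nat_lit 0x19e9c6640d3) (.leaf (nat_lit 0x19e93859000) (nat_lit 3072))
 (.leaf (nat_lit 0x19e9c6640d3) (nat_lit 3329))
) (.node (nat_lit 0x19ea3c18000) (.leaf (nat_lit 0x19ea211b000) (nat_lit 3073))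
 (.node (nat_lit 0x19eb551c000) (.leaf (nat_lit 0x19ea3c18000) (nat_lit 3073))
 (.leaf (nat_lit 0x19eb551c000) (nat_lit 2306))
))) (.node (nat_lit 0x19f35c0c800) (.node (nat_lit 0x19f171acbfc) (.leaf (nat_lit 0x19eda084000) (nat_lit 2306))
 (.node (nat_lit 0x19f3545b2b9) (.leaf (nat_lit 0x19f171acbfc) (nat_lit 2818))
 (.leaf (nat_lit 0x19f3545b2b9) (nat_lit 1538))
)) (.node (nat_lit 0x19f3fde3d08) (.leaf (nat_lit 0x19f35c0c800) (nat_lit 2305))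
 (.node (nat_lit 0x19f556354ed) (.leaf (nat_lit 0x19f3fde3d08) (nat_lit 3074))
 (.leaf (nat_lit 0x19f556354ed) (nat_lit 2561))
)))) (.node (nat_lit 0x1a05fda28d1) (.node (nat_lit 0x1a00e50e509) (.node (nat_lit 0x1a00b29c3fb) (.leaf (nat_lit 0x19f5dc0c800) (nat_lit 3073))
 (.leaf (nat_lit 0x1a00b29c3fb) (nat_lit 2562))
) (.node (nat_lit 0x1a00e5cf509) (.leaf (nat_lit 0x1a00e50e509) (nat_lit 2561))
 (.node (nat_lit 0x1a0194f18d1) (.leaf (nat_lit 0x1a00e5cf509) (nat_lit 2817))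
 (.leaf (nat_lit 0x1a0194f18d1) (nat_lit 3330))
))) (.node (nat_lit 0x1a09edc1bfb) (.node (nat_lit 0x1a08d5ba3fb) (.leaf (nat_lit 0x1a05fda28d1) (nat_lit 3072))
 (.node (nat_lit 0x1a09500cabc) (.leaf (nat_lit 0x1a08d5ba3fb) (nat_lit 2306))
 (.leaf (nat_lit 0x1a09500cabc) (nat_lit 2048))
)) (.node (nat_lit 0x1a0ab9998d1) (.leaf (nat_lit 0x1a09edc1bfb) (nat_lit 2816))
 (.node (nat_lit 0x1a13c40cabc) (.leaf (nat_lit 0x1a0ab9998d1) (nat_lit 2817))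
 (.leaf (nat_lit 0x1a13c40cabc) (nat_lit 2050))
))))) (.node (nat_lit 0x1b0ac0472fa) (.node (nat_lit 0x1b00a847211) (.node (nat_lit 0x1a1431d54eb) (.node (nat_lit 0x1a141a48ceb) (.leaf (nat_lit 0x1a13f952509) (nat_lit 3073))
 (.leaf (nat_lit 0x1a141a48ceb) (nat_lit 2818))
) (.node (nat_lit 0x1a147c5aabc) (.leaf (nat_lit 0x1a1431d54eb) (nat_lit 3328))
 (.node (nat_lit 0x1a14fd924eb) (.leaf (nat_lit 0x1a147c5aabc) (nat_lit 2304))
 (.leaf (nat_lit 0x1a14fd924eb) (nat_lit 2562))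
))) (.node (nat_lit 0x1b01a84aa11) (.node (nat_lit 0x1b00e44a862) (.leaf (nat_lit 0x1b00a847211) (nat_lit 2818))
 (.node (nat_lit 0x1b00e4b6991) (.leaf (nat_lit 0x1b00e44a862) (nat_lit 2561))
 (.leaf (nat_lit 0x1b00e4b6991) (nat_lit 3072))
)) (.node (nat_lit 0x1b0488b6991) (.leaf (nat_lit 0x1b01a84aa11) (nat_lit 3074))
 (.node (nat_lit 0x1b04c047062) (.leaf (nat_lit 0x1b0488b6991) (nat_lit 2305))
 (.leaf (nat_lit 0x1b04c047062) (nat_lit 2817))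
)))) (.node (nat_lit 0x1b147c02316) (.node (nat_lit 0x1b0ba06b862) (.node (nat_lit 0x1b0b0c4ab16) (.leaf (nat_lit 0x1b0ac0472fa) (nat_lit 3585))
 (.node (nat_lit 0x1b0b30b6991) (.leaf (nat_lit 0x1b0b0c4ab16) (nat_lit 3585))
 (.leaf (nat_lit 0x1b0b30b6991) (nat_lit 3073))
)) (.node (nat_lit 0x1b12ec6bafa) (.leaf (nat_lit 0x1b0ba06b862) (nat_lit 3074))
 (.node (nat_lit 0x1b13f402211) (.leaf (nat_lit 0x1b12ec6bafa) (nat_lit 2817))
 (.leaf (nat_lit 0x1b13f402211) (nat_lit 2817))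
))) (.node (nat_lit 0x1b20e401800) (.node (nat_lit 0x1b1520022fa) (.leaf (nat_lit 0x1b147c02316) (nat_lit 2817))
 (.node (nat_lit 0x1b15b46bb16) (.leaf (nat_lit 0x1b1520022fa) (nat_lit 2818))
 (.leaf (nat_lit 0x1b15b46bb16) (nat_lit 2561))
)) (.node (nat_lit 0x1b20e40cafb) (.leaf (nat_lit 0x1b20e401800) (nat_lit 2306))
 (.node (nat_lit 0x1b21740c800) (.leaf (nat_lit 0x1b20e40cafb) (nat_lit 3073))
 (.leaf (nat_lit 0x1b21740c800) (nat_lit 3329))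
))))))) (.node (nat_lit 0x212174b4000) (.node (nat_lit 0x1cf3f28aced) (.node (nat_lit 0x1b35dc0c800) (.node (nat_lit 0x1b2c106d000) (.node (nat_lit 0x1b29c80ca0e) (.node (nat_lit 0x1b299847800) (.leaf (nat_lit 0x1b2800b618f) (nat_lit 2817))
 (.leaf (nat_lit 0x1b299847800) (nat_lit 3329))
) (.node (nat_lit 0x1b2a380c800) (.leaf (nat_lit 0x1b29c80ca0e) (nat_lit 3330))
 (.node (nat_lit 0x1b2b900c861) (.leaf (nat_lit 0x1b2a380c800) (nat_lit 3841))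
 (.leaf (nat_lit 0x1b2b900c861) (nat_lit 2049))
))) (.node (nat_lit 0x1b33b849800) (.node (nat_lit 0x1b2ef80cb14) (.leaf (nat_lit 0x1b2c106d000) (nat_lit 3073))
 (.node (nat_lit 0x1b33140c800) (.leaf (nat_lit 0x1b2ef80cb14) (nat_lit 3328))
 (.leaf (nat_lit 0x1b33140c800) (nat_lit 2817))
)) (.node (nat_lit 0x1b34040c800) (.leaf (nat_lit 0x1b33b849800) (nat_lit 3073))
 (.node (nat_lit 0x1b35280c800) (.leaf (nat_lit 0x1b34040c800) (nat_lit 3584))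
 (.leaf (nat_lit 0x1b35280c800) (nat_lit 2817))
)))) (.node (nat_lit 0x1ceb5465800) (.node (nat_lit 0x1ce0e45a800) (.node (nat_lit 0x1ce0e420800) (.leaf (nat_lit 0x1b35dc0c800) (nat_lit 3073))
 (.leaf (nat_lit 0x1ce0e420800) (nat_lit 2562))
) (.node (nat_lit 0x1ce1405f000) (.leaf (nat_lit 0x1ce0e45a800) (nat_lit 3328))
 (.node (nat_lit 0x1ceaee92800) (.leaf (nat_lit 0x1ce1405f000) (nat_lit 2560))
 (.leaf (nat_lit 0x1ceaee92800) (nat_lit 2817))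
))) (.node (nat_lit 0x1cf1f8a42f1) (.node (nat_lit 0x1ceda00c800) (.leaf (nat_lit 0x1ceb5465800) (nat_lit 2561))
 (.node (nat_lit 0x1cf1980e800) (.leaf (nat_lit 0x1ceda00c800) (nat_lit 2816))
 (.leaf (nat_lit 0x1cf1980e800) (nat_lit 2562))
)) (.node (nat_lit 0x1cf2151bab9) (.leaf (nat_lit 0x1cf1f8a42f1) (nat_lit 2562))
 (.node (nat_lit 0x1cf39dda3fc) (.leaf (nat_lit 0x1cf2151bab9) (nat_lit 2561))
 (.leaf (nat_lit 0x1cf39dda3fc) (nat_lit 2818))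
))))) (.node (nat_lit 0x1d8fd4bc2f0) (.node (nat_lit 0x1d80b29c3fb) (.node (nat_lit 0x1cf4740c800) (.node (nat_lit 0x1cf3f843800) (.leaf (nat_lit 0x1cf3f28aced) (nat_lit 3330))
 (.leaf (nat_lit 0x1cf3f843800) (nat_lit 2562))
) (.node (nat_lit 0x1cf4a818000) (.leaf (nat_lit 0x1cf4740c800) (nat_lit 2817))
 (.node (nat_lit 0x1cf5d9e9508) (.leaf (nat_lit 0x1cf4a818000) (nat_lit 2049))
 (.leaf (nat_lit 0x1cf5d9e9508) (nat_lit 2817))
))) (.node (nat_lit 0x1d89a5b94eb) (.node (nat_lit 0x1d80e50e509) (.leaf (nat_lit 0x1d80b29c3fb) (nat_lit 2304))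
 (.node (nat_lit 0x1d80e602509) (.leaf (nat_lit 0x1d80e50e509) (nat_lit 2561))
 (.leaf (nat_lit 0x1d80e602509) (nat_lit 3072))
)) (.node (nat_lit 0x1d8a09d74eb) (.leaf (nat_lit 0x1d89a5b94eb) (nat_lit 2817))
 (.node (nat_lit 0x1d8f0194bfb) (.leaf (nat_lit 0x1d8a09d74eb) (nat_lit 3073))
 (.leaf (nat_lit 0x1d8f0194bfb) (nat_lit 2560))
)))) (.node (nat_lit 0x1d948dceceb) (.node (nat_lit 0x1d93c40cabc) (.node (nat_lit 0x1d92d11b2bc) (.leaf (nat_lit 0x1d8fd4bc2f0) (nat_lit 3072))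
 (.node (nat_lit 0x1d9390cfaf0) (.leaf (nat_lit 0x1d92d11b2bc) (nat_lit 2818))
 (.leaf (nat_lit 0x1d9390cfaf0) (nat_lit 2561))
)) (.node (nat_lit 0x1d94150dbfb) (.leaf (nat_lit 0x1d93c40cabc) (nat_lit 2049))
 (.node (nat_lit 0x1d94340cabc) (.leaf (nat_lit 0x1d94150dbfb) (nat_lit 2816))
 (.leaf (nat_lit 0x1d94340cabc) (nat_lit 2304))
))) (.node (nat_lit 0x2120e4d4000) (.node (nat_lit 0x1d95a61daf0) (.leaf (nat_lit 0x1d948dceceb) (nat_lit 2048))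
 (.node (nat_lit 0x1d95ddd4509) (.leaf (nat_lit 0x1d95a61daf0) (nat_lit 2817))
 (.leaf (nat_lit 0x1d95ddd4509) (nat_lit 3074))
)) (.node (nat_lit 0x2120e6bead1) (.leaf (nat_lit 0x2120e4d4000) (nat_lit 3072))
 (.node (nat_lit 0x2120fa31547) (.leaf (nat_lit 0x2120e6bead1) (nat_lit 2817))
 (.leaf (nat_lit 0x2120fa31547) (nat_lit 3585))
)))))) (.node (nat_lit 0x214fe596c65) (.node (nat_lit 0x2135acb5000) (.node (nat_lit 0x212b31d42d8) (.node (nat_lit 0x2124ca92800) (.node (nat_lit 0x2123885a800) (.leaf (nat_lit 0x212174b4000) (nat_lit 2561))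
 (.leaf (nat_lit 0x2123885a800) (nat_lit 3074))
) (.node (nat_lit 0x212aa40c800) (.leaf (nat_lit 0x2124ca92800) (nat_lit 3584))
 (.node (nat_lit 0x212b2c0c800) (.leaf (nat_lit 0x212aa40c800) (nat_lit 3840))
 (.leaf (nat_lit 0x212b2c0c800) (nat_lit 2561))
))) (.node (nat_lit 0x21338420800) (.node (nat_lit 0x2130e439011) (.leaf (nat_lit 0x212b31d42d8) (nat_lit 3586))
 (.node (nat_lit 0x2131f045000) (.leaf (nat_lit 0x2130e439011) (nat_lit 3073))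
 (.leaf (nat_lit 0x2131f045000) (nat_lit 3329))
)) (.node (nat_lit 0x2133f897000) (.leaf (nat_lit 0x21338420800) (nat_lit 3073))
 (.node (nat_lit 0x213414bb464) (.leaf (nat_lit 0x2133f897000) (nat_lit 3329))
 (.leaf (nat_lit 0x213414bb464) (nat_lit 3328))
)))) (.node (nat_lit 0x21448a09ad9) (.node (nat_lit 0x2140e5da546) (.node (nat_lit 0x2140e5c2ad9) (.leaf (nat_lit 0x2135acb5000) (nat_lit 3330))
 (.leaf (nat_lit 0x2140e5c2ad9) (nat_lit 2560))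
) (.node (nat_lit 0x21438e8a2d2) (.leaf (nat_lit 0x2140e5da546) (nat_lit 3329))
 (.node (nat_lit 0x214391abad9) (.leaf (nat_lit 0x21438e8a2d2) (nat_lit 3328))
 (.leaf (nat_lit 0x214391abad9) (nat_lit 3329))
))) (.node (nat_lit 0x2149c80c812) (.node (nat_lit 0x2145d4a9465) (.leaf (nat_lit 0x21448a09ad9) (nat_lit 3073))
 (.node (nat_lit 0x214931592d2) (.leaf (nat_lit 0x2145d4a9465) (nat_lit 3329))
 (.leaf (nat_lit 0x214931592d2) (nat_lit 2818))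
)) (.node (nat_lit 0x214a6ccf546) (.leaf (nat_lit 0x2149c80c812) (nat_lit 2817))
 (.node (nat_lit 0x214d810f2d2) (.leaf (nat_lit 0x214a6ccf546) (nat_lit 3073))
 (.leaf (nat_lit 0x214d810f2d2) (nat_lit 2817))
))))) (.node (nat_lit 0x21e8d1b911a) (.node (nat_lit 0x21e0a811084) (.node (nat_lit 0x21521663c65) (.node (nat_lit 0x215151ac546) (.leaf (nat_lit 0x214fe596c65) (nat_lit 3330))
 (.leaf (nat_lit 0x215151ac546) (nat_lit 3328))
) (.node (nat_lit 0x2153940c812) (.leaf (nat_lit 0x21521663c65) (nat_lit 2816))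
 (.node (nat_lit 0x21543439812) (.leaf (nat_lit 0x2153940c812) (nat_lit 3329))
 (.leaf (nat_lit 0x21543439812) (nat_lit 3074))
))) (.node (nat_lit 0x21e17465800) (.node (nat_lit 0x21e0e40c800) (.leaf (nat_lit 0x21e0a811084) (nat_lit 3074))
 (.node (nat_lit 0x21e0e4b4000) (.leaf (nat_lit 0x21e0e40c800) (nat_lit 3073))
 (.leaf (nat_lit 0x21e0e4b4000) (nat_lit 3073))
)) (.node (nat_lit 0x21e2dc0e800) (.leaf (nat_lit 0x21e17465800) (nat_lit 3586))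
 (.node (nat_lit 0x21e621f8c0e) (.leaf (nat_lit 0x21e2dc0e800) (nat_lit 2306))
 (.leaf (nat_lit 0x21e621f8c0e) (nat_lit 2560))
)))) (.node (nat_lit 0x21f418bc4db) (.node (nat_lit 0x21ee0862800) (.node (nat_lit 0x21ec6097000) (.leaf (nat_lit 0x21e8d1b911a) (nat_lit 2817))
 (.node (nat_lit 0x21edbc9d800) (.leaf (nat_lit 0x21ec6097000) (nat_lit 3073))
 (.leaf (nat_lit 0x21edbc9d800) (nat_lit 3328))
)) (.node (nat_lit 0x21efd5bcd65) (.leaf (nat_lit 0x21ee0862800) (nat_lit 3842))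
 (.node (nat_lit 0x21f0400c800) (.leaf (nat_lit 0x21efd5bcd65) (nat_lit 3073))
 (.leaf (nat_lit 0x21f0400c800) (nat_lit 3073))
))) (.node (nat_lit 0x2200e51740f) (.node (nat_lit 0x21f45884000) (.leaf (nat_lit 0x21f418bc4db) (nat_lit 2050))
 (.node (nat_lit 0x21f5b026000) (.leaf (nat_lit 0x21f45884000) (nat_lit 3073))
 (.leaf (nat_lit 0x21f5b026000) (nat_lit 2817))
)) (.node (nat_lit 0x2200e5d1c0f) (.leaf (nat_lit 0x2200e51740f) (nat_lit 3329))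
 (.node (nat_lit 0x2202199bd63) (.leaf (nat_lit 0x2200e5d1c0f) (nat_lit 2560))
 (.leaf (nat_lit 0x2202199bd63) (nat_lit 2818))
)))))))) (.node (nat_lit 0x26e5f80c800) (.node (nat_lit 0x2661a932a11) (.node (nat_lit 0x2551fc0c800) (.node (nat_lit 0x2215b410883) (.node (nat_lit 0x220fdd964da) (.node (nat_lit 0x22061dabc0f) (.node (nat_lit 0x22042d99d63) (.leaf (nat_lit 0x2203f1a9121) (nat_lit 3330))
 (.leaf (nat_lit 0x22042d99d63) (nat_lit 3330))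
) (.node (nat_lit 0x2209c8f6121) (.leaf (nat_lit 0x22061dabc0f) (nat_lit 3072))
 (.node (nat_lit 0x220b09524da) (.leaf (nat_lit 0x2209c8f6121) (nat_lit 2561))
 (.leaf (nat_lit 0x220b09524da) (nat_lit 3330))
))) (.node (nat_lit 0x2212100c883) (.node (nat_lit 0x221169ac121) (.leaf (nat_lit 0x220fdd964da) (nat_lit 2305))
 (.node (nat_lit 0x2211fa94563) (.leaf (nat_lit 0x221169ac121) (nat_lit 3329))
 (.leaf (nat_lit 0x2211fa94563) (nat_lit 3072))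
)) (.node (nat_lit 0x2213a40c883) (.leaf (nat_lit 0x2212100c883) (nat_lit 3073))
 (.node (nat_lit 0x221554fb4da) (.leaf (nat_lit 0x2213a40c883) (nat_lit 3586))
 (.leaf (nat_lit 0x221554fb4da) (nat_lit 2049))
)))) (.node (nat_lit 0x2544389e000) (.node (nat_lit 0x2540e49d800) (.node (nat_lit 0x2540e443800) (.leaf (nat_lit 0x2215b410883) (nat_lit 3073))
 (.leaf (nat_lit 0x2540e443800) (nat_lit 2816))
) (.node (nat_lit 0x2541740c800) (.leaf (nat_lit 0x2540e49d800) (nat_lit 3328))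
 (.node (nat_lit 0x2542dcd4000) (.leaf (nat_lit 0x2541740c800) (nat_lit 3073))
 (.leaf (nat_lit 0x2542dcd4000) (nat_lit 3074))
))) (.node (nat_lit 0x254c605a800) (.node (nat_lit 0x25461c10800) (.leaf (nat_lit 0x2544389e000) (nat_lit 3073))
 (.node (nat_lit 0x2549da0941b) (.leaf (nat_lit 0x25461c10800) (nat_lit 3586))
 (.leaf (nat_lit 0x2549da0941b) (nat_lit 2561))
)) (.node (nat_lit 0x254db8a940e) (.leaf (nat_lit 0x254c605a800) (nat_lit 3330))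
 (.node (nat_lit 0x254f01cecdb) (.leaf (nat_lit 0x254db8a940e) (nat_lit 2817))
 (.leaf (nat_lit 0x254f01cecdb) (nat_lit 3328))
))))) (.node (nat_lit 0x256fe40c883) (.node (nat_lit 0x2560e664c0f) (.node (nat_lit 0x25540062800) (.node (nat_lit 0x25539483884) (.leaf (nat_lit 0x2551fc0c800) (nat_lit 3329))
 (.leaf (nat_lit 0x25539483884) (nat_lit 3073))
) (.node (nat_lit 0x2555a202565) (.leaf (nat_lit 0x25540062800) (nat_lit 2817))
 (.node (nat_lit 0x2555e897000) (.leaf (nat_lit 0x2555a202565) (nat_lit 3074))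
 (.leaf (nat_lit 0x2555e897000) (nat_lit 3074))
))) (.node (nat_lit 0x25639647c1a) (.node (nat_lit 0x2560e694c0f) (.leaf (nat_lit 0x2560e664c0f) (nat_lit 3073))
 (.node (nat_lit 0x25621a31563) (.leaf (nat_lit 0x2560e694c0f) (nat_lit 3585))
 (.leaf (nat_lit 0x25621a31563) (nat_lit 2560))
)) (.node (nat_lit 0x256b0abe4da) (.leaf (nat_lit 0x25639647c1a) (nat_lit 2305))
 (.node (nat_lit 0x256dbd1740f) (.leaf (nat_lit 0x256b0abe4da) (nat_lit 2560))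
 (.leaf (nat_lit 0x256dbd1740f) (nat_lit 3328))
)))) (.node (nat_lit 0x257558fbd63) (.node (nat_lit 0x2572a9994da) (.node (nat_lit 0x2570e4ddc1a) (.leaf (nat_lit 0x256fe40c883) (nat_lit 3073))
 (.node (nat_lit 0x2571f40c883) (.leaf (nat_lit 0x2570e4ddc1a) (nat_lit 3072))
 (.leaf (nat_lit 0x2571f40c883) (nat_lit 2561))
)) (.node (nat_lit 0x25739d964da) (.leaf (nat_lit 0x2572a9994da) (nat_lit 3073))
 (.node (nat_lit 0x2573f484083) (.leaf (nat_lit 0x25739d964da) (nat_lit 3072))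
 (.leaf (nat_lit 0x2573f484083) (nat_lit 3074))
))) (.node (nat_lit 0x2660b06bb16) (.node (nat_lit 0x2575a9ab563) (.leaf (nat_lit 0x257558fbd63) (nat_lit 3073))
 (.node (nat_lit 0x2575b9d2c1a) (.leaf (nat_lit 0x2575a9ab563) (nat_lit 3328))
 (.leaf (nat_lit 0x2575b9d2c1a) (nat_lit 3328))
)) (.node (nat_lit 0x2660e4024b7) (.leaf (nat_lit 0x2660b06bb16) (nat_lit 3073))
 (.node (nat_lit 0x2660e532862) (.leaf (nat_lit 0x2660e4024b7) (nat_lit 2818))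
 (.leaf (nat_lit 0x2660e532862) (nat_lit 2561))
)))))) (.node (nat_lit 0x2693a80c800) (.node (nat_lit 0x2675c002316) (.node (nat_lit 0x266b0d32b16) (.node (nat_lit 0x2666a847062) (.node (nat_lit 0x2663906b862) (.leaf (nat_lit 0x2661a932a11) (nat_lit 3328))
 (.leaf (nat_lit 0x2663906b862) (nat_lit 3586))
) (.node (nat_lit 0x266744b6991) (.leaf (nat_lit 0x2666a847062) (nat_lit 2561))
 (.node (nat_lit 0x266aec6bcb7) (.leaf (nat_lit 0x266744b6991) (nat_lit 3073))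
 (.leaf (nat_lit 0x266aec6bcb7) (nat_lit 3073))
))) (.node (nat_lit 0x267314b6991) (.node (nat_lit 0x267044b6991) (.leaf (nat_lit 0x266b0d32b16) (nat_lit 3072))
 (.node (nat_lit 0x2672e4474b7) (.leaf (nat_lit 0x267044b6991) (nat_lit 3073))
 (.leaf (nat_lit 0x2672e4474b7) (nat_lit 3329))
)) (.node (nat_lit 0x2674f802211) (.leaf (nat_lit 0x267314b6991) (nat_lit 3072))
 (.node (nat_lit 0x2675a847211) (.leaf (nat_lit 0x2674f802211) (nat_lit 3329))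
 (.leaf (nat_lit 0x2675a847211) (nat_lit 3073))
)))) (.node (nat_lit 0x26861c47800) (.node (nat_lit 0x2680e4b618f) (.node (nat_lit 0x2680e40c800) (.leaf (nat_lit 0x2675c002316) (nat_lit 2818))
 (.leaf (nat_lit 0x2680e40c800) (nat_lit 3585))
) (.node (nat_lit 0x2681406d000) (.leaf (nat_lit 0x2680e4b618f) (nat_lit 3329))
 (.node (nat_lit 0x2682b40c800) (.leaf (nat_lit 0x2681406d000) (nat_lit 3329))
 (.leaf (nat_lit 0x2682b40c800) (nat_lit 3073))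
))) (.node (nat_lit 0x2689f40c800) (.node (nat_lit 0x2688000c861) (.leaf (nat_lit 0x26861c47800) (nat_lit 3330))
 (.node (nat_lit 0x2689dc0cb14) (.leaf (nat_lit 0x2688000c861) (nat_lit 2561))
 (.leaf (nat_lit 0x2689dc0cb14) (nat_lit 3072))
)) (.node (nat_lit 0x268b9001800) (.leaf (nat_lit 0x2689f40c800) (nat_lit 3073))
 (.node (nat_lit 0x2693100c800) (.leaf (nat_lit 0x268b9001800) (nat_lit 2818))
 (.leaf (nat_lit 0x2693100c800) (nat_lit 2305))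
))))) (.node (nat_lit 0x26c9ed1f25a) (.node (nat_lit 0x26c0e465825) (.node (nat_lit 0x2695200ccb6) (.node (nat_lit 0x2693b932000) (.leaf (nat_lit 0x2693a80c800) (nat_lit 3329))
 (.leaf (nat_lit 0x2693b932000) (nat_lit 3329))
) (.node (nat_lit 0x2695500ca0e) (.leaf (nat_lit 0x2695200ccb6) (nat_lit 3329))
 (.node (nat_lit 0x2695ec0c800) (.leaf (nat_lit 0x2695500ca0e) (nat_lit 3329))
 (.leaf (nat_lit 0x2695ec0c800) (nat_lit 3329))
))) (.node (nat_lit 0x26c488ef477) (.node (nat_lit 0x26c0e4f5c77) (.leaf (nat_lit 0x26c0e465825) (nat_lit 1793))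
 (.node (nat_lit 0x26c2c2a00ff) (.leaf (nat_lit 0x26c0e4f5c77) (nat_lit 3073))
 (.leaf (nat_lit 0x26c2c2a00ff) (nat_lit 2050))
)) (.node (nat_lit 0x26c5f68a0a2) (.leaf (nat_lit 0x26c488ef477) (nat_lit 2817))
 (.node (nat_lit 0x26c801d5477) (.leaf (nat_lit 0x26c5f68a0a2) (nat_lit 2818))
 (.leaf (nat_lit 0x26c801d5477) (nat_lit 2818))
)))) (.node (nat_lit 0x26d1f62925a) (.node (nat_lit 0x26cfd19b0ff) (.node (nat_lit 0x26ca100c825) (.leaf (nat_lit 0x26c9ed1f25a) (nat_lit 2817))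
 (.node (nat_lit 0x26cabdba25a) (.leaf (nat_lit 0x26ca100c825) (nat_lit 2561))
 (.leaf (nat_lit 0x26cabdba25a) (nat_lit 1794))
)) (.node (nat_lit 0x26d172638ff) (.leaf (nat_lit 0x26cfd19b0ff) (nat_lit 1537))
 (.node (nat_lit 0x26d19cf10a2) (.leaf (nat_lit 0x26d172638ff) (nat_lit 1282))
 (.leaf (nat_lit 0x26d19cf10a2) (nat_lit 3074))
))) (.node (nat_lit 0x26e0e4d4000) (.node (nat_lit 0x26d4000c825) (.leaf (nat_lit 0x26d1f62925a) (nat_lit 1281))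
 (.node (nat_lit 0x26d5accc8a2) (.leaf (nat_lit 0x26d4000c825) (nat_lit 2561))
 (.leaf (nat_lit 0x26d5accc8a2) (nat_lit 3073))
)) (.node (nat_lit 0x26e0e6648a1) (.leaf (nat_lit 0x26e0e4d4000) (nat_lit 2049))
 (.node (nat_lit 0x26e3f61c259) (.leaf (nat_lit 0x26e0e6648a1) (nat_lit 3074))
 (.leaf (nat_lit 0x26e3f61c259) (nat_lit 3330))
))))))) (.node (nat_lit 0x2843f63451f) (.node (nat_lit 0x27d2a44956d) (.node (nat_lit 0x26f5e464027) (.node (nat_lit 0x26ec480c800) (.node (nat_lit 0x26e67045000) (.node (nat_lit 0x26e61c59000) (.leaf (nat_lit 0x26e5f80c800) (nat_lit 1793))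
 (.leaf (nat_lit 0x26e61c59000) (nat_lit 3072))
) (.node (nat_lit 0x26e6a9ab47b) (.leaf (nat_lit 0x26e67045000) (nat_lit 3074))
 (.node (nat_lit 0x26eb2436000) (.leaf (nat_lit 0x26e6a9ab47b) (nat_lit 2818))
 (.leaf (nat_lit 0x26eb2436000) (nat_lit 3074))
))) (.node (nat_lit 0x26f24810800) (.node (nat_lit 0x26ed811b000) (.leaf (nat_lit 0x26ec480c800) (nat_lit 2304))
 (.node (nat_lit 0x26f07488800) (.leaf (nat_lit 0x26ed811b000) (nat_lit 3074))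
 (.leaf (nat_lit 0x26f07488800) (nat_lit 3072))
)) (.node (nat_lit 0x26f47dd8100) (.leaf (nat_lit 0x26f24810800) (nat_lit 3074))
 (.node (nat_lit 0x26f5dc96000) (.leaf (nat_lit 0x26f47dd8100) (nat_lit 3073))
 (.leaf (nat_lit 0x26f5dc96000) (nat_lit 3074))
)))) (.node (nat_lit 0x27c5f84dc16) (.node (nat_lit 0x27c0e62e9ad) (.node (nat_lit 0x27c0e600cb5) (.leaf (nat_lit 0x26f5e464027) (nat_lit 2305))
 (.leaf (nat_lit 0x27c0e600cb5) (nat_lit 2561))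
) (.node (nat_lit 0x27c2159f45c) (.leaf (nat_lit 0x27c0e62e9ad) (nat_lit 3328))
 (.node (nat_lit 0x27c5d2872c2) (.leaf (nat_lit 0x27c2159f45c) (nat_lit 3330))
 (.leaf (nat_lit 0x27c5d2872c2) (nat_lit 2304))
))) (.node (nat_lit 0x27cfd19f554) (.node (nat_lit 0x27c9344956d) (.leaf (nat_lit 0x27c5f84dc16) (nat_lit 2817))
 (.node (nat_lit 0x27ca6df1af4) (.leaf (nat_lit 0x27c9344956d) (nat_lit 2816))
 (.leaf (nat_lit 0x27ca6df1af4) (nat_lit 2818))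
)) (.node (nat_lit 0x27d19a2ecb5) (.leaf (nat_lit 0x27cfd19f554) (nat_lit 2817))
 (.node (nat_lit 0x27d1f5f1d23) (.leaf (nat_lit 0x27d19a2ecb5) (nat_lit 3073))
 (.leaf (nat_lit 0x27d1f5f1d23) (nat_lit 3074))
))))) (.node (nat_lit 0x27e95cecb1a) (.node (nat_lit 0x27e0e5358c1) (.node (nat_lit 0x27d38a8725d) (.node (nat_lit 0x27d2cde1d54) (.leaf (nat_lit 0x27d2a44956d) (nat_lit 3329))
 (.leaf (nat_lit 0x27d2cde1d54) (nat_lit 2818))
) (.node (nat_lit 0x27d57236af4) (.leaf (nat_lit 0x27d38a8725d) (nat_lit 3074))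
 (.node (nat_lit 0x27d5adbe25d) (.leaf (nat_lit 0x27d57236af4) (nat_lit 2817))
 (.leaf (nat_lit 0x27d5adbe25d) (nat_lit 2305))
))) (.node (nat_lit 0x27e3f606974) (.node (nat_lit 0x27e0e57f370) (.leaf (nat_lit 0x27e0e5358c1) (nat_lit 3073))
 (.node (nat_lit 0x27e1ecfe94e) (.leaf (nat_lit 0x27e0e57f370) (nat_lit 2816))
 (.leaf (nat_lit 0x27e1ecfe94e) (nat_lit 3073))
)) (.node (nat_lit 0x27e6763ab23) (.leaf (nat_lit 0x27e3f606974) (nat_lit 3073))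
 (.node (nat_lit 0x27e8d0fe974) (.leaf (nat_lit 0x27e6763ab23) (nat_lit 3074))
 (.leaf (nat_lit 0x27e8d0fe974) (nat_lit 2048))
)))) (.node (nat_lit 0x27f3b97f366) (.node (nat_lit 0x27eda661184) (.node (nat_lit 0x27e9a21f370) (.leaf (nat_lit 0x27e95cecb1a) (nat_lit 3073))
 (.node (nat_lit 0x27eaa4ecd02) (.leaf (nat_lit 0x27e9a21f370) (nat_lit 3074))
 (.leaf (nat_lit 0x27eaa4ecd02) (nat_lit 2817))
)) (.node (nat_lit 0x27ee015bb1a) (.leaf (nat_lit 0x27eda661184) (nat_lit 2817))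
 (.node (nat_lit 0x27efe5bd201) (.leaf (nat_lit 0x27ee015bb1a) (nat_lit 2562))
 (.leaf (nat_lit 0x27efe5bd201) (nat_lit 2306))
))) (.node (nat_lit 0x2840e405c14) (.node (nat_lit 0x27f571bd323) (.leaf (nat_lit 0x27f3b97f366) (nat_lit 3585))
 (.node (nat_lit 0x27f5da61184) (.leaf (nat_lit 0x27f571bd323) (nat_lit 3073))
 (.leaf (nat_lit 0x27f5da61184) (nat_lit 1793))
)) (.node (nat_lit 0x2840e5ed347) (.leaf (nat_lit 0x2840e405c14) (nat_lit 2561))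
 (.node (nat_lit 0x28415dc52c3) (.leaf (nat_lit 0x2840e5ed347) (nat_lit 3073))
 (.leaf (nat_lit 0x28415dc52c3) (nat_lit 2049))
)))))) (.node (nat_lit 0x2873fc768c3) (.node (nat_lit 0x2855e005c14) (.node (nat_lit 0x284ef8ec3f7) (.node (nat_lit 0x2849d606bf7) (.node (nat_lit 0x28461e5eb47) (.leaf (nat_lit 0x2843f63451f) (nat_lit 2817))
 (.leaf (nat_lit 0x28461e5eb47) (nat_lit 3329))
) (.node (nat_lit 0x284b2a5eb1b) (.leaf (nat_lit 0x2849d606bf7) (nat_lit 3073))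
 (.node (nat_lit 0x284c4c4cc17) (.leaf (nat_lit 0x284b2a5eb1b) (nat_lit 3072))
 (.leaf (nat_lit 0x284c4c4cc17) (nat_lit 2048))
))) (.node (nat_lit 0x28519dfd1ac) (.node (nat_lit 0x285070ec31b) (.leaf (nat_lit 0x284ef8ec3f7) (nat_lit 3329))
 (.node (nat_lit 0x28515206d73) (.leaf (nat_lit 0x285070ec31b) (nat_lit 3329))
 (.leaf (nat_lit 0x28515206d73) (nat_lit 2818))
)) (.node (nat_lit 0x2851f1ed573) (.leaf (nat_lit 0x28519dfd1ac) (nat_lit 3586))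
 (.node (nat_lit 0x285431e245a) (.leaf (nat_lit 0x2851f1ed573) (nat_lit 2818))
 (.leaf (nat_lit 0x285431e245a) (nat_lit 2818))
)))) (.node (nat_lit 0x286604ef390) (.node (nat_lit 0x2862b40ca5f) (.node (nat_lit 0x2860e4db4b1) (.leaf (nat_lit 0x2855e005c14) (nat_lit 2818))
 (.node (nat_lit 0x2860e5d2575) (.leaf (nat_lit 0x2860e4db4b1) (nat_lit 3330))
 (.leaf (nat_lit 0x2860e5d2575) (nat_lit 3073))
)) (.node (nat_lit 0x2862b89ece8) (.leaf (nat_lit 0x2862b40ca5f) (nat_lit 3329))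
 (.node (nat_lit 0x2864c1ab4b1) (.leaf (nat_lit 0x2862b89ece8) (nat_lit 3073))
 (.leaf (nat_lit 0x2864c1ab4b1) (nat_lit 3329))
))) (.node (nat_lit 0x286c48f5b70) (.node (nat_lit 0x2869c1d7b90) (.leaf (nat_lit 0x286604ef390) (nat_lit 3328))
 (.node (nat_lit 0x286b500c8c3) (.leaf (nat_lit 0x2869c1d7b90) (nat_lit 2816))
 (.leaf (nat_lit 0x286b500c8c3) (nat_lit 3073))
)) (.node (nat_lit 0x2871f0e1b70) (.leaf (nat_lit 0x286c48f5b70) (nat_lit 3073))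
 (.node (nat_lit 0x28738a09d18) (.leaf (nat_lit 0x2871f0e1b70) (nat_lit 3328))
 (.leaf (nat_lit 0x28738a09d18) (nat_lit 3072))
))))) (.node (nat_lit 0x288abd9b4e9) (.node (nat_lit 0x2880e489116) (.node (nat_lit 0x2875a017a4d) (.node (nat_lit 0x28755d1ba4d) (.leaf (nat_lit 0x2873fc768c3) (nat_lit 3073))
 (.leaf (nat_lit 0x28755d1ba4d) (nat_lit 3330))
) (.node (nat_lit 0x2875c26397a) (.leaf (nat_lit 0x2875a017a4d) (nat_lit 2561))
 (.node (nat_lit 0x2880e40f25e) (.leaf (nat_lit 0x2875c26397a) (nat_lit 2305))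
 (.leaf (nat_lit 0x2880e40f25e) (nat_lit 3072))
))) (.node (nat_lit 0x288398b5505) (.node (nat_lit 0x28815cbb06a) (.leaf (nat_lit 0x2880e489116) (nat_lit 2561))
 (.node (nat_lit 0x28837692116) (.leaf (nat_lit 0x28815cbb06a) (nat_lit 2560))
 (.leaf (nat_lit 0x28837692116) (nat_lit 3329))
)) (.node (nat_lit 0x2889580cce6) (.leaf (nat_lit 0x288398b5505) (nat_lit 3330))
 (.node (nat_lit 0x2889f551d72) (.leaf (nat_lit 0x2889580cce6) (nat_lit 3073))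
 (.leaf (nat_lit 0x2889f551d72) (nat_lit 3073))
)))) (.node (nat_lit 0x2894f8fb174) (.node (nat_lit 0x288fdde106a) (.node (nat_lit 0x288d811e519) (.leaf (nat_lit 0x288abd9b4e9) (nat_lit 3330))
 (.node (nat_lit 0x288da5a1d74) (.leaf (nat_lit 0x288d811e519) (nat_lit 3329))
 (.leaf (nat_lit 0x288da5a1d74) (nat_lit 2306))
)) (.node (nat_lit 0x2892cc0cd05) (.leaf (nat_lit 0x288fdde106a) (nat_lit 3074))
 (.node (nat_lit 0x2894add7572) (.leaf (nat_lit 0x2892cc0cd05) (nat_lit 1793))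
 (.leaf (nat_lit 0x2894add7572) (nat_lit 2306))
))) (.node (nat_lit 0x28a0e600d03) (.node (nat_lit 0x2895a6644e9) (.leaf (nat_lit 0x2894f8fb174) (nat_lit 2817))
 (.node (nat_lit 0x28a0e55ad30) (.leaf (nat_lit 0x2895a6644e9) (nat_lit 3072))
 (.leaf (nat_lit 0x28a0e55ad30) (nat_lit 2306))
)) (.node (nat_lit 0x28a1aa3a4b4) (.leaf (nat_lit 0x28a0e600d03) (nat_lit 2816))
 (.node (nat_lit 0x28a35611154) (.leaf (nat_lit 0x28a1aa3a4b4) (nat_lit 3072))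
 (.leaf (nat_lit 0x28a35611154) (nat_lit 3072))
))))))))) (.node (nat_lit 0x336930112da) (.node (nat_lit 0x31a2b9dc2ab) (.node (nat_lit 0x2ceb4c0c883) (.node (nat_lit 0x2c8b1897000) (.node (nat_lit 0x2c81a40c800) (.node (nat_lit 0x28aa0e11381) (.node (nat_lit 0x28a60152b67) (.node (nat_lit 0x28a4ca1fb81) (.leaf (nat_lit 0x28a48cd3530) (nat_lit 2304))
 (.leaf (nat_lit 0x28a4ca1fb81) (nat_lit 3073))
) (.node (nat_lit 0x28a8d448d6a) (.leaf (nat_lit 0x28a60152b67) (nat_lit 3328))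
 (.node (nat_lit 0x28a99c48d6a) (.leaf (nat_lit 0x28a8d448d6a) (nat_lit 0))
 (.leaf (nat_lit 0x28a99c48d6a) (nat_lit 3073))
))) (.node (nat_lit 0x28b1f605d0d) (.node (nat_lit 0x28ab51350c3) (.leaf (nat_lit 0x28aa0e11381) (nat_lit 2561))
 (.node (nat_lit 0x28af2952d0d) (.leaf (nat_lit 0x28ab51350c3) (nat_lit 2561))
 (.leaf (nat_lit 0x28af2952d0d) (nat_lit 2304))
)) (.node (nat_lit 0x28b394d3203) (.leaf (nat_lit 0x28b1f605d0d) (nat_lit 2306))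
 (.node (nat_lit 0x28b55200cb4) (.leaf (nat_lit 0x28b394d3203) (nat_lit 2816))
 (.leaf (nat_lit 0x28b55200cb4) (nat_lit 3329))
)))) (.node (nat_lit 0x2c8a740c800) (.node (nat_lit 0x2c825c10800) (.node (nat_lit 0x2c81a418000) (.leaf (nat_lit 0x2c81a40c800) (nat_lit 2560))
 (.leaf (nat_lit 0x2c81a418000) (nat_lit 2817))
) (.node (nat_lit 0x2c825e92800) (.leaf (nat_lit 0x2c825c10800) (nat_lit 3330))
 (.node (nat_lit 0x2c834463084) (.leaf (nat_lit 0x2c825e92800) (nat_lit 2306))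
 (.leaf (nat_lit 0x2c834463084) (nat_lit 2306))
))) (.node (nat_lit 0x2c8b0484000) (.node (nat_lit 0x2c8a743c000) (.leaf (nat_lit 0x2c8a740c800) (nat_lit 3585))
 (.node (nat_lit 0x2c8af10dcdb) (.leaf (nat_lit 0x2c8a743c000) (nat_lit 3586))
 (.leaf (nat_lit 0x2c8af10dcdb) (nat_lit 2817))
)) (.node (nat_lit 0x2c8b049d800) (.leaf (nat_lit 0x2c8b0484000) (nat_lit 2561))
 (.node (nat_lit 0x2c8b1896000) (.leaf (nat_lit 0x2c8b049d800) (nat_lit 3328))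
 (.leaf (nat_lit 0x2c8b1896000) (nat_lit 3584))
))))) (.node (nat_lit 0x2ccb900c818) (.node (nat_lit 0x2cc0e532018) (.node (nat_lit 0x2c8fee1dc1b) (.node (nat_lit 0x2c8bc1e111a) (.leaf (nat_lit 0x2c8b1897000) (nat_lit 3073))
 (.leaf (nat_lit 0x2c8bc1e111a) (nat_lit 2817))
) (.node (nat_lit 0x2c93ace2565) (.leaf (nat_lit 0x2c8fee1dc1b) (nat_lit 3585))
 (.node (nat_lit 0x2cc0e40c818) (.leaf (nat_lit 0x2c93ace2565) (nat_lit 3329))
 (.leaf (nat_lit 0x2cc0e40c818) (nat_lit 2305))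
))) (.node (nat_lit 0x2cc3800c818) (.node (nat_lit 0x2cc2b847818) (.leaf (nat_lit 0x2cc0e532018) (nat_lit 2305))
 (.node (nat_lit 0x2cc3540c818) (.leaf (nat_lit 0x2cc2b847818) (nat_lit 2561))
 (.leaf (nat_lit 0x2cc3540c818) (nat_lit 2816))
)) (.node (nat_lit 0x2cc3880c818) (.leaf (nat_lit 0x2cc3800c818) (nat_lit 3329))
 (.node (nat_lit 0x2cc8080c818) (.leaf (nat_lit 0x2cc3880c818) (nat_lit 2049))
 (.leaf (nat_lit 0x2cc8080c818) (nat_lit 3073))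
)))) (.node (nat_lit 0x2cd5200c818) (.node (nat_lit 0x2cd31449818) (.node (nat_lit 0x2ccd240c818) (.leaf (nat_lit 0x2ccb900c818) (nat_lit 2305))
 (.node (nat_lit 0x2cd24c6d018) (.leaf (nat_lit 0x2ccd240c818) (nat_lit 2818))
 (.leaf (nat_lit 0x2cd24c6d018) (nat_lit 2049))
)) (.node (nat_lit 0x2cd3800c818) (.leaf (nat_lit 0x2cd31449818) (nat_lit 3330))
 (.node (nat_lit 0x2cd3b801818) (.leaf (nat_lit 0x2cd3800c818) (nat_lit 1792))
 (.leaf (nat_lit 0x2cd3b801818) (nat_lit 3329))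
))) (.node (nat_lit 0x2ce400f5cda) (.node (nat_lit 0x2cd5e00c818) (.leaf (nat_lit 0x2cd5200c818) (nat_lit 2817))
 (.node (nat_lit 0x2ce34c0c883) (.leaf (nat_lit 0x2cd5e00c818) (nat_lit 3073))
 (.leaf (nat_lit 0x2ce34c0c883) (nat_lit 2560))
)) (.node (nat_lit 0x2ce400fb4da) (.leaf (nat_lit 0x2ce400f5cda) (nat_lit 3329))
 (.node (nat_lit 0x2ceae648cda) (.leaf (nat_lit 0x2ce400fb4da) (nat_lit 2817))
 (.leaf (nat_lit 0x2ceae648cda) (nat_lit 2817))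
)))))) (.node (nat_lit 0x2d6b4132816) (.node (nat_lit 0x2d60e402016) (.node (nat_lit 0x2ceff1d2c1a) (.node (nat_lit 0x2cebc551921) (.node (nat_lit 0x2ceb4c62883) (.leaf (nat_lit 0x2ceb4c0c883) (nat_lit 2304))
 (.leaf (nat_lit 0x2ceb4c62883) (nat_lit 2562))
) (.node (nat_lit 0x2cec519b121) (.leaf (nat_lit 0x2cebc551921) (nat_lit 3072))
 (.node (nat_lit 0x2cec51cb921) (.leaf (nat_lit 0x2cec519b121) (nat_lit 3074))
 (.leaf (nat_lit 0x2cec51cb921) (nat_lit 3328))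
))) (.node (nat_lit 0x2cf2e999d63) (.node (nat_lit 0x2cf19229c1a) (.leaf (nat_lit 0x2ceff1d2c1a) (nat_lit 2560))
 (.node (nat_lit 0x2cf192bec1a) (.leaf (nat_lit 0x2cf19229c1a) (nat_lit 3072))
 (.leaf (nat_lit 0x2cf192bec1a) (nat_lit 2816))
)) (.node (nat_lit 0x2cf2ea31563) (.leaf (nat_lit 0x2cf2e999d63) (nat_lit 3073))
 (.node (nat_lit 0x2cf3b5a9d63) (.leaf (nat_lit 0x2cf2ea31563) (nat_lit 2816))
 (.leaf (nat_lit 0x2cf3b5a9d63) (nat_lit 3328))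
)))) (.node (nat_lit 0x2d667402016) (.node (nat_lit 0x2d637447016) (.node (nat_lit 0x2d60e44a816) (.leaf (nat_lit 0x2d60e402016) (nat_lit 3073))
 (.leaf (nat_lit 0x2d60e44a816) (nat_lit 3073))
) (.node (nat_lit 0x2d648d32816) (.leaf (nat_lit 0x2d637447016) (nat_lit 2818))
 (.node (nat_lit 0x2d64c047016) (.leaf (nat_lit 0x2d648d32816) (nat_lit 3585))
 (.leaf (nat_lit 0x2d64c047016) (nat_lit 3329))
))) (.node (nat_lit 0x2d675c02016) (.node (nat_lit 0x2d66ac6b816) (.leaf (nat_lit 0x2d667402016) (nat_lit 3073))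
 (.node (nat_lit 0x2d67404a816) (.leaf (nat_lit 0x2d66ac6b816) (nat_lit 3073))
 (.leaf (nat_lit 0x2d67404a816) (nat_lit 3072))
)) (.node (nat_lit 0x2d680132816) (.leaf (nat_lit 0x2d675c02016) (nat_lit 1536))
 (.node (nat_lit 0x2d6aec6b816) (.leaf (nat_lit 0x2d680132816) (nat_lit 2817))
 (.leaf (nat_lit 0x2d6aec6b816) (nat_lit 2816))
))))) (.node (nat_lit 0x30c488cf0e1) (.node (nat_lit 0x30c0e5c2ae5) (.node (nat_lit 0x2d70404a816) (.node (nat_lit 0x2d6ba06b816) (.leaf (nat_lit 0x2d6b4132816) (nat_lit 2818))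
 (.leaf (nat_lit 0x2d6ba06b816) (nat_lit 2817))
) (.node (nat_lit 0x2d72e447016) (.leaf (nat_lit 0x2d70404a816) (nat_lit 2816))
 (.node (nat_lit 0x30c0e476800) (.leaf (nat_lit 0x2d72e447016) (nat_lit 2816))
 (.leaf (nat_lit 0x30c0e476800) (nat_lit 3329))
))) (.node (nat_lit 0x30c2dcb4000) (.node (nat_lit 0x30c1f026000) (.leaf (nat_lit 0x30c0e5c2ae5) (nat_lit 3328))
 (.node (nat_lit 0x30c21aa0461) (.leaf (nat_lit 0x30c1f026000) (nat_lit 3073))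
 (.leaf (nat_lit 0x30c21aa0461) (nat_lit 2818))
)) (.node (nat_lit 0x30c3500c800) (.leaf (nat_lit 0x30c2dcb4000) (nat_lit 2818))
 (.node (nat_lit 0x30c38096000) (.leaf (nat_lit 0x30c3500c800) (nat_lit 3584))
 (.leaf (nat_lit 0x30c38096000) (nat_lit 3072))
)))) (.node (nat_lit 0x30d4ac5a800) (.node (nat_lit 0x30d388ef15b) (.node (nat_lit 0x30c7440c800) (.leaf (nat_lit 0x30c488cf0e1) (nat_lit 2817))
 (.node (nat_lit 0x30ca091ccba) (.leaf (nat_lit 0x30c7440c800) (nat_lit 2817))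
 (.leaf (nat_lit 0x30ca091ccba) (nat_lit 3072))
)) (.node (nat_lit 0x30d3f83c000) (.leaf (nat_lit 0x30d388ef15b) (nat_lit 3329))
 (.node (nat_lit 0x30d40443800) (.leaf (nat_lit 0x30d3f83c000) (nat_lit 3329))
 (.leaf (nat_lit 0x30d40443800) (nat_lit 2817))
))) (.node (nat_lit 0x31a0e644aab) (.node (nat_lit 0x30d57488800) (.leaf (nat_lit 0x30d4ac5a800) (nat_lit 3329))
 (.node (nat_lit 0x31a0e6342ab) (.leaf (nat_lit 0x30d57488800) (nat_lit 2562))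
 (.leaf (nat_lit 0x31a0e6342ab) (nat_lit 3585))
)) (.node (nat_lit 0x31a0f90eaab) (.leaf (nat_lit 0x31a0e644aab) (nat_lit 2560))
 (.node (nat_lit 0x31a1ed0eaab) (.leaf (nat_lit 0x31a0f90eaab) (nat_lit 3329))
 (.leaf (nat_lit 0x31a1ed0eaab) (nat_lit 3329))
))))))) (.node (nat_lit 0x3282c0ccced) (.node (nat_lit 0x324c10a0ae1) (.node (nat_lit 0x3240e4a00dc) (.node (nat_lit 0x31ab8e2c2ab) (.node (nat_lit 0x31a5f8f02ab) (.node (nat_lit 0x31a38cd3aab) (.leaf (nat_lit 0x31a2b9dc2ab) (nat_lit 1792))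
 (.leaf (nat_lit 0x31a38cd3aab) (nat_lit 2049))
) (.node (nat_lit 0x31ab2cf02ab) (.leaf (nat_lit 0x31a5f8f02ab) (nat_lit 2048))
 (.node (nat_lit 0x31ab41a62ab) (.leaf (nat_lit 0x31ab2cf02ab) (nat_lit 3073))
 (.leaf (nat_lit 0x31ab41a62ab) (nat_lit 1794))
))) (.node (nat_lit 0x31b31244aab) (.node (nat_lit 0x31ac4de1aab) (.leaf (nat_lit 0x31ab8e2c2ab) (nat_lit 3328))
 (.node (nat_lit 0x31ad26342ab) (.leaf (nat_lit 0x31ac4de1aab) (nat_lit 3328))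
 (.leaf (nat_lit 0x31ad26342ab) (nat_lit 3073))
)) (.node (nat_lit 0x31b384d3aab) (.leaf (nat_lit 0x31b31244aab) (nat_lit 2561))
 (.node (nat_lit 0x31b38e112ab) (.leaf (nat_lit 0x31b384d3aab) (nat_lit 2560))
 (.leaf (nat_lit 0x31b38e112ab) (nat_lit 2560))
)))) (.node (nat_lit 0x3248d1bcc60) (.node (nat_lit 0x32437d15ae1) (.node (nat_lit 0x3240e5e115a) (.leaf (nat_lit 0x3240e4a00dc) (nat_lit 2049))
 (.leaf (nat_lit 0x3240e5e115a) (nat_lit 3329))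
) (.node (nat_lit 0x3243f00ccb8) (.leaf (nat_lit 0x32437d15ae1) (nat_lit 3073))
 (.node (nat_lit 0x3246a9f88dc) (.leaf (nat_lit 0x3243f00ccb8) (nat_lit 2817))
 (.leaf (nat_lit 0x3246a9f88dc) (nat_lit 2561))
))) (.node (nat_lit 0x3249f5ceae1) (.node (nat_lit 0x3249400ccb8) (.leaf (nat_lit 0x3248d1bcc60) (nat_lit 3074))
 (.node (nat_lit 0x3249c20215a) (.leaf (nat_lit 0x3249400ccb8) (nat_lit 2561))
 (.leaf (nat_lit 0x3249c20215a) (nat_lit 2560))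
)) (.node (nat_lit 0x324b2a2115a) (.leaf (nat_lit 0x3249f5ceae1) (nat_lit 3329))
 (.node (nat_lit 0x324b30e20dc) (.leaf (nat_lit 0x324b2a2115a) (nat_lit 3586))
 (.leaf (nat_lit 0x324b30e20dc) (nat_lit 2817))
))))) (.node (nat_lit 0x32693a5eaaa) (.node (nat_lit 0x3260e5a6aaa) (.node (nat_lit 0x325359a1c60) (.node (nat_lit 0x324f00ff460) (.leaf (nat_lit 0x324c10a0ae1) (nat_lit 2818))
 (.leaf (nat_lit 0x324f00ff460) (nat_lit 2818))
) (.node (nat_lit 0x32539d1c4b8) (.leaf (nat_lit 0x325359a1c60) (nat_lit 3330))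
 (.node (nat_lit 0x3260e44faaa) (.leaf (nat_lit 0x32539d1c4b8) (nat_lit 2816))
 (.leaf (nat_lit 0x3260e44faaa) (nat_lit 3073))
))) (.node (nat_lit 0x3266ae5eaaa) (.node (nat_lit 0x326375ddaaa) (.leaf (nat_lit 0x3260e5a6aaa) (nat_lit 2561))
 (.node (nat_lit 0x32648e3aaaa) (.leaf (nat_lit 0x326375ddaaa) (nat_lit 3329))
 (.leaf (nat_lit 0x32648e3aaaa) (nat_lit 3328))
)) (.node (nat_lit 0x32680a2eaaa) (.leaf (nat_lit 0x3266ae5eaaa) (nat_lit 1792))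
 (.node (nat_lit 0x32691d0aaaa) (.leaf (nat_lit 0x32680a2eaaa) (nat_lit 2816))
 (.leaf (nat_lit 0x32691d0aaaa) (nat_lit 3073))
)))) (.node (nat_lit 0x3274aa11aaa) (.node (nat_lit 0x326b304faaa) (.node (nat_lit 0x3269a10aaaa) (.leaf (nat_lit 0x32693a5eaaa) (nat_lit 1793))
 (.node (nat_lit 0x326a6de22aa) (.leaf (nat_lit 0x3269a10aaaa) (nat_lit 3330))
 (.leaf (nat_lit 0x326a6de22aa) (nat_lit 3330))
)) (.node (nat_lit 0x326d863aaaa) (.leaf (nat_lit 0x326b304faaa) (nat_lit 2816))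
 (.node (nat_lit 0x327151bdaaa) (.leaf (nat_lit 0x326d863aaaa) (nat_lit 2560))
 (.leaf (nat_lit 0x327151bdaaa) (nat_lit 2306))
))) (.node (nat_lit 0x3280e51b000) (.node (nat_lit 0x3275e9bdaaa) (.leaf (nat_lit 0x3274aa11aaa) (nat_lit 3072))
 (.node (nat_lit 0x3280e445000) (.leaf (nat_lit 0x3275e9bdaaa) (nat_lit 3330))
 (.leaf (nat_lit 0x3280e445000) (nat_lit 3073))
)) (.node (nat_lit 0x3281409e000) (.leaf (nat_lit 0x3280e51b000) (nat_lit 3329))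
 (.node (nat_lit 0x3282ac18000) (.leaf (nat_lit 0x3281409e000) (nat_lit 2561))
 (.leaf (nat_lit 0x3282ac18000) (nat_lit 3330))
)))))) (.node (nat_lit 0x32b431ceceb) (.node (nat_lit 0x32a0e5a1d09) (.node (nat_lit 0x328da5d2508) (.node (nat_lit 0x3289e00c800) (.node (nat_lit 0x3284c05f000) (.leaf (nat_lit 0x3282c0ccced) (nat_lit 2817))
 (.leaf (nat_lit 0x3284c05f000) (nat_lit 3328))
) (.node (nat_lit 0x328b2810800) (.leaf (nat_lit 0x3289e00c800) (nat_lit 1793))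
 (.node (nat_lit 0x328b5476800) (.leaf (nat_lit 0x328b2810800) (nat_lit 3330))
 (.leaf (nat_lit 0x328b5476800) (nat_lit 3073))
))) (.node (nat_lit 0x3295580f2b9) (.node (nat_lit 0x3290e8eeaf1) (.leaf (nat_lit 0x328da5d2508) (nat_lit 3330))
 (.node (nat_lit 0x3293f80c800) (.leaf (nat_lit 0x3290e8eeaf1) (nat_lit 2818))
 (.leaf (nat_lit 0x3293f80c800) (nat_lit 3329))
)) (.node (nat_lit 0x3295c2948d3) (.leaf (nat_lit 0x3295580f2b9) (nat_lit 3328))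
 (.node (nat_lit 0x3295dc5a800) (.leaf (nat_lit 0x3295c2948d3) (nat_lit 1538))
 (.leaf (nat_lit 0x3295dc5a800) (nat_lit 3328))
)))) (.node (nat_lit 0x32a9ddd7af0) (.node (nat_lit 0x32a5d40eabc) (.node (nat_lit 0x32a0e5d4509) (.leaf (nat_lit 0x32a0e5a1d09) (nat_lit 3074))
 (.leaf (nat_lit 0x32a0e5d4509) (nat_lit 2560))
) (.node (nat_lit 0x32a941518d1) (.leaf (nat_lit 0x32a5d40eabc) (nat_lit 3584))
 (.node (nat_lit 0x32a9a648ceb) (.leaf (nat_lit 0x32a941518d1) (nat_lit 2560))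
 (.leaf (nat_lit 0x32a9a648ceb) (nat_lit 2561))
))) (.node (nat_lit 0x32ada21c509) (.node (nat_lit 0x32aabcbb4eb) (.leaf (nat_lit 0x32a9ddd7af0) (nat_lit 2048))
 (.node (nat_lit 0x32ac24f18d1) (.leaf (nat_lit 0x32aabcbb4eb) (nat_lit 2562))
 (.leaf (nat_lit 0x32ac24f18d1) (nat_lit 2050))
)) (.node (nat_lit 0x32b2ce02af0) (.leaf (nat_lit 0x32ada21c509) (nat_lit 3073))
 (.node (nat_lit 0x32b391182f0) (.leaf (nat_lit 0x32b2ce02af0) (nat_lit 2304))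
 (.leaf (nat_lit 0x32b391182f0) (nat_lit 2817))
))))) (.node (nat_lit 0x334a09d156e) (.node (nat_lit 0x3340e5d2207) (.node (nat_lit 0x32b4f9d90d1) (.node (nat_lit 0x32b47c0cabc) (.leaf (nat_lit 0x32b431ceceb) (nat_lit 2562))
 (.leaf (nat_lit 0x32b47c0cabc) (nat_lit 3328))
) (.node (nat_lit 0x32b5a00cabc) (.leaf (nat_lit 0x32b4f9d90d1) (nat_lit 2304))
 (.node (nat_lit 0x3340e45a845) (.leaf (nat_lit 0x32b5a00cabc) (nat_lit 3329))
 (.leaf (nat_lit 0x3340e45a845) (nat_lit 3074))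
))) (.node (nat_lit 0x3345e8e1d6e) (.node (nat_lit 0x3341780c98b) (.leaf (nat_lit 0x3340e5d2207) (nat_lit 2305))
 (.node (nat_lit 0x33443631bf9) (.leaf (nat_lit 0x3341780c98b) (nat_lit 3074))
 (.leaf (nat_lit 0x33443631bf9) (nat_lit 2817))
)) (.node (nat_lit 0x334941ac3f9) (.leaf (nat_lit 0x3345e8e1d6e) (nat_lit 2560))
 (.node (nat_lit 0x3349c8b4d06) (.leaf (nat_lit 0x334941ac3f9) (nat_lit 3072))
 (.leaf (nat_lit 0x3349c8b4d06) (nat_lit 3073))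
)))) (.node (nat_lit 0x3353f0a454b) (.node (nat_lit 0x334b400c845) (.node (nat_lit 0x334a0c9aa61) (.leaf (nat_lit 0x334a09d156e) (nat_lit 2818))
 (.node (nat_lit 0x334b35d44a2) (.leaf (nat_lit 0x334a0c9aa61) (nat_lit 3328))
 (.leaf (nat_lit 0x334b35d44a2) (nat_lit 2562))
)) (.node (nat_lit 0x3350e8d4d06) (.leaf (nat_lit 0x334b400c845) (nat_lit 1793))
 (.node (nat_lit 0x3351f21db64) (.leaf (nat_lit 0x3350e8d4d06) (nat_lit 2817))
 (.leaf (nat_lit 0x3351f21db64) (nat_lit 3330))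
))) (.node (nat_lit 0x3360e5d82f5) (.node (nat_lit 0x3355acccb64) (.leaf (nat_lit 0x3353f0a454b) (nat_lit 3073))
 (.node (nat_lit 0x3360e439189) (.leaf (nat_lit 0x3355acccb64) (nat_lit 3073))
 (.leaf (nat_lit 0x3360e439189) (nat_lit 2817))
)) (.node (nat_lit 0x336389c2ca0) (.leaf (nat_lit 0x3360e5d82f5) (nat_lit 3329))
 (.node (nat_lit 0x3365d40c857) (.leaf (nat_lit 0x336389c2ca0) (nat_lit 2561))
 (.leaf (nat_lit 0x3365d40c857) (nat_lit 2817))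
)))))))) (.node (nat_lit 0x34e935c7c85) (.node (nat_lit 0x34438917481) (.node (nat_lit 0x34135d158ef) (.node (nat_lit 0x3400e4cfcdf) (.node (nat_lit 0x336d8115a05) (.node (nat_lit 0x336b28a5b92) (.node (nat_lit 0x3369c476857) (.leaf (nat_lit 0x336930112da) (nat_lit 2818))
 (.leaf (nat_lit 0x3369c476857) (nat_lit 2561))
) (.node (nat_lit 0x336c66639b0) (.leaf (nat_lit 0x336b28a5b92) (nat_lit 3072))
 (.node (nat_lit 0x336d02a0392) (.leaf (nat_lit 0x336c66639b0) (nat_lit 3585))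
 (.leaf (nat_lit 0x336d02a0392) (nat_lit 2817))
))) (.node (nat_lit 0x3372e5592f5) (.node (nat_lit 0x336db9ac9b0) (.leaf (nat_lit 0x336d8115a05) (nat_lit 1537))
 (.node (nat_lit 0x33716c0ca63) (.leaf (nat_lit 0x336db9ac9b0) (nat_lit 2561))
 (.leaf (nat_lit 0x33716c0ca63) (nat_lit 2817))
)) (.node (nat_lit 0x3373889d2da) (.leaf (nat_lit 0x3372e5592f5) (nat_lit 2049))
 (.node (nat_lit 0x33748cf1549) (.leaf (nat_lit 0x3373889d2da) (nat_lit 2817))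
 (.leaf (nat_lit 0x33748cf1549) (nat_lit 2304))
)))) (.node (nat_lit 0x3409c28a4df) (.node (nat_lit 0x34015648d69) (.node (nat_lit 0x3400e5d291c) (.leaf (nat_lit 0x3400e4cfcdf) (nat_lit 3073))
 (.leaf (nat_lit 0x3400e5d291c) (nat_lit 3073))
) (.node (nat_lit 0x3405840ca67) (.leaf (nat_lit 0x34015648d69) (nat_lit 2816))
 (.node (nat_lit 0x3409a1818ef) (.leaf (nat_lit 0x3405840ca67) (nat_lit 2817))
 (.leaf (nat_lit 0x3409a1818ef) (nat_lit 3329))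
))) (.node (nat_lit 0x3410e40caaf) (.node (nat_lit 0x3409eda2d69) (.leaf (nat_lit 0x3409c28a4df) (nat_lit 3074))
 (.node (nat_lit 0x340b26922eb) (.leaf (nat_lit 0x3409eda2d69) (nat_lit 3074))
 (.leaf (nat_lit 0x340b26922eb) (nat_lit 2817))
)) (.node (nat_lit 0x3412d07710b) (.leaf (nat_lit 0x3410e40caaf) (nat_lit 1536))
 (.node (nat_lit 0x34131463aeb) (.leaf (nat_lit 0x3412d07710b) (nat_lit 3073))
 (.leaf (nat_lit 0x34131463aeb) (nat_lit 3585))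
))))) (.node (nat_lit 0x3429d03ea69) (.node (nat_lit 0x3420e51c8c1) (.node (nat_lit 0x341395d5250) (.node (nat_lit 0x34138e64b81) (.leaf (nat_lit 0x34135d158ef) (nat_lit 3585))
 (.leaf (nat_lit 0x34138e64b81) (nat_lit 3329))
) (.node (nat_lit 0x3415b4592af) (.leaf (nat_lit 0x341395d5250) (nat_lit 2818))
 (.node (nat_lit 0x3420e4a927f) (.leaf (nat_lit 0x3415b4592af) (nat_lit 2048))
 (.leaf (nat_lit 0x3420e4a927f) (nat_lit 1536))
))) (.node (nat_lit 0x342355da27f) (.node (nat_lit 0x34213d0dd0d) (.leaf (nat_lit 0x3420e51c8c1) (nat_lit 3072))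
 (.node (nat_lit 0x3421ecbc37f) (.leaf (nat_lit 0x34213d0dd0d) (nat_lit 3329))
 (.leaf (nat_lit 0x3421ecbc37f) (nat_lit 2560))
)) (.node (nat_lit 0x3429b9ac11d) (.leaf (nat_lit 0x342355da27f) (nat_lit 3073))
 (.node (nat_lit 0x3429c9efa54) (.leaf (nat_lit 0x3429b9ac11d) (nat_lit 2561))
 (.leaf (nat_lit 0x3429c9efa54) (nat_lit 2561))
)))) (.node (nat_lit 0x3434fc0c90d) (.node (nat_lit 0x34319d5205f) (.node (nat_lit 0x342da0440c1) (.leaf (nat_lit 0x3429d03ea69) (nat_lit 3329))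
 (.node (nat_lit 0x3430409731f) (.leaf (nat_lit 0x342da0440c1) (nat_lit 3330))
 (.leaf (nat_lit 0x3430409731f) (nat_lit 2817))
)) (.node (nat_lit 0x3433b00cb1f) (.leaf (nat_lit 0x34319d5205f) (nat_lit 2818))
 (.node (nat_lit 0x3433f51350d) (.leaf (nat_lit 0x3433b00cb1f) (nat_lit 3329))
 (.leaf (nat_lit 0x3433f51350d) (nat_lit 2561))
))) (.node (nat_lit 0x3440e4ddd27) (.node (nat_lit 0x3435e99485f) (.leaf (nat_lit 0x3434fc0c90d) (nat_lit 3329))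
 (.node (nat_lit 0x3440a8360af) (.leaf (nat_lit 0x3435e99485f) (nat_lit 2816))
 (.leaf (nat_lit 0x3440a8360af) (nat_lit 2306))
)) (.node (nat_lit 0x3440e4eea05) (.leaf (nat_lit 0x3440e4ddd27) (nat_lit 3329))
 (.node (nat_lit 0x344148a5cf5) (.leaf (nat_lit 0x3440e4eea05) (nat_lit 3585))
 (.leaf (nat_lit 0x344148a5cf5) (nat_lit 3330))
)))))) (.node (nat_lit 0x3493fda994f) (.node (nat_lit 0x3480e50f0f0) (.node (nat_lit 0x344b269c925) (.node (nat_lit 0x344580b4d06) (.node (nat_lit 0x3444305e847) (.leaf (nat_lit 0x34438917481) (nat_lit 2562))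
 (.leaf (nat_lit 0x3444305e847) (nat_lit 2050))
) (.node (nat_lit 0x3449d90e50c) (.leaf (nat_lit 0x344580b4d06) (nat_lit 3328))
 (.node (nat_lit 0x344b09d850c) (.leaf (nat_lit 0x3449d90e50c) (nat_lit 2816))
 (.leaf (nat_lit 0x344b09d850c) (nat_lit 2561))
))) (.node (nat_lit 0x34519e94125) (.node (nat_lit 0x344b40a0205) (.leaf (nat_lit 0x344b269c925) (nat_lit 2306))
 (.node (nat_lit 0x344c240c8af) (.leaf (nat_lit 0x344b40a0205) (nat_lit 2817))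
 (.leaf (nat_lit 0x344c240c8af) (nat_lit 3330))
)) (.node (nat_lit 0x34535839506) (.leaf (nat_lit 0x34519e94125) (nat_lit 3329))
 (.node (nat_lit 0x3453c00ca41) (.leaf (nat_lit 0x34535839506) (nat_lit 2561))
 (.leaf (nat_lit 0x3453c00ca41) (nat_lit 2306))
)))) (.node (nat_lit 0x348a691b86e) (.node (nat_lit 0x3480f5cbc80) (.node (nat_lit 0x3480e51f4f4) (.leaf (nat_lit 0x3480e50f0f0) (nat_lit 3328))
 (.leaf (nat_lit 0x3480e51f4f4) (nat_lit 3328))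
) (.node (nat_lit 0x34821aa0275) (.leaf (nat_lit 0x3480f5cbc80) (nat_lit 3073))
 (.node (nat_lit 0x348434b2a40) (.leaf (nat_lit 0x34821aa0275) (nat_lit 2561))
 (.leaf (nat_lit 0x348434b2a40) (nat_lit 2560))
))) (.node (nat_lit 0x3490409d91e) (.node (nat_lit 0x348c3a09275) (.leaf (nat_lit 0x348a691b86e) (nat_lit 3329))
 (.node (nat_lit 0x348d01bc8f0) (.leaf (nat_lit 0x348c3a09275) (nat_lit 2305))
 (.leaf (nat_lit 0x348d01bc8f0) (nat_lit 3072))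
)) (.node (nat_lit 0x349158e2526) (.leaf (nat_lit 0x3490409d91e) (nat_lit 3074))
 (.node (nat_lit 0x3493145b06e) (.leaf (nat_lit 0x349158e2526) (nat_lit 2817))
 (.leaf (nat_lit 0x3493145b06e) (nat_lit 2818))
))))) (.node (nat_lit 0x34cc6222b47) (.node (nat_lit 0x34c0e645347) (.node (nat_lit 0x3495d8ff14f) (.node (nat_lit 0x3494000c91e) (.leaf (nat_lit 0x3493fda994f) (nat_lit 3073))
 (.leaf (nat_lit 0x3494000c91e) (nat_lit 3330))
) (.node (nat_lit 0x3495e40c845) (.leaf (nat_lit 0x3495d8ff14f) (nat_lit 2816))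
 (.node (nat_lit 0x34c0e4a29d4) (.leaf (nat_lit 0x3495e40c845) (nat_lit 2049))
 (.leaf (nat_lit 0x34c0e4a29d4) (nat_lit 2561))
))) (.node (nat_lit 0x34c75db60a4) (.node (nat_lit 0x34c1459e3f9) (.leaf (nat_lit 0x34c0e645347) (nat_lit 2818))
 (.node (nat_lit 0x34c5fa661d4) (.leaf (nat_lit 0x34c1459e3f9) (nat_lit 2562))
 (.leaf (nat_lit 0x34c5fa661d4) (nat_lit 2049))
)) (.node (nat_lit 0x34c905c70fd) (.leaf (nat_lit 0x34c75db60a4) (nat_lit 2561))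
 (.node (nat_lit 0x34c940048af) (.leaf (nat_lit 0x34c905c70fd) (nat_lit 2560))
 (.leaf (nat_lit 0x34c940048af) (nat_lit 3074))
)))) (.node (nat_lit 0x34d4744dc16) (.node (nat_lit 0x34d2a9ea975) (.node (nat_lit 0x34cd019e0a4) (.leaf (nat_lit 0x34cc6222b47) (nat_lit 3330))
 (.node (nat_lit 0x34d0444dc16) (.leaf (nat_lit 0x34cd019e0a4) (nat_lit 2306))
 (.leaf (nat_lit 0x34d0444dc16) (nat_lit 3584))
)) (.node (nat_lit 0x34d34ca28db) (.leaf (nat_lit 0x34d2a9ea975) (nat_lit 3073))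
 (.node (nat_lit 0x34d415ea8fd) (.leaf (nat_lit 0x34d34ca28db) (nat_lit 2560))
 (.leaf (nat_lit 0x34d415ea8fd) (nat_lit 2306))
))) (.node (nat_lit 0x34e0e5ee0de) (.node (nat_lit 0x34d5e222bcc) (.leaf (nat_lit 0x34d4744dc16) (nat_lit 2816))
 (.node (nat_lit 0x34e0e4e5d26) (.leaf (nat_lit 0x34d5e222bcc) (nat_lit 2048))
 (.leaf (nat_lit 0x34e0e4e5d26) (nat_lit 2816))
)) (.node (nat_lit 0x34e43904205) (.leaf (nat_lit 0x34e0e5ee0de) (nat_lit 2049))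
 (.node (nat_lit 0x34e675b6a05) (.leaf (nat_lit 0x34e43904205) (nat_lit 2561))
 (.leaf (nat_lit 0x34e675b6a05) (nat_lit 3072))
))))))) (.node (nat_lit 0x36860005931) (.node (nat_lit 0x364fd110bfb) (.node (nat_lit 0x3640e5f2509) (.node (nat_lit 0x34f16e65499) (.node (nat_lit 0x34ea085056e) (.node (nat_lit 0x34e9d4e5bf7) (.leaf (nat_lit 0x34e935c7c85) (nat_lit 3329))
 (.leaf (nat_lit 0x34e9d4e5bf7) (nat_lit 2817))
) (.node (nat_lit 0x34eb0dee485) (.leaf (nat_lit 0x34ea085056e) (nat_lit 2817))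
 (.node (nat_lit 0x34f169f317f) (.leaf (nat_lit 0x34eb0dee485) (nat_lit 3072))
 (.leaf (nat_lit 0x34f169f317f) (nat_lit 3330))
))) (.node (nat_lit 0x34f39c058b0) (.node (nat_lit 0x34f24d043ce) (.leaf (nat_lit 0x34f16e65499) (nat_lit 2305))
 (.node (nat_lit 0x34f35e45d26) (.leaf (nat_lit 0x34f24d043ce) (nat_lit 3072))
 (.leaf (nat_lit 0x34f35e45d26) (nat_lit 3074))
)) (.node (nat_lit 0x34f3a9f3499) (.leaf (nat_lit 0x34f39c058b0) (nat_lit 2049))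
 (.node (nat_lit 0x34f3c05056e) (.leaf (nat_lit 0x34f3a9f3499) (nat_lit 3585))
 (.leaf (nat_lit 0x34f3c05056e) (nat_lit 1794))
)))) (.node (nat_lit 0x3649de22af0) (.node (nat_lit 0x3641aa6ebfb) (.node (nat_lit 0x3640e661509) (.leaf (nat_lit 0x3640e5f2509) (nat_lit 2305))
 (.leaf (nat_lit 0x3640e661509) (nat_lit 2305))
) (.node (nat_lit 0x3648d1be0d1) (.leaf (nat_lit 0x3641aa6ebfb) (nat_lit 3329))
 (.node (nat_lit 0x36499dc72f0) (.leaf (nat_lit 0x3648d1be0d1) (nat_lit 1793))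
 (.leaf (nat_lit 0x36499dc72f0) (nat_lit 3074))
))) (.node (nat_lit 0x364b55f2509) (.node (nat_lit 0x364a0a13ceb) (.leaf (nat_lit 0x3649de22af0) (nat_lit 1536))
 (.node (nat_lit 0x364ab9be0d1) (.leaf (nat_lit 0x364a0a13ceb) (nat_lit 2560))
 (.leaf (nat_lit 0x364ab9be0d1) (nat_lit 2561))
)) (.node (nat_lit 0x364c25ee0d1) (.leaf (nat_lit 0x364b55f2509) (nat_lit 3073))
 (.node (nat_lit 0x364efa22af0) (.leaf (nat_lit 0x364c25ee0d1) (nat_lit 2562))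
 (.leaf (nat_lit 0x364efa22af0) (nat_lit 2816))
))))) (.node (nat_lit 0x366b0e6e3fc) (.node (nat_lit 0x3660e638000) (.node (nat_lit 0x36541510bfb) (.node (nat_lit 0x365396a84eb) (.leaf (nat_lit 0x364fd110bfb) (nat_lit 3329))
 (.leaf (nat_lit 0x365396a84eb) (nat_lit 3328))
) (.node (nat_lit 0x3654fea84eb) (.leaf (nat_lit 0x36541510bfb) (nat_lit 3330))
 (.node (nat_lit 0x3660e4c9800) (.leaf (nat_lit 0x3654fea84eb) (nat_lit 1280))
 (.leaf (nat_lit 0x3660e4c9800) (nat_lit 1537))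
))) (.node (nat_lit 0x36675cc9800) (.node (nat_lit 0x3661401b000) (.leaf (nat_lit 0x3660e638000) (nat_lit 3329))
 (.node (nat_lit 0x3663f1ed0d3) (.leaf (nat_lit 0x3661401b000) (nat_lit 3074))
 (.leaf (nat_lit 0x3663f1ed0d3) (nat_lit 2304))
)) (.node (nat_lit 0x3669a01b000) (.leaf (nat_lit 0x36675cc9800) (nat_lit 1794))
 (.node (nat_lit 0x366aa004800) (.leaf (nat_lit 0x3669a01b000) (nat_lit 3330))
 (.leaf (nat_lit 0x366aa004800) (nat_lit 2305))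
)))) (.node (nat_lit 0x3673f804800) (.node (nat_lit 0x366fe6134ed) (.node (nat_lit 0x366b5260508) (.leaf (nat_lit 0x366b0e6e3fc) (nat_lit 3329))
 (.node (nat_lit 0x366da135000) (.leaf (nat_lit 0x366b5260508) (nat_lit 2817))
 (.leaf (nat_lit 0x366da135000) (nat_lit 3073))
)) (.node (nat_lit 0x36707238000) (.leaf (nat_lit 0x366fe6134ed) (nat_lit 3329))
 (.node (nat_lit 0x3672a5c7af1) (.leaf (nat_lit 0x36707238000) (nat_lit 3329))
 (.leaf (nat_lit 0x3672a5c7af1) (nat_lit 3329))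
))) (.node (nat_lit 0x3680e66e2e2) (.node (nat_lit 0x3675dd35000) (.leaf (nat_lit 0x3673f804800) (nat_lit 3585))
 (.node (nat_lit 0x3680e645347) (.leaf (nat_lit 0x3675dd35000) (nat_lit 3585))
 (.leaf (nat_lit 0x3680e645347) (nat_lit 2818))
)) (.node (nat_lit 0x3682c0febca) (.leaf (nat_lit 0x3680e66e2e2) (nat_lit 3074))
 (.node (nat_lit 0x36837cecabe) (.leaf (nat_lit 0x3682c0febca) (nat_lit 3330))
 (.leaf (nat_lit 0x36837cecabe) (nat_lit 2306))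
)))))) (.node (nat_lit 0x36aa5a87961) (.node (nat_lit 0x36a05ddc060) (.node (nat_lit 0x368a6e612e2) (.node (nat_lit 0x36875e17b22) (.node (nat_lit 0x3686210ad1b) (.leaf (nat_lit 0x36860005931) (nat_lit 3074))
 (.leaf (nat_lit 0x3686210ad1b) (nat_lit 2817))
) (.node (nat_lit 0x3689e4e554f) (.leaf (nat_lit 0x36875e17b22) (nat_lit 3586))
 (.node (nat_lit 0x368a20ecb22) (.leaf (nat_lit 0x3689e4e554f) (nat_lit 2305))
 (.leaf (nat_lit 0x368a20ecb22) (nat_lit 3329))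
))) (.node (nat_lit 0x368c4e6128a) (.node (nat_lit 0x368ab8febca) (.leaf (nat_lit 0x368a6e612e2) (nat_lit 3072))
 (.node (nat_lit 0x368c39bd161) (.leaf (nat_lit 0x368ab8febca) (nat_lit 3585))
 (.leaf (nat_lit 0x368c39bd161) (nat_lit 3329))
)) (.node (nat_lit 0x368db9bd51b) (.leaf (nat_lit 0x368c4e6128a) (nat_lit 2306))
 (.node (nat_lit 0x3693ba4554f) (.leaf (nat_lit 0x368db9bd51b) (nat_lit 1794))
 (.leaf (nat_lit 0x3693ba4554f) (nat_lit 3074))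
)))) (.node (nat_lit 0x36a3edcc860) (.node (nat_lit 0x36a358f0c55) (.node (nat_lit 0x36a29804b06) (.leaf (nat_lit 0x36a05ddc060) (nat_lit 2816))
 (.node (nat_lit 0x36a2984dc16) (.leaf (nat_lit 0x36a29804b06) (nat_lit 2561))
 (.leaf (nat_lit 0x36a2984dc16) (nat_lit 2817))
)) (.node (nat_lit 0x36a358f83ce) (.leaf (nat_lit 0x36a358f0c55) (nat_lit 2818))
 (.node (nat_lit 0x36a3c4f0d73) (.leaf (nat_lit 0x36a358f83ce) (nat_lit 2050))
 (.leaf (nat_lit 0x36a3c4f0d73) (nat_lit 3329))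
))) (.node (nat_lit 0x36a840f7d73) (.node (nat_lit 0x36a3ee87b1a) (.leaf (nat_lit 0x36a3edcc860) (nat_lit 3330))
 (.node (nat_lit 0x36a4604dc16) (.leaf (nat_lit 0x36a3ee87b1a) (nat_lit 2818))
 (.leaf (nat_lit 0x36a4604dc16) (nat_lit 2561))
)) (.node (nat_lit 0x36a841dc0a3) (.leaf (nat_lit 0x36a840f7d73) (nat_lit 3072))
 (.node (nat_lit 0x36aa59bd161) (.leaf (nat_lit 0x36a841dc0a3) (nat_lit 2817))
 (.leaf (nat_lit 0x36aa59bd161) (nat_lit 2562))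
))))) (.node (nat_lit 0x36eb0e184b3) (.node (nat_lit 0x36e21510960) (.node (nat_lit 0x36b2a1043ce) (.node (nat_lit 0x36b20cf814f) (.leaf (nat_lit 0x36aa5a87961) (nat_lit 3073))
 (.leaf (nat_lit 0x36b20cf814f) (nat_lit 2817))
) (.node (nat_lit 0x36e0e40492f) (.leaf (nat_lit 0x36b2a1043ce) (nat_lit 2561))
 (.node (nat_lit 0x36e0e4fcc57) (.leaf (nat_lit 0x36e0e40492f) (nat_lit 3072))
 (.leaf (nat_lit 0x36e0e4fcc57) (nat_lit 3073))
))) (.node (nat_lit 0x36e6ad09c57) (.node (nat_lit 0x36e2bd10cb3) (.leaf (nat_lit 0x36e21510960) (nat_lit 2816))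
 (.node (nat_lit 0x36e2e22c342) (.leaf (nat_lit 0x36e2bd10cb3) (nat_lit 2818))
 (.leaf (nat_lit 0x36e2e22c342) (nat_lit 1793))
)) (.node (nat_lit 0x36e804e5bf7) (.leaf (nat_lit 0x36e6ad09c57) (nat_lit 2818))
 (.node (nat_lit 0x36ea38fcabd) (.leaf (nat_lit 0x36e804e5bf7) (nat_lit 3073))
 (.leaf (nat_lit 0x36ea38fcabd) (nat_lit 3074))
)))) (.node (nat_lit 0x36f5e1f5a89) (.node (nat_lit 0x36f3566ec7e) (.node (nat_lit 0x36ee004dc16) (.leaf (nat_lit 0x36eb0e184b3) (nat_lit 2817))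
 (.node (nat_lit 0x36f0604dc16) (.leaf (nat_lit 0x36ee004dc16) (nat_lit 3329))
 (.leaf (nat_lit 0x36f0604dc16) (nat_lit 2817))
)) (.node (nat_lit 0x36f4fe2c47e) (.leaf (nat_lit 0x36f3566ec7e) (nat_lit 3074))
 (.node (nat_lit 0x36f5a5f5bf7) (.leaf (nat_lit 0x36f4fe2c47e) (nat_lit 3073))
 (.leaf (nat_lit 0x36f5a5f5bf7) (nat_lit 2817))
))) (.node (nat_lit 0x3700ee13a94) (.node (nat_lit 0x3700561bb1b) (.leaf (nat_lit 0x36f5e1f5a89) (nat_lit 2818))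
 (.node (nat_lit 0x3700edcc481) (.leaf (nat_lit 0x3700561bb1b) (nat_lit 3329))
 (.leaf (nat_lit 0x3700edcc481) (nat_lit 3585))
)) (.node (nat_lit 0x3700fcf71d3) (.leaf (nat_lit 0x3700ee13a94) (nat_lit 2817))
 (.node (nat_lit 0x3700fe1b9d3) (.leaf (nat_lit 0x3700fcf71d3) (nat_lit 2817))
 (.leaf (nat_lit 0x3700fe1b9d3) (nat_lit 3329))
)))))))))) (.node (nat_lit 0x3e267666478) (.node (nat_lit 0x39a5fdd53be) (.node (nat_lit 0x38e25ddc4d9) (.node (nat_lit 0x3829c8a827b) (.node (nat_lit 0x37d2ac63a69) (.node (nat_lit 0x37c191a811d) (.node (nat_lit 0x3705f213a94) (.node (nat_lit 0x3703d5098f0) (.node (nat_lit 0x3703d504b67) (.leaf (nat_lit 0x3703c9b60a4) (nat_lit 3330))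
 (.leaf (nat_lit 0x3703d504b67) (nat_lit 3328))
) (.node (nat_lit 0x37046c05b07) (.leaf (nat_lit 0x3703d5098f0) (nat_lit 3585))
 (.node (nat_lit 0x3705f1bd8f0) (.leaf (nat_lit 0x37046c05b07) (nat_lit 2049))
 (.leaf (nat_lit 0x3705f1bd8f0) (nat_lit 2817))
))) (.node (nat_lit 0x37120a0595d) (.node (nat_lit 0x370c41b6367) (.leaf (nat_lit 0x3705f213a94) (nat_lit 2306))
 (.node (nat_lit 0x370c4205c81) (.leaf (nat_lit 0x370c41b6367) (nat_lit 3072))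
 (.leaf (nat_lit 0x370c4205c81) (nat_lit 2562))
)) (.node (nat_lit 0x37129909c57) (.leaf (nat_lit 0x37120a0595d) (nat_lit 2305))
 (.node (nat_lit 0x37c1911b070) (.leaf (nat_lit 0x37129909c57) (nat_lit 3073))
 (.leaf (nat_lit 0x37c1911b070) (nat_lit 3074))
)))) (.node (nat_lit 0x37cc51ba254) (.node (nat_lit 0x37c21199c3a) (.node (nat_lit 0x37c21025855) (.leaf (nat_lit 0x37c191a811d) (nat_lit 2561))
 (.leaf (nat_lit 0x37c21025855) (nat_lit 3073))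
) (.node (nat_lit 0x37cb1c0c870) (.leaf (nat_lit 0x37c21199c3a) (nat_lit 2817))
 (.node (nat_lit 0x37cbc5d143a) (.leaf (nat_lit 0x37cb1c0c870) (nat_lit 2817))
 (.leaf (nat_lit 0x37cbc5d143a) (nat_lit 2562))
))) (.node (nat_lit 0x37cff1e9a7b) (.node (nat_lit 0x37cc51cba7b) (.leaf (nat_lit 0x37cc51ba254) (nat_lit 3073))
 (.node (nat_lit 0x37cff00c90d) (.leaf (nat_lit 0x37cc51cba7b) (nat_lit 2816))
 (.leaf (nat_lit 0x37cff00c90d) (nat_lit 2816))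
)) (.node (nat_lit 0x37d1851f3be) (.leaf (nat_lit 0x37cff1e9a7b) (nat_lit 3329))
 (.node (nat_lit 0x37d186644e9) (.leaf (nat_lit 0x37d1851f3be) (nat_lit 2050))
 (.leaf (nat_lit 0x37d186644e9) (nat_lit 3073))
))))) (.node (nat_lit 0x3809a4b7c5a) (.node (nat_lit 0x380215244fc) (.node (nat_lit 0x37d36c77055) (.node (nat_lit 0x37d2e8ccbbe) (.leaf (nat_lit 0x37d2ac63a69) (nat_lit 3328))
 (.leaf (nat_lit 0x37d2e8ccbbe) (nat_lit 3328))
) (.node (nat_lit 0x3800e5564b5) (.leaf (nat_lit 0x37d36c77055) (nat_lit 2561))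
 (.node (nat_lit 0x3800e619c78) (.leaf (nat_lit 0x3800e5564b5) (nat_lit 3073))
 (.leaf (nat_lit 0x3800e619c78) (nat_lit 768))
))) (.node (nat_lit 0x380809564b5) (.node (nat_lit 0x3802c0b7bca) (.leaf (nat_lit 0x380215244fc) (nat_lit 3328))
 (.node (nat_lit 0x3802e0f2acf) (.leaf (nat_lit 0x3802c0b7bca) (nat_lit 2050))
 (.leaf (nat_lit 0x3802e0f2acf) (nat_lit 2818))
)) (.node (nat_lit 0x3808d5244fc) (.leaf (nat_lit 0x380809564b5) (nat_lit 3073))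
 (.node (nat_lit 0x380900b7c5a) (.leaf (nat_lit 0x3808d5244fc) (nat_lit 1281))
 (.leaf (nat_lit 0x380900b7c5a) (nat_lit 2562))
)))) (.node (nat_lit 0x381354f2ce5) (.node (nat_lit 0x380d05242f5) (.node (nat_lit 0x380b08f2ce5) (.leaf (nat_lit 0x3809a4b7c5a) (nat_lit 2817))
 (.node (nat_lit 0x380b8d5652d) (.leaf (nat_lit 0x380b08f2ce5) (nat_lit 2306))
 (.leaf (nat_lit 0x380b8d5652d) (nat_lit 2818))
)) (.node (nat_lit 0x380d8219a9e) (.leaf (nat_lit 0x380d05242f5) (nat_lit 3072))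
 (.node (nat_lit 0x3811f219a9e) (.leaf (nat_lit 0x380d8219a9e) (nat_lit 1793))
 (.leaf (nat_lit 0x3811f219a9e) (nat_lit 3328))
))) (.node (nat_lit 0x3821463127b) (.node (nat_lit 0x3820e5d7d21) (.leaf (nat_lit 0x381354f2ce5) (nat_lit 3073))
 (.node (nat_lit 0x3820e5ef367) (.leaf (nat_lit 0x3820e5d7d21) (nat_lit 3329))
 (.leaf (nat_lit 0x3820e5ef367) (nat_lit 2562))
)) (.node (nat_lit 0x3823800f06e) (.leaf (nat_lit 0x3821463127b) (nat_lit 2305))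
 (.node (nat_lit 0x38248da2d21) (.leaf (nat_lit 0x3823800f06e) (nat_lit 3330))
 (.leaf (nat_lit 0x38248da2d21) (nat_lit 2306))
)))))) (.node (nat_lit 0x385368b4505) (.node (nat_lit 0x38425dab91c) (.node (nat_lit 0x3832d11c90b) (.node (nat_lit 0x382da40c8c3) (.node (nat_lit 0x382abcbb203) (.leaf (nat_lit 0x3829c8a827b) (nat_lit 2817))
 (.leaf (nat_lit 0x382abcbb203) (nat_lit 3074))
) (.node (nat_lit 0x38307551a9f) (.leaf (nat_lit 0x382da40c8c3) (nat_lit 2817))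
 (.node (nat_lit 0x383159d1a9f) (.leaf (nat_lit 0x38307551a9f) (nat_lit 2306))
 (.leaf (nat_lit 0x383159d1a9f) (nat_lit 2562))
))) (.node (nat_lit 0x3835a020a35) (.node (nat_lit 0x3833f40ca35) (.leaf (nat_lit 0x3832d11c90b) (nat_lit 3330))
 (.node (nat_lit 0x3834f84410b) (.leaf (nat_lit 0x3833f40ca35) (nat_lit 2561))
 (.leaf (nat_lit 0x3834f84410b) (nat_lit 3328))
)) (.node (nat_lit 0x3835ed96d03) (.leaf (nat_lit 0x3835a020a35) (nat_lit 3329))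
 (.node (nat_lit 0x38425ca5c1f) (.leaf (nat_lit 0x3835ed96d03) (nat_lit 2818))
 (.leaf (nat_lit 0x38425ca5c1f) (nat_lit 3072))
)))) (.node (nat_lit 0x384b19e941f) (.node (nat_lit 0x384969174fd) (.node (nat_lit 0x3849684410b) (.leaf (nat_lit 0x38425dab91c) (nat_lit 2305))
 (.leaf (nat_lit 0x3849684410b) (nat_lit 3329))
) (.node (nat_lit 0x384ae80ca67) (.leaf (nat_lit 0x384969174fd) (nat_lit 2048))
 (.node (nat_lit 0x384ae83eca9) (.leaf (nat_lit 0x384ae80ca67) (nat_lit 2818))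
 (.leaf (nat_lit 0x384ae83eca9) (nat_lit 2050))
))) (.node (nat_lit 0x38506a02a50) (.node (nat_lit 0x384bc22997a) (.leaf (nat_lit 0x384b19e941f) (nat_lit 3074))
 (.node (nat_lit 0x385068fb4fd) (.leaf (nat_lit 0x384bc22997a) (nat_lit 2304))
 (.leaf (nat_lit 0x385068fb4fd) (nat_lit 2817))
)) (.node (nat_lit 0x38529c894a9) (.leaf (nat_lit 0x38506a02a50) (nat_lit 2816))
 (.node (nat_lit 0x3852e0bb4e7) (.leaf (nat_lit 0x38529c894a9) (nat_lit 3072))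
 (.leaf (nat_lit 0x3852e0bb4e7) (nat_lit 3072))
))))) (.node (nat_lit 0x38cbc5bdc7e) (.node (nat_lit 0x38c400a1277) (.node (nat_lit 0x3853ae6397a) (.node (nat_lit 0x3853ac0cd05) (.leaf (nat_lit 0x385368b4505) (nat_lit 2816))
 (.leaf (nat_lit 0x3853ac0cd05) (nat_lit 2304))
) (.node (nat_lit 0x38c34dcc8fc) (.leaf (nat_lit 0x3853ae6397a) (nat_lit 3329))
 (.node (nat_lit 0x38c34e6e17f) (.leaf (nat_lit 0x38c34dcc8fc) (nat_lit 3073))
 (.leaf (nat_lit 0x38c34e6e17f) (nat_lit 2818))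
))) (.node (nat_lit 0x38cacdcc8a4) (.node (nat_lit 0x38c964a1277) (.leaf (nat_lit 0x38c400a1277) (nat_lit 2817))
 (.node (nat_lit 0x38c965358e6) (.leaf (nat_lit 0x38c964a1277) (nat_lit 3073))
 (.leaf (nat_lit 0x38c965358e6) (nat_lit 3073))
)) (.node (nat_lit 0x38cb1df38a4) (.leaf (nat_lit 0x38cacdcc8a4) (nat_lit 3330))
 (.node (nat_lit 0x38cb1e1805f) (.leaf (nat_lit 0x38cb1df38a4) (nat_lit 3073))
 (.leaf (nat_lit 0x38cb1e1805f) (nat_lit 2560))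
)))) (.node (nat_lit 0x38d5963a47e) (.node (nat_lit 0x38d06e18161) (.node (nat_lit 0x38cc51c717f) (.leaf (nat_lit 0x38cbc5bdc7e) (nat_lit 2817))
 (.node (nat_lit 0x38cc51c727b) (.leaf (nat_lit 0x38cc51c717f) (nat_lit 2817))
 (.leaf (nat_lit 0x38cc51c727b) (nat_lit 2561))
)) (.node (nat_lit 0x38d1863a4b4) (.leaf (nat_lit 0x38d06e18161) (nat_lit 2817))
 (.node (nat_lit 0x38d595b6961) (.leaf (nat_lit 0x38d1863a4b4) (nat_lit 3329))
 (.leaf (nat_lit 0x38d595b6961) (nat_lit 3328))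
))) (.node (nat_lit 0x38e20c48d6a) (.node (nat_lit 0x38e04848d6a) (.leaf (nat_lit 0x38d5963a47e) (nat_lit 3330))
 (.node (nat_lit 0x38e049ea8fd) (.leaf (nat_lit 0x38e04848d6a) (nat_lit 2816))
 (.leaf (nat_lit 0x38e049ea8fd) (nat_lit 3330))
)) (.node (nat_lit 0x38e20dc4a82) (.leaf (nat_lit 0x38e20c48d6a) (nat_lit 3329))
 (.node (nat_lit 0x38e25ddc060) (.leaf (nat_lit 0x38e20dc4a82) (nat_lit 2561))
 (.leaf (nat_lit 0x38e25ddc060) (nat_lit 2048))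
))))))) (.node (nat_lit 0x3949c9cfbbe) (.node (nat_lit 0x390c640c98b) (.node (nat_lit 0x3900e4f22ce) (.node (nat_lit 0x38ebc1bd201) (.node (nat_lit 0x38eaf110a50) (.node (nat_lit 0x38e3fd350e5) (.leaf (nat_lit 0x38e25ddc4d9) (nat_lit 3329))
 (.leaf (nat_lit 0x38e3fd350e5) (nat_lit 3330))
) (.node (nat_lit 0x38eaf1eaa01) (.leaf (nat_lit 0x38eaf110a50) (nat_lit 2818))
 (.node (nat_lit 0x38eb066ecd9) (.leaf (nat_lit 0x38eaf1eaa01) (nat_lit 3329))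
 (.leaf (nat_lit 0x38eb066ecd9) (nat_lit 2816))
))) (.node (nat_lit 0x38f2e110cb3) (.node (nat_lit 0x38f069f3250) (.leaf (nat_lit 0x38ebc1bd201) (nat_lit 2561))
 (.node (nat_lit 0x38f181b643a) (.leaf (nat_lit 0x38f069f3250) (nat_lit 3073))
 (.leaf (nat_lit 0x38f181b643a) (nat_lit 3330))
)) (.node (nat_lit 0x38f2e1c4c3a) (.leaf (nat_lit 0x38f2e110cb3) (nat_lit 3073))
 (.node (nat_lit 0x3900e40c92f) (.leaf (nat_lit 0x38f2e1c4c3a) (nat_lit 3073))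
 (.leaf (nat_lit 0x3900e40c92f) (nat_lit 2048))
)))) (.node (nat_lit 0x3906040c92f) (.node (nat_lit 0x3901780c98b) (.node (nat_lit 0x3900f9252f4) (.leaf (nat_lit 0x3900e4f22ce) (nat_lit 3073))
 (.leaf (nat_lit 0x3900f9252f4) (nat_lit 3074))
) (.node (nat_lit 0x3901940c857) (.leaf (nat_lit 0x3901780c98b) (nat_lit 2049))
 (.node (nat_lit 0x39037c0c917) (.leaf (nat_lit 0x3901940c857) (nat_lit 2816))
 (.leaf (nat_lit 0x39037c0c917) (nat_lit 2560))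
))) (.node (nat_lit 0x390a200cac8) (.node (nat_lit 0x3906721a476) (.leaf (nat_lit 0x3906040c92f) (nat_lit 2817))
 (.node (nat_lit 0x3907580c917) (.leaf (nat_lit 0x3906721a476) (nat_lit 514))
 (.leaf (nat_lit 0x3907580c917) (nat_lit 2562))
)) (.node (nat_lit 0x390abcb73cb) (.leaf (nat_lit 0x390a200cac8) (nat_lit 2560))
 (.node (nat_lit 0x390b0c0c857) (.leaf (nat_lit 0x390abcb73cb) (nat_lit 3073))
 (.leaf (nat_lit 0x390b0c0c857) (nat_lit 2817))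
))))) (.node (nat_lit 0x392b90f5c81) (.node (nat_lit 0x3922b181d02) (.node (nat_lit 0x3913bd56d2c) (.node (nat_lit 0x3911500cac8) (.leaf (nat_lit 0x390c640c98b) (nat_lit 2818))
 (.leaf (nat_lit 0x3911500cac8) (nat_lit 2562))
) (.node (nat_lit 0x3920e445306) (.leaf (nat_lit 0x3913bd56d2c) (nat_lit 2048))
 (.node (nat_lit 0x3920e4770c1) (.leaf (nat_lit 0x3920e445306) (nat_lit 3073))
 (.leaf (nat_lit 0x3920e4770c1) (nat_lit 3329))
))) (.node (nat_lit 0x3929e00cb06) (.node (nat_lit 0x3922c0cca01) (.leaf (nat_lit 0x3922b181d02) (nat_lit 3072))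
 (.node (nat_lit 0x3929b8ddc81) (.leaf (nat_lit 0x3922c0cca01) (nat_lit 3073))
 (.leaf (nat_lit 0x3929b8ddc81) (nat_lit 2562))
)) (.node (nat_lit 0x392b25ab366) (.leaf (nat_lit 0x3929e00cb06) (nat_lit 2817))
 (.node (nat_lit 0x392b51a1d74) (.leaf (nat_lit 0x392b25ab366) (nat_lit 2818))
 (.leaf (nat_lit 0x392b51a1d74) (nat_lit 1025))
)))) (.node (nat_lit 0x3933fdd2d74) (.node (nat_lit 0x3931fc5b2b8) (.node (nat_lit 0x392ba05eab8) (.leaf (nat_lit 0x392b90f5c81) (nat_lit 2817))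
 (.node (nat_lit 0x3930e513275) (.leaf (nat_lit 0x392ba05eab8) (nat_lit 3328))
 (.leaf (nat_lit 0x3930e513275) (nat_lit 2561))
)) (.node (nat_lit 0x3932ce09275) (.leaf (nat_lit 0x3931fc5b2b8) (nat_lit 2817))
 (.node (nat_lit 0x39338c0c870) (.leaf (nat_lit 0x3932ce09275) (nat_lit 2818))
 (.leaf (nat_lit 0x39338c0c870) (nat_lit 3330))
))) (.node (nat_lit 0x394175cface) (.node (nat_lit 0x3940e5e1ace) (.leaf (nat_lit 0x3933fdd2d74) (nat_lit 2817))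
 (.node (nat_lit 0x3940e5fd25d) (.leaf (nat_lit 0x3940e5e1ace) (nat_lit 2818))
 (.leaf (nat_lit 0x3940e5fd25d) (nat_lit 2561))
)) (.node (nat_lit 0x39480cf0c5a) (.leaf (nat_lit 0x394175cface) (nat_lit 2818))
 (.node (nat_lit 0x3949a1dda95) (.leaf (nat_lit 0x39480cf0c5a) (nat_lit 3328))
 (.leaf (nat_lit 0x3949a1dda95) (nat_lit 2818))
)))))) (.node (nat_lit 0x39747d3590b) (.node (nat_lit 0x3960e5cc502) (.node (nat_lit 0x394fd048d6a) (.node (nat_lit 0x394a3cdba95) (.node (nat_lit 0x3949e1760bb) (.leaf (nat_lit 0x3949c9cfbbe) (nat_lit 3073))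
 (.leaf (nat_lit 0x3949e1760bb) (nat_lit 1793))
) (.node (nat_lit 0x394ac1dda7f) (.leaf (nat_lit 0x394a3cdba95) (nat_lit 3074))
 (.node (nat_lit 0x394b8ea825d) (.leaf (nat_lit 0x394ac1dda7f) (nat_lit 3074))
 (.leaf (nat_lit 0x394b8ea825d) (nat_lit 2816))
))) (.node (nat_lit 0x39552e224d5) (.node (nat_lit 0x3953bdfd29f) (.leaf (nat_lit 0x394fd048d6a) (nat_lit 2817))
 (.node (nat_lit 0x3954322245a) (.leaf (nat_lit 0x3953bdfd29f) (nat_lit 2817))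
 (.leaf (nat_lit 0x3954322245a) (nat_lit 3074))
)) (.node (nat_lit 0x395575760bb) (.leaf (nat_lit 0x39552e224d5) (nat_lit 2562))
 (.node (nat_lit 0x3960e4da27a) (.leaf (nat_lit 0x395575760bb) (nat_lit 3584))
 (.leaf (nat_lit 0x3960e4da27a) (nat_lit 2816))
)))) (.node (nat_lit 0x396aee5ed02) (.node (nat_lit 0x3965d0f04d6) (.node (nat_lit 0x3962c04956d) (.leaf (nat_lit 0x3960e5cc502) (nat_lit 3073))
 (.leaf (nat_lit 0x3962c04956d) (nat_lit 2817))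
) (.node (nat_lit 0x39660613530) (.leaf (nat_lit 0x3965d0f04d6) (nat_lit 3073))
 (.node (nat_lit 0x3969d5cc43a) (.leaf (nat_lit 0x39660613530) (nat_lit 2305))
 (.leaf (nat_lit 0x3969d5cc43a) (nat_lit 3329))
))) (.node (nat_lit 0x3973953590b) (.node (nat_lit 0x3972ee5e85f) (.leaf (nat_lit 0x396aee5ed02) (nat_lit 3586))
 (.node (nat_lit 0x3973861305f) (.leaf (nat_lit 0x3972ee5e85f) (nat_lit 3073))
 (.leaf (nat_lit 0x3973861305f) (nat_lit 2818))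
)) (.node (nat_lit 0x3973f5e23c0) (.leaf (nat_lit 0x3973953590b) (nat_lit 3072))
 (.node (nat_lit 0x3974597e530) (.leaf (nat_lit 0x3973f5e23c0) (nat_lit 2562))
 (.leaf (nat_lit 0x3974597e530) (nat_lit 2818))
))))) (.node (nat_lit 0x398c11f8ac5) (.node (nat_lit 0x39838264502) (.node (nat_lit 0x3975557e43a) (.node (nat_lit 0x39752aa929e) (.leaf (nat_lit 0x39747d3590b) (nat_lit 3330))
 (.leaf (nat_lit 0x39752aa929e) (nat_lit 2305))
) (.node (nat_lit 0x3980e51c8c1) (.leaf (nat_lit 0x3975557e43a) (nat_lit 3074))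
 (.node (nat_lit 0x3980e629519) (.leaf (nat_lit 0x3980e51c8c1) (nat_lit 3073))
 (.leaf (nat_lit 0x3980e629519) (nat_lit 3330))
))) (.node (nat_lit 0x3989f40c870) (.node (nat_lit 0x39838def94e) (.leaf (nat_lit 0x39838264502) (nat_lit 2817))
 (.node (nat_lit 0x3989511ba4d) (.leaf (nat_lit 0x39838def94e) (nat_lit 2817))
 (.leaf (nat_lit 0x3989511ba4d) (nat_lit 3073))
)) (.node (nat_lit 0x398a3e63519) (.leaf (nat_lit 0x3989f40c870) (nat_lit 2816))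
 (.node (nat_lit 0x398b51cf4f5) (.leaf (nat_lit 0x398a3e63519) (nat_lit 2817))
 (.leaf (nat_lit 0x398b51cf4f5) (nat_lit 2817))
)))) (.node (nat_lit 0x3995d9e14f5) (.node (nat_lit 0x3993580f24d) (.node (nat_lit 0x398d840c91e) (.leaf (nat_lit 0x398c11f8ac5) (nat_lit 2305))
 (.node (nat_lit 0x39924958ac5) (.leaf (nat_lit 0x398d840c91e) (nat_lit 3072))
 (.leaf (nat_lit 0x39924958ac5) (nat_lit 2562))
)) (.node (nat_lit 0x3993b08411e) (.leaf (nat_lit 0x3993580f24d) (nat_lit 1792))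
 (.node (nat_lit 0x399554ff201) (.leaf (nat_lit 0x3993b08411e) (nat_lit 2816))
 (.leaf (nat_lit 0x399554ff201) (nat_lit 3585))
))) (.node (nat_lit 0x39a1ed99d03) (.node (nat_lit 0x39a0e45b06e) (.leaf (nat_lit 0x3995d9e14f5) (nat_lit 2817))
 (.node (nat_lit 0x39a0e5a84d9) (.leaf (nat_lit 0x39a0e45b06e) (nat_lit 3329))
 (.leaf (nat_lit 0x39a0e5a84d9) (nat_lit 2817))
)) (.node (nat_lit 0x39a2bd9b3be) (.leaf (nat_lit 0x39a1ed99d03) (nat_lit 1793))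
 (.node (nat_lit 0x39a48ddacd9) (.leaf (nat_lit 0x39a2bd9b3be) (nat_lit 2562))
 (.leaf (nat_lit 0x39a48ddacd9) (nat_lit 2561))
)))))))) (.node (nat_lit 0x3c29f5f24a0) (.node (nat_lit 0x3b434ca4271) (.node (nat_lit 0x3b1165768ba) (.node (nat_lit 0x3b00e6a852c) (.node (nat_lit 0x39b2edab954) (.node (nat_lit 0x39a9403b886) (.node (nat_lit 0x39a745ce85f) (.leaf (nat_lit 0x39a5fdd53be) (nat_lit 2304))
 (.leaf (nat_lit 0x39a745ce85f) (nat_lit 2818))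
) (.node (nat_lit 0x39a9ec77086) (.leaf (nat_lit 0x39a9403b886) (nat_lit 3073))
 (.node (nat_lit 0x39ab0888a67) (.leaf (nat_lit 0x39a9ec77086) (nat_lit 2817))
 (.leaf (nat_lit 0x39ab0888a67) (nat_lit 3072))
))) (.node (nat_lit 0x39b4adc185f) (.node (nat_lit 0x39b3fc0c8c3) (.leaf (nat_lit 0x39b2edab954) (nat_lit 2562))
 (.node (nat_lit 0x39b41aa0203) (.leaf (nat_lit 0x39b3fc0c8c3) (nat_lit 2817))
 (.leaf (nat_lit 0x39b41aa0203) (nat_lit 3329))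
)) (.node (nat_lit 0x39b52c0ca67) (.leaf (nat_lit 0x39b4adc185f) (nat_lit 2816))
 (.node (nat_lit 0x3b00e644bd1) (.leaf (nat_lit 0x39b52c0ca67) (nat_lit 2305))
 (.leaf (nat_lit 0x3b00e644bd1) (nat_lit 3330))
)))) (.node (nat_lit 0x3b09e112295) (.node (nat_lit 0x3b042d0ea76) (.node (nat_lit 0x3b013c0802c) (.leaf (nat_lit 0x3b00e6a852c) (nat_lit 2560))
 (.leaf (nat_lit 0x3b013c0802c) (nat_lit 2561))
) (.node (nat_lit 0x3b0584d386a) (.leaf (nat_lit 0x3b042d0ea76) (nat_lit 3073))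
 (.node (nat_lit 0x3b08d10ed69) (.leaf (nat_lit 0x3b0584d386a) (nat_lit 2817))
 (.leaf (nat_lit 0x3b08d10ed69) (nat_lit 2562))
))) (.node (nat_lit 0x3b0b2cd3a9e) (.node (nat_lit 0x3b0aa0f0295) (.leaf (nat_lit 0x3b09e112295) (nat_lit 3329))
 (.node (nat_lit 0x3b0abc0802c) (.leaf (nat_lit 0x3b0aa0f0295) (nat_lit 3074))
 (.leaf (nat_lit 0x3b0abc0802c) (nat_lit 2817))
)) (.node (nat_lit 0x3b0d05c4a9e) (.leaf (nat_lit 0x3b0b2cd3a9e) (nat_lit 1281))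
 (.node (nat_lit 0x3b106644d2c) (.leaf (nat_lit 0x3b0d05c4a9e) (nat_lit 2048))
 (.leaf (nat_lit 0x3b106644d2c) (nat_lit 2817))
))))) (.node (nat_lit 0x3b2c2513cfc) (.node (nat_lit 0x3b2140f7575) (.node (nat_lit 0x3b13c4f04fd) (.node (nat_lit 0x3b1214f8276) (.leaf (nat_lit 0x3b1165768ba) (nat_lit 3585))
 (.leaf (nat_lit 0x3b1214f8276) (nat_lit 2816))
) (.node (nat_lit 0x3b20e5f3d75) (.leaf (nat_lit 0x3b13c4f04fd) (nat_lit 2817))
 (.node (nat_lit 0x3b20e638aeb) (.leaf (nat_lit 0x3b20e5f3d75) (nat_lit 2562))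
 (.leaf (nat_lit 0x3b20e638aeb) (nat_lit 3330))
))) (.node (nat_lit 0x3b291cf741f) (.node (nat_lit 0x3b26049f41f) (.leaf (nat_lit 0x3b2140f7575) (nat_lit 3074))
 (.node (nat_lit 0x3b2901c4065) (.leaf (nat_lit 0x3b26049f41f) (nat_lit 2817))
 (.leaf (nat_lit 0x3b2901c4065) (nat_lit 3074))
)) (.node (nat_lit 0x3b2959760bb) (.leaf (nat_lit 0x3b291cf741f) (nat_lit 2305))
 (.node (nat_lit 0x3b29c89f254) (.leaf (nat_lit 0x3b2959760bb) (nat_lit 2817))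
 (.leaf (nat_lit 0x3b29c89f254) (nat_lit 3329))
)))) (.node (nat_lit 0x3b334df3d72) (.node (nat_lit 0x3b2f2e13254) (.node (nat_lit 0x3b2d2638aeb) (.leaf (nat_lit 0x3b2c2513cfc) (nat_lit 2817))
 (.node (nat_lit 0x3b2e0a13572) (.leaf (nat_lit 0x3b2d2638aeb) (nat_lit 1537))
 (.leaf (nat_lit 0x3b2e0a13572) (nat_lit 2818))
)) (.node (nat_lit 0x3b3062a93d0) (.leaf (nat_lit 0x3b2f2e13254) (nat_lit 2818))
 (.node (nat_lit 0x3b30e4f8d68) (.leaf (nat_lit 0x3b3062a93d0) (nat_lit 3072))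
 (.leaf (nat_lit 0x3b30e4f8d68) (nat_lit 3328))
))) (.node (nat_lit 0x3b41900c845) (.node (nat_lit 0x3b404425886) (.leaf (nat_lit 0x3b334df3d72) (nat_lit 2048))
 (.node (nat_lit 0x3b4045bcb09) (.leaf (nat_lit 0x3b404425886) (nat_lit 3073))
 (.leaf (nat_lit 0x3b4045bcb09) (nat_lit 3074))
)) (.node (nat_lit 0x3b4191d1362) (.leaf (nat_lit 0x3b41900c845) (nat_lit 2818))
 (.node (nat_lit 0x3b42605f045) (.leaf (nat_lit 0x3b4191d1362) (nat_lit 2818))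
 (.leaf (nat_lit 0x3b42605f045) (nat_lit 2560))
)))))) (.node (nat_lit 0x3b92e0b2a34) (.node (nat_lit 0x3b8346bea01) (.node (nat_lit 0x3b51840ca35) (.node (nat_lit 0x3b4b4dd950d) (.node (nat_lit 0x3b4b4cd4bf5) (.leaf (nat_lit 0x3b434ca4271) (nat_lit 2562))
 (.leaf (nat_lit 0x3b4b4cd4bf5) (nat_lit 2049))
) (.node (nat_lit 0x3b4bc4213f5) (.leaf (nat_lit 0x3b4b4dd950d) (nat_lit 2562))
 (.node (nat_lit 0x3b4bc694c3a) (.leaf (nat_lit 0x3b4bc4213f5) (nat_lit 2818))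
 (.leaf (nat_lit 0x3b4bc694c3a) (nat_lit 2050))
))) (.node (nat_lit 0x3b5594dda71) (.node (nat_lit 0x3b519235309) (.leaf (nat_lit 0x3b51840ca35) (nat_lit 2049))
 (.node (nat_lit 0x3b536cf1549) (.leaf (nat_lit 0x3b519235309) (nat_lit 2560))
 (.leaf (nat_lit 0x3b536cf1549) (nat_lit 2818))
)) (.node (nat_lit 0x3b5594eed49) (.leaf (nat_lit 0x3b5594dda71) (nat_lit 3072))
 (.node (nat_lit 0x3b825c10b1f) (.leaf (nat_lit 0x3b5594eed49) (nat_lit 2305))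
 (.leaf (nat_lit 0x3b825c10b1f) (nat_lit 2818))
)))) (.node (nat_lit 0x3b8b040cb1f) (.node (nat_lit 0x3b84850e50c) (.node (nat_lit 0x3b84847710b) (.leaf (nat_lit 0x3b8346bea01) (nat_lit 1794))
 (.leaf (nat_lit 0x3b84847710b) (nat_lit 2816))
) (.node (nat_lit 0x3b8968f5c39) (.leaf (nat_lit 0x3b84850e50c) (nat_lit 2562))
 (.node (nat_lit 0x3b89691c90b) (.leaf (nat_lit 0x3b8968f5c39) (nat_lit 2305))
 (.leaf (nat_lit 0x3b89691c90b) (nat_lit 1793))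
))) (.node (nat_lit 0x3b8fedefa01) (.node (nat_lit 0x3b8b061db64) (.leaf (nat_lit 0x3b8b040cb1f) (nat_lit 3329))
 (.node (nat_lit 0x3b8fedd53be) (.leaf (nat_lit 0x3b8b061db64) (nat_lit 3074))
 (.leaf (nat_lit 0x3b8fedd53be) (nat_lit 2306))
)) (.node (nat_lit 0x3b9182090fc) (.leaf (nat_lit 0x3b8fedefa01) (nat_lit 2562))
 (.node (nat_lit 0x3b91940c885) (.leaf (nat_lit 0x3b9182090fc) (nat_lit 2561))
 (.leaf (nat_lit 0x3b91940c885) (nat_lit 3072))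
))))) (.node (nat_lit 0x3c09d0e5309) (.node (nat_lit 0x3c01aa6050c) (.node (nat_lit 0x3b93691f3be) (.node (nat_lit 0x3b92e1bc0fc) (.leaf (nat_lit 0x3b92e0b2a34) (nat_lit 2816))
 (.leaf (nat_lit 0x3b92e1bc0fc) (nat_lit 3329))
) (.node (nat_lit 0x3c00e4a14f4) (.leaf (nat_lit 0x3b93691f3be) (nat_lit 2817))
 (.node (nat_lit 0x3c00e69b4f4) (.leaf (nat_lit 0x3c00e4a14f4) (nat_lit 2562))
 (.leaf (nat_lit 0x3c00e69b4f4) (nat_lit 2817))
))) (.node (nat_lit 0x3c08063a4e4) (.node (nat_lit 0x3c0352182e2) (.leaf (nat_lit 0x3c01aa6050c) (nat_lit 2305))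
 (.node (nat_lit 0x3c05e95b975) (.leaf (nat_lit 0x3c0352182e2) (nat_lit 3073))
 (.leaf (nat_lit 0x3c05e95b975) (nat_lit 3073))
)) (.node (nat_lit 0x3c0905c754b) (.leaf (nat_lit 0x3c08063a4e4) (nat_lit 3072))
 (.node (nat_lit 0x3c093dc750c) (.leaf (nat_lit 0x3c0905c754b) (nat_lit 3329))
 (.leaf (nat_lit 0x3c093dc750c) (nat_lit 3072))
)))) (.node (nat_lit 0x3c13c23a4e4) (.node (nat_lit 0x3c116c53ca2) (.node (nat_lit 0x3c09ec53b09) (.leaf (nat_lit 0x3c09d0e5309) (nat_lit 2817))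
 (.node (nat_lit 0x3c0f0218175) (.leaf (nat_lit 0x3c09ec53b09) (nat_lit 1536))
 (.leaf (nat_lit 0x3c0f0218175) (nat_lit 2817))
)) (.node (nat_lit 0x3c12481ba61) (.leaf (nat_lit 0x3c116c53ca2) (nat_lit 769))
 (.node (nat_lit 0x3c13b8a1207) (.leaf (nat_lit 0x3c12481ba61) (nat_lit 2048))
 (.leaf (nat_lit 0x3c13b8a1207) (nat_lit 3585))
))) (.node (nat_lit 0x3c27442d0ea) (.node (nat_lit 0x3c20e4e5b22) (.leaf (nat_lit 0x3c13c23a4e4) (nat_lit 1793))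
 (.node (nat_lit 0x3c20e552b22) (.leaf (nat_lit 0x3c20e4e5b22) (nat_lit 2817))
 (.leaf (nat_lit 0x3c20e552b22) (nat_lit 3329))
)) (.node (nat_lit 0x3c275e612bd) (.leaf (nat_lit 0x3c27442d0ea) (nat_lit 2561))
 (.node (nat_lit 0x3c2900dad49) (.leaf (nat_lit 0x3c275e612bd) (nat_lit 3073))
 (.leaf (nat_lit 0x3c2900dad49) (nat_lit 2304))
))))))) (.node (nat_lit 0x3dcb042c8e8) (.node (nat_lit 0x3d10e89a851) (.node (nat_lit 0x3d00e40ca5f) (.node (nat_lit 0x3c2d00dacd8) (.node (nat_lit 0x3c2a39f24de) (.node (nat_lit 0x3c2a0d52a05) (.leaf (nat_lit 0x3c29f5f24a0) (nat_lit 1025))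
 (.leaf (nat_lit 0x3c2a0d52a05) (nat_lit 2305))
) (.node (nat_lit 0x3c2aa55acd8) (.leaf (nat_lit 0x3c2a39f24de) (nat_lit 2817))
 (.node (nat_lit 0x3c2ac01b263) (.leaf (nat_lit 0x3c2aa55acd8) (nat_lit 1024))
 (.leaf (nat_lit 0x3c2ac01b263) (nat_lit 2304))
))) (.node (nat_lit 0x3c335c2d0ea) (.node (nat_lit 0x3c3074fcae0) (.leaf (nat_lit 0x3c2d00dacd8) (nat_lit 3072))
 (.node (nat_lit 0x3c319cfcabd) (.leaf (nat_lit 0x3c3074fcae0) (nat_lit 3330))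
 (.leaf (nat_lit 0x3c319cfcabd) (nat_lit 2306))
)) (.node (nat_lit 0x3c34769bcde) (.leaf (nat_lit 0x3c335c2d0ea) (nat_lit 256))
 (.node (nat_lit 0x3d00b09eca9) (.leaf (nat_lit 0x3c34769bcde) (nat_lit 2305))
 (.leaf (nat_lit 0x3d00b09eca9) (nat_lit 3073))
)))) (.node (nat_lit 0x3d042db930e) (.node (nat_lit 0x3d0179ac9b0) (.node (nat_lit 0x3d00e68ac1e) (.leaf (nat_lit 0x3d00e40ca5f) (nat_lit 2818))
 (.leaf (nat_lit 0x3d00e68ac1e) (nat_lit 2818))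
) (.node (nat_lit 0x3d02ba9c54f) (.leaf (nat_lit 0x3d0179ac9b0) (nat_lit 3073))
 (.node (nat_lit 0x3d03745f25f) (.leaf (nat_lit 0x3d02ba9c54f) (nat_lit 3074))
 (.leaf (nat_lit 0x3d03745f25f) (nat_lit 3072))
))) (.node (nat_lit 0x3d0919f83d1) (.node (nat_lit 0x3d0601d23d1) (.leaf (nat_lit 0x3d042db930e) (nat_lit 3074))
 (.node (nat_lit 0x3d0902314e9) (.leaf (nat_lit 0x3d0601d23d1) (nat_lit 3072))
 (.leaf (nat_lit 0x3d0902314e9) (nat_lit 3328))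
)) (.node (nat_lit 0x3d09c463ca9) (.leaf (nat_lit 0x3d0919f83d1) (nat_lit 2817))
 (.node (nat_lit 0x3d09ddd14e9) (.leaf (nat_lit 0x3d09c463ca9) (nat_lit 3074))
 (.leaf (nat_lit 0x3d09ddd14e9) (nat_lit 3329))
))))) (.node (nat_lit 0x3d4d0631a89) (.node (nat_lit 0x3d438c89116) (.node (nat_lit 0x3d13f1e3b0e) (.node (nat_lit 0x3d134c0c917) (.leaf (nat_lit 0x3d10e89a851) (nat_lit 2817))
 (.leaf (nat_lit 0x3d134c0c917) (nat_lit 2818))
) (.node (nat_lit 0x3d40e46331d) (.leaf (nat_lit 0x3d13f1e3b0e) (nat_lit 3073))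
 (.node (nat_lit 0x3d40e6631b1) (.leaf (nat_lit 0x3d40e46331d) (nat_lit 3073))
 (.leaf (nat_lit 0x3d40e6631b1) (nat_lit 3330))
))) (.node (nat_lit 0x3d49c083b1d) (.node (nat_lit 0x3d4436a0bca) (.leaf (nat_lit 0x3d438c89116) (nat_lit 2305))
 (.node (nat_lit 0x3d493980a85) (.leaf (nat_lit 0x3d4436a0bca) (nat_lit 3072))
 (.leaf (nat_lit 0x3d493980a85) (nat_lit 3584))
)) (.node (nat_lit 0x3d4aeca5a85) (.leaf (nat_lit 0x3d49c083b1d) (nat_lit 3330))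
 (.node (nat_lit 0x3d4c643998b) (.leaf (nat_lit 0x3d4aeca5a85) (nat_lit 3073))
 (.leaf (nat_lit 0x3d4c643998b) (nat_lit 2561))
)))) (.node (nat_lit 0x3d5520ffa89) (.node (nat_lit 0x3d5165d954d) (.node (nat_lit 0x3d4db80c98b) (.leaf (nat_lit 0x3d4d0631a89) (nat_lit 3328))
 (.node (nat_lit 0x3d5061a1c1f) (.leaf (nat_lit 0x3d4db80c98b) (nat_lit 3073))
 (.leaf (nat_lit 0x3d5061a1c1f) (nat_lit 3073))
)) (.node (nat_lit 0x3d52cc0c84f) (.leaf (nat_lit 0x3d5165d954d) (nat_lit 2562))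
 (.node (nat_lit 0x3d53c4f13ca) (.leaf (nat_lit 0x3d52cc0c84f) (nat_lit 2817))
 (.leaf (nat_lit 0x3d53c4f13ca) (nat_lit 2562))
))) (.node (nat_lit 0x3dc1a42c8e8) (.node (nat_lit 0x3dc04848d6a) (.leaf (nat_lit 0x3d5520ffa89) (nat_lit 2818))
 (.node (nat_lit 0x3dc049c5554) (.leaf (nat_lit 0x3dc04848d6a) (nat_lit 1793))
 (.leaf (nat_lit 0x3dc049c5554) (nat_lit 1025))
)) (.node (nat_lit 0x3dc34636a74) (.leaf (nat_lit 0x3dc1a42c8e8) (nat_lit 1792))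
 (.node (nat_lit 0x3dc845ea570) (.leaf (nat_lit 0x3dc34636a74) (nat_lit 2817))
 (.leaf (nat_lit 0x3dc845ea570) (nat_lit 2306))
)))))) (.node (nat_lit 0x3df1869b250) (.node (nat_lit 0x3de34cec0fc) (.node (nat_lit 0x3dd2e1c54d5) (.node (nat_lit 0x3dcc58dad70) (.node (nat_lit 0x3dcb0611a7f) (.leaf (nat_lit 0x3dcb042c8e8) (nat_lit 2049))
 (.leaf (nat_lit 0x3dcb0611a7f) (nat_lit 2050))
) (.node (nat_lit 0x3dcc59ea53e) (.leaf (nat_lit 0x3dcc58dad70) (nat_lit 2817))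
 (.node (nat_lit 0x3dd06a11d1f) (.leaf (nat_lit 0x3dcc59ea53e) (nat_lit 2561))
 (.leaf (nat_lit 0x3dd06a11d1f) (nat_lit 2817))
))) (.node (nat_lit 0x3dd3acda274) (.node (nat_lit 0x3dd368da3be) (.leaf (nat_lit 0x3dd2e1c54d5) (nat_lit 3330))
 (.node (nat_lit 0x3dd369a6554) (.leaf (nat_lit 0x3dd368da3be) (nat_lit 2818))
 (.leaf (nat_lit 0x3dd369a6554) (nat_lit 2048))
)) (.node (nat_lit 0x3dd3ae22d1f) (.leaf (nat_lit 0x3dd3acda274) (nat_lit 3072))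
 (.node (nat_lit 0x3de1904f94e) (.leaf (nat_lit 0x3dd3ae22d1f) (nat_lit 3584))
 (.leaf (nat_lit 0x3de1904f94e) (nat_lit 2562))
)))) (.node (nat_lit 0x3deb1e2227a) (.node (nat_lit 0x3de838dc53f) (.node (nat_lit 0x3de4684f8fc) (.leaf (nat_lit 0x3de34cec0fc) (nat_lit 2561))
 (.node (nat_lit 0x3de46935855) (.leaf (nat_lit 0x3de4684f8fc) (nat_lit 2304))
 (.leaf (nat_lit 0x3de46935855) (nat_lit 3073))
)) (.node (nat_lit 0x3deae44956d) (.leaf (nat_lit 0x3de838dc53f) (nat_lit 2817))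
 (.node (nat_lit 0x3deae5c7d0d) (.leaf (nat_lit 0x3deae44956d) (nat_lit 2048))
 (.leaf (nat_lit 0x3deae5c7d0d) (nat_lit 2561))
))) (.node (nat_lit 0x3deb4e343c0) (.node (nat_lit 0x3deb1e9b14e) (.leaf (nat_lit 0x3deb1e2227a) (nat_lit 3073))
 (.node (nat_lit 0x3deb4cec50d) (.leaf (nat_lit 0x3deb1e9b14e) (nat_lit 2562))
 (.leaf (nat_lit 0x3deb4cec50d) (nat_lit 2305))
)) (.node (nat_lit 0x3df06d35855) (.leaf (nat_lit 0x3deb4e343c0) (nat_lit 2562))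
 (.node (nat_lit 0x3df185a6cd6) (.leaf (nat_lit 0x3df06d35855) (nat_lit 2817))
 (.leaf (nat_lit 0x3df185a6cd6) (nat_lit 3074))
))))) (.node (nat_lit 0x3e093c48d6a) (.node (nat_lit 0x3e0215c727b) (.node (nat_lit 0x3e00e4ecd02) (.node (nat_lit 0x3df2e9c7a50) (.leaf (nat_lit 0x3df1869b250) (nat_lit 2816))
 (.leaf (nat_lit 0x3df2e9c7a50) (nat_lit 3329))
) (.node (nat_lit 0x3e00e636d22) (.leaf (nat_lit 0x3e00e4ecd02) (nat_lit 2561))
 (.node (nat_lit 0x3e01ecdacd8) (.leaf (nat_lit 0x3e00e636d22) (nat_lit 1793))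
 (.leaf (nat_lit 0x3e01ecdacd8) (nat_lit 3074))
))) (.node (nat_lit 0x3e02e1a651b) (.node (nat_lit 0x3e02b622d32) (.leaf (nat_lit 0x3e0215c727b) (nat_lit 2817))
 (.node (nat_lit 0x3e02c0dace7) (.leaf (nat_lit 0x3e02b622d32) (nat_lit 3329))
 (.leaf (nat_lit 0x3e02c0dace7) (nat_lit 2306))
)) (.node (nat_lit 0x3e048da6502) (.leaf (nat_lit 0x3e02e1a651b) (nat_lit 3074))
 (.node (nat_lit 0x3e05d4504e7) (.leaf (nat_lit 0x3e048da6502) (nat_lit 3074))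
 (.leaf (nat_lit 0x3e05d4504e7) (nat_lit 2561))
)))) (.node (nat_lit 0x3e20e51551a) (.node (nat_lit 0x3e140622c98) (.node (nat_lit 0x3e0b0d35057) (.leaf (nat_lit 0x3e093c48d6a) (nat_lit 3328))
 (.node (nat_lit 0x3e135a36a7b) (.leaf (nat_lit 0x3e0b0d35057) (nat_lit 2816))
 (.leaf (nat_lit 0x3e135a36a7b) (nat_lit 2562))
)) (.node (nat_lit 0x3e141448d6a) (.leaf (nat_lit 0x3e140622c98) (nat_lit 3330))
 (.node (nat_lit 0x3e15769bc98) (.leaf (nat_lit 0x3e141448d6a) (nat_lit 2816))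
 (.leaf (nat_lit 0x3e15769bc98) (nat_lit 2818))
))) (.node (nat_lit 0x3e21a935855) (.node (nat_lit 0x3e20e666478) (.leaf (nat_lit 0x3e20e51551a) (nat_lit 3330))
 (.node (nat_lit 0x3e20f9c7cde) (.leaf (nat_lit 0x3e20e666478) (nat_lit 3074))
 (.leaf (nat_lit 0x3e20f9c7cde) (nat_lit 2817))
)) (.node (nat_lit 0x3e23826ecd9) (.leaf (nat_lit 0x3e21a935855) (nat_lit 3073))
 (.node (nat_lit 0x3e26225e342) (.leaf (nat_lit 0x3e23826ecd9) (nat_lit 3329))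
 (.leaf (nat_lit 0x3e26225e342) (nat_lit 2560))
))))))))) (.node (nat_lit 0x416acda98de) (.node (nat_lit 0x3f658cf6294) (.node (nat_lit 0x3ea759d2d7e) (.node (nat_lit 0x3e5314894e8) (.node (nat_lit 0x3e40fa31367) (.node (nat_lit 0x3e2c495ad30) (.node (nat_lit 0x3e29e29b392) (.node (nat_lit 0x3e29415ad4b) (.leaf (nat_lit 0x3e267666478) (nat_lit 3073))
 (.leaf (nat_lit 0x3e29415ad4b) (nat_lit 2562))
) (.node (nat_lit 0x3e29f66ecde) (.leaf (nat_lit 0x3e29e29b392) (nat_lit 2817))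
 (.node (nat_lit 0x3e2c125e521) (.leaf (nat_lit 0x3e29f66ecde) (nat_lit 2816))
 (.leaf (nat_lit 0x3e2c125e521) (nat_lit 2049))
))) (.node (nat_lit 0x3e3354ec54b) (.node (nat_lit 0x3e2db84fb42) (.leaf (nat_lit 0x3e2c495ad30) (nat_lit 2562))
 (.node (nat_lit 0x3e315115392) (.leaf (nat_lit 0x3e2db84fb42) (nat_lit 2562))
 (.leaf (nat_lit 0x3e315115392) (nat_lit 3072))
)) (.node (nat_lit 0x3e40e596455) (.leaf (nat_lit 0x3e3354ec54b) (nat_lit 2817))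
 (.node (nat_lit 0x3e40e629d75) (.leaf (nat_lit 0x3e40e596455) (nat_lit 3330))
 (.leaf (nat_lit 0x3e40e629d75) (nat_lit 2305))
)))) (.node (nat_lit 0x3e4b50e2184) (.node (nat_lit 0x3e442cb5241) (.node (nat_lit 0x3e4396a097a) (.leaf (nat_lit 0x3e40fa31367) (nat_lit 2818))
 (.leaf (nat_lit 0x3e4396a097a) (nat_lit 2561))
) (.node (nat_lit 0x3e4a11a9c55) (.leaf (nat_lit 0x3e442cb5241) (nat_lit 2817))
 (.node (nat_lit 0x3e4a6c17ab8) (.leaf (nat_lit 0x3e4a11a9c55) (nat_lit 2050))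
 (.leaf (nat_lit 0x3e4a6c17ab8) (nat_lit 2305))
))) (.node (nat_lit 0x3e50400f2b8) (.node (nat_lit 0x3e4d05bc0ef) (.leaf (nat_lit 0x3e4b50e2184) (nat_lit 3073))
 (.node (nat_lit 0x3e4da4ff984) (.leaf (nat_lit 0x3e4d05bc0ef) (nat_lit 2816))
 (.leaf (nat_lit 0x3e4da4ff984) (nat_lit 2562))
)) (.node (nat_lit 0x3e5061d8367) (.leaf (nat_lit 0x3e50400f2b8) (nat_lit 1025))
 (.node (nat_lit 0x3e51640ca5f) (.leaf (nat_lit 0x3e5061d8367) (nat_lit 3073))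
 (.leaf (nat_lit 0x3e51640ca5f) (nat_lit 2817))
))))) (.node (nat_lit 0x3e8640bb532) (.node (nat_lit 0x3e82968ac1e) (.node (nat_lit 0x3e80ec0c91e) (.node (nat_lit 0x3e53c00ca41) (.leaf (nat_lit 0x3e5314894e8) (nat_lit 3584))
 (.leaf (nat_lit 0x3e53c00ca41) (nat_lit 3072))
) (.node (nat_lit 0x3e80ee34c1e) (.leaf (nat_lit 0x3e80ec0c91e) (nat_lit 3329))
 (.node (nat_lit 0x3e80fdf89d3) (.leaf (nat_lit 0x3e80ee34c1e) (nat_lit 3073))
 (.leaf (nat_lit 0x3e80fdf89d3) (nat_lit 3329))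
))) (.node (nat_lit 0x3e83ddd7b90) (.node (nat_lit 0x3e83c8a0478) (.leaf (nat_lit 0x3e82968ac1e) (nat_lit 2816))
 (.node (nat_lit 0x3e83dda1c78) (.leaf (nat_lit 0x3e83c8a0478) (nat_lit 3074))
 (.leaf (nat_lit 0x3e83dda1c78) (nat_lit 1793))
)) (.node (nat_lit 0x3e846c0f2b8) (.leaf (nat_lit 0x3e83ddd7b90) (nat_lit 3330))
 (.node (nat_lit 0x3e846c632da) (.leaf (nat_lit 0x3e846c0f2b8) (nat_lit 3072))
 (.leaf (nat_lit 0x3e846c632da) (nat_lit 3330))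
)))) (.node (nat_lit 0x3ea0aa92269) (.node (nat_lit 0x3e8afc0c98b) (.node (nat_lit 0x3e8642a0a7c) (.leaf (nat_lit 0x3e8640bb532) (nat_lit 3072))
 (.node (nat_lit 0x3e885952532) (.leaf (nat_lit 0x3e8642a0a7c) (nat_lit 2305))
 (.leaf (nat_lit 0x3e885952532) (nat_lit 2562))
)) (.node (nat_lit 0x3e8afcb418b) (.leaf (nat_lit 0x3e8afc0c98b) (nat_lit 3072))
 (.node (nat_lit 0x3e8c809d2da) (.leaf (nat_lit 0x3e8afcb418b) (nat_lit 2561))
 (.leaf (nat_lit 0x3e8c809d2da) (nat_lit 3073))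
))) (.node (nat_lit 0x3ea149f8574) (.node (nat_lit 0x3ea0e50f0f0) (.leaf (nat_lit 0x3ea0aa92269) (nat_lit 2304))
 (.node (nat_lit 0x3ea0e5d954d) (.leaf (nat_lit 0x3ea0e50f0f0) (nat_lit 3074))
 (.leaf (nat_lit 0x3ea0e5d954d) (nat_lit 3072))
)) (.node (nat_lit 0x3ea2b85ea5e) (.leaf (nat_lit 0x3ea149f8574) (nat_lit 2305))
 (.node (nat_lit 0x3ea3769cd4d) (.leaf (nat_lit 0x3ea2b85ea5e) (nat_lit 3328))
 (.leaf (nat_lit 0x3ea3769cd4d) (nat_lit 2561))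
)))))) (.node (nat_lit 0x3f3550dba54) (.node (nat_lit 0x3f25d1cc8fc) (.node (nat_lit 0x3eaf280caaf) (.node (nat_lit 0x3ea9d8f6174) (.node (nat_lit 0x3ea9c83ea69) (.leaf (nat_lit 0x3ea759d2d7e) (nat_lit 1792))
 (.leaf (nat_lit 0x3ea9c83ea69) (nat_lit 3328))
) (.node (nat_lit 0x3eac39ac4fd) (.leaf (nat_lit 0x3ea9d8f6174) (nat_lit 3074))
 (.node (nat_lit 0x3eae000cce6) (.leaf (nat_lit 0x3eac39ac4fd) (nat_lit 3074))
 (.leaf (nat_lit 0x3eae000cce6) (nat_lit 2818))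
))) (.node (nat_lit 0x3eb471e3d7e) (.node (nat_lit 0x3eb0e465aaf) (.leaf (nat_lit 0x3eaf280caaf) (nat_lit 2818))
 (.node (nat_lit 0x3eb3c5174fd) (.leaf (nat_lit 0x3eb0e465aaf) (nat_lit 2561))
 (.leaf (nat_lit 0x3eb3c5174fd) (nat_lit 3072))
)) (.node (nat_lit 0x3f20e4f0b66) (.leaf (nat_lit 0x3eb471e3d7e) (nat_lit 1793))
 (.node (nat_lit 0x3f20e5e191d) (.leaf (nat_lit 0x3f20e4f0b66) (nat_lit 2561))
 (.leaf (nat_lit 0x3f20e5e191d) (nat_lit 3328))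
)))) (.node (nat_lit 0x3f2d26a837f) (.node (nat_lit 0x3f2a3d7f366) (.node (nat_lit 0x3f29d4f0ce9) (.leaf (nat_lit 0x3f25d1cc8fc) (nat_lit 3330))
 (.leaf (nat_lit 0x3f29d4f0ce9) (nat_lit 2561))
) (.node (nat_lit 0x3f2abc48d6a) (.leaf (nat_lit 0x3f2a3d7f366) (nat_lit 3584))
 (.node (nat_lit 0x3f2c4a13b62) (.leaf (nat_lit 0x3f2abc48d6a) (nat_lit 3073))
 (.leaf (nat_lit 0x3f2c4a13b62) (nat_lit 2049))
))) (.node (nat_lit 0x3f33f1e18fc) (.node (nat_lit 0x3f2fe53510d) (.leaf (nat_lit 0x3f2d26a837f) (nat_lit 3074))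
 (.node (nat_lit 0x3f32e65e521) (.leaf (nat_lit 0x3f2fe53510d) (nat_lit 3329))
 (.leaf (nat_lit 0x3f32e65e521) (nat_lit 2817))
)) (.node (nat_lit 0x3f341448d6a) (.leaf (nat_lit 0x3f33f1e18fc) (nat_lit 3329))
 (.node (nat_lit 0x3f345cdbb62) (.leaf (nat_lit 0x3f341448d6a) (nat_lit 2817))
 (.leaf (nat_lit 0x3f345cdbb62) (nat_lit 3073))
))))) (.node (nat_lit 0x3f49e050518) (.node (nat_lit 0x3f4580504e7) (.node (nat_lit 0x3f40e57e1b1) (.node (nat_lit 0x3f35eaa8521) (.leaf (nat_lit 0x3f3550dba54) (nat_lit 2304))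
 (.leaf (nat_lit 0x3f35eaa8521) (nat_lit 2561))
) (.node (nat_lit 0x3f40e5ee572) (.leaf (nat_lit 0x3f40e57e1b1) (nat_lit 1536))
 (.node (nat_lit 0x3f42ba1fb81) (.leaf (nat_lit 0x3f40e5ee572) (nat_lit 3328))
 (.leaf (nat_lit 0x3f42ba1fb81) (nat_lit 2818))
))) (.node (nat_lit 0x3f480dcc484) (.node (nat_lit 0x3f45d53590b) (.leaf (nat_lit 0x3f4580504e7) (nat_lit 3073))
 (.node (nat_lit 0x3f461e1f9b1) (.leaf (nat_lit 0x3f45d53590b) (nat_lit 3329))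
 (.leaf (nat_lit 0x3f461e1f9b1) (nat_lit 3074))
)) (.node (nat_lit 0x3f495a13572) (.leaf (nat_lit 0x3f480dcc484) (nat_lit 3330))
 (.node (nat_lit 0x3f49a1043d1) (.leaf (nat_lit 0x3f495a13572) (nat_lit 2817))
 (.leaf (nat_lit 0x3f49a1043d1) (nat_lit 2817))
)))) (.node (nat_lit 0x3f6101ab9d2) (.node (nat_lit 0x3f4aee5ed18) (.node (nat_lit 0x3f4a09f3484) (.leaf (nat_lit 0x3f49e050518) (nat_lit 3329))
 (.node (nat_lit 0x3f4a39ee11c) (.leaf (nat_lit 0x3f4a09f3484) (nat_lit 2818))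
 (.leaf (nat_lit 0x3f4a39ee11c) (nat_lit 3328))
)) (.node (nat_lit 0x3f4ba9043d1) (.leaf (nat_lit 0x3f4aee5ed18) (nat_lit 2561))
 (.node (nat_lit 0x3f51f5f3250) (.leaf (nat_lit 0x3f4ba9043d1) (nat_lit 2817))
 (.leaf (nat_lit 0x3f51f5f3250) (nat_lit 1792))
))) (.node (nat_lit 0x3f63d011119) (.node (nat_lit 0x3f62985b06e) (.leaf (nat_lit 0x3f6101ab9d2) (nat_lit 3329))
 (.node (nat_lit 0x3f63c694455) (.leaf (nat_lit 0x3f62985b06e) (nat_lit 3330))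
 (.leaf (nat_lit 0x3f63c694455) (nat_lit 3073))
)) (.node (nat_lit 0x3f63d09e4e6) (.leaf (nat_lit 0x3f63d011119) (nat_lit 3585))
 (.node (nat_lit 0x3f658ceeb92) (.leaf (nat_lit 0x3f63d09e4e6) (nat_lit 2817))
 (.leaf (nat_lit 0x3f658ceeb92) (nat_lit 3073))
))))))) (.node (nat_lit 0x410aea6e556) (.node (nat_lit 0x3f9298e325d) (.node (nat_lit 0x3f82942d0ea) (.node (nat_lit 0x3f6a4951c55) (.node (nat_lit 0x3f684180a85) (.node (nat_lit 0x3f68405e86e) (.leaf (nat_lit 0x3f658cf6294) (nat_lit 2049))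
 (.leaf (nat_lit 0x3f68405e86e) (nat_lit 2816))
) (.node (nat_lit 0x3f685c0cce6) (.leaf (nat_lit 0x3f684180a85) (nat_lit 2817))
 (.node (nat_lit 0x3f6a480cac8) (.leaf (nat_lit 0x3f685c0cce6) (nat_lit 2305))
 (.leaf (nat_lit 0x3f6a480cac8) (nat_lit 3330))
))) (.node (nat_lit 0x3f720d15cf5) (.node (nat_lit 0x3f6c8663a94) (.leaf (nat_lit 0x3f6a4951c55) (nat_lit 3328))
 (.node (nat_lit 0x3f720ce1cf5) (.leaf (nat_lit 0x3f6c8663a94) (nat_lit 2816))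
 (.leaf (nat_lit 0x3f720ce1cf5) (nat_lit 3329))
)) (.node (nat_lit 0x3f80ed50af5) (.leaf (nat_lit 0x3f720d15cf5) (nat_lit 3329))
 (.node (nat_lit 0x3f80ede1a7a) (.leaf (nat_lit 0x3f80ed50af5) (nat_lit 2050))
 (.leaf (nat_lit 0x3f80ede1a7a) (nat_lit 3073))
)))) (.node (nat_lit 0x3f85f2a93d0) (.node (nat_lit 0x3f834a22a5d) (.node (nat_lit 0x3f82944cc17) (.leaf (nat_lit 0x3f82942d0ea) (nat_lit 3072))
 (.leaf (nat_lit 0x3f82944cc17) (nat_lit 1793))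
) (.node (nat_lit 0x3f83c950a7a) (.leaf (nat_lit 0x3f834a22a5d) (nat_lit 2305))
 (.node (nat_lit 0x3f85884cc17) (.leaf (nat_lit 0x3f83c950a7a) (nat_lit 3072))
 (.leaf (nat_lit 0x3f85884cc17) (nat_lit 2561))
))) (.node (nat_lit 0x3f8a46443d0) (.node (nat_lit 0x3f8945a6a74) (.leaf (nat_lit 0x3f85f2a93d0) (nat_lit 3330))
 (.node (nat_lit 0x3f894687a74) (.leaf (nat_lit 0x3f8945a6a74) (nat_lit 3073))
 (.leaf (nat_lit 0x3f894687a74) (nat_lit 3074))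
)) (.node (nat_lit 0x3f8a46a952d) (.leaf (nat_lit 0x3f8a46443d0) (nat_lit 2560))
 (.node (nat_lit 0x3f8afda6acf) (.leaf (nat_lit 0x3f8a46a952d) (nat_lit 3072))
 (.leaf (nat_lit 0x3f8afda6acf) (nat_lit 3074))
))))) (.node (nat_lit 0x3fa639c7d22) (.node (nat_lit 0x3fa1025e9d2) (.node (nat_lit 0x3fa05c1bada) (.node (nat_lit 0x3f9298e3478) (.leaf (nat_lit 0x3f9298e325d) (nat_lit 3330))
 (.leaf (nat_lit 0x3f9298e3478) (nat_lit 3072))
) (.node (nat_lit 0x3fa05d04d22) (.leaf (nat_lit 0x3fa05c1bada) (nat_lit 3329))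
 (.node (nat_lit 0x3fa1021b1d2) (.leaf (nat_lit 0x3fa05d04d22) (nat_lit 3329))
 (.leaf (nat_lit 0x3fa1021b1d2) (nat_lit 2560))
))) (.node (nat_lit 0x3fa58c2c8e8) (.node (nat_lit 0x3fa35a22476) (.leaf (nat_lit 0x3fa1025e9d2) (nat_lit 3328))
 (.node (nat_lit 0x3fa3c5e22f4) (.leaf (nat_lit 0x3fa35a22476) (nat_lit 3328))
 (.leaf (nat_lit 0x3fa3c5e22f4) (nat_lit 3073))
)) (.node (nat_lit 0x3fa5ee44d2c) (.leaf (nat_lit 0x3fa58c2c8e8) (nat_lit 3073))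
 (.node (nat_lit 0x3fa639c7cde) (.leaf (nat_lit 0x3fa5ee44d2c) (nat_lit 3073))
 (.leaf (nat_lit 0x3fa639c7cde) (nat_lit 3073))
)))) (.node (nat_lit 0x410048dc554) (.node (nat_lit 0x3fab02872ce) (.node (nat_lit 0x3fa8401bada) (.leaf (nat_lit 0x3fa639c7d22) (nat_lit 2305))
 (.node (nat_lit 0x3fa8421b207) (.leaf (nat_lit 0x3fa8401bada) (nat_lit 2816))
 (.leaf (nat_lit 0x3fa8421b207) (nat_lit 2817))
)) (.node (nat_lit 0x3fac5d04a07) (.leaf (nat_lit 0x3fab02872ce) (nat_lit 3328))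
 (.node (nat_lit 0x3fac5e5ecde) (.leaf (nat_lit 0x3fac5d04a07) (nat_lit 3074))
 (.leaf (nat_lit 0x3fac5e5ecde) (nat_lit 2562))
))) (.node (nat_lit 0x4101a66e4df) (.node (nat_lit 0x410048fe47d) (.leaf (nat_lit 0x410048dc554) (nat_lit 3329))
 (.node (nat_lit 0x4101a5760bb) (.leaf (nat_lit 0x410048fe47d) (nat_lit 2561))
 (.leaf (nat_lit 0x4101a5760bb) (nat_lit 3329))
)) (.node (nat_lit 0x410a763acdf) (.leaf (nat_lit 0x4101a66e4df) (nat_lit 2561))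
 (.node (nat_lit 0x410ae9ff568) (.leaf (nat_lit 0x410a763acdf) (nat_lit 2560))
 (.leaf (nat_lit 0x410ae9ff568) (nat_lit 3073))
)))))) (.node (nat_lit 0x4133b5f1ce5) (.node (nat_lit 0x4124011386a) (.node (nat_lit 0x41106a38a69) (.node (nat_lit 0x410bc238a69) (.node (nat_lit 0x410af0fe17a) (.leaf (nat_lit 0x410aea6e556) (nat_lit 2304))
 (.leaf (nat_lit 0x410af0fe17a) (nat_lit 1538))
) (.node (nat_lit 0x410bc29b17a) (.leaf (nat_lit 0x410bc238a69) (nat_lit 2561))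
 (.node (nat_lit 0x410c590ecfc) (.leaf (nat_lit 0x410bc29b17a) (nat_lit 1282))
 (.leaf (nat_lit 0x410c590ecfc) (nat_lit 2561))
))) (.node (nat_lit 0x41158e3ac7d) (.node (nat_lit 0x41129e9b556) (.leaf (nat_lit 0x41106a38a69) (nat_lit 2561))
 (.node (nat_lit 0x41158e11865) (.leaf (nat_lit 0x41129e9b556) (nat_lit 2817))
 (.leaf (nat_lit 0x41158e11865) (nat_lit 2049))
)) (.node (nat_lit 0x4122104956d) (.leaf (nat_lit 0x41158e3ac7d) (nat_lit 3584))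
 (.node (nat_lit 0x412210dabcb) (.leaf (nat_lit 0x4122104956d) (nat_lit 3329))
 (.leaf (nat_lit 0x412210dabcb) (nat_lit 2817))
)))) (.node (nat_lit 0x412ae44956d) (.node (nat_lit 0x41283910d1f) (.node (nat_lit 0x412401fece5) (.leaf (nat_lit 0x4124011386a) (nat_lit 2817))
 (.leaf (nat_lit 0x412401fece5) (nat_lit 2305))
) (.node (nat_lit 0x4128399f4fd) (.leaf (nat_lit 0x41283910d1f) (nat_lit 1793))
 (.node (nat_lit 0x412a62112c4) (.leaf (nat_lit 0x4128399f4fd) (nat_lit 2818))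
 (.leaf (nat_lit 0x412a62112c4) (nat_lit 2050))
))) (.node (nat_lit 0x412c519f51f) (.node (nat_lit 0x412b1d13ac4) (.leaf (nat_lit 0x412ae44956d) (nat_lit 1792))
 (.node (nat_lit 0x412b1d768ba) (.leaf (nat_lit 0x412b1d13ac4) (nat_lit 2304))
 (.leaf (nat_lit 0x412b1d768ba) (nat_lit 3073))
)) (.node (nat_lit 0x41306e2ebcb) (.leaf (nat_lit 0x412c519f51f) (nat_lit 2561))
 (.node (nat_lit 0x4132adf1d69) (.leaf (nat_lit 0x41306e2ebcb) (nat_lit 3073))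
 (.leaf (nat_lit 0x4132adf1d69) (nat_lit 2817))
))))) (.node (nat_lit 0x414fed51a82) (.node (nat_lit 0x4143fcd4bf5) (.node (nat_lit 0x41420e31a82) (.node (nat_lit 0x4133b62ed55) (.leaf (nat_lit 0x4133b5f1ce5) (nat_lit 2817))
 (.leaf (nat_lit 0x4133b62ed55) (nat_lit 2818))
) (.node (nat_lit 0x41425c35931) (.leaf (nat_lit 0x41420e31a82) (nat_lit 3074))
 (.node (nat_lit 0x41425e210db) (.leaf (nat_lit 0x41425c35931) (nat_lit 2818))
 (.leaf (nat_lit 0x41425e210db) (nat_lit 3329))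
))) (.node (nat_lit 0x414a7496931) (.node (nat_lit 0x4143fe6447e) (.leaf (nat_lit 0x4143fcd4bf5) (nat_lit 1792))
 (.node (nat_lit 0x41496a8a47e) (.leaf (nat_lit 0x4143fe6447e) (nat_lit 2305))
 (.leaf (nat_lit 0x41496a8a47e) (nat_lit 2305))
)) (.node (nat_lit 0x414bc11b24f) (.leaf (nat_lit 0x414a7496931) (nat_lit 3328))
 (.node (nat_lit 0x414fec0ca4f) (.leaf (nat_lit 0x414bc11b24f) (nat_lit 2305))
 (.leaf (nat_lit 0x414fec0ca4f) (nat_lit 2048))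
)))) (.node (nat_lit 0x4160450cbf7) (.node (nat_lit 0x41529cff2c2) (.node (nat_lit 0x41519694bf9) (.leaf (nat_lit 0x414fed51a82) (nat_lit 2818))
 (.node (nat_lit 0x41529c0c8af) (.leaf (nat_lit 0x41519694bf9) (nat_lit 2818))
 (.leaf (nat_lit 0x41529c0c8af) (nat_lit 3328))
)) (.node (nat_lit 0x41558ca82c2) (.leaf (nat_lit 0x41529cff2c2) (nat_lit 2562))
 (.node (nat_lit 0x41558e1c175) (.leaf (nat_lit 0x41558ca82c2) (nat_lit 3072))
 (.leaf (nat_lit 0x41558e1c175) (nat_lit 2560))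
))) (.node (nat_lit 0x4169640cbf4) (.node (nat_lit 0x41604599ce4) (.leaf (nat_lit 0x4160450cbf7) (nat_lit 1793))
 (.node (nat_lit 0x416212a0549) (.leaf (nat_lit 0x41604599ce4) (nat_lit 2050))
 (.leaf (nat_lit 0x416212a0549) (nat_lit 3330))
)) (.node (nat_lit 0x416a6113480) (.leaf (nat_lit 0x4169640cbf4) (nat_lit 2560))
 (.node (nat_lit 0x416accdb480) (.leaf (nat_lit 0x416a6113480) (nat_lit 3072))
 (.leaf (nat_lit 0x416accdb480) (nat_lit 2816))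
)))))))) (.node (nat_lit 0x4349a011119) (.node (nat_lit 0x428352098a3) (.node (nat_lit 0x425574404e6) (.node (nat_lit 0x424439f8ac5) (.node (nat_lit 0x41736c0c885) (.node (nat_lit 0x416c50b2d06) (.node (nat_lit 0x416bc43c085) (.leaf (nat_lit 0x416acda98de) (nat_lit 2816))
 (.leaf (nat_lit 0x416bc43c085) (nat_lit 3073))
) (.node (nat_lit 0x416c51ba17f) (.leaf (nat_lit 0x416c50b2d06) (nat_lit 3586))
 (.node (nat_lit 0x417190f5ce4) (.leaf (nat_lit 0x416c51ba17f) (nat_lit 2305))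
 (.leaf (nat_lit 0x417190f5ce4) (nat_lit 3074))
))) (.node (nat_lit 0x4173b4640b0) (.node (nat_lit 0x41736e8ad49) (.leaf (nat_lit 0x41736c0c885) (nat_lit 2817))
 (.node (nat_lit 0x4173b439506) (.leaf (nat_lit 0x41736e8ad49) (nat_lit 2561))
 (.leaf (nat_lit 0x4173b439506) (nat_lit 3585))
)) (.node (nat_lit 0x4240e40f2b8) (.leaf (nat_lit 0x4173b4640b0) (nat_lit 3073))
 (.node (nat_lit 0x4240e45b2b8) (.leaf (nat_lit 0x4240e40f2b8) (nat_lit 2561))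
 (.leaf (nat_lit 0x4240e45b2b8) (nat_lit 3328))
)))) (.node (nat_lit 0x424ba1abd03) (.node (nat_lit 0x4246711e2c5) (.node (nat_lit 0x4245800ca4f) (.leaf (nat_lit 0x424439f8ac5) (nat_lit 3073))
 (.leaf (nat_lit 0x4245800ca4f) (nat_lit 2561))
) (.node (nat_lit 0x42491835b07) (.leaf (nat_lit 0x4246711e2c5) (nat_lit 2561))
 (.node (nat_lit 0x424a6c0cce6) (.leaf (nat_lit 0x42491835b07) (nat_lit 3072))
 (.leaf (nat_lit 0x424a6c0cce6) (nat_lit 1793))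
))) (.node (nat_lit 0x425045a90a4) (.node (nat_lit 0x424c10a0c57) (.leaf (nat_lit 0x424ba1abd03) (nat_lit 3073))
 (.node (nat_lit 0x424e02be503) (.leaf (nat_lit 0x424c10a0c57) (nat_lit 3073))
 (.leaf (nat_lit 0x424e02be503) (nat_lit 3329))
)) (.node (nat_lit 0x4251f0a831b) (.leaf (nat_lit 0x425045a90a4) (nat_lit 2561))
 (.node (nat_lit 0x425458f1370) (.leaf (nat_lit 0x4251f0a831b) (nat_lit 3328))
 (.leaf (nat_lit 0x425458f1370) (nat_lit 2817))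
))))) (.node (nat_lit 0x426a60da25d) (.node (nat_lit 0x42634e22570) (.node (nat_lit 0x426045c4272) (.node (nat_lit 0x4255edd1b70) (.leaf (nat_lit 0x425574404e6) (nat_lit 2817))
 (.leaf (nat_lit 0x4255edd1b70) (nat_lit 3329))
) (.node (nat_lit 0x426045c7975) (.leaf (nat_lit 0x426045c4272) (nat_lit 3073))
 (.node (nat_lit 0x42634cc6a34) (.leaf (nat_lit 0x426045c7975) (nat_lit 3072))
 (.leaf (nat_lit 0x42634cc6a34) (nat_lit 2817))
))) (.node (nat_lit 0x4264695bd49) (.node (nat_lit 0x426400c6a34) (.leaf (nat_lit 0x42634e22570) (nat_lit 3074))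
 (.node (nat_lit 0x42640150ce5) (.leaf (nat_lit 0x426400c6a34) (nat_lit 2561))
 (.leaf (nat_lit 0x42640150ce5) (nat_lit 3329))
)) (.node (nat_lit 0x426469f3c85) (.leaf (nat_lit 0x4264695bd49) (nat_lit 2562))
 (.node (nat_lit 0x4268380802c) (.leaf (nat_lit 0x426469f3c85) (nat_lit 2818))
 (.leaf (nat_lit 0x4268380802c) (nat_lit 3329))
)))) (.node (nat_lit 0x4280e4cf347) (.node (nat_lit 0x426ae5c7c85) (.node (nat_lit 0x426a617e371) (.leaf (nat_lit 0x426a60da25d) (nat_lit 3841))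
 (.node (nat_lit 0x426acdf3b71) (.leaf (nat_lit 0x426a617e371) (nat_lit 3073))
 (.leaf (nat_lit 0x426acdf3b71) (nat_lit 3073))
)) (.node (nat_lit 0x4271915b975) (.leaf (nat_lit 0x426ae5c7c85) (nat_lit 3328))
 (.node (nat_lit 0x4275957e549) (.leaf (nat_lit 0x4271915b975) (nat_lit 2817))
 (.leaf (nat_lit 0x4275957e549) (nat_lit 3073))
))) (.node (nat_lit 0x4281463145c) (.node (nat_lit 0x4280e4f1b47) (.leaf (nat_lit 0x4280e4cf347) (nat_lit 2561))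
 (.node (nat_lit 0x4280f90cb1a) (.leaf (nat_lit 0x4280e4f1b47) (nat_lit 2817))
 (.leaf (nat_lit 0x4280f90cb1a) (nat_lit 2818))
)) (.node (nat_lit 0x42815dbc47e) (.leaf (nat_lit 0x4281463145c) (nat_lit 2306))
 (.node (nat_lit 0x42821647c5c) (.leaf (nat_lit 0x42815dbc47e) (nat_lit 3584))
 (.leaf (nat_lit 0x42821647c5c) (nat_lit 2561))
)))))) (.node (nat_lit 0x42b19687271) (.node (nat_lit 0x42a20d9f4e4) (.node (nat_lit 0x42939c460b0) (.node (nat_lit 0x428b90fbc55) (.node (nat_lit 0x42858417a4d) (.leaf (nat_lit 0x428352098a3) (nat_lit 2049))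
 (.leaf (nat_lit 0x42858417a4d) (nat_lit 2561))
) (.node (nat_lit 0x428d200cb06) (.leaf (nat_lit 0x428b90fbc55) (nat_lit 2560))
 (.node (nat_lit 0x428f28640b0) (.leaf (nat_lit 0x428d200cb06) (nat_lit 2817))
 (.leaf (nat_lit 0x428f28640b0) (nat_lit 3585))
))) (.node (nat_lit 0x4295c1ac47e) (.node (nat_lit 0x42952c438e5) (.leaf (nat_lit 0x42939c460b0) (nat_lit 2817))
 (.node (nat_lit 0x4295540c8e5) (.leaf (nat_lit 0x42952c438e5) (nat_lit 2561))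
 (.leaf (nat_lit 0x4295540c8e5) (nat_lit 3328))
)) (.node (nat_lit 0x42a1a5f1a5c) (.leaf (nat_lit 0x4295c1ac47e) (nat_lit 3072))
 (.node (nat_lit 0x42a1a622d2c) (.leaf (nat_lit 0x42a1a5f1a5c) (nat_lit 3329))
 (.leaf (nat_lit 0x42a1a622d2c) (nat_lit 3330))
)))) (.node (nat_lit 0x42ac580782a) (.node (nat_lit 0x42a8444956d) (.node (nat_lit 0x42a20dc4c5a) (.leaf (nat_lit 0x42a20d9f4e4) (nat_lit 3073))
 (.leaf (nat_lit 0x42a20dc4c5a) (nat_lit 3329))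
) (.node (nat_lit 0x42aaf19f274) (.leaf (nat_lit 0x42a8444956d) (nat_lit 3585))
 (.node (nat_lit 0x42ab0513d2c) (.leaf (nat_lit 0x42aaf19f274) (nat_lit 2561))
 (.leaf (nat_lit 0x42ab0513d2c) (nat_lit 2561))
))) (.node (nat_lit 0x42afedf1865) (.node (nat_lit 0x42ac584956d) (.leaf (nat_lit 0x42ac580782a) (nat_lit 1793))
 (.node (nat_lit 0x42afed52a74) (.leaf (nat_lit 0x42ac584956d) (nat_lit 2816))
 (.leaf (nat_lit 0x42afed52a74) (nat_lit 3329))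
)) (.node (nat_lit 0x42b18113d6e) (.leaf (nat_lit 0x42afedf1865) (nat_lit 2305))
 (.node (nat_lit 0x42b1828745a) (.leaf (nat_lit 0x42b18113d6e) (nat_lit 3073))
 (.leaf (nat_lit 0x42b1828745a) (nat_lit 3329))
))))) (.node (nat_lit 0x430fd1994d5) (.node (nat_lit 0x43048cfb366) (.node (nat_lit 0x4300e4ddb66) (.node (nat_lit 0x42b58cdb865) (.leaf (nat_lit 0x42b19687271) (nat_lit 3073))
 (.leaf (nat_lit 0x42b58cdb865) (nat_lit 3329))
) (.node (nat_lit 0x4300e4f1532) (.leaf (nat_lit 0x4300e4ddb66) (nat_lit 3073))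
 (.node (nat_lit 0x430394cc50d) (.leaf (nat_lit 0x4300e4f1532) (nat_lit 3330))
 (.leaf (nat_lit 0x430394cc50d) (nat_lit 3072))
))) (.node (nat_lit 0x430a680cc15) (.node (nat_lit 0x430759a7522) (.leaf (nat_lit 0x43048cfb366) (nat_lit 2817))
 (.node (nat_lit 0x4309002590b) (.leaf (nat_lit 0x430759a7522) (nat_lit 1536))
 (.leaf (nat_lit 0x4309002590b) (nat_lit 2306))
)) (.node (nat_lit 0x430ba836415) (.leaf (nat_lit 0x430a680cc15) (nat_lit 3074))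
 (.node (nat_lit 0x430dba64d1b) (.leaf (nat_lit 0x430ba836415) (nat_lit 2818))
 (.leaf (nat_lit 0x430dba64d1b) (nat_lit 3073))
)))) (.node (nat_lit 0x4340e4a951a) (.node (nat_lit 0x4313a61c50d) (.node (nat_lit 0x430fe5924d5) (.leaf (nat_lit 0x430fd1994d5) (nat_lit 2561))
 (.node (nat_lit 0x43138c83b1d) (.leaf (nat_lit 0x430fe5924d5) (nat_lit 3072))
 (.leaf (nat_lit 0x43138c83b1d) (nat_lit 2816))
)) (.node (nat_lit 0x43147c7710b) (.leaf (nat_lit 0x4313a61c50d) (nat_lit 3073))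
 (.node (nat_lit 0x4315580c857) (.leaf (nat_lit 0x43147c7710b) (nat_lit 2818))
 (.leaf (nat_lit 0x4315580c857) (nat_lit 3074))
))) (.node (nat_lit 0x4342e00c98b) (.node (nat_lit 0x4340e602d4f) (.leaf (nat_lit 0x4340e4a951a) (nat_lit 3073))
 (.node (nat_lit 0x434178d418b) (.leaf (nat_lit 0x4340e602d4f) (nat_lit 3330))
 (.leaf (nat_lit 0x434178d418b) (nat_lit 2817))
)) (.node (nat_lit 0x4343540cb1f) (.leaf (nat_lit 0x4342e00c98b) (nat_lit 2560))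
 (.node (nat_lit 0x434430a5d30) (.leaf (nat_lit 0x4343540cb1f) (nat_lit 3329))
 (.leaf (nat_lit 0x434430a5d30) (nat_lit 2816))
))))))) (.node (nat_lit 0x440a1209b22) (.node (nat_lit 0x43b2c8548db) (.node (nat_lit 0x43a5ed5ab70) (.node (nat_lit 0x43539dd7960) (.node (nat_lit 0x434ef9c2960) (.node (nat_lit 0x434a1063119) (.leaf (nat_lit 0x4349a011119) (nat_lit 3074))
 (.leaf (nat_lit 0x434a1063119) (nat_lit 2816))
) (.node (nat_lit 0x4351fcfbd4f) (.leaf (nat_lit 0x434ef9c2960) (nat_lit 3074))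
 (.node (nat_lit 0x435385d4521) (.leaf (nat_lit 0x4351fcfbd4f) (nat_lit 3072))
 (.leaf (nat_lit 0x435385d4521) (nat_lit 1792))
))) (.node (nat_lit 0x4355e5e9af5) (.node (nat_lit 0x435470eeaf5) (.leaf (nat_lit 0x43539dd7960) (nat_lit 3330))
 (.node (nat_lit 0x4355a044055) (.leaf (nat_lit 0x435470eeaf5) (nat_lit 3330))
 (.leaf (nat_lit 0x4355a044055) (nat_lit 2818))
)) (.node (nat_lit 0x43a3d25e25c) (.leaf (nat_lit 0x4355e5e9af5) (nat_lit 2817))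
 (.node (nat_lit 0x43a58d5ab64) (.leaf (nat_lit 0x43a3d25e25c) (nat_lit 3584))
 (.leaf (nat_lit 0x43a58d5ab64) (nat_lit 1793))
)))) (.node (nat_lit 0x43aa597e549) (.node (nat_lit 0x43a840f78db) (.node (nat_lit 0x43a5ee6657f) (.leaf (nat_lit 0x43a5ed5ab70) (nat_lit 1794))
 (.leaf (nat_lit 0x43a5ee6657f) (nat_lit 2305))
) (.node (nat_lit 0x43aa4a06d7f) (.leaf (nat_lit 0x43a840f78db) (nat_lit 3330))
 (.node (nat_lit 0x43aa5915549) (.leaf (nat_lit 0x43aa4a06d7f) (nat_lit 2561))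
 (.leaf (nat_lit 0x43aa5915549) (nat_lit 2304))
))) (.node (nat_lit 0x43b20e664f5) (.node (nat_lit 0x43ac5cf7c81) (.leaf (nat_lit 0x43aa597e549) (nat_lit 2818))
 (.node (nat_lit 0x43ac5d04b64) (.leaf (nat_lit 0x43ac5cf7c81) (nat_lit 2818))
 (.leaf (nat_lit 0x43ac5d04b64) (nat_lit 2560))
)) (.node (nat_lit 0x43b2a03b047) (.leaf (nat_lit 0x43b20e664f5) (nat_lit 2049))
 (.node (nat_lit 0x43b2a25e25c) (.leaf (nat_lit 0x43b2a03b047) (nat_lit 3073))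
 (.leaf (nat_lit 0x43b2a25e25c) (nat_lit 3073))
))))) (.node (nat_lit 0x43efe483851) (.node (nat_lit 0x43e395bc555) (.node (nat_lit 0x43e0e4894e8) (.node (nat_lit 0x43b2c915527) (.leaf (nat_lit 0x43b2c8548db) (nat_lit 2561))
 (.leaf (nat_lit 0x43b2c915527) (nat_lit 2305))
) (.node (nat_lit 0x43e0e4fbd4f) (.leaf (nat_lit 0x43e0e4894e8) (nat_lit 3073))
 (.node (nat_lit 0x43e376924e8) (.leaf (nat_lit 0x43e0e4fbd4f) (nat_lit 2304))
 (.leaf (nat_lit 0x43e376924e8) (nat_lit 2817))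
))) (.node (nat_lit 0x43e93d99484) (.node (nat_lit 0x43e6710f37f) (.leaf (nat_lit 0x43e395bc555) (nat_lit 2561))
 (.node (nat_lit 0x43e745a2cde) (.leaf (nat_lit 0x43e6710f37f) (nat_lit 3329))
 (.leaf (nat_lit 0x43e745a2cde) (nat_lit 2817))
)) (.node (nat_lit 0x43e9580c917) (.leaf (nat_lit 0x43e93d99484) (nat_lit 3073))
 (.node (nat_lit 0x43edb9da9b0) (.leaf (nat_lit 0x43e9580c917) (nat_lit 3329))
 (.leaf (nat_lit 0x43edb9da9b0) (nat_lit 3328))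
)))) (.node (nat_lit 0x4400e49aa61) (.node (nat_lit 0x43f4fcdb484) (.node (nat_lit 0x43f2d264d55) (.leaf (nat_lit 0x43efe483851) (nat_lit 2561))
 (.node (nat_lit 0x43f39c0caaf) (.leaf (nat_lit 0x43f2d264d55) (nat_lit 2049))
 (.leaf (nat_lit 0x43f39c0caaf) (nat_lit 2562))
)) (.node (nat_lit 0x43f55c962af) (.leaf (nat_lit 0x43f4fcdb484) (nat_lit 3072))
 (.node (nat_lit 0x43f5acbc37f) (.leaf (nat_lit 0x43f55c962af) (nat_lit 3074))
 (.leaf (nat_lit 0x43f5acbc37f) (nat_lit 2816))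
))) (.node (nat_lit 0x4402b89e916) (.node (nat_lit 0x4400e4ef1b1) (.leaf (nat_lit 0x4400e49aa61) (nat_lit 2561))
 (.node (nat_lit 0x4402b5d452d) (.leaf (nat_lit 0x4400e4ef1b1) (nat_lit 3329))
 (.leaf (nat_lit 0x4402b5d452d) (nat_lit 2816))
)) (.node (nat_lit 0x440351d752d) (.leaf (nat_lit 0x4402b89e916) (nat_lit 3072))
 (.node (nat_lit 0x44062221b42) (.leaf (nat_lit 0x440351d752d) (nat_lit 2818))
 (.leaf (nat_lit 0x44062221b42) (nat_lit 2817))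
)))))) (.node (nat_lit 0x443208dbcf4) (.node (nat_lit 0x44229453d19) (.node (nat_lit 0x44155843857) (.node (nat_lit 0x4411f20254d) (.node (nat_lit 0x440c65c2b42) (.leaf (nat_lit 0x440a1209b22) (nat_lit 3073))
 (.leaf (nat_lit 0x440c65c2b42) (nat_lit 3585))
) (.node (nat_lit 0x4413940c84f) (.leaf (nat_lit 0x4411f20254d) (nat_lit 2816))
 (.node (nat_lit 0x441474ddb22) (.leaf (nat_lit 0x4413940c84f) (nat_lit 2817))
 (.leaf (nat_lit 0x441474ddb22) (nat_lit 3329))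
))) (.node (nat_lit 0x4415e89d261) (.node (nat_lit 0x4415a40c857) (.leaf (nat_lit 0x44155843857) (nat_lit 2818))
 (.node (nat_lit 0x4415e68a4df) (.leaf (nat_lit 0x4415a40c857) (nat_lit 2305))
 (.leaf (nat_lit 0x4415e68a4df) (nat_lit 3329))
)) (.node (nat_lit 0x4420fce39d3) (.leaf (nat_lit 0x4415e89d261) (nat_lit 3330))
 (.node (nat_lit 0x4420fd041d3) (.leaf (nat_lit 0x4420fce39d3) (nat_lit 3330))
 (.leaf (nat_lit 0x4420fd041d3) (nat_lit 2817))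
)))) (.node (nat_lit 0x44283ce3d26) (.node (nat_lit 0x4423c97f503) (.node (nat_lit 0x442294d9406) (.leaf (nat_lit 0x44229453d19) (nat_lit 2561))
 (.node (nat_lit 0x4423c8d9406) (.leaf (nat_lit 0x442294d9406) (nat_lit 1793))
 (.leaf (nat_lit 0x4423c8d9406) (nat_lit 3073))
)) (.node (nat_lit 0x4423d43a845) (.leaf (nat_lit 0x4423c97f503) (nat_lit 3330))
 (.node (nat_lit 0x44258a87c80) (.leaf (nat_lit 0x4423d43a845) (nat_lit 3329))
 (.leaf (nat_lit 0x44258a87c80) (nat_lit 3073))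
))) (.node (nat_lit 0x442a4600b71) (.node (nat_lit 0x44285a00d03) (.leaf (nat_lit 0x44283ce3d26) (nat_lit 3328))
 (.node (nat_lit 0x44285a05b1a) (.leaf (nat_lit 0x44285a00d03) (nat_lit 2561))
 (.leaf (nat_lit 0x44285a05b1a) (nat_lit 2562))
)) (.node (nat_lit 0x442c80dbd19) (.leaf (nat_lit 0x442a4600b71) (nat_lit 1794))
 (.node (nat_lit 0x442c8287b1a) (.leaf (nat_lit 0x442c80dbd19) (nat_lit 2818))
 (.leaf (nat_lit 0x442c8287b1a) (nat_lit 2816))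
))))) (.node (nat_lit 0x444b8e4ecb1) (.node (nat_lit 0x444218b7d1f) (.node (nat_lit 0x4440e64ed2c) (.node (nat_lit 0x4440e4f2ac5) (.leaf (nat_lit 0x443208dbcf4) (nat_lit 2562))
 (.leaf (nat_lit 0x4440e4f2ac5) (nat_lit 3329))
) (.node (nat_lit 0x44415d24568) (.leaf (nat_lit 0x4440e64ed2c) (nat_lit 2306))
 (.node (nat_lit 0x44419619cd6) (.leaf (nat_lit 0x44415d24568) (nat_lit 2561))
 (.leaf (nat_lit 0x44419619cd6) (nat_lit 2305))
))) (.node (nat_lit 0x4448d0b7d1f) (.node (nat_lit 0x4442bd24568) (.leaf (nat_lit 0x444218b7d1f) (nat_lit 2818))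
 (.node (nat_lit 0x44480a4ed2c) (.leaf (nat_lit 0x4442bd24568) (nat_lit 2306))
 (.leaf (nat_lit 0x44480a4ed2c) (nat_lit 3073))
)) (.node (nat_lit 0x44499d24275) (.leaf (nat_lit 0x4448d0b7d1f) (nat_lit 1025))
 (.node (nat_lit 0x444b5219984) (.leaf (nat_lit 0x44499d24275) (nat_lit 2305))
 (.leaf (nat_lit 0x444b5219984) (nat_lit 3074))
)))) (.node (nat_lit 0x4460e61a185) (.node (nat_lit 0x445470f2a5d) (.node (nat_lit 0x44534cf2a5d) (.leaf (nat_lit 0x444b8e4ecb1) (nat_lit 3073))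
 (.node (nat_lit 0x44539619cd6) (.leaf (nat_lit 0x44534cf2a5d) (nat_lit 3584))
 (.leaf (nat_lit 0x44539619cd6) (nat_lit 2817))
)) (.node (nat_lit 0x4455acb7a94) (.leaf (nat_lit 0x445470f2a5d) (nat_lit 3329))
 (.node (nat_lit 0x4460e40cce6) (.leaf (nat_lit 0x4455acb7a94) (nat_lit 3329))
 (.leaf (nat_lit 0x4460e40cce6) (nat_lit 3073))
))) (.node (nat_lit 0x4466700cb06) (.node (nat_lit 0x4461a80ca41) (.leaf (nat_lit 0x4460e61a185) (nat_lit 3330))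
 (.node (nat_lit 0x4461f0b7295) (.leaf (nat_lit 0x4461a80ca41) (nat_lit 1792))
 (.leaf (nat_lit 0x4461f0b7295) (nat_lit 3328))
)) (.node (nat_lit 0x446758f22c4) (.leaf (nat_lit 0x4466700cb06) (nat_lit 2561))
 (.node (nat_lit 0x446b080ca41) (.leaf (nat_lit 0x446758f22c4) (nat_lit 3073))
 (.leaf (nat_lit 0x446b080ca41) (nat_lit 2050))
)))))))))))

/-- Part of a listed class. -/
noncomputable def S2_t : ST :=
(.node (nat_lit 0x6baa4917481) (.node (nat_lit 0x5feac29c925) (.node (nat_lit 0x54eff00c90d) (.node (nat_lit 0x45aff2354e7) (.node (nat_lit 0x44eb0cec50d) (.node (nat_lit 0x4495e04dc16) (.node (nat_lit 0x448674ecabe) (.node (nat_lit 0x4473be4fcb5) (.node (nat_lit 0x4470700cce6) (.node (nat_lit 0x446e080c91e) (.leaf (nat_lit 0x446da40c8c3) (nat_lit 2561))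
 (.leaf (nat_lit 0x446e080c91e) (nat_lit 3074))
) (.node (nat_lit 0x4472a525274) (.leaf (nat_lit 0x4470700cce6) (nat_lit 3329))
 (.node (nat_lit 0x4473840cb06) (.leaf (nat_lit 0x4472a525274) (nat_lit 2306))
 (.leaf (nat_lit 0x4473840cb06) (nat_lit 3585))
))) (.node (nat_lit 0x4480e44dc16) (.node (nat_lit 0x4475d80c8c3) (.leaf (nat_lit 0x4473be4fcb5) (nat_lit 2561))
 (.node (nat_lit 0x4475e80c91e) (.leaf (nat_lit 0x4475d80c8c3) (nat_lit 3329))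
 (.leaf (nat_lit 0x4475e80c91e) (nat_lit 2817))
)) (.node (nat_lit 0x4480e60595d) (.leaf (nat_lit 0x4480e44dc16) (nat_lit 2561))
 (.node (nat_lit 0x448155be4f0) (.leaf (nat_lit 0x4480e60595d) (nat_lit 2817))
 (.leaf (nat_lit 0x448155be4f0) (nat_lit 2818))
)))) (.node (nat_lit 0x4491fdee0de) (.node (nat_lit 0x448c4c04c15) (.node (nat_lit 0x4489d200cb4) (.leaf (nat_lit 0x448674ecabe) (nat_lit 3072))
 (.leaf (nat_lit 0x4489d200cb4) (nat_lit 2306))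
) (.node (nat_lit 0x448d85e1abe) (.leaf (nat_lit 0x448c4c04c15) (nat_lit 2050))
 (.node (nat_lit 0x44915a008de) (.leaf (nat_lit 0x448d85e1abe) (nat_lit 2562))
 (.leaf (nat_lit 0x44915a008de) (nat_lit 2561))
))) (.node (nat_lit 0x4495aa5e4f0) (.node (nat_lit 0x44947de18fc) (.leaf (nat_lit 0x4491fdee0de) (nat_lit 3073))
 (.node (nat_lit 0x44955236a7b) (.leaf (nat_lit 0x44947de18fc) (nat_lit 2304))
 (.leaf (nat_lit 0x44955236a7b) (nat_lit 3072))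
)) (.node (nat_lit 0x4495adbe05f) (.leaf (nat_lit 0x4495aa5e4f0) (nat_lit 2304))
 (.node (nat_lit 0x4495de3695d) (.leaf (nat_lit 0x4495adbe05f) (nat_lit 3074))
 (.leaf (nat_lit 0x4495de3695d) (nat_lit 2304))
))))) (.node (nat_lit 0x44b2a9c4ce5) (.node (nat_lit 0x44a5e8fd277) (.node (nat_lit 0x44a0e644185) (.node (nat_lit 0x44a0e5760bb) (.leaf (nat_lit 0x4495e04dc16) (nat_lit 3072))
 (.leaf (nat_lit 0x44a0e5760bb) (nat_lit 3073))
) (.node (nat_lit 0x44a439ddd2c) (.leaf (nat_lit 0x44a0e644185) (nat_lit 2562))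
 (.node (nat_lit 0x44a584fd4e5) (.leaf (nat_lit 0x44a439ddd2c) (nat_lit 1282))
 (.leaf (nat_lit 0x44a584fd4e5) (nat_lit 2049))
))) (.node (nat_lit 0x44aba9dd9ad) (.node (nat_lit 0x44aa6e1127a) (.leaf (nat_lit 0x44a5e8fd277) (nat_lit 1793))
 (.node (nat_lit 0x44aaa62227a) (.leaf (nat_lit 0x44aa6e1127a) (nat_lit 1793))
 (.leaf (nat_lit 0x44aaa62227a) (nat_lit 1280))
)) (.node (nat_lit 0x44ada1fd185) (.leaf (nat_lit 0x44aba9dd9ad) (nat_lit 2306))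
 (.node (nat_lit 0x44b21222523) (.leaf (nat_lit 0x44ada1fd185) (nat_lit 2817))
 (.leaf (nat_lit 0x44b21222523) (nat_lit 3074))
)))) (.node (nat_lit 0x44e0e5ed521) (.node (nat_lit 0x44b459f252c) (.node (nat_lit 0x44b3104dc16) (.leaf (nat_lit 0x44b2a9c4ce5) (nat_lit 2306))
 (.node (nat_lit 0x44b3bd760bb) (.leaf (nat_lit 0x44b3104dc16) (nat_lit 2817))
 (.leaf (nat_lit 0x44b3bd760bb) (nat_lit 2817))
)) (.node (nat_lit 0x44b5a5fd45c) (.leaf (nat_lit 0x44b459f252c) (nat_lit 3072))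
 (.node (nat_lit 0x44e0e5cc860) (.leaf (nat_lit 0x44b5a5fd45c) (nat_lit 2049))
 (.leaf (nat_lit 0x44e0e5cc860) (nat_lit 3072))
))) (.node (nat_lit 0x44e5f805c14) (.node (nat_lit 0x44e2ae3a502) (.leaf (nat_lit 0x44e0e5ed521) (nat_lit 2817))
 (.node (nat_lit 0x44e58453bbe) (.leaf (nat_lit 0x44e2ae3a502) (nat_lit 3072))
 (.leaf (nat_lit 0x44e58453bbe) (nat_lit 2562))
)) (.node (nat_lit 0x44e5fc53bbe) (.leaf (nat_lit 0x44e5f805c14) (nat_lit 2562))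
 (.node (nat_lit 0x44e93a5ed02) (.leaf (nat_lit 0x44e5fc53bbe) (nat_lit 3073))
 (.leaf (nat_lit 0x44e93a5ed02) (nat_lit 2560))
)))))) (.node (nat_lit 0x4555b9f3cb3) (.node (nat_lit 0x4544ca1b3ce) (.node (nat_lit 0x44f526184b3) (.node (nat_lit 0x44f19e0691c) (.node (nat_lit 0x44efd1c70fd) (.leaf (nat_lit 0x44eb0cec50d) (nat_lit 3329))
 (.leaf (nat_lit 0x44efd1c70fd) (nat_lit 3329))
) (.node (nat_lit 0x44f1f61850d) (.leaf (nat_lit 0x44f19e0691c) (nat_lit 2305))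
 (.node (nat_lit 0x44f3b9cc91c) (.leaf (nat_lit 0x44f1f61850d) (nat_lit 2306))
 (.leaf (nat_lit 0x44f3b9cc91c) (nat_lit 3585))
))) (.node (nat_lit 0x4540e5f19ac) (.node (nat_lit 0x44f5a23a282) (.leaf (nat_lit 0x44f526184b3) (nat_lit 3074))
 (.node (nat_lit 0x44f5b1c7521) (.leaf (nat_lit 0x44f5a23a282) (nat_lit 2818))
 (.leaf (nat_lit 0x44f5b1c7521) (nat_lit 1794))
)) (.node (nat_lit 0x4540e63aabe) (.leaf (nat_lit 0x4540e5f19ac) (nat_lit 2817))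
 (.node (nat_lit 0x454155c4276) (.leaf (nat_lit 0x4540e63aabe) (nat_lit 2561))
 (.leaf (nat_lit 0x454155c4276) (nat_lit 2560))
)))) (.node (nat_lit 0x454f0005aae) (.node (nat_lit 0x454ba21b2be) (.node (nat_lit 0x454b8c4cc17) (.leaf (nat_lit 0x4544ca1b3ce) (nat_lit 2048))
 (.leaf (nat_lit 0x454b8c4cc17) (nat_lit 3073))
) (.node (nat_lit 0x454c3a11d1f) (.leaf (nat_lit 0x454ba21b2be) (nat_lit 3073))
 (.node (nat_lit 0x454d22603ce) (.leaf (nat_lit 0x454c3a11d1f) (nat_lit 3074))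
 (.leaf (nat_lit 0x454d22603ce) (nat_lit 3074))
))) (.node (nat_lit 0x455475f38a4) (.node (nat_lit 0x454f2c05aae) (.leaf (nat_lit 0x454f0005aae) (nat_lit 1280))
 (.node (nat_lit 0x4551523a8a4) (.leaf (nat_lit 0x454f2c05aae) (nat_lit 3328))
 (.leaf (nat_lit 0x4551523a8a4) (nat_lit 2817))
)) (.node (nat_lit 0x4554fe44c5a) (.leaf (nat_lit 0x455475f38a4) (nat_lit 2050))
 (.node (nat_lit 0x455556604b3) (.leaf (nat_lit 0x4554fe44c5a) (nat_lit 3585))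
 (.leaf (nat_lit 0x455556604b3) (nat_lit 2817))
))))) (.node (nat_lit 0x458b1a34a8a) (.node (nat_lit 0x45848496aae) (.node (nat_lit 0x45820dcbbf7) (.node (nat_lit 0x45820d994b4) (.leaf (nat_lit 0x4555b9f3cb3) (nat_lit 3073))
 (.leaf (nat_lit 0x45820d994b4) (nat_lit 3074))
) (.node (nat_lit 0x4583fca827b) (.leaf (nat_lit 0x45820dcbbf7) (nat_lit 2816))
 (.node (nat_lit 0x4583fe94c5c) (.leaf (nat_lit 0x4583fca827b) (nat_lit 3586))
 (.leaf (nat_lit 0x4583fe94c5c) (nat_lit 2818))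
))) (.node (nat_lit 0x4589699645c) (.node (nat_lit 0x458844258e6) (.leaf (nat_lit 0x45848496aae) (nat_lit 3072))
 (.node (nat_lit 0x4588450cbf7) (.leaf (nat_lit 0x458844258e6) (nat_lit 3330))
 (.leaf (nat_lit 0x4588450cbf7) (nat_lit 2818))
)) (.node (nat_lit 0x458b04a428a) (.leaf (nat_lit 0x4589699645c) (nat_lit 2562))
 (.node (nat_lit 0x458b180cc15) (.leaf (nat_lit 0x458b04a428a) (nat_lit 2818))
 (.leaf (nat_lit 0x458b180cc15) (nat_lit 2304))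
)))) (.node (nat_lit 0x45a261ab366) (.node (nat_lit 0x4593ac462ae) (.node (nat_lit 0x458fec0ca4f) (.leaf (nat_lit 0x458b1a34a8a) (nat_lit 3330))
 (.node (nat_lit 0x4592e1bc0fc) (.leaf (nat_lit 0x458fec0ca4f) (nat_lit 2818))
 (.leaf (nat_lit 0x4592e1bc0fc) (nat_lit 2816))
)) (.node (nat_lit 0x4593ac5aa4f) (.leaf (nat_lit 0x4593ac462ae) (nat_lit 3073))
 (.node (nat_lit 0x45a26058c14) (.leaf (nat_lit 0x4593ac5aa4f) (nat_lit 3330))
 (.leaf (nat_lit 0x45a26058c14) (nat_lit 2816))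
))) (.node (nat_lit 0x45a46844055) (.node (nat_lit 0x45a34c0c8e5) (.leaf (nat_lit 0x45a261ab366) (nat_lit 2560))
 (.node (nat_lit 0x45a34e1dd3e) (.leaf (nat_lit 0x45a34c0c8e5) (nat_lit 2818))
 (.leaf (nat_lit 0x45a34e1dd3e) (nat_lit 2817))
)) (.node (nat_lit 0x45a96551a82) (.leaf (nat_lit 0x45a46844055) (nat_lit 3328))
 (.node (nat_lit 0x45aacebeb66) (.leaf (nat_lit 0x45a96551a82) (nat_lit 3329))
 (.leaf (nat_lit 0x45aacebeb66) (nat_lit 3074))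
))))))) (.node (nat_lit 0x542aa245c57) (.node (nat_lit 0x4d547645b0a) (.node (nat_lit 0x4d4438f730a) (.node (nat_lit 0x45b2e8b5235) (.node (nat_lit 0x45b186098fd) (.node (nat_lit 0x45b1840ca35) (.leaf (nat_lit 0x45aff2354e7) (nat_lit 3328))
 (.leaf (nat_lit 0x45b1840ca35) (nat_lit 2560))
) (.node (nat_lit 0x45b191d44b3) (.leaf (nat_lit 0x45b186098fd) (nat_lit 2562))
 (.node (nat_lit 0x45b191ef53e) (.leaf (nat_lit 0x45b191d44b3) (nat_lit 2560))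
 (.leaf (nat_lit 0x45b191ef53e) (nat_lit 2306))
))) (.node (nat_lit 0x4d40e4e530a) (.node (nat_lit 0x45b36c3b855) (.leaf (nat_lit 0x45b2e8b5235) (nat_lit 2561))
 (.node (nat_lit 0x45b36e29ce7) (.leaf (nat_lit 0x45b36c3b855) (nat_lit 2817))
 (.leaf (nat_lit 0x45b36e29ce7) (nat_lit 2818))
)) (.node (nat_lit 0x4d40e4fd30a) (.leaf (nat_lit 0x4d40e4e530a) (nat_lit 2560))
 (.node (nat_lit 0x4d4374f730a) (.leaf (nat_lit 0x4d40e4fd30a) (nat_lit 2561))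
 (.leaf (nat_lit 0x4d4374f730a) (nat_lit 2818))
)))) (.node (nat_lit 0x4d4a2054b0a) (.node (nat_lit 0x4d46ace330a) (.node (nat_lit 0x4d4488e530a) (.leaf (nat_lit 0x4d4438f730a) (nat_lit 3073))
 (.leaf (nat_lit 0x4d4488e530a) (nat_lit 3074))
) (.node (nat_lit 0x4d480a44b0a) (.leaf (nat_lit 0x4d46ace330a) (nat_lit 3330))
 (.node (nat_lit 0x4d49c09fb0a) (.leaf (nat_lit 0x4d480a44b0a) (nat_lit 2306))
 (.leaf (nat_lit 0x4d49c09fb0a) (nat_lit 3073))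
))) (.node (nat_lit 0x4d4b4245b0a) (.node (nat_lit 0x4d4aa0f8b0a) (.leaf (nat_lit 0x4d4a2054b0a) (nat_lit 2049))
 (.node (nat_lit 0x4d4b2a1b30a) (.leaf (nat_lit 0x4d4aa0f8b0a) (nat_lit 257))
 (.leaf (nat_lit 0x4d4b2a1b30a) (nat_lit 2304))
)) (.node (nat_lit 0x4d4c161b30a) (.leaf (nat_lit 0x4d4b4245b0a) (nat_lit 3074))
 (.node (nat_lit 0x4d4e0854b0a) (.leaf (nat_lit 0x4d4c161b30a) (nat_lit 3072))
 (.leaf (nat_lit 0x4d4e0854b0a) (nat_lit 2306))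
))))) (.node (nat_lit 0x4d7165f1b11) (.node (nat_lit 0x4d635287311) (.node (nat_lit 0x4d60e62eb11) (.node (nat_lit 0x4d60e513b11) (.leaf (nat_lit 0x4d547645b0a) (nat_lit 2306))
 (.leaf (nat_lit 0x4d60e513b11) (nat_lit 3586))
) (.node (nat_lit 0x4d60f59f311) (.leaf (nat_lit 0x4d60e62eb11) (nat_lit 3073))
 (.node (nat_lit 0x4d61f19f311) (.leaf (nat_lit 0x4d60f59f311) (nat_lit 2048))
 (.leaf (nat_lit 0x4d61f19f311) (nat_lit 3073))
))) (.node (nat_lit 0x4d6958f8311) (.node (nat_lit 0x4d637e87311) (.leaf (nat_lit 0x4d635287311) (nat_lit 3074))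
 (.node (nat_lit 0x4d648cfcb11) (.leaf (nat_lit 0x4d637e87311) (nat_lit 2306))
 (.leaf (nat_lit 0x4d648cfcb11) (nat_lit 3329))
)) (.node (nat_lit 0x4d6b34a2b11) (.leaf (nat_lit 0x4d6958f8311) (nat_lit 1026))
 (.node (nat_lit 0x4d6b8e44311) (.leaf (nat_lit 0x4d6b34a2b11) (nat_lit 2816))
 (.leaf (nat_lit 0x4d6b8e44311) (nat_lit 3328))
)))) (.node (nat_lit 0x5420e5cc0de) (.node (nat_lit 0x4d7389f1b11) (.node (nat_lit 0x4d724ce3b11) (.leaf (nat_lit 0x4d7165f1b11) (nat_lit 2305))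
 (.node (nat_lit 0x4d73122eb11) (.leaf (nat_lit 0x4d724ce3b11) (nat_lit 1793))
 (.leaf (nat_lit 0x4d73122eb11) (nat_lit 2562))
)) (.node (nat_lit 0x4d75e113b11) (.leaf (nat_lit 0x4d7389f1b11) (nat_lit 2560))
 (.node (nat_lit 0x5420b0f7c7d) (.leaf (nat_lit 0x4d75e113b11) (nat_lit 1536))
 (.leaf (nat_lit 0x5420b0f7c7d) (nat_lit 3073))
))) (.node (nat_lit 0x5425d1152c2) (.node (nat_lit 0x5420e66eb47) (.leaf (nat_lit 0x5420e5cc0de) (nat_lit 2305))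
 (.node (nat_lit 0x5424c10a860) (.leaf (nat_lit 0x5420e66eb47) (nat_lit 3073))
 (.leaf (nat_lit 0x5424c10a860) (nat_lit 2816))
)) (.node (nat_lit 0x542938f7c57) (.leaf (nat_lit 0x5425d1152c2) (nat_lit 3073))
 (.node (nat_lit 0x542a0e6e9d5) (.leaf (nat_lit 0x542938f7c57) (nat_lit 3073))
 (.leaf (nat_lit 0x542a0e6e9d5) (nat_lit 3330))
)))))) (.node (nat_lit 0x54b5e0f0d73) (.node (nat_lit 0x54a399be4f0) (.node (nat_lit 0x542fde664f1) (.node (nat_lit 0x542c25152c2) (.node (nat_lit 0x542c125e060) (.leaf (nat_lit 0x542aa245c57) (nat_lit 3073))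
 (.leaf (nat_lit 0x542c125e060) (nat_lit 3329))
) (.node (nat_lit 0x542c4e660de) (.leaf (nat_lit 0x542c25152c2) (nat_lit 1794))
 (.node (nat_lit 0x542dbded347) (.leaf (nat_lit 0x542c4e660de) (nat_lit 2562))
 (.leaf (nat_lit 0x542dbded347) (nat_lit 2562))
))) (.node (nat_lit 0x54a0e4a29d4) (.node (nat_lit 0x54324e5e572) (.leaf (nat_lit 0x542fde664f1) (nat_lit 3073))
 (.node (nat_lit 0x54352e38ca9) (.leaf (nat_lit 0x54324e5e572) (nat_lit 2048))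
 (.leaf (nat_lit 0x54352e38ca9) (nat_lit 3073))
)) (.node (nat_lit 0x54a0e62c518) (.leaf (nat_lit 0x54a0e4a29d4) (nat_lit 2816))
 (.node (nat_lit 0x54a38d768ba) (.leaf (nat_lit 0x54a0e62c518) (nat_lit 3073))
 (.leaf (nat_lit 0x54a38d768ba) (nat_lit 3073))
)))) (.node (nat_lit 0x54a9dcf0ce9) (.node (nat_lit 0x54a5fdee4e9) (.node (nat_lit 0x54a3f245556) (.leaf (nat_lit 0x54a399be4f0) (nat_lit 3073))
 (.leaf (nat_lit 0x54a3f245556) (nat_lit 2818))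
) (.node (nat_lit 0x54a80e384aa) (.leaf (nat_lit 0x54a5fdee4e9) (nat_lit 2817))
 (.node (nat_lit 0x54a935be556) (.leaf (nat_lit 0x54a80e384aa) (nat_lit 3073))
 (.leaf (nat_lit 0x54a935be556) (nat_lit 3329))
))) (.node (nat_lit 0x54ae08a2c1f) (.node (nat_lit 0x54aa11ccd18) (.leaf (nat_lit 0x54a9dcf0ce9) (nat_lit 2817))
 (.node (nat_lit 0x54aba109c1f) (.leaf (nat_lit 0x54aa11ccd18) (nat_lit 2562))
 (.leaf (nat_lit 0x54aba109c1f) (nat_lit 3072))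
)) (.node (nat_lit 0x54b405768ba) (.leaf (nat_lit 0x54ae08a2c1f) (nat_lit 2050))
 (.node (nat_lit 0x54b5c22c47e) (.leaf (nat_lit 0x54b405768ba) (nat_lit 3329))
 (.leaf (nat_lit 0x54b5c22c47e) (nat_lit 3328))
))))) (.node (nat_lit 0x54cc58b7ac3) (.node (nat_lit 0x54c96a4ecfd) (.node (nat_lit 0x54c34619d3f) (.node (nat_lit 0x54c34556274) (.leaf (nat_lit 0x54b5e0f0d73) (nat_lit 1792))
 (.leaf (nat_lit 0x54c34556274) (nat_lit 2306))
) (.node (nat_lit 0x54c844b7ac3) (.leaf (nat_lit 0x54c34619d3f) (nat_lit 2816))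
 (.node (nat_lit 0x54c968f2a72) (.leaf (nat_lit 0x54c844b7ac3) (nat_lit 3328))
 (.leaf (nat_lit 0x54c968f2a72) (nat_lit 2817))
))) (.node (nat_lit 0x54cb1a19bd1) (.node (nat_lit 0x54ca764eaf4) (.leaf (nat_lit 0x54c96a4ecfd) (nat_lit 2562))
 (.node (nat_lit 0x54cae8f2d55) (.leaf (nat_lit 0x54ca764eaf4) (nat_lit 2816))
 (.leaf (nat_lit 0x54cae8f2d55) (nat_lit 2050))
)) (.node (nat_lit 0x54cb1a4eaf4) (.leaf (nat_lit 0x54cb1a19bd1) (nat_lit 3328))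
 (.node (nat_lit 0x54cc58b786a) (.leaf (nat_lit 0x54cb1a4eaf4) (nat_lit 3329))
 (.leaf (nat_lit 0x54cc58b786a) (nat_lit 2817))
)))) (.node (nat_lit 0x54e1921a3d0) (.node (nat_lit 0x54d58cf2a72) (.node (nat_lit 0x54cfed56274) (.leaf (nat_lit 0x54cc58b7ac3) (nat_lit 2561))
 (.node (nat_lit 0x54d36a19d3f) (.leaf (nat_lit 0x54cfed56274) (nat_lit 2561))
 (.leaf (nat_lit 0x54d36a19d3f) (nat_lit 2049))
)) (.node (nat_lit 0x54d58d56569) (.leaf (nat_lit 0x54d58cf2a72) (nat_lit 3329))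
 (.node (nat_lit 0x54e1900ca5f) (.leaf (nat_lit 0x54d58d56569) (nat_lit 2049))
 (.leaf (nat_lit 0x54e1900ca5f) (nat_lit 2816))
))) (.node (nat_lit 0x54e838b7065) (.node (nat_lit 0x54e4680c84f) (.leaf (nat_lit 0x54e1921a3d0) (nat_lit 2817))
 (.node (nat_lit 0x54e4680c90d) (.leaf (nat_lit 0x54e4680c84f) (nat_lit 3072))
 (.leaf (nat_lit 0x54e4680c90d) (nat_lit 3072))
)) (.node (nat_lit 0x54ea600ca5f) (.leaf (nat_lit 0x54e838b7065) (nat_lit 2817))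
 (.node (nat_lit 0x54eb4c0cd05) (.leaf (nat_lit 0x54ea600ca5f) (nat_lit 2816))
 (.leaf (nat_lit 0x54eb4c0cd05) (nat_lit 2816))
)))))))) (.node (nat_lit 0x5db071f5cac) (.node (nat_lit 0x5bcb30eecd1) (.node (nat_lit 0x56b5e5cc11d) (.node (nat_lit 0x56a4c10a8ef) (.node (nat_lit 0x54f36c0c84f) (.node (nat_lit 0x54f19156d68) (.node (nat_lit 0x54f1900caaf) (.leaf (nat_lit 0x54eff00c90d) (nat_lit 2816))
 (.leaf (nat_lit 0x54f1900caaf) (nat_lit 3073))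
) (.node (nat_lit 0x54f2ac0cd05) (.leaf (nat_lit 0x54f19156d68) (nat_lit 2562))
 (.node (nat_lit 0x54f2acf2554) (.leaf (nat_lit 0x54f2ac0cd05) (nat_lit 2817))
 (.leaf (nat_lit 0x54f2acf2554) (nat_lit 3328))
))) (.node (nat_lit 0x56a0e4f03d0) (.node (nat_lit 0x54f3b40caaf) (.leaf (nat_lit 0x54f36c0c84f) (nat_lit 2305))
 (.node (nat_lit 0x54f3b64fcfc) (.leaf (nat_lit 0x54f3b40caaf) (nat_lit 3073))
 (.leaf (nat_lit 0x54f3b64fcfc) (nat_lit 3074))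
)) (.node (nat_lit 0x56a0e6458ef) (.leaf (nat_lit 0x56a0e4f03d0) (nat_lit 2561))
 (.node (nat_lit 0x56a3f09fcfc) (.leaf (nat_lit 0x56a0e6458ef) (nat_lit 3073))
 (.leaf (nat_lit 0x56a3f09fcfc) (nat_lit 3585))
)))) (.node (nat_lit 0x56ab8d760bb) (.node (nat_lit 0x56a9c638ca9) (.node (nat_lit 0x56a905c5554) (.leaf (nat_lit 0x56a4c10a8ef) (nat_lit 3330))
 (.leaf (nat_lit 0x56a905c5554) (nat_lit 3073))
) (.node (nat_lit 0x56a9d638ca9) (.leaf (nat_lit 0x56a9c638ca9) (nat_lit 3073))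
 (.node (nat_lit 0x56a9d9cc484) (.leaf (nat_lit 0x56a9d638ca9) (nat_lit 3329))
 (.leaf (nat_lit 0x56a9d9cc484) (nat_lit 3073))
))) (.node (nat_lit 0x56ae0a45d4d) (.node (nat_lit 0x56aba90a91d) (.leaf (nat_lit 0x56ab8d760bb) (nat_lit 3073))
 (.node (nat_lit 0x56ad85ed54d) (.leaf (nat_lit 0x56aba90a91d) (nat_lit 2049))
 (.leaf (nat_lit 0x56ad85ed54d) (nat_lit 3073))
)) (.node (nat_lit 0x56b4fded484) (.leaf (nat_lit 0x56ae0a45d4d) (nat_lit 3073))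
 (.node (nat_lit 0x56b5ba2ed68) (.leaf (nat_lit 0x56b4fded484) (nat_lit 2561))
 (.leaf (nat_lit 0x56b5ba2ed68) (nat_lit 3073))
))))) (.node (nat_lit 0x56ec62a92ce) (.node (nat_lit 0x56e5d1a6cd6) (.node (nat_lit 0x56e0e62c2ce) (.node (nat_lit 0x56e0e44cc17) (.leaf (nat_lit 0x56b5e5cc11d) (nat_lit 3328))
 (.leaf (nat_lit 0x56e0e44cc17) (nat_lit 2817))
) (.node (nat_lit 0x56e4c8e33d1) (.leaf (nat_lit 0x56e0e62c2ce) (nat_lit 1793))
 (.node (nat_lit 0x56e581a6d55) (.leaf (nat_lit 0x56e4c8e33d1) (nat_lit 1793))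
 (.leaf (nat_lit 0x56e581a6d55) (nat_lit 2306))
))) (.node (nat_lit 0x56ea69ff124) (.node (nat_lit 0x56e938e34b5) (.leaf (nat_lit 0x56e5d1a6cd6) (nat_lit 3072))
 (.node (nat_lit 0x56ea10f0cb5) (.leaf (nat_lit 0x56e938e34b5) (nat_lit 2305))
 (.leaf (nat_lit 0x56ea10f0cb5) (nat_lit 2306))
)) (.node (nat_lit 0x56eaa0a2924) (.leaf (nat_lit 0x56ea69ff124) (nat_lit 2561))
 (.node (nat_lit 0x56eab9be4d6) (.leaf (nat_lit 0x56eaa0a2924) (nat_lit 1536))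
 (.leaf (nat_lit 0x56eab9be4d6) (nat_lit 3329))
)))) (.node (nat_lit 0x5bc0e5134d1) (.node (nat_lit 0x56f311768ba) (.node (nat_lit 0x56f16aa9569) (.leaf (nat_lit 0x56ec62a92ce) (nat_lit 3074))
 (.node (nat_lit 0x56f2d1ff4fd) (.leaf (nat_lit 0x56f16aa9569) (nat_lit 3329))
 (.leaf (nat_lit 0x56f2d1ff4fd) (nat_lit 1538))
)) (.node (nat_lit 0x56f3bc4cc17) (.leaf (nat_lit 0x56f311768ba) (nat_lit 2561))
 (.node (nat_lit 0x5bc0e4a80f9) (.leaf (nat_lit 0x56f3bc4cc17) (nat_lit 3072))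
 (.leaf (nat_lit 0x5bc0e4a80f9) (nat_lit 3074))
))) (.node (nat_lit 0x5bc801a84d1) (.node (nat_lit 0x5bc2ade90f9) (.leaf (nat_lit 0x5bc0e5134d1) (nat_lit 2816))
 (.node (nat_lit 0x5bc435cbaba) (.leaf (nat_lit 0x5bc2ade90f9) (nat_lit 3074))
 (.leaf (nat_lit 0x5bc435cbaba) (nat_lit 2818))
)) (.node (nat_lit 0x5bc95c0c8fa) (.leaf (nat_lit 0x5bc801a84d1) (nat_lit 2306))
 (.node (nat_lit 0x5bc9a6a02ba) (.leaf (nat_lit 0x5bc95c0c8fa) (nat_lit 3586))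
 (.leaf (nat_lit 0x5bc9a6a02ba) (nat_lit 1793))
)))))) (.node (nat_lit 0x5bf2ee92800) (.node (nat_lit 0x5be2b0a0901) (.node (nat_lit 0x5bd418ccca7) (.node (nat_lit 0x5bd1febe8f9) (.node (nat_lit 0x5bd074660fa) (.leaf (nat_lit 0x5bcb30eecd1) (nat_lit 2818))
 (.leaf (nat_lit 0x5bd074660fa) (nat_lit 2560))
) (.node (nat_lit 0x5bd2aa31ca7) (.leaf (nat_lit 0x5bd1febe8f9) (nat_lit 3072))
 (.node (nat_lit 0x5bd3c2094a7) (.leaf (nat_lit 0x5bd2aa31ca7) (nat_lit 2304))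
 (.leaf (nat_lit 0x5bd3c2094a7) (nat_lit 3072))
))) (.node (nat_lit 0x5be0e463904) (.node (nat_lit 0x5bd554a42ba) (.leaf (nat_lit 0x5bd418ccca7) (nat_lit 2816))
 (.node (nat_lit 0x5bd5740c8fa) (.leaf (nat_lit 0x5bd554a42ba) (nat_lit 3072))
 (.leaf (nat_lit 0x5bd5740c8fa) (nat_lit 3328))
)) (.node (nat_lit 0x5be0e488800) (.leaf (nat_lit 0x5be0e463904) (nat_lit 2306))
 (.node (nat_lit 0x5be195962d3) (.leaf (nat_lit 0x5be0e488800) (nat_lit 2560))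
 (.leaf (nat_lit 0x5be195962d3) (nat_lit 2562))
)))) (.node (nat_lit 0x5bec60b4000) (.node (nat_lit 0x5be95840000) (.node (nat_lit 0x5be391abcd0) (.leaf (nat_lit 0x5be2b0a0901) (nat_lit 3074))
 (.leaf (nat_lit 0x5be391abcd0) (nat_lit 3074))
) (.node (nat_lit 0x5beb5443800) (.leaf (nat_lit 0x5be95840000) (nat_lit 2818))
 (.node (nat_lit 0x5bec109e000) (.leaf (nat_lit 0x5beb5443800) (nat_lit 2050))
 (.leaf (nat_lit 0x5bec109e000) (nat_lit 2816))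
))) (.node (nat_lit 0x5bf16c9d800) (.node (nat_lit 0x5bed2045000) (.leaf (nat_lit 0x5bec60b4000) (nat_lit 2305))
 (.node (nat_lit 0x5bf1580c800) (.leaf (nat_lit 0x5bed2045000) (nat_lit 3330))
 (.leaf (nat_lit 0x5bf1580c800) (nat_lit 3072))
)) (.node (nat_lit 0x5bf19c0c800) (.leaf (nat_lit 0x5bf16c9d800) (nat_lit 2817))
 (.node (nat_lit 0x5bf210e1cab) (.leaf (nat_lit 0x5bf19c0c800) (nat_lit 2561))
 (.leaf (nat_lit 0x5bf210e1cab) (nat_lit 2304))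
))))) (.node (nat_lit 0x5d8ac01b000) (.node (nat_lit 0x5d84303a800) (.node (nat_lit 0x5d80e4ec4d0) (.node (nat_lit 0x5d80e4c9800) (.leaf (nat_lit 0x5bf2ee92800) (nat_lit 3328))
 (.leaf (nat_lit 0x5d80e4c9800) (nat_lit 2304))
) (.node (nat_lit 0x5d82b01b000) (.leaf (nat_lit 0x5d80e4ec4d0) (nat_lit 2817))
 (.node (nat_lit 0x5d839104901) (.leaf (nat_lit 0x5d82b01b000) (nat_lit 3072))
 (.leaf (nat_lit 0x5d839104901) (nat_lit 3073))
))) (.node (nat_lit 0x5d895e17cad) (.node (nat_lit 0x5d861c3a800) (.leaf (nat_lit 0x5d84303a800) (nat_lit 2306))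
 (.node (nat_lit 0x5d8941b6ad3) (.leaf (nat_lit 0x5d861c3a800) (nat_lit 1792))
 (.leaf (nat_lit 0x5d8941b6ad3) (nat_lit 2561))
)) (.node (nat_lit 0x5d89e404800) (.leaf (nat_lit 0x5d895e17cad) (nat_lit 3073))
 (.node (nat_lit 0x5d8a6935000) (.leaf (nat_lit 0x5d89e404800) (nat_lit 3329))
 (.leaf (nat_lit 0x5d8a6935000) (nat_lit 2561))
)))) (.node (nat_lit 0x5da0e6878f9) (.node (nat_lit 0x5d91f55bcab) (.node (nat_lit 0x5d8d24c9800) (.leaf (nat_lit 0x5d8ac01b000) (nat_lit 3329))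
 (.node (nat_lit 0x5d916c04800) (.leaf (nat_lit 0x5d8d24c9800) (nat_lit 3073))
 (.leaf (nat_lit 0x5d916c04800) (nat_lit 3073))
)) (.node (nat_lit 0x5d93f935000) (.leaf (nat_lit 0x5d91f55bcab) (nat_lit 3072))
 (.node (nat_lit 0x5da0e5f5cac) (.leaf (nat_lit 0x5d93f935000) (nat_lit 3073))
 (.leaf (nat_lit 0x5da0e5f5cac) (nat_lit 3328))
))) (.node (nat_lit 0x5da6a9040f9) (.node (nat_lit 0x5da435eaaba) (.leaf (nat_lit 0x5da0e6878f9) (nat_lit 3074))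
 (.node (nat_lit 0x5da48a878f9) (.leaf (nat_lit 0x5da435eaaba) (nat_lit 3073))
 (.leaf (nat_lit 0x5da48a878f9) (nat_lit 3072))
)) (.node (nat_lit 0x5daa3a36cd1) (.leaf (nat_lit 0x5da6a9040f9) (nat_lit 2561))
 (.node (nat_lit 0x5dad20eccd1) (.leaf (nat_lit 0x5daa3a36cd1) (nat_lit 3329))
 (.leaf (nat_lit 0x5dad20eccd1) (nat_lit 2561))
))))))) (.node (nat_lit 0x5f86042c8e8) (.node (nat_lit 0x5dd3b1a1d4d) (.node (nat_lit 0x5dc15648cf0) (.node (nat_lit 0x5db559b62ba) (.node (nat_lit 0x5db415eaaba) (.node (nat_lit 0x5db3c15aca7) (.leaf (nat_lit 0x5db071f5cac) (nat_lit 3329))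
 (.leaf (nat_lit 0x5db3c15aca7) (nat_lit 2817))
) (.node (nat_lit 0x5db45e36cd1) (.leaf (nat_lit 0x5db415eaaba) (nat_lit 2049))
 (.node (nat_lit 0x5db55152ca7) (.leaf (nat_lit 0x5db45e36cd1) (nat_lit 2561))
 (.leaf (nat_lit 0x5db55152ca7) (nat_lit 1536))
))) (.node (nat_lit 0x5dc0a858aae) (.node (nat_lit 0x5db572184ac) (.leaf (nat_lit 0x5db559b62ba) (nat_lit 3073))
 (.node (nat_lit 0x5db5a152ca7) (.leaf (nat_lit 0x5db572184ac) (nat_lit 2817))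
 (.leaf (nat_lit 0x5db5a152ca7) (nat_lit 2817))
)) (.node (nat_lit 0x5dc0e4cfd4d) (.leaf (nat_lit 0x5dc0a858aae) (nat_lit 2817))
 (.node (nat_lit 0x5dc0e629d73) (.leaf (nat_lit 0x5dc0e4cfd4d) (nat_lit 3073))
 (.leaf (nat_lit 0x5dc0e629d73) (nat_lit 2817))
)))) (.node (nat_lit 0x5dcfe5efa54) (.node (nat_lit 0x5dc740894e8) (.node (nat_lit 0x5dc5840cd05) (.leaf (nat_lit 0x5dc15648cf0) (nat_lit 3073))
 (.leaf (nat_lit 0x5dc5840cd05) (nat_lit 3330))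
) (.node (nat_lit 0x5dca080ccaa) (.leaf (nat_lit 0x5dc740894e8) (nat_lit 2305))
 (.node (nat_lit 0x5dcb289ece8) (.leaf (nat_lit 0x5dca080ccaa) (nat_lit 3585))
 (.leaf (nat_lit 0x5dcb289ece8) (nat_lit 3073))
))) (.node (nat_lit 0x5dd2ccd4505) (.node (nat_lit 0x5dd169d4254) (.leaf (nat_lit 0x5dcfe5efa54) (nat_lit 2561))
 (.node (nat_lit 0x5dd24e219d4) (.leaf (nat_lit 0x5dd169d4254) (nat_lit 2050))
 (.leaf (nat_lit 0x5dd24e219d4) (nat_lit 3330))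
)) (.node (nat_lit 0x5dd34dd23d1) (.leaf (nat_lit 0x5dd2ccd4505) (nat_lit 3072))
 (.node (nat_lit 0x5dd38634bd1) (.leaf (nat_lit 0x5dd34dd23d1) (nat_lit 2816))
 (.leaf (nat_lit 0x5dd38634bd1) (nat_lit 2305))
))))) (.node (nat_lit 0x5df3f9ef15d) (.node (nat_lit 0x5de5fa943ce) (.node (nat_lit 0x5de0e5cebce) (.node (nat_lit 0x5de0e51595d) (.leaf (nat_lit 0x5dd3b1a1d4d) (nat_lit 2306))
 (.leaf (nat_lit 0x5de0e51595d) (nat_lit 2560))
) (.node (nat_lit 0x5de13d0dd23) (.leaf (nat_lit 0x5de0e5cebce) (nat_lit 2049))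
 (.node (nat_lit 0x5de5d43eca9) (.leaf (nat_lit 0x5de13d0dd23) (nat_lit 2818))
 (.leaf (nat_lit 0x5de5d43eca9) (nat_lit 3329))
))) (.node (nat_lit 0x5df04046414) (.node (nat_lit 0x5de901bccf1) (.leaf (nat_lit 0x5de5fa943ce) (nat_lit 2049))
 (.node (nat_lit 0x5de9c09dadc) (.leaf (nat_lit 0x5de901bccf1) (nat_lit 2816))
 (.leaf (nat_lit 0x5de9c09dadc) (nat_lit 3074))
)) (.node (nat_lit 0x5df211c2d23) (.leaf (nat_lit 0x5df04046414) (nat_lit 2818))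
 (.node (nat_lit 0x5df3a917572) (.leaf (nat_lit 0x5df211c2d23) (nat_lit 2817))
 (.leaf (nat_lit 0x5df3a917572) (nat_lit 2817))
)))) (.node (nat_lit 0x5f80e44dc16) (.node (nat_lit 0x5df5e0a91d5) (.node (nat_lit 0x5df47096c14) (.leaf (nat_lit 0x5df3f9ef15d) (nat_lit 2816))
 (.node (nat_lit 0x5df5b80caaf) (.leaf (nat_lit 0x5df47096c14) (nat_lit 2560))
 (.leaf (nat_lit 0x5df5b80caaf) (nat_lit 3586))
)) (.node (nat_lit 0x5df5e80cadc) (.leaf (nat_lit 0x5df5e0a91d5) (nat_lit 3072))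
 (.node (nat_lit 0x5f80e42c8e8) (.leaf (nat_lit 0x5df5e80cadc) (nat_lit 2817))
 (.leaf (nat_lit 0x5f80e42c8e8) (nat_lit 3585))
))) (.node (nat_lit 0x5f82bd10d68) (.node (nat_lit 0x5f813dc5523) (.leaf (nat_lit 0x5f80e44dc16) (nat_lit 3072))
 (.node (nat_lit 0x5f81f1c5124) (.leaf (nat_lit 0x5f813dc5523) (nat_lit 2818))
 (.leaf (nat_lit 0x5f81f1c5124) (nat_lit 3074))
)) (.node (nat_lit 0x5f83f0f8d68) (.leaf (nat_lit 0x5f82bd10d68) (nat_lit 1793))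
 (.node (nat_lit 0x5f8585f5d3f) (.leaf (nat_lit 0x5f83f0f8d68) (nat_lit 2049))
 (.leaf (nat_lit 0x5f8585f5d3f) (nat_lit 3330))
)))))) (.node (nat_lit 0x5fc0e4e515d) (.node (nat_lit 0x5fa7401825f) (.node (nat_lit 0x5f93c211d3f) (.node (nat_lit 0x5f8ab9ea2c2) (.node (nat_lit 0x5f89e4fc924) (.leaf (nat_lit 0x5f86042c8e8) (nat_lit 2561))
 (.leaf (nat_lit 0x5f89e4fc924) (nat_lit 3073))
) (.node (nat_lit 0x5f8c4e119ad) (.leaf (nat_lit 0x5f8ab9ea2c2) (nat_lit 3329))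
 (.node (nat_lit 0x5f8d01ea2c4) (.leaf (nat_lit 0x5f8c4e119ad) (nat_lit 3330))
 (.leaf (nat_lit 0x5f8d01ea2c4) (nat_lit 3329))
))) (.node (nat_lit 0x5fa0aa92269) (.node (nat_lit 0x5f9434f8a77) (.leaf (nat_lit 0x5f93c211d3f) (nat_lit 3072))
 (.node (nat_lit 0x5f94aa2c2c4) (.leaf (nat_lit 0x5f9434f8a77) (nat_lit 3073))
 (.leaf (nat_lit 0x5f94aa2c2c4) (nat_lit 1537))
)) (.node (nat_lit 0x5fa0e5a1c1f) (.leaf (nat_lit 0x5fa0aa92269) (nat_lit 2304))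
 (.node (nat_lit 0x5fa0e66457f) (.leaf (nat_lit 0x5fa0e5a1c1f) (nat_lit 3328))
 (.leaf (nat_lit 0x5fa0e66457f) (nat_lit 2305))
)))) (.node (nat_lit 0x5fb35c0ca5f) (.node (nat_lit 0x5faf2cd4d06) (.node (nat_lit 0x5fa99a211d5) (.leaf (nat_lit 0x5fa7401825f) (nat_lit 2817))
 (.node (nat_lit 0x5fa9edd2309) (.leaf (nat_lit 0x5fa99a211d5) (nat_lit 3328))
 (.leaf (nat_lit 0x5fa9edd2309) (nat_lit 3584))
)) (.node (nat_lit 0x5fafde2906a) (.leaf (nat_lit 0x5faf2cd4d06) (nat_lit 3072))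
 (.node (nat_lit 0x5fb0ea8a86a) (.leaf (nat_lit 0x5fafde2906a) (nat_lit 2305))
 (.leaf (nat_lit 0x5fb0ea8a86a) (nat_lit 2304))
))) (.node (nat_lit 0x5fb390f1d57) (.node (nat_lit 0x5fb3800cae9) (.leaf (nat_lit 0x5fb35c0ca5f) (nat_lit 2305))
 (.node (nat_lit 0x5fb388a91d5) (.leaf (nat_lit 0x5fb3800cae9) (nat_lit 2305))
 (.leaf (nat_lit 0x5fb388a91d5) (nat_lit 2816))
)) (.node (nat_lit 0x5fb52463a69) (.leaf (nat_lit 0x5fb390f1d57) (nat_lit 2560))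
 (.node (nat_lit 0x5fb5ea3541f) (.leaf (nat_lit 0x5fb52463a69) (nat_lit 3072))
 (.leaf (nat_lit 0x5fb5ea3541f) (nat_lit 2818))
))))) (.node (nat_lit 0x5fd06405931) (.node (nat_lit 0x5fc804fd51f) (.node (nat_lit 0x5fc2190ea76) (.node (nat_lit 0x5fc0e66e060) (.leaf (nat_lit 0x5fc0e4e515d) (nat_lit 3329))
 (.leaf (nat_lit 0x5fc0e66e060) (nat_lit 2305))
) (.node (nat_lit 0x5fc5f9f51ac) (.leaf (nat_lit 0x5fc2190ea76) (nat_lit 3073))
 (.node (nat_lit 0x5fc6004cc17) (.leaf (nat_lit 0x5fc5f9f51ac) (nat_lit 3074))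
 (.leaf (nat_lit 0x5fc6004cc17) (nat_lit 3585))
))) (.node (nat_lit 0x5fcda21795d) (.node (nat_lit 0x5fc91d0a9d4) (.leaf (nat_lit 0x5fc804fd51f) (nat_lit 3073))
 (.node (nat_lit 0x5fca38e51d4) (.leaf (nat_lit 0x5fc91d0a9d4) (nat_lit 3074))
 (.leaf (nat_lit 0x5fca38e51d4) (nat_lit 3329))
)) (.node (nat_lit 0x5fce0805931) (.leaf (nat_lit 0x5fcda21795d) (nat_lit 1026))
 (.node (nat_lit 0x5fcf2e1797f) (.leaf (nat_lit 0x5fce0805931) (nat_lit 3073))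
 (.leaf (nat_lit 0x5fcf2e1797f) (nat_lit 3329))
)))) (.node (nat_lit 0x5fe13cb2bf5) (.node (nat_lit 0x5fd35a6e17f) (.node (nat_lit 0x5fd24d0a860) (.leaf (nat_lit 0x5fd06405931) (nat_lit 2817))
 (.node (nat_lit 0x5fd2d22eac3) (.leaf (nat_lit 0x5fd24d0a860) (nat_lit 3330))
 (.leaf (nat_lit 0x5fd2d22eac3) (nat_lit 2048))
)) (.node (nat_lit 0x5fe0e4e24f4) (.leaf (nat_lit 0x5fd35a6e17f) (nat_lit 2304))
 (.node (nat_lit 0x5fe0e5efb64) (.leaf (nat_lit 0x5fe0e4e24f4) (nat_lit 2560))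
 (.leaf (nat_lit 0x5fe0e5efb64) (nat_lit 3072))
))) (.node (nat_lit 0x5fe8040cd05) (.node (nat_lit 0x5fe3883eaeb) (.leaf (nat_lit 0x5fe13cb2bf5) (nat_lit 2816))
 (.node (nat_lit 0x5fe399b930e) (.leaf (nat_lit 0x5fe3883eaeb) (nat_lit 3073))
 (.leaf (nat_lit 0x5fe399b930e) (nat_lit 2049))
)) (.node (nat_lit 0x5fe8d50dd56) (.leaf (nat_lit 0x5fe8040cd05) (nat_lit 2304))
 (.node (nat_lit 0x5fe9c00ca63) (.leaf (nat_lit 0x5fe8d50dd56) (nat_lit 2305))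
 (.leaf (nat_lit 0x5fe9c00ca63) (nat_lit 2304))
))))))))) (.node (nat_lit 0x67ad05243d0) (.node (nat_lit 0x66aa46099ad) (.node (nat_lit 0x654ef8968b0) (.node (nat_lit 0x6040e5da1b1) (.node (nat_lit 0x60037e099ad) (.node (nat_lit 0x5ff3b115925) (.node (nat_lit 0x5feb54f64f4) (.node (nat_lit 0x5feb34a8364) (.leaf (nat_lit 0x5feac29c925) (nat_lit 2816))
 (.leaf (nat_lit 0x5feb34a8364) (nat_lit 2818))
) (.node (nat_lit 0x5ff04084263) (.leaf (nat_lit 0x5feb54f64f4) (nat_lit 2561))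
 (.node (nat_lit 0x5ff3a4393f5) (.leaf (nat_lit 0x5ff04084263) (nat_lit 3074))
 (.leaf (nat_lit 0x5ff3a4393f5) (nat_lit 3584))
))) (.node (nat_lit 0x6000e5d7572) (.node (nat_lit 0x5ff5ecfb57e) (.leaf (nat_lit 0x5ff3b115925) (nat_lit 2562))
 (.node (nat_lit 0x6000e5a90a4) (.leaf (nat_lit 0x5ff5ecfb57e) (nat_lit 3073))
 (.leaf (nat_lit 0x6000e5a90a4) (nat_lit 2560))
)) (.node (nat_lit 0x6002ad968a4) (.leaf (nat_lit 0x6000e5d7572) (nat_lit 3074))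
 (.node (nat_lit 0x6002b9f81d5) (.leaf (nat_lit 0x6002ad968a4) (nat_lit 2562))
 (.leaf (nat_lit 0x6002b9f81d5) (nat_lit 2817))
)))) (.node (nat_lit 0x60104064131) (.node (nat_lit 0x60090647c7d) (.node (nat_lit 0x6005d00c8e5) (.leaf (nat_lit 0x60037e099ad) (nat_lit 3074))
 (.leaf (nat_lit 0x6005d00c8e5) (nat_lit 3074))
) (.node (nat_lit 0x60091c58931) (.leaf (nat_lit 0x60090647c7d) (nat_lit 2818))
 (.node (nat_lit 0x600950eebf7) (.leaf (nat_lit 0x60091c58931) (nat_lit 2562))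
 (.leaf (nat_lit 0x600950eebf7) (nat_lit 2560))
))) (.node (nat_lit 0x60155c0caaf) (.node (nat_lit 0x6011f1949ad) (.leaf (nat_lit 0x60104064131) (nat_lit 2561))
 (.node (nat_lit 0x6012151c0e5) (.leaf (nat_lit 0x6011f1949ad) (nat_lit 2560))
 (.leaf (nat_lit 0x6012151c0e5) (nat_lit 2818))
)) (.node (nat_lit 0x6015a4db3f7) (.leaf (nat_lit 0x60155c0caaf) (nat_lit 2817))
 (.node (nat_lit 0x6015b49eca9) (.leaf (nat_lit 0x6015a4db3f7) (nat_lit 2818))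
 (.leaf (nat_lit 0x6015b49eca9) (nat_lit 2304))
))))) (.node (nat_lit 0x6052d0fb4fd) (.node (nat_lit 0x6049359bcfd) (.node (nat_lit 0x60415dbc47e) (.node (nat_lit 0x6040e66411d) (.leaf (nat_lit 0x6040e5da1b1) (nat_lit 1794))
 (.leaf (nat_lit 0x6040e66411d) (nat_lit 2305))
) (.node (nat_lit 0x6042b552573) (.leaf (nat_lit 0x60415dbc47e) (nat_lit 2561))
 (.node (nat_lit 0x60474063aeb) (.leaf (nat_lit 0x6042b552573) (nat_lit 3074))
 (.leaf (nat_lit 0x60474063aeb) (nat_lit 2560))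
))) (.node (nat_lit 0x604d803eaeb) (.node (nat_lit 0x604a200ca5f) (.leaf (nat_lit 0x6049359bcfd) (nat_lit 2817))
 (.node (nat_lit 0x604d25e39d4) (.leaf (nat_lit 0x604a200ca5f) (nat_lit 3329))
 (.leaf (nat_lit 0x604d25e39d4) (nat_lit 3328))
)) (.node (nat_lit 0x604dbcef1b1) (.leaf (nat_lit 0x604d803eaeb) (nat_lit 2560))
 (.node (nat_lit 0x6051650f11d) (.leaf (nat_lit 0x604dbcef1b1) (nat_lit 2817))
 (.leaf (nat_lit 0x6051650f11d) (nat_lit 3329))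
)))) (.node (nat_lit 0x6543f202d23) (.node (nat_lit 0x6054fc0ccaa) (.node (nat_lit 0x6053a496aae) (.leaf (nat_lit 0x6052d0fb4fd) (nat_lit 2562))
 (.node (nat_lit 0x6054a80ea5f) (.leaf (nat_lit 0x6053a496aae) (nat_lit 2817))
 (.leaf (nat_lit 0x6054a80ea5f) (nat_lit 2816))
)) (.node (nat_lit 0x6540e4f58a4) (.leaf (nat_lit 0x6054fc0ccaa) (nat_lit 2816))
 (.node (nat_lit 0x6540e6942bd) (.leaf (nat_lit 0x6540e4f58a4) (nat_lit 3329))
 (.leaf (nat_lit 0x6540e6942bd) (nat_lit 3585))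
))) (.node (nat_lit 0x6546adab8a4) (.node (nat_lit 0x65462221b42) (.leaf (nat_lit 0x6543f202d23) (nat_lit 2816))
 (.node (nat_lit 0x65467192060) (.leaf (nat_lit 0x65462221b42) (nat_lit 3586))
 (.leaf (nat_lit 0x65467192060) (nat_lit 3329))
)) (.node (nat_lit 0x6549d00ccaa) (.leaf (nat_lit 0x6546adab8a4) (nat_lit 2562))
 (.node (nat_lit 0x654d80a9060) (.leaf (nat_lit 0x6549d00ccaa) (nat_lit 3329))
 (.leaf (nat_lit 0x654d80a9060) (nat_lit 3330))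
)))))) (.node (nat_lit 0x6680f00c917) (.node (nat_lit 0x6565f80cadc) (.node (nat_lit 0x655555d8160) (.node (nat_lit 0x6551f552523) (.node (nat_lit 0x6551580c92f) (.leaf (nat_lit 0x654ef8968b0) (nat_lit 3328))
 (.leaf (nat_lit 0x6551580c92f) (nat_lit 3072))
) (.node (nat_lit 0x65524c112da) (.leaf (nat_lit 0x6551f552523) (nat_lit 2817))
 (.node (nat_lit 0x65543088caa) (.leaf (nat_lit 0x65524c112da) (nat_lit 3328))
 (.leaf (nat_lit 0x65543088caa) (nat_lit 3074))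
))) (.node (nat_lit 0x6560e5d7347) (.node (nat_lit 0x6555b4358b0) (.leaf (nat_lit 0x655555d8160) (nat_lit 2818))
 (.node (nat_lit 0x6560e5a2cde) (.leaf (nat_lit 0x6555b4358b0) (nat_lit 2818))
 (.leaf (nat_lit 0x6560e5a2cde) (nat_lit 2306))
)) (.node (nat_lit 0x6561f1ba4a2) (.leaf (nat_lit 0x6560e5d7347) (nat_lit 2560))
 (.node (nat_lit 0x6562e1a82cf) (.leaf (nat_lit 0x6561f1ba4a2) (nat_lit 3073))
 (.leaf (nat_lit 0x6562e1a82cf) (nat_lit 3330))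
)))) (.node (nat_lit 0x65719cf64a2) (.node (nat_lit 0x656aa063119) (.node (nat_lit 0x6567409d119) (.leaf (nat_lit 0x6565f80cadc) (nat_lit 2818))
 (.leaf (nat_lit 0x6567409d119) (nat_lit 3074))
) (.node (nat_lit 0x656c668a2cf) (.leaf (nat_lit 0x656aa063119) (nat_lit 3586))
 (.node (nat_lit 0x656fd026057) (.leaf (nat_lit 0x656c668a2cf) (nat_lit 2818))
 (.leaf (nat_lit 0x656fd026057) (nat_lit 3328))
))) (.node (nat_lit 0x65741aa0161) (.node (nat_lit 0x6571f80c857) (.leaf (nat_lit 0x65719cf64a2) (nat_lit 2817))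
 (.node (nat_lit 0x65731464131) (.leaf (nat_lit 0x6571f80c857) (nat_lit 2561))
 (.leaf (nat_lit 0x65731464131) (nat_lit 3329))
)) (.node (nat_lit 0x657458cf4de) (.leaf (nat_lit 0x65741aa0161) (nat_lit 3073))
 (.node (nat_lit 0x6575adbcabe) (.leaf (nat_lit 0x657458cf4de) (nat_lit 3585))
 (.leaf (nat_lit 0x6575adbcabe) (nat_lit 3329))
))))) (.node (nat_lit 0x668c3da1c78) (.node (nat_lit 0x6683d0a0c78) (.node (nat_lit 0x668101589d2) (.node (nat_lit 0x6680f1d14d8) (.leaf (nat_lit 0x6680f00c917) (nat_lit 1792))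
 (.leaf (nat_lit 0x6680f1d14d8) (nat_lit 2562))
) (.node (nat_lit 0x668101809d2) (.leaf (nat_lit 0x668101589d2) (nat_lit 3074))
 (.node (nat_lit 0x6683d011261) (.leaf (nat_lit 0x668101809d2) (nat_lit 2817))
 (.leaf (nat_lit 0x6683d011261) (nat_lit 2306))
))) (.node (nat_lit 0x668a49c1abe) (.node (nat_lit 0x6685ec9d261) (.leaf (nat_lit 0x6683d0a0c78) (nat_lit 3073))
 (.node (nat_lit 0x6685ed1e4d8) (.leaf (nat_lit 0x6685ec9d261) (nat_lit 2817))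
 (.leaf (nat_lit 0x6685ed1e4d8) (nat_lit 3585))
)) (.node (nat_lit 0x668b00f1b47) (.leaf (nat_lit 0x668a49c1abe) (nat_lit 3073))
 (.node (nat_lit 0x668c3c88917) (.leaf (nat_lit 0x668b00f1b47) (nat_lit 2817))
 (.leaf (nat_lit 0x668c3c88917) (nat_lit 2817))
)))) (.node (nat_lit 0x66a641bc1d4) (.node (nat_lit 0x668fe00cadc) (.node (nat_lit 0x668c5c35931) (.leaf (nat_lit 0x668c3da1c78) (nat_lit 3073))
 (.node (nat_lit 0x668c84ff28a) (.leaf (nat_lit 0x668c5c35931) (nat_lit 3330))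
 (.leaf (nat_lit 0x668c84ff28a) (nat_lit 1794))
)) (.node (nat_lit 0x66a5880c92f) (.leaf (nat_lit 0x668fe00cadc) (nat_lit 3074))
 (.node (nat_lit 0x66a58896c14) (.leaf (nat_lit 0x66a5880c92f) (nat_lit 3072))
 (.leaf (nat_lit 0x66a58896c14) (nat_lit 2818))
))) (.node (nat_lit 0x66a859e92bd) (.node (nat_lit 0x66a64231a89) (.leaf (nat_lit 0x66a641bc1d4) (nat_lit 3073))
 (.node (nat_lit 0x66a859ac9ad) (.leaf (nat_lit 0x66a64231a89) (nat_lit 2817))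
 (.leaf (nat_lit 0x66a859ac9ad) (nat_lit 2817))
)) (.node (nat_lit 0x66a9440ca4f) (.leaf (nat_lit 0x66a859e92bd) (nat_lit 2817))
 (.node (nat_lit 0x66a9441824f) (.leaf (nat_lit 0x66a9440ca4f) (nat_lit 3329))
 (.leaf (nat_lit 0x66a9441824f) (nat_lit 2817))
))))))) (.node (nat_lit 0x674b300c825) (.node (nat_lit 0x6720e49da63) (.node (nat_lit 0x67091a92ce6) (.node (nat_lit 0x66b2c09aada) (.node (nat_lit 0x66ac5458c14) (.node (nat_lit 0x66aafccfb42) (.leaf (nat_lit 0x66aa46099ad) (nat_lit 2817))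
 (.leaf (nat_lit 0x66aafccfb42) (nat_lit 2561))
) (.node (nat_lit 0x66ac82021d4) (.leaf (nat_lit 0x66ac5458c14) (nat_lit 3073))
 (.node (nat_lit 0x66afd9d18de) (.leaf (nat_lit 0x66ac82021d4) (nat_lit 2048))
 (.leaf (nat_lit 0x66afd9d18de) (nat_lit 2816))
))) (.node (nat_lit 0x6700e5da954) (.node (nat_lit 0x66b2c1d20de) (.leaf (nat_lit 0x66b2c09aada) (nat_lit 2562))
 (.node (nat_lit 0x6700e4f64f4) (.leaf (nat_lit 0x66b2c1d20de) (nat_lit 2562))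
 (.leaf (nat_lit 0x6700e4f64f4) (nat_lit 3073))
)) (.node (nat_lit 0x67014980984) (.leaf (nat_lit 0x6700e5da954) (nat_lit 2561))
 (.node (nat_lit 0x6705f40cce6) (.leaf (nat_lit 0x67014980984) (nat_lit 2818))
 (.leaf (nat_lit 0x6705f40cce6) (nat_lit 2049))
)))) (.node (nat_lit 0x67139c21240) (.node (nat_lit 0x670b50fb984) (.node (nat_lit 0x670b3596371) (.leaf (nat_lit 0x67091a92ce6) (nat_lit 3330))
 (.leaf (nat_lit 0x670b3596371) (nat_lit 3072))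
) (.node (nat_lit 0x6712105b24d) (.leaf (nat_lit 0x670b50fb984) (nat_lit 2818))
 (.node (nat_lit 0x6712e4a0a7c) (.leaf (nat_lit 0x6712105b24d) (nat_lit 3585))
 (.leaf (nat_lit 0x6712e4a0a7c) (nat_lit 3330))
))) (.node (nat_lit 0x6714ac0c845) (.node (nat_lit 0x67143417a4d) (.leaf (nat_lit 0x67139c21240) (nat_lit 3074))
 (.node (nat_lit 0x67147594954) (.leaf (nat_lit 0x67143417a4d) (nat_lit 2817))
 (.leaf (nat_lit 0x67147594954) (nat_lit 3329))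
)) (.node (nat_lit 0x671520a4526) (.leaf (nat_lit 0x6714ac0c845) (nat_lit 1793))
 (.node (nat_lit 0x6715b2a0a7c) (.leaf (nat_lit 0x671520a4526) (nat_lit 3073))
 (.leaf (nat_lit 0x6715b2a0a7c) (nat_lit 2817))
))))) (.node (nat_lit 0x67338229b70) (.node (nat_lit 0x672f000ca41) (.node (nat_lit 0x6722b6023cc) (.node (nat_lit 0x6720e51b847) (.leaf (nat_lit 0x6720e49da63) (nat_lit 3329))
 (.leaf (nat_lit 0x6720e51b847) (nat_lit 2818))
) (.node (nat_lit 0x672745923cc) (.leaf (nat_lit 0x6722b6023cc) (nat_lit 3072))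
 (.node (nat_lit 0x672b400ca63) (.leaf (nat_lit 0x672745923cc) (nat_lit 3072))
 (.leaf (nat_lit 0x672b400ca63) (nat_lit 3074))
))) (.node (nat_lit 0x6730621dd27) (.node (nat_lit 0x672f28b4a34) (.leaf (nat_lit 0x672f000ca41) (nat_lit 2817))
 (.node (nat_lit 0x672fd5b956e) (.leaf (nat_lit 0x672f28b4a34) (nat_lit 2050))
 (.leaf (nat_lit 0x672fd5b956e) (nat_lit 2562))
)) (.node (nat_lit 0x673169d2309) (.leaf (nat_lit 0x6730621dd27) (nat_lit 2816))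
 (.node (nat_lit 0x6732a8b2a34) (.leaf (nat_lit 0x673169d2309) (nat_lit 3072))
 (.leaf (nat_lit 0x6732a8b2a34) (nat_lit 3073))
)))) (.node (nat_lit 0x6742c1b90ff) (.node (nat_lit 0x6735d915cf5) (.node (nat_lit 0x673430ef56e) (.leaf (nat_lit 0x67338229b70) (nat_lit 3074))
 (.node (nat_lit 0x67348de1309) (.leaf (nat_lit 0x673430ef56e) (nat_lit 2817))
 (.leaf (nat_lit 0x67348de1309) (nat_lit 3073))
)) (.node (nat_lit 0x6740e40c825) (.leaf (nat_lit 0x6735d915cf5) (nat_lit 3073))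
 (.node (nat_lit 0x6740e5d130c) (.leaf (nat_lit 0x6740e40c825) (nat_lit 1281))
 (.leaf (nat_lit 0x6740e5d130c) (nat_lit 3328))
))) (.node (nat_lit 0x6749d9d425a) (.node (nat_lit 0x67439059025) (.leaf (nat_lit 0x6742c1b90ff) (nat_lit 2305))
 (.node (nat_lit 0x6743959b0ff) (.leaf (nat_lit 0x67439059025) (nat_lit 2816))
 (.leaf (nat_lit 0x6743959b0ff) (nat_lit 2049))
)) (.node (nat_lit 0x674a09ef0ff) (.leaf (nat_lit 0x6749d9d425a) (nat_lit 3329))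
 (.node (nat_lit 0x674abea0a5a) (.leaf (nat_lit 0x674a09ef0ff) (nat_lit 2305))
 (.leaf (nat_lit 0x674abea0a5a) (nat_lit 2306))
)))))) (.node (nat_lit 0x678101dc1d2) (.node (nat_lit 0x6766a858827) (.node (nat_lit 0x6753aa29c77) (.node (nat_lit 0x67519a34b0c) (.node (nat_lit 0x675168e1a5a) (.leaf (nat_lit 0x674b300c825) (nat_lit 2306))
 (.leaf (nat_lit 0x675168e1a5a) (nat_lit 3073))
) (.node (nat_lit 0x675248a5c77) (.leaf (nat_lit 0x67519a34b0c) (nat_lit 3328))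
 (.node (nat_lit 0x67534cef477) (.leaf (nat_lit 0x675248a5c77) (nat_lit 1025))
 (.leaf (nat_lit 0x67534cef477) (nat_lit 2817))
))) (.node (nat_lit 0x6760e51747b) (.node (nat_lit 0x6755b0bb30c) (.leaf (nat_lit 0x6753aa29c77) (nat_lit 2561))
 (.node (nat_lit 0x6760e440000) (.leaf (nat_lit 0x6755b0bb30c) (nat_lit 3329))
 (.leaf (nat_lit 0x6760e440000) (nat_lit 3329))
)) (.node (nat_lit 0x6765d513100) (.leaf (nat_lit 0x6760e51747b) (nat_lit 2562))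
 (.node (nat_lit 0x6765f4a030d) (.leaf (nat_lit 0x6765d513100) (nat_lit 2049))
 (.leaf (nat_lit 0x6765f4a030d) (nat_lit 3328))
)))) (.node (nat_lit 0x676d0426000) (.node (nat_lit 0x6769b80c800) (.node (nat_lit 0x67675896000) (.leaf (nat_lit 0x6766a858827) (nat_lit 2304))
 (.leaf (nat_lit 0x67675896000) (nat_lit 2050))
) (.node (nat_lit 0x676c4865800) (.leaf (nat_lit 0x6769b80c800) (nat_lit 3584))
 (.node (nat_lit 0x676c6045000) (.leaf (nat_lit 0x676c4865800) (nat_lit 2816))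
 (.leaf (nat_lit 0x676c6045000) (nat_lit 3074))
))) (.node (nat_lit 0x6773f80c800) (.node (nat_lit 0x67724c36000) (.leaf (nat_lit 0x676d0426000) (nat_lit 3072))
 (.node (nat_lit 0x6772a999259) (.leaf (nat_lit 0x67724c36000) (nat_lit 2305))
 (.leaf (nat_lit 0x6772a999259) (nat_lit 3074))
)) (.node (nat_lit 0x6775e45a800) (.leaf (nat_lit 0x6773f80c800) (nat_lit 3072))
 (.node (nat_lit 0x6775ec9d800) (.leaf (nat_lit 0x6775e45a800) (nat_lit 2049))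
 (.leaf (nat_lit 0x6775ec9d800) (nat_lit 2816))
))))) (.node (nat_lit 0x678c3cd3530) (.node (nat_lit 0x678461bd289) (.node (nat_lit 0x678358d341e) (.node (nat_lit 0x6781021f9d2) (.leaf (nat_lit 0x678101dc1d2) (nat_lit 3073))
 (.leaf (nat_lit 0x6781021f9d2) (nat_lit 2305))
) (.node (nat_lit 0x678359f5a89) (.leaf (nat_lit 0x678358d341e) (nat_lit 2305))
 (.node (nat_lit 0x6784602d0ea) (.leaf (nat_lit 0x678359f5a89) (nat_lit 2817))
 (.leaf (nat_lit 0x6784602d0ea) (nat_lit 2561))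
))) (.node (nat_lit 0x678a4a13c1e) (.node (nat_lit 0x678841dc4d9) (.leaf (nat_lit 0x678461bd289) (nat_lit 3330))
 (.node (nat_lit 0x67885ea8521) (.leaf (nat_lit 0x678841dc4d9) (nat_lit 3328))
 (.leaf (nat_lit 0x67885ea8521) (nat_lit 2562))
)) (.node (nat_lit 0x678a4aa82e2) (.leaf (nat_lit 0x678a4a13c1e) (nat_lit 3073))
 (.node (nat_lit 0x678b01f5d1a) (.leaf (nat_lit 0x678a4aa82e2) (nat_lit 2818))
 (.leaf (nat_lit 0x678b01f5d1a) (nat_lit 2561))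
)))) (.node (nat_lit 0x67a154b7a76) (.node (nat_lit 0x6792ca182e2) (.node (nat_lit 0x6792a01b31f) (.leaf (nat_lit 0x678c3cd3530) (nat_lit 2305))
 (.node (nat_lit 0x6792c82d0ea) (.leaf (nat_lit 0x6792a01b31f) (nat_lit 2561))
 (.leaf (nat_lit 0x6792c82d0ea) (nat_lit 3073))
)) (.node (nat_lit 0x67a0e4f2924) (.leaf (nat_lit 0x6792ca182e2) (nat_lit 2562))
 (.node (nat_lit 0x67a0e556185) (.leaf (nat_lit 0x67a0e4f2924) (nat_lit 2560))
 (.leaf (nat_lit 0x67a0e556185) (nat_lit 2816))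
))) (.node (nat_lit 0x67a6724ea9f) (.node (nat_lit 0x67a218b7a76) (.leaf (nat_lit 0x67a154b7a76) (nat_lit 2560))
 (.node (nat_lit 0x67a2bd2453e) (.leaf (nat_lit 0x67a218b7a76) (nat_lit 3072))
 (.leaf (nat_lit 0x67a2bd2453e) (nat_lit 2050))
)) (.node (nat_lit 0x67a900b7bbe) (.leaf (nat_lit 0x67a6724ea9f) (nat_lit 512))
 (.node (nat_lit 0x67ab5556185) (.leaf (nat_lit 0x67a900b7bbe) (nat_lit 2818))
 (.leaf (nat_lit 0x67ab5556185) (nat_lit 2816))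
)))))))) (.node (nat_lit 0x6a31f00cb06) (.node (nat_lit 0x698a2200b71) (.node (nat_lit 0x67e0e40cb1f) (.node (nat_lit 0x67c3dd15522) (.node (nat_lit 0x67b528f2a7f) (.node (nat_lit 0x67b1fe4ec76) (.node (nat_lit 0x67ad864ec76) (.leaf (nat_lit 0x67ad05243d0) (nat_lit 3073))
 (.leaf (nat_lit 0x67ad864ec76) (nat_lit 1281))
) (.node (nat_lit 0x67b310f2924) (.leaf (nat_lit 0x67b1fe4ec76) (nat_lit 3328))
 (.node (nat_lit 0x67b391564d5) (.leaf (nat_lit 0x67b310f2924) (nat_lit 2818))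
 (.leaf (nat_lit 0x67b391564d5) (nat_lit 2818))
))) (.node (nat_lit 0x67c3c9bdb81) (.node (nat_lit 0x67b5b1243d0) (.leaf (nat_lit 0x67b528f2a7f) (nat_lit 3329))
 (.node (nat_lit 0x67c3c95acd8) (.leaf (nat_lit 0x67b5b1243d0) (nat_lit 2561))
 (.leaf (nat_lit 0x67c3c95acd8) (nat_lit 3330))
)) (.node (nat_lit 0x67c3d41bb1d) (.leaf (nat_lit 0x67c3c9bdb81) (nat_lit 3074))
 (.node (nat_lit 0x67c3d4f7a9f) (.leaf (nat_lit 0x67c3d41bb1d) (nat_lit 2817))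
 (.leaf (nat_lit 0x67c3d4f7a9f) (nat_lit 2562))
)))) (.node (nat_lit 0x67c94617a01) (.node (nat_lit 0x67c83e5e381) (.node (nat_lit 0x67c3de6e85f) (.leaf (nat_lit 0x67c3dd15522) (nat_lit 3073))
 (.leaf (nat_lit 0x67c3de6e85f) (nat_lit 3073))
) (.node (nat_lit 0x67c85a1305f) (.leaf (nat_lit 0x67c83e5e381) (nat_lit 2561))
 (.node (nat_lit 0x67c9455aa01) (.leaf (nat_lit 0x67c85a1305f) (nat_lit 3072))
 (.leaf (nat_lit 0x67c9455aa01) (nat_lit 3073))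
))) (.node (nat_lit 0x67cc561f362) (.node (nat_lit 0x67cafe6ed1b) (.leaf (nat_lit 0x67c94617a01) (nat_lit 2561))
 (.node (nat_lit 0x67cc4115362) (.leaf (nat_lit 0x67cafe6ed1b) (nat_lit 2817))
 (.leaf (nat_lit 0x67cc4115362) (nat_lit 2306))
)) (.node (nat_lit 0x67cc565e532) (.leaf (nat_lit 0x67cc561f362) (nat_lit 2816))
 (.node (nat_lit 0x67d298f7a9f) (.leaf (nat_lit 0x67cc565e532) (nat_lit 2049))
 (.leaf (nat_lit 0x67d298f7a9f) (nat_lit 3074))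
))))) (.node (nat_lit 0x67efd52553f) (.node (nat_lit 0x67e38c0cc15) (.node (nat_lit 0x67e13cb73c0) (.node (nat_lit 0x67e0e64fa9e) (.leaf (nat_lit 0x67e0e40cb1f) (nat_lit 2818))
 (.leaf (nat_lit 0x67e0e64fa9e) (nat_lit 770))
) (.node (nat_lit 0x67e19556cd6) (.leaf (nat_lit 0x67e13cb73c0) (nat_lit 3073))
 (.node (nat_lit 0x67e2ac0c870) (.leaf (nat_lit 0x67e19556cd6) (nat_lit 2048))
 (.leaf (nat_lit 0x67e2ac0c870) (nat_lit 2816))
))) (.node (nat_lit 0x67e9c40ca67) (.node (nat_lit 0x67e6740cb1f) (.leaf (nat_lit 0x67e38c0cc15) (nat_lit 3073))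
 (.node (nat_lit 0x67e7580cc15) (.leaf (nat_lit 0x67e6740cb1f) (nat_lit 2816))
 (.leaf (nat_lit 0x67e7580cc15) (nat_lit 2818))
)) (.node (nat_lit 0x67eb080ca67) (.leaf (nat_lit 0x67e9c40ca67) (nat_lit 2817))
 (.node (nat_lit 0x67ef2c0ca35) (.leaf (nat_lit 0x67eb080ca67) (nat_lit 2048))
 (.leaf (nat_lit 0x67ef2c0ca35) (nat_lit 2048))
)))) (.node (nat_lit 0x6983980782a) (.node (nat_lit 0x67f5a00ca35) (.node (nat_lit 0x67f1980c870) (.leaf (nat_lit 0x67efd52553f) (nat_lit 3073))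
 (.node (nat_lit 0x67f3bcf227a) (.leaf (nat_lit 0x67f1980c870) (nat_lit 1793))
 (.leaf (nat_lit 0x67f3bcf227a) (nat_lit 3074))
)) (.node (nat_lit 0x6980e4f83ce) (.leaf (nat_lit 0x67f5a00ca35) (nat_lit 2561))
 (.node (nat_lit 0x6980e5f24a0) (.leaf (nat_lit 0x6980e4f83ce) (nat_lit 3330))
 (.leaf (nat_lit 0x6980e5f24a0) (nat_lit 3073))
))) (.node (nat_lit 0x69895e05b64) (.node (nat_lit 0x69858661309) (.leaf (nat_lit 0x6983980782a) (nat_lit 2048))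
 (.node (nat_lit 0x698950c9bf4) (.leaf (nat_lit 0x69858661309) (nat_lit 2818))
 (.leaf (nat_lit 0x698950c9bf4) (nat_lit 2817))
)) (.node (nat_lit 0x6989ddf5bf7) (.leaf (nat_lit 0x69895e05b64) (nat_lit 2818))
 (.node (nat_lit 0x698a0df5b64) (.leaf (nat_lit 0x6989ddf5bf7) (nat_lit 3330))
 (.leaf (nat_lit 0x698a0df5b64) (nat_lit 2304))
)))))) (.node (nat_lit 0x69e0e417847) (.node (nat_lit 0x69a5e8e5975) (.node (nat_lit 0x69948cf8309) (.node (nat_lit 0x698f2df217f) (.node (nat_lit 0x698aecf7b71) (.leaf (nat_lit 0x698a2200b71) (nat_lit 3074))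
 (.leaf (nat_lit 0x698aecf7b71) (nat_lit 3329))
) (.node (nat_lit 0x6992a40782a) (.leaf (nat_lit 0x698f2df217f) (nat_lit 2816))
 (.node (nat_lit 0x699402184a0) (.leaf (nat_lit 0x6992a40782a) (nat_lit 2817))
 (.leaf (nat_lit 0x699402184a0) (nat_lit 3330))
))) (.node (nat_lit 0x69a0e61795d) (.node (nat_lit 0x6995e2008de) (.leaf (nat_lit 0x69948cf8309) (nat_lit 3073))
 (.node (nat_lit 0x69a0e5f3573) (.leaf (nat_lit 0x6995e2008de) (nat_lit 2305))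
 (.leaf (nat_lit 0x69a0e5f3573) (nat_lit 2817))
)) (.node (nat_lit 0x69a1410415d) (.leaf (nat_lit 0x69a0e61795d) (nat_lit 2304))
 (.node (nat_lit 0x69a4ca1f9ad) (.leaf (nat_lit 0x69a1410415d) (nat_lit 3074))
 (.leaf (nat_lit 0x69a4ca1f9ad) (nat_lit 2817))
)))) (.node (nat_lit 0x69b3a4c6bf5) (.node (nat_lit 0x69ac4e06d73) (.node (nat_lit 0x69ac161f9ad) (.leaf (nat_lit 0x69a5e8e5975) (nat_lit 2816))
 (.leaf (nat_lit 0x69ac161f9ad) (nat_lit 3074))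
) (.node (nat_lit 0x69b24d040db) (.leaf (nat_lit 0x69ac4e06d73) (nat_lit 2817))
 (.node (nat_lit 0x69b2e4f728a) (.leaf (nat_lit 0x69b24d040db) (nat_lit 2049))
 (.leaf (nat_lit 0x69b2e4f728a) (nat_lit 2818))
))) (.node (nat_lit 0x69b526604b3) (.node (nat_lit 0x69b3c5ee3f9) (.leaf (nat_lit 0x69b3a4c6bf5) (nat_lit 2305))
 (.node (nat_lit 0x69b405f33cc) (.leaf (nat_lit 0x69b3c5ee3f9) (nat_lit 3073))
 (.leaf (nat_lit 0x69b405f33cc) (nat_lit 2817))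
)) (.node (nat_lit 0x69b55dee4b3) (.leaf (nat_lit 0x69b526604b3) (nat_lit 3073))
 (.node (nat_lit 0x69b570e5a8a) (.leaf (nat_lit 0x69b55dee4b3) (nat_lit 3074))
 (.leaf (nat_lit 0x69b570e5a8a) (nat_lit 3329))
))))) (.node (nat_lit 0x69f3fc0c8c3) (.node (nat_lit 0x69eda4438c3) (.node (nat_lit 0x69e35064307) (.node (nat_lit 0x69e0e5e915d) (.leaf (nat_lit 0x69e0e417847) (nat_lit 2306))
 (.leaf (nat_lit 0x69e0e5e915d) (nat_lit 3072))
) (.node (nat_lit 0x69e43981b23) (.leaf (nat_lit 0x69e35064307) (nat_lit 2818))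
 (.node (nat_lit 0x69e5f8f58a4) (.leaf (nat_lit 0x69e43981b23) (nat_lit 3329))
 (.leaf (nat_lit 0x69e5f8f58a4) (nat_lit 2817))
))) (.node (nat_lit 0x69f1f6bea75) (.node (nat_lit 0x69efd6a0275) (.leaf (nat_lit 0x69eda4438c3) (nat_lit 2304))
 (.node (nat_lit 0x69f19d96b1b) (.leaf (nat_lit 0x69efd6a0275) (nat_lit 2562))
 (.leaf (nat_lit 0x69f19d96b1b) (nat_lit 2562))
)) (.node (nat_lit 0x69f2140ca4f) (.leaf (nat_lit 0x69f1f6bea75) (nat_lit 3073))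
 (.node (nat_lit 0x69f2e559323) (.leaf (nat_lit 0x69f2140ca4f) (nat_lit 3074))
 (.leaf (nat_lit 0x69f2e559323) (nat_lit 3074))
)))) (.node (nat_lit 0x6a215dba17f) (.node (nat_lit 0x69f5adb9519) (.node (nat_lit 0x69f4a85b047) (.leaf (nat_lit 0x69f3fc0c8c3) (nat_lit 3072))
 (.node (nat_lit 0x69f5228a519) (.leaf (nat_lit 0x69f4a85b047) (nat_lit 3330))
 (.leaf (nat_lit 0x69f5228a519) (nat_lit 2818))
)) (.node (nat_lit 0x6a20e40cadc) (.leaf (nat_lit 0x69f5adb9519) (nat_lit 2306))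
 (.node (nat_lit 0x6a20e4ff31a) (.leaf (nat_lit 0x6a20e40cadc) (nat_lit 2817))
 (.leaf (nat_lit 0x6a20e4ff31a) (nat_lit 3074))
))) (.node (nat_lit 0x6a2f00462ae) (.node (nat_lit 0x6a26ac10adc) (.leaf (nat_lit 0x6a215dba17f) (nat_lit 1537))
 (.node (nat_lit 0x6a2b26219ad) (.leaf (nat_lit 0x6a26ac10adc) (nat_lit 2306))
 (.leaf (nat_lit 0x6a2b26219ad) (nat_lit 3586))
)) (.node (nat_lit 0x6a2fd2318fd) (.leaf (nat_lit 0x6a2f00462ae) (nat_lit 2562))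
 (.node (nat_lit 0x6a3075949ad) (.leaf (nat_lit 0x6a2fd2318fd) (nat_lit 2561))
 (.leaf (nat_lit 0x6a3075949ad) (nat_lit 3074))
))))))) (.node (nat_lit 0x6b45f06331d) (.node (nat_lit 0x6aa0e464131) (.node (nat_lit 0x6a89ec39a41) (.node (nat_lit 0x6a35a858aae) (.node (nat_lit 0x6a34351ba4d) (.node (nat_lit 0x6a324dab0a3) (.leaf (nat_lit 0x6a31f00cb06) (nat_lit 3842))
 (.leaf (nat_lit 0x6a324dab0a3) (nat_lit 2817))
) (.node (nat_lit 0x6a348ca90fd) (.leaf (nat_lit 0x6a34351ba4d) (nat_lit 2562))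
 (.node (nat_lit 0x6a35521d97f) (.leaf (nat_lit 0x6a348ca90fd) (nat_lit 2816))
 (.leaf (nat_lit 0x6a35521d97f) (nat_lit 2050))
))) (.node (nat_lit 0x6a80e5ef15d) (.node (nat_lit 0x6a35da0214f) (.leaf (nat_lit 0x6a35a858aae) (nat_lit 2817))
 (.node (nat_lit 0x6a80e51b86e) (.leaf (nat_lit 0x6a35da0214f) (nat_lit 2816))
 (.leaf (nat_lit 0x6a80e51b86e) (nat_lit 3329))
)) (.node (nat_lit 0x6a8149f8574) (.leaf (nat_lit 0x6a80e5ef15d) (nat_lit 2048))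
 (.node (nat_lit 0x6a838e29cb1) (.leaf (nat_lit 0x6a8149f8574) (nat_lit 3585))
 (.leaf (nat_lit 0x6a838e29cb1) (nat_lit 3329))
)))) (.node (nat_lit 0x6a91680ca41) (.node (nat_lit 0x6a8d20ffc57) (.node (nat_lit 0x6a8a200f06e) (.leaf (nat_lit 0x6a89ec39a41) (nat_lit 3072))
 (.leaf (nat_lit 0x6a8a200f06e) (nat_lit 2048))
) (.node (nat_lit 0x6a8d85d527c) (.leaf (nat_lit 0x6a8d20ffc57) (nat_lit 3329))
 (.node (nat_lit 0x6a8da4fb574) (.leaf (nat_lit 0x6a8d85d527c) (nat_lit 3072))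
 (.leaf (nat_lit 0x6a8da4fb574) (nat_lit 2050))
))) (.node (nat_lit 0x6a93540ca4f) (.node (nat_lit 0x6a924c58b07) (.leaf (nat_lit 0x6a91680ca41) (nat_lit 3072))
 (.node (nat_lit 0x6a934dac8a4) (.leaf (nat_lit 0x6a924c58b07) (nat_lit 3584))
 (.leaf (nat_lit 0x6a934dac8a4) (nat_lit 3074))
)) (.node (nat_lit 0x6a93a8db4b1) (.leaf (nat_lit 0x6a93540ca4f) (nat_lit 3072))
 (.node (nat_lit 0x6a945a34a7c) (.leaf (nat_lit 0x6a93a8db4b1) (nat_lit 2818))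
 (.leaf (nat_lit 0x6a945a34a7c) (nat_lit 3072))
))))) (.node (nat_lit 0x6ab211cf277) (.node (nat_lit 0x6aa75a940de) (.node (nat_lit 0x6aa14599cb3) (.node (nat_lit 0x6aa0e5c18a3) (.leaf (nat_lit 0x6aa0e464131) (nat_lit 2305))
 (.leaf (nat_lit 0x6aa0e5c18a3) (nat_lit 3074))
) (.node (nat_lit 0x6aa5fc0ccaa) (.leaf (nat_lit 0x6aa14599cb3) (nat_lit 3073))
 (.node (nat_lit 0x6aa6ac35931) (.leaf (nat_lit 0x6aa5fc0ccaa) (nat_lit 3073))
 (.leaf (nat_lit 0x6aa6ac35931) (nat_lit 2304))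
))) (.node (nat_lit 0x6aac4c0cb06) (.node (nat_lit 0x6aa9505b24d) (.leaf (nat_lit 0x6aa75a940de) (nat_lit 1792))
 (.node (nat_lit 0x6aaa08404aa) (.leaf (nat_lit 0x6aa9505b24d) (nat_lit 2818))
 (.leaf (nat_lit 0x6aaa08404aa) (nat_lit 2560))
)) (.node (nat_lit 0x6aad05cb8de) (.leaf (nat_lit 0x6aac4c0cb06) (nat_lit 2560))
 (.node (nat_lit 0x6ab04596455) (.leaf (nat_lit 0x6aad05cb8de) (nat_lit 2306))
 (.leaf (nat_lit 0x6ab04596455) (nat_lit 2562))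
)))) (.node (nat_lit 0x6b43480c917) (.node (nat_lit 0x6ab5b9d44b3) (.node (nat_lit 0x6ab3fd1314f) (.leaf (nat_lit 0x6ab211cf277) (nat_lit 3330))
 (.node (nat_lit 0x6ab419bca77) (.leaf (nat_lit 0x6ab3fd1314f) (nat_lit 2560))
 (.leaf (nat_lit 0x6ab419bca77) (nat_lit 2816))
)) (.node (nat_lit 0x6b40549e117) (.leaf (nat_lit 0x6ab5b9d44b3) (nat_lit 2560))
 (.node (nat_lit 0x6b40fca09d3) (.leaf (nat_lit 0x6b40549e117) (nat_lit 2562))
 (.leaf (nat_lit 0x6b40fca09d3) (nat_lit 2816))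
))) (.node (nat_lit 0x6b43c9e92bd) (.node (nat_lit 0x6b43480c91e) (.leaf (nat_lit 0x6b43480c917) (nat_lit 3074))
 (.node (nat_lit 0x6b43c85b2b8) (.leaf (nat_lit 0x6b43480c91e) (nat_lit 2562))
 (.leaf (nat_lit 0x6b43c85b2b8) (nat_lit 3329))
)) (.node (nat_lit 0x6b4589cf2e2) (.leaf (nat_lit 0x6b43c9e92bd) (nat_lit 2816))
 (.node (nat_lit 0x6b458a09323) (.leaf (nat_lit 0x6b4589cf2e2) (nat_lit 3073))
 (.leaf (nat_lit 0x6b458a09323) (nat_lit 3072))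
)))))) (.node (nat_lit 0x6b8349e9af5) (.node (nat_lit 0x6b663999d03) (.node (nat_lit 0x6b4afe8a2cf) (.node (nat_lit 0x6b4641992e2) (.node (nat_lit 0x6b45f1d527c) (.leaf (nat_lit 0x6b45f06331d) (nat_lit 3328))
 (.leaf (nat_lit 0x6b45f1d527c) (nat_lit 2816))
) (.node (nat_lit 0x6b483c1131d) (.leaf (nat_lit 0x6b4641992e2) (nat_lit 3073))
 (.node (nat_lit 0x6b4afdc1acf) (.leaf (nat_lit 0x6b483c1131d) (nat_lit 3073))
 (.leaf (nat_lit 0x6b4afdc1acf) (nat_lit 2818))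
))) (.node (nat_lit 0x6b6101589d2) (.node (nat_lit 0x6b4c5621abd) (.leaf (nat_lit 0x6b4afe8a2cf) (nat_lit 3072))
 (.node (nat_lit 0x6b605c59306) (.leaf (nat_lit 0x6b4c5621abd) (nat_lit 2817))
 (.leaf (nat_lit 0x6b605c59306) (nat_lit 3073))
)) (.node (nat_lit 0x6b63ec17847) (.leaf (nat_lit 0x6b6101589d2) (nat_lit 3072))
 (.node (nat_lit 0x6b63ecddb22) (.leaf (nat_lit 0x6b63ec17847) (nat_lit 3073))
 (.leaf (nat_lit 0x6b63ecddb22) (nat_lit 3074))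
)))) (.node (nat_lit 0x6b6c840cb06) (.node (nat_lit 0x6b6c3e64d03) (.node (nat_lit 0x6b68405e847) (.leaf (nat_lit 0x6b663999d03) (nat_lit 3073))
 (.node (nat_lit 0x6b6c3e35285) (.leaf (nat_lit 0x6b68405e847) (nat_lit 2818))
 (.leaf (nat_lit 0x6b6c3e35285) (nat_lit 2816))
)) (.node (nat_lit 0x6b6c5df80f0) (.leaf (nat_lit 0x6b6c3e64d03) (nat_lit 2818))
 (.node (nat_lit 0x6b6c840cac8) (.leaf (nat_lit 0x6b6c5df80f0) (nat_lit 2817))
 (.leaf (nat_lit 0x6b6c840cac8) (nat_lit 2817))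
))) (.node (nat_lit 0x6b72c883919) (.node (nat_lit 0x6b720cfb984) (.leaf (nat_lit 0x6b6c840cb06) (nat_lit 2817))
 (.node (nat_lit 0x6b720cff984) (.leaf (nat_lit 0x6b720cfb984) (nat_lit 3072))
 (.leaf (nat_lit 0x6b720cff984) (nat_lit 3072))
)) (.node (nat_lit 0x6b72ca630f0) (.leaf (nat_lit 0x6b72c883919) (nat_lit 2305))
 (.node (nat_lit 0x6b80fe9c9d3) (.leaf (nat_lit 0x6b72ca630f0) (nat_lit 3586))
 (.leaf (nat_lit 0x6b80fe9c9d3) (nat_lit 2816))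
))))) (.node (nat_lit 0x6b92985912f) (.node (nat_lit 0x6b8859184de) (.node (nat_lit 0x6b883c11261) (.node (nat_lit 0x6b846c83a61) (.leaf (nat_lit 0x6b8349e9af5) (nat_lit 2561))
 (.leaf (nat_lit 0x6b846c83a61) (nat_lit 3073))
) (.node (nat_lit 0x6b883d81b23) (.leaf (nat_lit 0x6b883c11261) (nat_lit 3328))
 (.node (nat_lit 0x6b88580c91e) (.leaf (nat_lit 0x6b883d81b23) (nat_lit 3073))
 (.leaf (nat_lit 0x6b88580c91e) (nat_lit 3073))
))) (.node (nat_lit 0x6b8afdda51b) (.node (nat_lit 0x6b8a440c92f) (.leaf (nat_lit 0x6b8859184de) (nat_lit 2817))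
 (.node (nat_lit 0x6b8afda751b) (.leaf (nat_lit 0x6b8a440c92f) (nat_lit 2817))
 (.leaf (nat_lit 0x6b8afda751b) (nat_lit 3074))
)) (.node (nat_lit 0x6b8c41d82f5) (.leaf (nat_lit 0x6b8afdda51b) (nat_lit 3330))
 (.node (nat_lit 0x6b8c41efb90) (.leaf (nat_lit 0x6b8c41d82f5) (nat_lit 2306))
 (.leaf (nat_lit 0x6b8c41efb90) (nat_lit 2818))
)))) (.node (nat_lit 0x6ba3580f25e) (.node (nat_lit 0x6ba102211d2) (.node (nat_lit 0x6b92985eab8) (.leaf (nat_lit 0x6b92985912f) (nat_lit 3072))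
 (.node (nat_lit 0x6b92c10f4de) (.leaf (nat_lit 0x6b92985eab8) (nat_lit 3073))
 (.leaf (nat_lit 0x6b92c10f4de) (nat_lit 2816))
)) (.node (nat_lit 0x6ba29817a5e) (.leaf (nat_lit 0x6ba102211d2) (nat_lit 3074))
 (.node (nat_lit 0x6ba2989d119) (.leaf (nat_lit 0x6ba29817a5e) (nat_lit 3073))
 (.leaf (nat_lit 0x6ba2989d119) (nat_lit 2817))
))) (.node (nat_lit 0x6ba5ee29392) (.node (nat_lit 0x6ba460ff31a) (.leaf (nat_lit 0x6ba3580f25e) (nat_lit 2304))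
 (.node (nat_lit 0x6ba5ed96ac5) (.leaf (nat_lit 0x6ba460ff31a) (nat_lit 2816))
 (.leaf (nat_lit 0x6ba5ed96ac5) (nat_lit 3330))
)) (.node (nat_lit 0x6ba639cb481) (.leaf (nat_lit 0x6ba5ee29392) (nat_lit 3328))
 (.node (nat_lit 0x6ba63aa0322) (.leaf (nat_lit 0x6ba639cb481) (nat_lit 2561))
 (.leaf (nat_lit 0x6ba63aa0322) (nat_lit 2561))
)))))))))) (.node (nat_lit 0x73ea6e3acdf) (.node (nat_lit 0x6fb2e5f8b81) (.node (nat_lit 0x6eaa3ccfd2d) (.node (nat_lit 0x6d924a5eb7f) (.node (nat_lit 0x6d60e5e9a8a) (.node (nat_lit 0x6d460115d27) (.node (nat_lit 0x6bb2c91e2c5) (.node (nat_lit 0x6bafe209b1a) (.node (nat_lit 0x6bafe00cac8) (.leaf (nat_lit 0x6baa4917481) (nat_lit 3330))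
 (.leaf (nat_lit 0x6bafe00cac8) (nat_lit 2561))
) (.node (nat_lit 0x6bb20c0c8c3) (.leaf (nat_lit 0x6bafe209b1a) (nat_lit 2816))
 (.node (nat_lit 0x6bb20c3c0c3) (.leaf (nat_lit 0x6bb20c0c8c3) (nat_lit 2560))
 (.leaf (nat_lit 0x6bb20c3c0c3) (nat_lit 2561))
))) (.node (nat_lit 0x6d414980984) (.node (nat_lit 0x6d40e417a5e) (.leaf (nat_lit 0x6bb2c91e2c5) (nat_lit 3073))
 (.node (nat_lit 0x6d40e60915d) (.leaf (nat_lit 0x6d40e417a5e) (nat_lit 3328))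
 (.leaf (nat_lit 0x6d40e60915d) (nat_lit 2305))
)) (.node (nat_lit 0x6d42ad1ba5e) (.leaf (nat_lit 0x6d414980984) (nat_lit 3074))
 (.node (nat_lit 0x6d42bcbb203) (.leaf (nat_lit 0x6d42ad1ba5e) (nat_lit 3073))
 (.leaf (nat_lit 0x6d42bcbb203) (nat_lit 3072))
)))) (.node (nat_lit 0x6d4ba01091e) (.node (nat_lit 0x6d49e446307) (.node (nat_lit 0x6d49c00c91e) (.leaf (nat_lit 0x6d460115d27) (nat_lit 2560))
 (.leaf (nat_lit 0x6d49c00c91e) (nat_lit 3072))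
) (.node (nat_lit 0x6d4abccc203) (.leaf (nat_lit 0x6d49e446307) (nat_lit 2561))
 (.node (nat_lit 0x6d4b926331b) (.leaf (nat_lit 0x6d4abccc203) (nat_lit 3329))
 (.leaf (nat_lit 0x6d4b926331b) (nat_lit 3074))
))) (.node (nat_lit 0x6d55580ca4f) (.node (nat_lit 0x6d4c4e94c57) (.leaf (nat_lit 0x6d4ba01091e) (nat_lit 3073))
 (.node (nat_lit 0x6d5388ddd27) (.leaf (nat_lit 0x6d4c4e94c57) (nat_lit 3073))
 (.leaf (nat_lit 0x6d5388ddd27) (nat_lit 2305))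
)) (.node (nat_lit 0x6d55d8e2184) (.leaf (nat_lit 0x6d55580ca4f) (nat_lit 3073))
 (.node (nat_lit 0x6d60e40cb06) (.leaf (nat_lit 0x6d55d8e2184) (nat_lit 1792))
 (.leaf (nat_lit 0x6d60e40cb06) (nat_lit 3073))
))))) (.node (nat_lit 0x6d74f839bf4) (.node (nat_lit 0x6d6ab9cb2c2) (.node (nat_lit 0x6d66ae2128a) (.node (nat_lit 0x6d6218bc4f0) (.leaf (nat_lit 0x6d60e5e9a8a) (nat_lit 2818))
 (.leaf (nat_lit 0x6d6218bc4f0) (nat_lit 3074))
) (.node (nat_lit 0x6d691958b1a) (.leaf (nat_lit 0x6d66ae2128a) (nat_lit 3330))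
 (.node (nat_lit 0x6d699835c14) (.leaf (nat_lit 0x6d691958b1a) (nat_lit 2562))
 (.leaf (nat_lit 0x6d699835c14) (nat_lit 3330))
))) (.node (nat_lit 0x6d6f29a1cf0) (.node (nat_lit 0x6d6ac058c14) (.leaf (nat_lit 0x6d6ab9cb2c2) (nat_lit 3073))
 (.node (nat_lit 0x6d6da5a994f) (.leaf (nat_lit 0x6d6ac058c14) (nat_lit 3329))
 (.leaf (nat_lit 0x6d6da5a994f) (nat_lit 2817))
)) (.node (nat_lit 0x6d72cdd7ac2) (.leaf (nat_lit 0x6d6f29a1cf0) (nat_lit 2816))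
 (.node (nat_lit 0x6d73580cbf4) (.leaf (nat_lit 0x6d72cdd7ac2) (nat_lit 2562))
 (.leaf (nat_lit 0x6d73580cbf4) (nat_lit 2304))
)))) (.node (nat_lit 0x6d87466037f) (.node (nat_lit 0x6d80b0e3554) (.node (nat_lit 0x6d75a00f24d) (.leaf (nat_lit 0x6d74f839bf4) (nat_lit 2817))
 (.node (nat_lit 0x6d75e151c55) (.leaf (nat_lit 0x6d75a00f24d) (nat_lit 2816))
 (.leaf (nat_lit 0x6d75e151c55) (nat_lit 2818))
)) (.node (nat_lit 0x6d80e5760bb) (.leaf (nat_lit 0x6d80b0e3554) (nat_lit 2561))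
 (.node (nat_lit 0x6d80e638916) (.leaf (nat_lit 0x6d80e5760bb) (nat_lit 2048))
 (.leaf (nat_lit 0x6d80e638916) (nat_lit 2817))
))) (.node (nat_lit 0x6d8f2c54cf1) (.node (nat_lit 0x6d89a21f518) (.leaf (nat_lit 0x6d87466037f) (nat_lit 2561))
 (.node (nat_lit 0x6d8b2a5ed18) (.leaf (nat_lit 0x6d89a21f518) (nat_lit 2818))
 (.leaf (nat_lit 0x6d8b2a5ed18) (nat_lit 3584))
)) (.node (nat_lit 0x6d904238916) (.leaf (nat_lit 0x6d8f2c54cf1) (nat_lit 2561))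
 (.node (nat_lit 0x6d917054b0e) (.leaf (nat_lit 0x6d904238916) (nat_lit 3073))
 (.leaf (nat_lit 0x6d917054b0e) (nat_lit 1793))
)))))) (.node (nat_lit 0x6e605e9c498) (.node (nat_lit 0x6da93dc5569) (.node (nat_lit 0x6d95aa1f30e) (.node (nat_lit 0x6d9311e23d0) (.node (nat_lit 0x6d92cdf1865) (.leaf (nat_lit 0x6d924a5eb7f) (nat_lit 2561))
 (.leaf (nat_lit 0x6d92cdf1865) (nat_lit 1538))
) (.node (nat_lit 0x6d9396604f1) (.leaf (nat_lit 0x6d9311e23d0) (nat_lit 3329))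
 (.node (nat_lit 0x6d9524d3d68) (.leaf (nat_lit 0x6d9396604f1) (nat_lit 2817))
 (.leaf (nat_lit 0x6d9524d3d68) (nat_lit 2816))
))) (.node (nat_lit 0x6da13dc53c0) (.node (nat_lit 0x6da0e4f89ac) (.leaf (nat_lit 0x6d95aa1f30e) (nat_lit 3585))
 (.node (nat_lit 0x6da0e611985) (.leaf (nat_lit 0x6da0e4f89ac) (nat_lit 2817))
 (.leaf (nat_lit 0x6da0e611985) (nat_lit 3073))
)) (.node (nat_lit 0x6da140e3985) (.leaf (nat_lit 0x6da13dc53c0) (nat_lit 2818))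
 (.node (nat_lit 0x6da3f4da06a) (.leaf (nat_lit 0x6da140e3985) (nat_lit 3073))
 (.leaf (nat_lit 0x6da3f4da06a) (nat_lit 3330))
)))) (.node (nat_lit 0x6db1f4d33c0) (.node (nat_lit 0x6da9de11d55) (.node (nat_lit 0x6da9c0da25d) (.leaf (nat_lit 0x6da93dc5569) (nat_lit 3073))
 (.leaf (nat_lit 0x6da9c0da25d) (nat_lit 2305))
) (.node (nat_lit 0x6dab8cf8bd1) (.leaf (nat_lit 0x6da9de11d55) (nat_lit 3073))
 (.node (nat_lit 0x6db045768ba) (.leaf (nat_lit 0x6dab8cf8bd1) (nat_lit 2305))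
 (.leaf (nat_lit 0x6db045768ba) (nat_lit 3073))
))) (.node (nat_lit 0x6db529e19ac) (.node (nat_lit 0x6db3b02c8e8) (.leaf (nat_lit 0x6db1f4d33c0) (nat_lit 3073))
 (.node (nat_lit 0x6db4adf225d) (.leaf (nat_lit 0x6db3b02c8e8) (nat_lit 1537))
 (.leaf (nat_lit 0x6db4adf225d) (nat_lit 2306))
)) (.node (nat_lit 0x6db5e82c8e8) (.leaf (nat_lit 0x6db529e19ac) (nat_lit 3074))
 (.node (nat_lit 0x6e605c5e86e) (.leaf (nat_lit 0x6db5e82c8e8) (nat_lit 3072))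
 (.leaf (nat_lit 0x6e605c5e86e) (nat_lit 2817))
))))) (.node (nat_lit 0x6e6c866491c) (.node (nat_lit 0x6e658e63954) (.node (nat_lit 0x6e60f2be503) (.node (nat_lit 0x6e60f0a927f) (.leaf (nat_lit 0x6e605e9c498) (nat_lit 3073))
 (.leaf (nat_lit 0x6e60f0a927f) (nat_lit 3329))
) (.node (nat_lit 0x6e629845415) (.leaf (nat_lit 0x6e60f2be503) (nat_lit 2817))
 (.node (nat_lit 0x6e658c0cc15) (.leaf (nat_lit 0x6e629845415) (nat_lit 2817))
 (.leaf (nat_lit 0x6e658c0cc15) (nat_lit 3073))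
))) (.node (nat_lit 0x6e6a5844055) (.node (nat_lit 0x6e65ed17498) (.leaf (nat_lit 0x6e658e63954) (nat_lit 3074))
 (.node (nat_lit 0x6e66399b91c) (.leaf (nat_lit 0x6e65ed17498) (nat_lit 3073))
 (.leaf (nat_lit 0x6e66399b91c) (nat_lit 3329))
)) (.node (nat_lit 0x6e6a5877055) (.leaf (nat_lit 0x6e6a5844055) (nat_lit 3329))
 (.node (nat_lit 0x6e6c85d8367) (.leaf (nat_lit 0x6e6a5877055) (nat_lit 2305))
 (.leaf (nat_lit 0x6e6c85d8367) (nat_lit 3586))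
)))) (.node (nat_lit 0x6ea4ca9c52d) (.node (nat_lit 0x6ea0e4e1a85) (.node (nat_lit 0x6e6fe10f27f) (.leaf (nat_lit 0x6e6c866491c) (nat_lit 2817))
 (.node (nat_lit 0x6e720c0c8c3) (.leaf (nat_lit 0x6e6fe10f27f) (nat_lit 2818))
 (.leaf (nat_lit 0x6e720c0c8c3) (nat_lit 2817))
)) (.node (nat_lit 0x6ea0e5a9a85) (.leaf (nat_lit 0x6ea0e4e1a85) (nat_lit 2818))
 (.node (nat_lit 0x6ea2b61dd21) (.leaf (nat_lit 0x6ea0e5a9a85) (nat_lit 3585))
 (.leaf (nat_lit 0x6ea2b61dd21) (nat_lit 2817))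
))) (.node (nat_lit 0x6ea93221cd9) (.node (nat_lit 0x6ea759dad30) (.leaf (nat_lit 0x6ea4ca9c52d) (nat_lit 2561))
 (.node (nat_lit 0x6ea8043b855) (.leaf (nat_lit 0x6ea759dad30) (nat_lit 2048))
 (.leaf (nat_lit 0x6ea8043b855) (nat_lit 3073))
)) (.node (nat_lit 0x6ea9a0112da) (.leaf (nat_lit 0x6ea93221cd9) (nat_lit 3329))
 (.node (nat_lit 0x6ea9e0ef4a2) (.leaf (nat_lit 0x6ea9a0112da) (nat_lit 2561))
 (.leaf (nat_lit 0x6ea9e0ef4a2) (nat_lit 2816))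
))))))) (.node (nat_lit 0x6f4f2cc6d06) (.node (nat_lit 0x6ee0fe9c9d3) (.node (nat_lit 0x6ec93cbb250) (.node (nat_lit 0x6eb4acf1ca2) (.node (nat_lit 0x6eb0740c917) (.node (nat_lit 0x6eaaee92917) (.leaf (nat_lit 0x6eaa3ccfd2d) (nat_lit 2817))
 (.leaf (nat_lit 0x6eaaee92917) (nat_lit 2818))
) (.node (nat_lit 0x6eb19c0cb1f) (.leaf (nat_lit 0x6eb0740c917) (nat_lit 2561))
 (.node (nat_lit 0x6eb34c9aada) (.leaf (nat_lit 0x6eb19c0cb1f) (nat_lit 3074))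
 (.leaf (nat_lit 0x6eb34c9aada) (nat_lit 2562))
))) (.node (nat_lit 0x6ec5e80ca35) (.node (nat_lit 0x6ec0e4440c1) (.leaf (nat_lit 0x6eb4acf1ca2) (nat_lit 3585))
 (.node (nat_lit 0x6ec0e4770c1) (.leaf (nat_lit 0x6ec0e4440c1) (nat_lit 2816))
 (.leaf (nat_lit 0x6ec0e4770c1) (nat_lit 3072))
)) (.node (nat_lit 0x6ec80c0c857) (.leaf (nat_lit 0x6ec5e80ca35) (nat_lit 3329))
 (.node (nat_lit 0x6ec900ccbbe) (.leaf (nat_lit 0x6ec80c0c857) (nat_lit 2817))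
 (.leaf (nat_lit 0x6ec900ccbbe) (nat_lit 2817))
)))) (.node (nat_lit 0x6ed3846331d) (.node (nat_lit 0x6ecabd9b3be) (.node (nat_lit 0x6ec9d1a94b4) (.leaf (nat_lit 0x6ec93cbb250) (nat_lit 3329))
 (.leaf (nat_lit 0x6ec9d1a94b4) (nat_lit 2305))
) (.node (nat_lit 0x6ecc4a8a4d8) (.leaf (nat_lit 0x6ecabd9b3be) (nat_lit 2305))
 (.node (nat_lit 0x6ecd21d9532) (.leaf (nat_lit 0x6ecc4a8a4d8) (nat_lit 2816))
 (.leaf (nat_lit 0x6ecd21d9532) (nat_lit 1794))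
))) (.node (nat_lit 0x6ed48cd4235) (.node (nat_lit 0x6ed3950e250) (.leaf (nat_lit 0x6ed3846331d) (nat_lit 3074))
 (.node (nat_lit 0x6ed41a48cb4) (.leaf (nat_lit 0x6ed3950e250) (nat_lit 2817))
 (.leaf (nat_lit 0x6ed41a48cb4) (nat_lit 3330))
)) (.node (nat_lit 0x6ed522bed22) (.leaf (nat_lit 0x6ed48cd4235) (nat_lit 3329))
 (.node (nat_lit 0x6ee0fe219d3) (.leaf (nat_lit 0x6ed522bed22) (nat_lit 2561))
 (.leaf (nat_lit 0x6ee0fe219d3) (nat_lit 3330))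
))))) (.node (nat_lit 0x6ef2083b8c1) (.node (nat_lit 0x6ee46d1b847) (.node (nat_lit 0x6ee3485b047) (.node (nat_lit 0x6ee294e194e) (.leaf (nat_lit 0x6ee0fe9c9d3) (nat_lit 2817))
 (.leaf (nat_lit 0x6ee294e194e) (nat_lit 2817))
) (.node (nat_lit 0x6ee349a94b1) (.leaf (nat_lit 0x6ee3485b047) (nat_lit 2817))
 (.node (nat_lit 0x6ee46c88ce6) (.leaf (nat_lit 0x6ee349a94b1) (nat_lit 2817))
 (.leaf (nat_lit 0x6ee46c88ce6) (nat_lit 2560))
))) (.node (nat_lit 0x6eea45960a3) (.node (nat_lit 0x6ee5f00c870) (.leaf (nat_lit 0x6ee46d1b847) (nat_lit 3330))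
 (.node (nat_lit 0x6ee64231b66) (.leaf (nat_lit 0x6ee5f00c870) (nat_lit 2818))
 (.leaf (nat_lit 0x6ee64231b66) (nat_lit 3073))
)) (.node (nat_lit 0x6eea4629cb1) (.leaf (nat_lit 0x6eea45960a3) (nat_lit 2817))
 (.node (nat_lit 0x6eefd91e502) (.leaf (nat_lit 0x6eea4629cb1) (nat_lit 3073))
 (.leaf (nat_lit 0x6eefd91e502) (nat_lit 2816))
)))) (.node (nat_lit 0x6f438a650db) (.node (nat_lit 0x6f40e4548db) (.node (nat_lit 0x6ef2c00cce6) (.leaf (nat_lit 0x6ef2083b8c1) (nat_lit 2048))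
 (.node (nat_lit 0x6ef2c2098a3) (.leaf (nat_lit 0x6ef2c00cce6) (nat_lit 2818))
 (.leaf (nat_lit 0x6ef2c2098a3) (nat_lit 3073))
)) (.node (nat_lit 0x6f40e454cf4) (.leaf (nat_lit 0x6f40e4548db) (nat_lit 2818))
 (.node (nat_lit 0x6f40f5c5124) (.leaf (nat_lit 0x6f40e454cf4) (nat_lit 3072))
 (.leaf (nat_lit 0x6f40f5c5124) (nat_lit 3329))
))) (.node (nat_lit 0x6f493c0802c) (.node (nat_lit 0x6f46069b4a0) (.leaf (nat_lit 0x6f438a650db) (nat_lit 2818))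
 (.node (nat_lit 0x6f4918e325d) (.leaf (nat_lit 0x6f46069b4a0) (nat_lit 2818))
 (.leaf (nat_lit 0x6f4918e325d) (nat_lit 3072))
)) (.node (nat_lit 0x6f49f5ed499) (.leaf (nat_lit 0x6f493c0802c) (nat_lit 3072))
 (.node (nat_lit 0x6f4e09ed4a0) (.leaf (nat_lit 0x6f49f5ed499) (nat_lit 3073))
 (.leaf (nat_lit 0x6f4e09ed4a0) (nat_lit 2305))
)))))) (.node (nat_lit 0x6f80f15ab70) (.node (nat_lit 0x6f691ce3c76) (.node (nat_lit 0x6f55de9b4f4) (.node (nat_lit 0x6f506665499) (.node (nat_lit 0x6f4fd19f570) (.leaf (nat_lit 0x6f4f2cc6d06) (nat_lit 1024))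
 (.leaf (nat_lit 0x6f4fd19f570) (nat_lit 3073))
) (.node (nat_lit 0x6f5168c6d06) (.leaf (nat_lit 0x6f506665499) (nat_lit 2817))
 (.node (nat_lit 0x6f52a8dc4e5) (.leaf (nat_lit 0x6f5168c6d06) (nat_lit 2562))
 (.leaf (nat_lit 0x6f52a8dc4e5) (nat_lit 2816))
))) (.node (nat_lit 0x6f61540782a) (.node (nat_lit 0x6f60e62225c) (.leaf (nat_lit 0x6f55de9b4f4) (nat_lit 2818))
 (.node (nat_lit 0x6f60e622476) (.leaf (nat_lit 0x6f60e62225c) (nat_lit 2050))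
 (.leaf (nat_lit 0x6f60e622476) (nat_lit 2304))
)) (.node (nat_lit 0x6f62c0dabc0) (.leaf (nat_lit 0x6f61540782a) (nat_lit 3585))
 (.node (nat_lit 0x6f68d1be51f) (.leaf (nat_lit 0x6f62c0dabc0) (nat_lit 2816))
 (.leaf (nat_lit 0x6f68d1be51f) (nat_lit 3073))
)))) (.node (nat_lit 0x6f7211fd3c0) (.node (nat_lit 0x6f6b34fd125) (.node (nat_lit 0x6f6aa1cfcb5) (.leaf (nat_lit 0x6f691ce3c76) (nat_lit 3330))
 (.leaf (nat_lit 0x6f6aa1cfcb5) (nat_lit 2305))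
) (.node (nat_lit 0x6f6c49760bb) (.leaf (nat_lit 0x6f6b34fd125) (nat_lit 2818))
 (.node (nat_lit 0x6f6d019e4b5) (.leaf (nat_lit 0x6f6c49760bb) (nat_lit 2561))
 (.leaf (nat_lit 0x6f6d019e4b5) (nat_lit 3328))
))) (.node (nat_lit 0x6f74ad760bb) (.node (nat_lit 0x6f73c1fd4e4) (.leaf (nat_lit 0x6f7211fd3c0) (nat_lit 3330))
 (.node (nat_lit 0x6f7431cfd6e) (.leaf (nat_lit 0x6f73c1fd4e4) (nat_lit 2817))
 (.leaf (nat_lit 0x6f7431cfd6e) (nat_lit 3074))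
)) (.node (nat_lit 0x6f7524fd51f) (.leaf (nat_lit 0x6f74ad760bb) (nat_lit 3072))
 (.node (nat_lit 0x6f80f152b22) (.leaf (nat_lit 0x6f7524fd51f) (nat_lit 3073))
 (.leaf (nat_lit 0x6f80f152b22) (nat_lit 3073))
))))) (.node (nat_lit 0x6f920ca1574) (.node (nat_lit 0x6f858d12370) (.node (nat_lit 0x6f8358d9406) (.node (nat_lit 0x6f8101dc1d2) (.leaf (nat_lit 0x6f80f15ab70) (nat_lit 2306))
 (.leaf (nat_lit 0x6f8101dc1d2) (nat_lit 2818))
) (.node (nat_lit 0x6f835912392) (.leaf (nat_lit 0x6f8358d9406) (nat_lit 2561))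
 (.node (nat_lit 0x6f83ecd9406) (.leaf (nat_lit 0x6f835912392) (nat_lit 2561))
 (.leaf (nat_lit 0x6f83ecd9406) (nat_lit 3584))
))) (.node (nat_lit 0x6f8c5c3aac8) (.node (nat_lit 0x6f885dbd367) (.leaf (nat_lit 0x6f858d12370) (nat_lit 2562))
 (.node (nat_lit 0x6f885e44285) (.leaf (nat_lit 0x6f885dbd367) (nat_lit 3073))
 (.leaf (nat_lit 0x6f885e44285) (nat_lit 3072))
)) (.node (nat_lit 0x6f8c5ddc0a3) (.leaf (nat_lit 0x6f8c5c3aac8) (nat_lit 2561))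
 (.node (nat_lit 0x6f8fe152b67) (.leaf (nat_lit 0x6f8c5ddc0a3) (nat_lit 2306))
 (.leaf (nat_lit 0x6f8fe152b67) (nat_lit 2562))
)))) (.node (nat_lit 0x6fa2be31d3e) (.node (nat_lit 0x6fa0e43b8c1) (.node (nat_lit 0x6f920e44574) (.leaf (nat_lit 0x6f920ca1574) (nat_lit 2560))
 (.node (nat_lit 0x6f92a21b8a3) (.leaf (nat_lit 0x6f920e44574) (nat_lit 2816))
 (.leaf (nat_lit 0x6f92a21b8a3) (nat_lit 2817))
)) (.node (nat_lit 0x6fa0e496415) (.leaf (nat_lit 0x6fa0e43b8c1) (nat_lit 3330))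
 (.node (nat_lit 0x6fa2b4cfb81) (.leaf (nat_lit 0x6fa0e496415) (nat_lit 3074))
 (.leaf (nat_lit 0x6fa2b4cfb81) (nat_lit 3074))
))) (.node (nat_lit 0x6faa080c885) (.node (nat_lit 0x6fa354ef364) (.leaf (nat_lit 0x6fa2be31d3e) (nat_lit 2816))
 (.node (nat_lit 0x6fa93d9950c) (.leaf (nat_lit 0x6fa354ef364) (nat_lit 3329))
 (.leaf (nat_lit 0x6fa93d9950c) (nat_lit 2049))
)) (.node (nat_lit 0x6fab08b4a34) (.leaf (nat_lit 0x6faa080c885) (nat_lit 3074))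
 (.node (nat_lit 0x6fac11ab499) (.leaf (nat_lit 0x6fab08b4a34) (nat_lit 3585))
 (.leaf (nat_lit 0x6fac11ab499) (nat_lit 2305))
)))))))) (.node (nat_lit 0x71aaedf8526) (.node (nat_lit 0x7105ec50154) (.node (nat_lit 0x70e0e5c1b47) (.node (nat_lit 0x70c934bc4d5) (.node (nat_lit 0x6fb571d8521) (.node (nat_lit 0x6fb3f8770c1) (.node (nat_lit 0x6fb38c0cc15) (.leaf (nat_lit 0x6fb2e5f8b81) (nat_lit 3328))
 (.leaf (nat_lit 0x6fb38c0cc15) (nat_lit 3073))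
) (.node (nat_lit 0x6fb401d4521) (.leaf (nat_lit 0x6fb3f8770c1) (nat_lit 3073))
 (.node (nat_lit 0x6fb525a753e) (.leaf (nat_lit 0x6fb401d4521) (nat_lit 2562))
 (.leaf (nat_lit 0x6fb525a753e) (nat_lit 3074))
))) (.node (nat_lit 0x70c2be47cb3) (.node (nat_lit 0x70c0e446414) (.leaf (nat_lit 0x6fb571d8521) (nat_lit 3074))
 (.node (nat_lit 0x70c0e4e194e) (.leaf (nat_lit 0x70c0e446414) (nat_lit 2562))
 (.leaf (nat_lit 0x70c0e4e194e) (nat_lit 2561))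
)) (.node (nat_lit 0x70c6010e381) (.leaf (nat_lit 0x70c2be47cb3) (nat_lit 2305))
 (.node (nat_lit 0x70c904cc0fd) (.leaf (nat_lit 0x70c6010e381) (nat_lit 2818))
 (.leaf (nat_lit 0x70c904cc0fd) (nat_lit 2304))
)))) (.node (nat_lit 0x70d4580cb1f) (.node (nat_lit 0x70cab825886) (.node (nat_lit 0x70c9e26314e) (.leaf (nat_lit 0x70c934bc4d5) (nat_lit 3329))
 (.leaf (nat_lit 0x70c9e26314e) (nat_lit 2816))
) (.node (nat_lit 0x70cc4ca9060) (.leaf (nat_lit 0x70cab825886) (nat_lit 2817))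
 (.node (nat_lit 0x70cfe5d94d5) (.leaf (nat_lit 0x70cc4ca9060) (nat_lit 2816))
 (.leaf (nat_lit 0x70cfe5d94d5) (nat_lit 3073))
))) (.node (nat_lit 0x70d5540c8e5) (.node (nat_lit 0x70d48d1c886) (.leaf (nat_lit 0x70d4580cb1f) (nat_lit 3330))
 (.node (nat_lit 0x70d52264b81) (.leaf (nat_lit 0x70d48d1c886) (nat_lit 3073))
 (.leaf (nat_lit 0x70d52264b81) (nat_lit 2817))
)) (.node (nat_lit 0x70d5e862b1f) (.leaf (nat_lit 0x70d5540c8e5) (nat_lit 3072))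
 (.node (nat_lit 0x70e0e5ac9ad) (.leaf (nat_lit 0x70d5e862b1f) (nat_lit 3073))
 (.leaf (nat_lit 0x70e0e5ac9ad) (nat_lit 2561))
))))) (.node (nat_lit 0x70f24e219ad) (.node (nat_lit 0x70e9a058b07) (.node (nat_lit 0x70e5f95205f) (.node (nat_lit 0x70e2ddd7347) (.leaf (nat_lit 0x70e0e5c1b47) (nat_lit 2561))
 (.leaf (nat_lit 0x70e2ddd7347) (nat_lit 2305))
) (.node (nat_lit 0x70e80c0ccaa) (.leaf (nat_lit 0x70e5f95205f) (nat_lit 3074))
 (.node (nat_lit 0x70e91a9c3ce) (.leaf (nat_lit 0x70e80c0ccaa) (nat_lit 3073))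
 (.leaf (nat_lit 0x70e91a9c3ce) (nat_lit 2816))
))) (.node (nat_lit 0x70eaec35b07) (.node (nat_lit 0x70e9e40cc15) (.leaf (nat_lit 0x70e9a058b07) (nat_lit 2560))
 (.node (nat_lit 0x70ea3ce23ce) (.leaf (nat_lit 0x70e9e40cc15) (nat_lit 2817))
 (.leaf (nat_lit 0x70ea3ce23ce) (nat_lit 3330))
)) (.node (nat_lit 0x70eb09a94b4) (.leaf (nat_lit 0x70eaec35b07) (nat_lit 3073))
 (.node (nat_lit 0x70ef29a70fc) (.leaf (nat_lit 0x70eb09a94b4) (nat_lit 2816))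
 (.leaf (nat_lit 0x70ef29a70fc) (nat_lit 2304))
)))) (.node (nat_lit 0x7101021f9d2) (.node (nat_lit 0x71005c1b919) (.node (nat_lit 0x70f4fc664aa) (.leaf (nat_lit 0x70f24e219ad) (nat_lit 3074))
 (.node (nat_lit 0x70f5a43b8e6) (.leaf (nat_lit 0x70f4fc664aa) (nat_lit 3072))
 (.leaf (nat_lit 0x70f5a43b8e6) (nat_lit 3073))
)) (.node (nat_lit 0x71005e1fd19) (.leaf (nat_lit 0x71005c1b919) (nat_lit 2817))
 (.node (nat_lit 0x7100f112d19) (.leaf (nat_lit 0x71005e1fd19) (nat_lit 2561))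
 (.leaf (nat_lit 0x7100f112d19) (nat_lit 769))
))) (.node (nat_lit 0x7103d104527) (.node (nat_lit 0x7103c450392) (.leaf (nat_lit 0x7101021f9d2) (nat_lit 2817))
 (.node (nat_lit 0x7103c5ee4b1) (.leaf (nat_lit 0x7103c450392) (nat_lit 3073))
 (.leaf (nat_lit 0x7103c5ee4b1) (nat_lit 2305))
)) (.node (nat_lit 0x710460e5b22) (.leaf (nat_lit 0x7103d104527) (nat_lit 2561))
 (.node (nat_lit 0x710460ec527) (.leaf (nat_lit 0x710460e5b22) (nat_lit 3329))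
 (.leaf (nat_lit 0x710460ec527) (nat_lit 3585))
)))))) (.node (nat_lit 0x71405504289) (.node (nat_lit 0x712a462c323) (.node (nat_lit 0x7112a10a954) (.node (nat_lit 0x71120c5494f) (.node (nat_lit 0x710c3dee4b1) (.leaf (nat_lit 0x7105ec50154) (nat_lit 2561))
 (.leaf (nat_lit 0x710c3dee4b1) (nat_lit 3073))
) (.node (nat_lit 0x71120ce594f) (.leaf (nat_lit 0x71120c5494f) (nat_lit 3329))
 (.node (nat_lit 0x7112a104285) (.leaf (nat_lit 0x71120ce594f) (nat_lit 2817))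
 (.leaf (nat_lit 0x7112a104285) (nat_lit 3073))
))) (.node (nat_lit 0x7123d509d4f) (.node (nat_lit 0x7120edcdca2) (.leaf (nat_lit 0x7112a10a954) (nat_lit 3073))
 (.node (nat_lit 0x7120fce39d3) (.leaf (nat_lit 0x7120edcdca2) (nat_lit 2561))
 (.leaf (nat_lit 0x7120fce39d3) (nat_lit 2817))
)) (.node (nat_lit 0x7125f02d0ea) (.leaf (nat_lit 0x7123d509d4f) (nat_lit 2560))
 (.node (nat_lit 0x712a4453ca2) (.leaf (nat_lit 0x7125f02d0ea) (nat_lit 3329))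
 (.leaf (nat_lit 0x712a4453ca2) (nat_lit 3329))
)))) (.node (nat_lit 0x712c54e3d4f) (.node (nat_lit 0x712afe2c342) (.node (nat_lit 0x712afcecb42) (.leaf (nat_lit 0x712a462c323) (nat_lit 3329))
 (.leaf (nat_lit 0x712afcecb42) (nat_lit 2561))
) (.node (nat_lit 0x712c4236d22) (.leaf (nat_lit 0x712afe2c342) (nat_lit 2561))
 (.node (nat_lit 0x712c541b11e) (.leaf (nat_lit 0x712c4236d22) (nat_lit 3073))
 (.leaf (nat_lit 0x712c541b11e) (nat_lit 2817))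
))) (.node (nat_lit 0x712fd915522) (.node (nat_lit 0x712c802d0ea) (.leaf (nat_lit 0x712c54e3d4f) (nat_lit 3073))
 (.node (nat_lit 0x712c8236b90) (.leaf (nat_lit 0x712c802d0ea) (nat_lit 3585))
 (.leaf (nat_lit 0x712c8236b90) (nat_lit 3073))
)) (.node (nat_lit 0x712fd9cda7c) (.leaf (nat_lit 0x712fd915522) (nat_lit 2817))
 (.node (nat_lit 0x7140543b2b8) (.leaf (nat_lit 0x712fd9cda7c) (nat_lit 2817))
 (.leaf (nat_lit 0x7140543b2b8) (nat_lit 2561))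
))))) (.node (nat_lit 0x71529a1fcd8) (.node (nat_lit 0x7143d61fb23) (.node (nat_lit 0x7142945027c) (.node (nat_lit 0x7140fd041d3) (.leaf (nat_lit 0x71405504289) (nat_lit 3328))
 (.leaf (nat_lit 0x7140fd041d3) (nat_lit 2562))
) (.node (nat_lit 0x7142949f4d8) (.leaf (nat_lit 0x7142945027c) (nat_lit 2306))
 (.node (nat_lit 0x7143d61b207) (.leaf (nat_lit 0x7142949f4d8) (nat_lit 2816))
 (.leaf (nat_lit 0x7143d61b207) (nat_lit 2817))
))) (.node (nat_lit 0x714afc501b0) (.node (nat_lit 0x7143dce5a07) (.leaf (nat_lit 0x7143d61fb23) (nat_lit 3585))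
 (.node (nat_lit 0x714589f352d) (.leaf (nat_lit 0x7143dce5a07) (nat_lit 2561))
 (.leaf (nat_lit 0x714589f352d) (nat_lit 2818))
)) (.node (nat_lit 0x714afdbd9b0) (.leaf (nat_lit 0x714afc501b0) (nat_lit 2561))
 (.node (nat_lit 0x714fd95ba89) (.leaf (nat_lit 0x714afdbd9b0) (nat_lit 2562))
 (.leaf (nat_lit 0x714fd95ba89) (nat_lit 2306))
)))) (.node (nat_lit 0x71a155cb175) (.node (nat_lit 0x71a0e40ca63) (.node (nat_lit 0x7152c0e5b90) (.leaf (nat_lit 0x71529a1fcd8) (nat_lit 3073))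
 (.node (nat_lit 0x7152c1f352d) (.leaf (nat_lit 0x7152c0e5b90) (nat_lit 1538))
 (.leaf (nat_lit 0x7152c1f352d) (nat_lit 2050))
)) (.node (nat_lit 0x71a0e551c98) (.leaf (nat_lit 0x71a0e40ca63) (nat_lit 2561))
 (.node (nat_lit 0x71a13ccc50d) (.leaf (nat_lit 0x71a0e551c98) (nat_lit 2049))
 (.leaf (nat_lit 0x71a13ccc50d) (nat_lit 3074))
))) (.node (nat_lit 0x71a9411c886) (.node (nat_lit 0x71a381e1362) (.leaf (nat_lit 0x71a155cb175) (nat_lit 3329))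
 (.node (nat_lit 0x71a394b2d06) (.leaf (nat_lit 0x71a381e1362) (nat_lit 3074))
 (.leaf (nat_lit 0x71a394b2d06) (nat_lit 1792))
)) (.node (nat_lit 0x71a99d0d975) (.leaf (nat_lit 0x71a9411c886) (nat_lit 3329))
 (.node (nat_lit 0x71a9f4f1a5c) (.leaf (nat_lit 0x71a99d0d975) (nat_lit 2816))
 (.leaf (nat_lit 0x71a9f4f1a5c) (nat_lit 2562))
))))))) (.node (nat_lit 0x73099c0802c) (.node (nat_lit 0x71e3d1ddac5) (.node (nat_lit 0x71c640fe370) (.node (nat_lit 0x71b5e5cea5c) (.node (nat_lit 0x71b070ff526) (.node (nat_lit 0x71ac1410a63) (.leaf (nat_lit 0x71aaedf8526) (nat_lit 3074))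
 (.leaf (nat_lit 0x71ac1410a63) (nat_lit 2561))
) (.node (nat_lit 0x71b358d4d06) (.leaf (nat_lit 0x71b070ff526) (nat_lit 3074))
 (.node (nat_lit 0x71b48c0ca35) (.leaf (nat_lit 0x71b358d4d06) (nat_lit 2816))
 (.leaf (nat_lit 0x71b48c0ca35) (nat_lit 3072))
))) (.node (nat_lit 0x71c0fcf71d3) (.node (nat_lit 0x71c0543b25e) (.leaf (nat_lit 0x71b5e5cea5c) (nat_lit 3586))
 (.node (nat_lit 0x71c0561f370) (.leaf (nat_lit 0x71c0543b25e) (nat_lit 2817))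
 (.leaf (nat_lit 0x71c0561f370) (nat_lit 2561))
)) (.node (nat_lit 0x71c0fd0a9d3) (.leaf (nat_lit 0x71c0fcf71d3) (nat_lit 3073))
 (.node (nat_lit 0x71c3de2ecb5) (.leaf (nat_lit 0x71c0fd0a9d3) (nat_lit 2562))
 (.leaf (nat_lit 0x71c3de2ecb5) (nat_lit 3329))
)))) (.node (nat_lit 0x71cc54f7455) (.node (nat_lit 0x71c83c3b25e) (.node (nat_lit 0x71c640fe455) (.leaf (nat_lit 0x71c640fe370) (nat_lit 2817))
 (.leaf (nat_lit 0x71c640fe455) (nat_lit 3074))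
) (.node (nat_lit 0x71c83d0a954) (.leaf (nat_lit 0x71c83c3b25e) (nat_lit 2816))
 (.node (nat_lit 0x71cc40d9c07) (.leaf (nat_lit 0x71c83d0a954) (nat_lit 2305))
 (.leaf (nat_lit 0x71cc40d9c07) (nat_lit 2561))
))) (.node (nat_lit 0x71d208d3985) (.node (nat_lit 0x71cc561f154) (.leaf (nat_lit 0x71cc54f7455) (nat_lit 2817))
 (.node (nat_lit 0x71cc81ff2c4) (.leaf (nat_lit 0x71cc561f154) (nat_lit 3073))
 (.leaf (nat_lit 0x71cc81ff2c4) (nat_lit 2561))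
)) (.node (nat_lit 0x71d2c0f8a95) (.leaf (nat_lit 0x71d208d3985) (nat_lit 3328))
 (.node (nat_lit 0x71e3d1dda9e) (.leaf (nat_lit 0x71d2c0f8a95) (nat_lit 2304))
 (.leaf (nat_lit 0x71e3d1dda9e) (nat_lit 3074))
))))) (.node (nat_lit 0x71efe1cfa94) (.node (nat_lit 0x71e85e2c1ac) (.node (nat_lit 0x71e460d9406) (.node (nat_lit 0x71e3edfd1ac) (.leaf (nat_lit 0x71e3d1ddac5) (nat_lit 2561))
 (.leaf (nat_lit 0x71e3edfd1ac) (nat_lit 2561))
) (.node (nat_lit 0x71e461760bb) (.leaf (nat_lit 0x71e460d9406) (nat_lit 2817))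
 (.node (nat_lit 0x71e85dfd4b1) (.leaf (nat_lit 0x71e461760bb) (nat_lit 2560))
 (.leaf (nat_lit 0x71e85dfd4b1) (nat_lit 3074))
))) (.node (nat_lit 0x71ec3d760bb) (.node (nat_lit 0x71ea58d33cb) (.leaf (nat_lit 0x71e85e2c1ac) (nat_lit 3073))
 (.node (nat_lit 0x71ea58fd3cb) (.leaf (nat_lit 0x71ea58d33cb) (nat_lit 3329))
 (.leaf (nat_lit 0x71ea58fd3cb) (nat_lit 2818))
)) (.node (nat_lit 0x71ec85fea9e) (.leaf (nat_lit 0x71ec3d760bb) (nat_lit 2817))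
 (.node (nat_lit 0x71efe0f8124) (.leaf (nat_lit 0x71ec85fea9e) (nat_lit 3073))
 (.leaf (nat_lit 0x71efe0f8124) (nat_lit 2818))
)))) (.node (nat_lit 0x7305e952d3f) (.node (nat_lit 0x7300e4d3985) (.node (nat_lit 0x71f20cfd184) (.leaf (nat_lit 0x71efe1cfa94) (nat_lit 1794))
 (.node (nat_lit 0x71f2c9cf924) (.leaf (nat_lit 0x71f20cfd184) (nat_lit 2818))
 (.leaf (nat_lit 0x71f2c9cf924) (nat_lit 2817))
)) (.node (nat_lit 0x7300e4fc985) (.leaf (nat_lit 0x7300e4d3985) (nat_lit 2818))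
 (.node (nat_lit 0x7300f90ed2d) (.leaf (nat_lit 0x7300e4fc985) (nat_lit 3072))
 (.leaf (nat_lit 0x7300f90ed2d) (nat_lit 2304))
))) (.node (nat_lit 0x730900da865) (.node (nat_lit 0x7305f644c78) (.leaf (nat_lit 0x7305e952d3f) (nat_lit 2562))
 (.node (nat_lit 0x7308063451f) (.leaf (nat_lit 0x7305f644c78) (nat_lit 2561))
 (.leaf (nat_lit 0x7308063451f) (nat_lit 3584))
)) (.node (nat_lit 0x73093c0802c) (.leaf (nat_lit 0x730900da865) (nat_lit 1537))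
 (.node (nat_lit 0x73095e342f5) (.leaf (nat_lit 0x73093c0802c) (nat_lit 2561))
 (.leaf (nat_lit 0x73095e342f5) (nat_lit 2818))
)))))) (.node (nat_lit 0x73613dc4a82) (.node (nat_lit 0x7329e5f1af4) (.node (nat_lit 0x7313882d0ea) (.node (nat_lit 0x730c39f251f) (.node (nat_lit 0x7309d4d3bca) (.leaf (nat_lit 0x73099c0802c) (nat_lit 3329))
 (.leaf (nat_lit 0x7309d4d3bca) (nat_lit 2818))
) (.node (nat_lit 0x730fd50ed3f) (.leaf (nat_lit 0x730c39f251f) (nat_lit 2817))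
 (.node (nat_lit 0x7312ce44865) (.leaf (nat_lit 0x730fd50ed3f) (nat_lit 2816))
 (.leaf (nat_lit 0x7312ce44865) (nat_lit 3074))
))) (.node (nat_lit 0x7322b66054f) (.node (nat_lit 0x7320e55bb92) (.leaf (nat_lit 0x7313882d0ea) (nat_lit 3073))
 (.node (nat_lit 0x7320e69b392) (.leaf (nat_lit 0x7320e55bb92) (nat_lit 3330))
 (.leaf (nat_lit 0x7320e69b392) (nat_lit 2818))
)) (.node (nat_lit 0x7329981ba61) (.leaf (nat_lit 0x7322b66054f) (nat_lit 3072))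
 (.node (nat_lit 0x7329d0fd3cb) (.leaf (nat_lit 0x7329981ba61) (nat_lit 3586))
 (.leaf (nat_lit 0x7329d0fd3cb) (nat_lit 3074))
)))) (.node (nat_lit 0x73315260532) (.node (nat_lit 0x732b281ba61) (.node (nat_lit 0x732a0d5ba89) (.leaf (nat_lit 0x7329e5f1af4) (nat_lit 3329))
 (.node (nat_lit 0x732aa550d2c) (.leaf (nat_lit 0x732a0d5ba89) (nat_lit 3329))
 (.leaf (nat_lit 0x732aa550d2c) (nat_lit 2306))
)) (.node (nat_lit 0x732d04dc476) (.leaf (nat_lit 0x732b281ba61) (nat_lit 3329))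
 (.node (nat_lit 0x733070e5289) (.leaf (nat_lit 0x732d04dc476) (nat_lit 2304))
 (.leaf (nat_lit 0x733070e5289) (nat_lit 3330))
))) (.node (nat_lit 0x7334ac2c8e8) (.node (nat_lit 0x733198e554f) (.leaf (nat_lit 0x73315260532) (nat_lit 2561))
 (.node (nat_lit 0x7334729b532) (.leaf (nat_lit 0x733198e554f) (nat_lit 2817))
 (.leaf (nat_lit 0x7334729b532) (nat_lit 2049))
)) (.node (nat_lit 0x7360e6111d5) (.leaf (nat_lit 0x7334ac2c8e8) (nat_lit 2561))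
 (.node (nat_lit 0x7360e64428a) (.leaf (nat_lit 0x7360e6111d5) (nat_lit 2817))
 (.leaf (nat_lit 0x7360e64428a) (nat_lit 2304))
))))) (.node (nat_lit 0x73752404aaf) (.node (nat_lit 0x736d25f2572) (.node (nat_lit 0x7364c21bb1b) (.node (nat_lit 0x7363504dc16) (.leaf (nat_lit 0x73613dc4a82) (nat_lit 3073))
 (.leaf (nat_lit 0x7363504dc16) (nat_lit 2817))
) (.node (nat_lit 0x736a384dc16) (.leaf (nat_lit 0x7364c21bb1b) (nat_lit 2562))
 (.node (nat_lit 0x736c3a3a282) (.leaf (nat_lit 0x736a384dc16) (nat_lit 2817))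
 (.leaf (nat_lit 0x736c3a3a282) (nat_lit 3329))
))) (.node (nat_lit 0x737415c4c7d) (.node (nat_lit 0x7371521131b) (.leaf (nat_lit 0x736d25f2572) (nat_lit 2817))
 (.node (nat_lit 0x73739df317f) (.leaf (nat_lit 0x7371521131b) (nat_lit 2818))
 (.leaf (nat_lit 0x73739df317f) (nat_lit 2561))
)) (.node (nat_lit 0x73745a6128a) (.leaf (nat_lit 0x737415c4c7d) (nat_lit 3585))
 (.node (nat_lit 0x7374fa444f1) (.leaf (nat_lit 0x73745a6128a) (nat_lit 3329))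
 (.leaf (nat_lit 0x7374fa444f1) (nat_lit 3072))
)))) (.node (nat_lit 0x73e43a5e4df) (.node (nat_lit 0x73e0e666575) (.node (nat_lit 0x737551f217f) (.leaf (nat_lit 0x73752404aaf) (nat_lit 2817))
 (.node (nat_lit 0x73e0e66037f) (.leaf (nat_lit 0x737551f217f) (nat_lit 2818))
 (.leaf (nat_lit 0x73e0e66037f) (nat_lit 3072))
)) (.node (nat_lit 0x73e2b8f7d73) (.leaf (nat_lit 0x73e0e666575) (nat_lit 2817))
 (.node (nat_lit 0x73e3f55a86a) (.leaf (nat_lit 0x73e2b8f7d73) (nat_lit 3330))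
 (.leaf (nat_lit 0x73e3f55a86a) (nat_lit 2817))
))) (.node (nat_lit 0x73e9426ec7e) (.node (nat_lit 0x73e5855a86a) (.leaf (nat_lit 0x73e43a5e4df) (nat_lit 2817))
 (.node (nat_lit 0x73e80405aae) (.leaf (nat_lit 0x73e5855a86a) (nat_lit 3329))
 (.leaf (nat_lit 0x73e80405aae) (nat_lit 2817))
)) (.node (nat_lit 0x73e95a6eb7f) (.leaf (nat_lit 0x73e9426ec7e) (nat_lit 3073))
 (.node (nat_lit 0x73e998f7d7e) (.leaf (nat_lit 0x73e95a6eb7f) (nat_lit 2817))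
 (.leaf (nat_lit 0x73e998f7d7e) (nat_lit 3072))
))))))))) (.node (nat_lit 0x7732e436306) (.node (nat_lit 0x75906c63ca9) (.node (nat_lit 0x74d2e692116) (.node (nat_lit 0x742839242c2) (.node (nat_lit 0x740b180cadc) (.node (nat_lit 0x7403440ca4f) (.node (nat_lit 0x73f3f9f3d75) (.node (nat_lit 0x73eba21b57e) (.leaf (nat_lit 0x73ea6e3acdf) (nat_lit 3073))
 (.leaf (nat_lit 0x73eba21b57e) (nat_lit 2816))
) (.node (nat_lit 0x73f45e661d4) (.leaf (nat_lit 0x73f3f9f3d75) (nat_lit 1280))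
 (.node (nat_lit 0x73f5aa5e4f0) (.leaf (nat_lit 0x73f45e661d4) (nat_lit 3329))
 (.leaf (nat_lit 0x73f5aa5e4f0) (nat_lit 2562))
))) (.node (nat_lit 0x7409680c8e5) (.node (nat_lit 0x7403fc0c8e5) (.leaf (nat_lit 0x7403440ca4f) (nat_lit 2305))
 (.node (nat_lit 0x7403fe1a276) (.leaf (nat_lit 0x7403fc0c8e5) (nat_lit 3330))
 (.leaf (nat_lit 0x7403fe1a276) (nat_lit 3073))
)) (.node (nat_lit 0x740b040cadc) (.leaf (nat_lit 0x7409680c8e5) (nat_lit 2817))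
 (.node (nat_lit 0x740b04f21ac) (.leaf (nat_lit 0x740b040cadc) (nat_lit 2560))
 (.leaf (nat_lit 0x740b04f21ac) (nat_lit 2818))
)))) (.node (nat_lit 0x74106956d1f) (.node (nat_lit 0x740bc00cbf4) (.node (nat_lit 0x740bc00ca4f) (.leaf (nat_lit 0x740b180cadc) (nat_lit 3073))
 (.leaf (nat_lit 0x740bc00ca4f) (nat_lit 2561))
) (.node (nat_lit 0x740c59252c3) (.leaf (nat_lit 0x740bc00cbf4) (nat_lit 2816))
 (.node (nat_lit 0x7410680ccaa) (.leaf (nat_lit 0x740c59252c3) (nat_lit 2817))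
 (.leaf (nat_lit 0x7410680ccaa) (nat_lit 3073))
))) (.node (nat_lit 0x74158c0cbf4) (.node (nat_lit 0x7411800ccaa) (.leaf (nat_lit 0x74106956d1f) (nat_lit 3584))
 (.node (nat_lit 0x7411824fc5a) (.leaf (nat_lit 0x7411800ccaa) (nat_lit 1794))
 (.leaf (nat_lit 0x7411824fc5a) (nat_lit 3074))
)) (.node (nat_lit 0x74234cf2d70) (.leaf (nat_lit 0x74158c0cbf4) (nat_lit 2817))
 (.node (nat_lit 0x74283924065) (.leaf (nat_lit 0x74234cf2d70) (nat_lit 2818))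
 (.leaf (nat_lit 0x74283924065) (nat_lit 3330))
))))) (.node (nat_lit 0x74336e4ebcb) (.node (nat_lit 0x742b4d56523) (.node (nat_lit 0x742a60f29ad) (.node (nat_lit 0x74296619a77) (.leaf (nat_lit 0x742839242c2) (nat_lit 3073))
 (.leaf (nat_lit 0x74296619a77) (nat_lit 2050))
) (.node (nat_lit 0x742a6156295) (.leaf (nat_lit 0x742a60f29ad) (nat_lit 1537))
 (.node (nat_lit 0x742b1d56295) (.leaf (nat_lit 0x742a6156295) (nat_lit 3585))
 (.leaf (nat_lit 0x742b1d56295) (nat_lit 2818))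
))) (.node (nat_lit 0x742ff219bc0) (.node (nat_lit 0x742b4e19bc0) (.leaf (nat_lit 0x742b4d56523) (nat_lit 1793))
 (.node (nat_lit 0x742c5124065) (.leaf (nat_lit 0x742b4e19bc0) (nat_lit 1794))
 (.leaf (nat_lit 0x742c5124065) (nat_lit 3074))
)) (.node (nat_lit 0x742ff24ec5c) (.leaf (nat_lit 0x742ff219bc0) (nat_lit 3328))
 (.node (nat_lit 0x74336cf2d70) (.leaf (nat_lit 0x742ff24ec5c) (nat_lit 3328))
 (.leaf (nat_lit 0x74336cf2d70) (nat_lit 2306))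
)))) (.node (nat_lit 0x74c9d0e1b09) (.node (nat_lit 0x74c0e6023d1) (.node (nat_lit 0x7435964ebcb) (.leaf (nat_lit 0x74336e4ebcb) (nat_lit 2049))
 (.node (nat_lit 0x74c0e4fbd75) (.leaf (nat_lit 0x7435964ebcb) (nat_lit 2817))
 (.leaf (nat_lit 0x74c0e4fbd75) (nat_lit 1794))
)) (.node (nat_lit 0x74c194cfc85) (.leaf (nat_lit 0x74c0e6023d1) (nat_lit 3073))
 (.node (nat_lit 0x74c2b9f83d1) (.leaf (nat_lit 0x74c194cfc85) (nat_lit 2561))
 (.leaf (nat_lit 0x74c2b9f83d1) (nat_lit 2048))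
))) (.node (nat_lit 0x74cc149e916) (.node (nat_lit 0x74cb25ab11d) (.leaf (nat_lit 0x74c9d0e1b09) (nat_lit 3072))
 (.node (nat_lit 0x74cb5629d75) (.leaf (nat_lit 0x74cb25ab11d) (nat_lit 2560))
 (.leaf (nat_lit 0x74cb5629d75) (nat_lit 1793))
)) (.node (nat_lit 0x74d1651757f) (.leaf (nat_lit 0x74cc149e916) (nat_lit 3329))
 (.node (nat_lit 0x74d168b4d06) (.leaf (nat_lit 0x74d1651757f) (nat_lit 2562))
 (.leaf (nat_lit 0x74d168b4d06) (nat_lit 2561))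
)))))) (.node (nat_lit 0x75625c9eaeb) (.node (nat_lit 0x74e9a648c84) (.node (nat_lit 0x74e0e463aeb) (.node (nat_lit 0x74d5240caaf) (.node (nat_lit 0x74d401a811d) (.leaf (nat_lit 0x74d2e692116) (nat_lit 2560))
 (.leaf (nat_lit 0x74d401a811d) (nat_lit 2305))
) (.node (nat_lit 0x74d5740cae9) (.leaf (nat_lit 0x74d5240caaf) (nat_lit 2816))
 (.node (nat_lit 0x74d5b8452af) (.leaf (nat_lit 0x74d5740cae9) (nat_lit 3329))
 (.leaf (nat_lit 0x74d5b8452af) (nat_lit 2560))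
))) (.node (nat_lit 0x74e154ccb0e) (.node (nat_lit 0x74e0e5a7205) (.leaf (nat_lit 0x74e0e463aeb) (nat_lit 2817))
 (.node (nat_lit 0x74e13dcbce4) (.leaf (nat_lit 0x74e0e5a7205) (nat_lit 2816))
 (.leaf (nat_lit 0x74e13dcbce4) (nat_lit 2818))
)) (.node (nat_lit 0x74e950f5ce4) (.leaf (nat_lit 0x74e154ccb0e) (nat_lit 3072))
 (.node (nat_lit 0x74e959e3d7e) (.leaf (nat_lit 0x74e950f5ce4) (nat_lit 2560))
 (.leaf (nat_lit 0x74e959e3d7e) (nat_lit 3328))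
)))) (.node (nat_lit 0x74f2a8b2a34) (.node (nat_lit 0x74ea100c845) (.node (nat_lit 0x74e9d80cd05) (.leaf (nat_lit 0x74e9a648c84) (nat_lit 2306))
 (.leaf (nat_lit 0x74e9d80cd05) (nat_lit 2305))
) (.node (nat_lit 0x74ea2018045) (.leaf (nat_lit 0x74ea100c845) (nat_lit 2305))
 (.node (nat_lit 0x74f076948db) (.leaf (nat_lit 0x74ea2018045) (nat_lit 2561))
 (.leaf (nat_lit 0x74f076948db) (nat_lit 1537))
))) (.node (nat_lit 0x74f571e9205) (.node (nat_lit 0x74f3f0d4a34) (.leaf (nat_lit 0x74f2a8b2a34) (nat_lit 3074))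
 (.node (nat_lit 0x74f521cf0db) (.leaf (nat_lit 0x74f3f0d4a34) (nat_lit 2561))
 (.leaf (nat_lit 0x74f521cf0db) (nat_lit 2304))
)) (.node (nat_lit 0x75604826085) (.leaf (nat_lit 0x74f571e9205) (nat_lit 2816))
 (.node (nat_lit 0x7561a4f14a0) (.leaf (nat_lit 0x75604826085) (nat_lit 2562))
 (.leaf (nat_lit 0x7561a4f14a0) (nat_lit 2305))
))))) (.node (nat_lit 0x757369d156e) (.node (nat_lit 0x756bc039240) (.node (nat_lit 0x756344b4a40) (.node (nat_lit 0x75625e9c4a0) (.leaf (nat_lit 0x75625c9eaeb) (nat_lit 2818))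
 (.leaf (nat_lit 0x75625e9c4a0) (nat_lit 3074))
) (.node (nat_lit 0x756345d7175) (.leaf (nat_lit 0x756344b4a40) (nat_lit 2050))
 (.node (nat_lit 0x756ae918556) (.leaf (nat_lit 0x756345d7175) (nat_lit 2818))
 (.leaf (nat_lit 0x756ae918556) (nat_lit 2818))
))) (.node (nat_lit 0x7571940c885) (.node (nat_lit 0x757180db484) (.leaf (nat_lit 0x756bc039240) (nat_lit 2305))
 (.node (nat_lit 0x757180ef56e) (.leaf (nat_lit 0x757180db484) (nat_lit 2561))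
 (.leaf (nat_lit 0x757180ef56e) (nat_lit 3073))
)) (.node (nat_lit 0x75719634b0e) (.leaf (nat_lit 0x7571940c885) (nat_lit 3074))
 (.node (nat_lit 0x7573680cd05) (.leaf (nat_lit 0x75719634b0e) (nat_lit 3073))
 (.leaf (nat_lit 0x7573680cd05) (nat_lit 2817))
)))) (.node (nat_lit 0x758ae4bc254) (.node (nat_lit 0x7581911f518) (.node (nat_lit 0x75758e09175) (.leaf (nat_lit 0x757369d156e) (nat_lit 3073))
 (.node (nat_lit 0x758045bcb09) (.leaf (nat_lit 0x75758e09175) (nat_lit 1281))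
 (.leaf (nat_lit 0x758045bcb09) (nat_lit 3074))
)) (.node (nat_lit 0x758a600cae9) (.leaf (nat_lit 0x7581911f518) (nat_lit 1537))
 (.node (nat_lit 0x758a6209d18) (.leaf (nat_lit 0x758a600cae9) (nat_lit 2562))
 (.leaf (nat_lit 0x758a6209d18) (nat_lit 2562))
))) (.node (nat_lit 0x758bc43eca9) (.node (nat_lit 0x758ae599c85) (.leaf (nat_lit 0x758ae4bc254) (nat_lit 2562))
 (.node (nat_lit 0x758b4da2d69) (.leaf (nat_lit 0x758ae599c85) (nat_lit 2817))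
 (.leaf (nat_lit 0x758b4da2d69) (nat_lit 2306))
)) (.node (nat_lit 0x758c50b2d06) (.leaf (nat_lit 0x758bc43eca9) (nat_lit 2818))
 (.node (nat_lit 0x758c519b254) (.leaf (nat_lit 0x758c50b2d06) (nat_lit 2306))
 (.leaf (nat_lit 0x758c519b254) (nat_lit 3073))
))))))) (.node (nat_lit 0x76d2eca5a94) (.node (nat_lit 0x7662629cbcc) (.node (nat_lit 0x762a740ca63) (.node (nat_lit 0x762048cc271) (.node (nat_lit 0x7592ad0e569) (.node (nat_lit 0x75906c8404f) (.leaf (nat_lit 0x75906c63ca9) (nat_lit 3072))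
 (.leaf (nat_lit 0x75906c8404f) (nat_lit 2049))
) (.node (nat_lit 0x7592ade1557) (.leaf (nat_lit 0x7592ad0e569) (nat_lit 3072))
 (.node (nat_lit 0x7595940c84f) (.leaf (nat_lit 0x7592ade1557) (nat_lit 3330))
 (.leaf (nat_lit 0x7595940c84f) (nat_lit 2817))
))) (.node (nat_lit 0x7624861dd0c) (.node (nat_lit 0x76234421240) (.leaf (nat_lit 0x762048cc271) (nat_lit 3329))
 (.node (nat_lit 0x7623fc460b0) (.leaf (nat_lit 0x76234421240) (nat_lit 3330))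
 (.leaf (nat_lit 0x7623fc460b0) (nat_lit 2305))
)) (.node (nat_lit 0x762844bc557) (.leaf (nat_lit 0x7624861dd0c) (nat_lit 3329))
 (.node (nat_lit 0x762846313f7) (.leaf (nat_lit 0x762844bc557) (nat_lit 3330))
 (.leaf (nat_lit 0x762846313f7) (nat_lit 3328))
)))) (.node (nat_lit 0x763194a4271) (.node (nat_lit 0x762af19950c) (.node (nat_lit 0x762af0b2a40) (.leaf (nat_lit 0x762a740ca63) (nat_lit 3585))
 (.leaf (nat_lit 0x762af0b2a40) (nat_lit 2305))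
) (.node (nat_lit 0x762b0497263) (.leaf (nat_lit 0x762af19950c) (nat_lit 2817))
 (.node (nat_lit 0x762b04e23ce) (.leaf (nat_lit 0x762b0497263) (nat_lit 3329))
 (.leaf (nat_lit 0x762b04e23ce) (nat_lit 3073))
))) (.node (nat_lit 0x76358e63d57) (.node (nat_lit 0x763195ce97f) (.leaf (nat_lit 0x763194a4271) (nat_lit 3330))
 (.node (nat_lit 0x76358c0cbf4) (.leaf (nat_lit 0x763195ce97f) (nat_lit 3072))
 (.leaf (nat_lit 0x76358c0cbf4) (nat_lit 3328))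
)) (.node (nat_lit 0x766045cb175) (.leaf (nat_lit 0x76358e63d57) (nat_lit 1793))
 (.node (nat_lit 0x7662615931b) (.leaf (nat_lit 0x766045cb175) (nat_lit 3073))
 (.leaf (nat_lit 0x7662615931b) (nat_lit 2050))
))))) (.node (nat_lit 0x7673b5ac3f9) (.node (nat_lit 0x76696496aae) (.node (nat_lit 0x766400642ae) (.node (nat_lit 0x76634c3c0e5) (.leaf (nat_lit 0x7662629cbcc) (nat_lit 3585))
 (.leaf (nat_lit 0x76634c3c0e5) (nat_lit 3329))
) (.node (nat_lit 0x766469d7161) (.leaf (nat_lit 0x766400642ae) (nat_lit 2049))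
 (.node (nat_lit 0x7669640c8af) (.leaf (nat_lit 0x766469d7161) (nat_lit 3072))
 (.leaf (nat_lit 0x7669640c8af) (nat_lit 2049))
))) (.node (nat_lit 0x766b4d52523) (.node (nat_lit 0x766a626331b) (.leaf (nat_lit 0x76696496aae) (nat_lit 2817))
 (.node (nat_lit 0x766b4c393f5) (.leaf (nat_lit 0x766a626331b) (nat_lit 2049))
 (.leaf (nat_lit 0x766b4c393f5) (nat_lit 1793))
)) (.node (nat_lit 0x76706c0c8e5) (.leaf (nat_lit 0x766b4d52523) (nat_lit 3329))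
 (.node (nat_lit 0x76706de9961) (.leaf (nat_lit 0x76706c0c8e5) (nat_lit 2817))
 (.leaf (nat_lit 0x76706de9961) (nat_lit 3074))
)))) (.node (nat_lit 0x76c9185e847) (.node (nat_lit 0x76c0e46291e) (.node (nat_lit 0x7673b5c2d23) (.leaf (nat_lit 0x7673b5ac3f9) (nat_lit 3329))
 (.node (nat_lit 0x76c0e40c91e) (.leaf (nat_lit 0x7673b5c2d23) (nat_lit 3330))
 (.leaf (nat_lit 0x76c0e40c91e) (nat_lit 2817))
)) (.node (nat_lit 0x76c1459b97a) (.leaf (nat_lit 0x76c0e46291e) (nat_lit 3073))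
 (.node (nat_lit 0x76c431ab954) (.leaf (nat_lit 0x76c1459b97a) (nat_lit 3584))
 (.leaf (nat_lit 0x76c431ab954) (nat_lit 2561))
))) (.node (nat_lit 0x76cd800ca5f) (.node (nat_lit 0x76c9c0a931a) (.leaf (nat_lit 0x76c9185e847) (nat_lit 2817))
 (.node (nat_lit 0x76cba9f8d18) (.leaf (nat_lit 0x76c9c0a931a) (nat_lit 3330))
 (.leaf (nat_lit 0x76cba9f8d18) (nat_lit 2049))
)) (.node (nat_lit 0x76ce01158ef) (.leaf (nat_lit 0x76cd800ca5f) (nat_lit 3072))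
 (.node (nat_lit 0x76d0411b847) (.leaf (nat_lit 0x76ce01158ef) (nat_lit 3073))
 (.leaf (nat_lit 0x76d0411b847) (nat_lit 1282))
)))))) (.node (nat_lit 0x77019266526) (.node (nat_lit 0x76efe40c90d) (.node (nat_lit 0x76e0e6351b1) (.node (nat_lit 0x76d4043ece8) (.node (nat_lit 0x76d3b11f154) (.leaf (nat_lit 0x76d2eca5a94) (nat_lit 3329))
 (.leaf (nat_lit 0x76d3b11f154) (nat_lit 1281))
) (.node (nat_lit 0x76d5ad0cb1a) (.leaf (nat_lit 0x76d4043ece8) (nat_lit 2305))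
 (.node (nat_lit 0x76d5e9efa94) (.leaf (nat_lit 0x76d5ad0cb1a) (nat_lit 1794))
 (.leaf (nat_lit 0x76d5e9efa94) (nat_lit 2817))
))) (.node (nat_lit 0x76e15d0dd56) (.node (nat_lit 0x76e0e68a1b1) (.leaf (nat_lit 0x76e0e6351b1) (nat_lit 3329))
 (.node (nat_lit 0x76e13e47974) (.leaf (nat_lit 0x76e0e68a1b1) (nat_lit 1538))
 (.leaf (nat_lit 0x76e13e47974) (nat_lit 3073))
)) (.node (nat_lit 0x76e580cf555) (.leaf (nat_lit 0x76e15d0dd56) (nat_lit 2050))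
 (.node (nat_lit 0x76ef287690d) (.leaf (nat_lit 0x76e580cf555) (nat_lit 3074))
 (.leaf (nat_lit 0x76ef287690d) (nat_lit 3329))
)))) (.node (nat_lit 0x76f38629519) (.node (nat_lit 0x76f170f1556) (.node (nat_lit 0x76f0ea64d55) (.leaf (nat_lit 0x76efe40c90d) (nat_lit 2817))
 (.leaf (nat_lit 0x76f0ea64d55) (nat_lit 3072))
) (.node (nat_lit 0x76f249808f0) (.leaf (nat_lit 0x76f170f1556) (nat_lit 1792))
 (.node (nat_lit 0x76f31417a5e) (.leaf (nat_lit 0x76f249808f0) (nat_lit 3073))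
 (.leaf (nat_lit 0x76f31417a5e) (nat_lit 2560))
))) (.node (nat_lit 0x76f5b49eca9) (.node (nat_lit 0x76f3880cce6) (.leaf (nat_lit 0x76f38629519) (nat_lit 2561))
 (.node (nat_lit 0x76f52c894a9) (.leaf (nat_lit 0x76f3880cce6) (nat_lit 3074))
 (.leaf (nat_lit 0x76f52c894a9) (nat_lit 2561))
)) (.node (nat_lit 0x7700459e484) (.leaf (nat_lit 0x76f5b49eca9) (nat_lit 2562))
 (.node (nat_lit 0x770045be50c) (.leaf (nat_lit 0x7700459e484) (nat_lit 2561))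
 (.leaf (nat_lit 0x770045be50c) (nat_lit 2561))
))))) (.node (nat_lit 0x7712e8dab0e) (.node (nat_lit 0x77046853d49) (.node (nat_lit 0x7702119e3f9) (.node (nat_lit 0x770210dad49) (.leaf (nat_lit 0x77019266526) (nat_lit 3073))
 (.leaf (nat_lit 0x770210dad49) (nat_lit 3074))
) (.node (nat_lit 0x770260e3d26) (.leaf (nat_lit 0x7702119e3f9) (nat_lit 3072))
 (.node (nat_lit 0x770260e3d7e) (.leaf (nat_lit 0x770260e3d26) (nat_lit 2816))
 (.leaf (nat_lit 0x770260e3d7e) (nat_lit 3074))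
))) (.node (nat_lit 0x7711929bd0c) (.node (nat_lit 0x770ae40782a) (.leaf (nat_lit 0x77046853d49) (nat_lit 3074))
 (.node (nat_lit 0x770ae5be556) (.leaf (nat_lit 0x770ae40782a) (nat_lit 1793))
 (.leaf (nat_lit 0x770ae5be556) (nat_lit 3074))
)) (.node (nat_lit 0x7712acc9d05) (.leaf (nat_lit 0x7711929bd0c) (nat_lit 2817))
 (.node (nat_lit 0x7712e80782a) (.leaf (nat_lit 0x7712acc9d05) (nat_lit 3074))
 (.leaf (nat_lit 0x7712e80782a) (nat_lit 2561))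
)))) (.node (nat_lit 0x77267113480) (.node (nat_lit 0x7720e5a7323) (.node (nat_lit 0x7713b5ee3f9) (.leaf (nat_lit 0x7712e8dab0e) (nat_lit 3328))
 (.node (nat_lit 0x7720e4cf323) (.leaf (nat_lit 0x7713b5ee3f9) (nat_lit 2818))
 (.leaf (nat_lit 0x7720e4cf323) (nat_lit 3074))
)) (.node (nat_lit 0x772431f8526) (.leaf (nat_lit 0x7720e5a7323) (nat_lit 3073))
 (.node (nat_lit 0x7726000cb06) (.leaf (nat_lit 0x772431f8526) (nat_lit 2817))
 (.leaf (nat_lit 0x7726000cb06) (nat_lit 2817))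
))) (.node (nat_lit 0x772c145ea5e) (.node (nat_lit 0x7729babe367) (.leaf (nat_lit 0x77267113480) (nat_lit 3073))
 (.node (nat_lit 0x772ba9ab4b1) (.leaf (nat_lit 0x7729babe367) (nat_lit 3073))
 (.leaf (nat_lit 0x772ba9ab4b1) (nat_lit 2561))
)) (.node (nat_lit 0x7730600c845) (.leaf (nat_lit 0x772c145ea5e) (nat_lit 3585))
 (.node (nat_lit 0x7731f11ba5e) (.leaf (nat_lit 0x7730600c845) (nat_lit 1794))
 (.leaf (nat_lit 0x7731f11ba5e) (nat_lit 3585))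
)))))))) (.node (nat_lit 0x78d35a4ece4) (.node (nat_lit 0x786b40fcae0) (.node (nat_lit 0x776844fece9) (.node (nat_lit 0x7745800c885) (.node (nat_lit 0x7740e421189) (.node (nat_lit 0x773401a94b1) (.node (nat_lit 0x7733a9d1371) (.leaf (nat_lit 0x7732e436306) (nat_lit 2817))
 (.leaf (nat_lit 0x7733a9d1371) (nat_lit 3328))
) (.node (nat_lit 0x77352cb4a40) (.leaf (nat_lit 0x773401a94b1) (nat_lit 2817))
 (.node (nat_lit 0x773571ef367) (.leaf (nat_lit 0x77352cb4a40) (nat_lit 1793))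
 (.leaf (nat_lit 0x773571ef367) (nat_lit 2816))
))) (.node (nat_lit 0x77415ccc271) (.node (nat_lit 0x7740e439189) (.leaf (nat_lit 0x7740e421189) (nat_lit 2048))
 (.node (nat_lit 0x774145cb3f9) (.leaf (nat_lit 0x7740e439189) (nat_lit 3073))
 (.leaf (nat_lit 0x774145cb3f9) (nat_lit 3330))
)) (.node (nat_lit 0x77437c17847) (.leaf (nat_lit 0x77415ccc271) (nat_lit 3329))
 (.node (nat_lit 0x77439647c85) (.leaf (nat_lit 0x77437c17847) (nat_lit 2305))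
 (.leaf (nat_lit 0x77439647c85) (nat_lit 2305))
)))) (.node (nat_lit 0x7753f11c085) (.node (nat_lit 0x774f28cfc85) (.node (nat_lit 0x77495cffd27) (.leaf (nat_lit 0x7745800c885) (nat_lit 3072))
 (.leaf (nat_lit 0x77495cffd27) (nat_lit 3073))
) (.node (nat_lit 0x7752a50ca71) (.leaf (nat_lit 0x774f28cfc85) (nat_lit 2816))
 (.node (nat_lit 0x77535694bf9) (.leaf (nat_lit 0x7752a50ca71) (nat_lit 3330))
 (.leaf (nat_lit 0x77535694bf9) (nat_lit 3328))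
))) (.node (nat_lit 0x7755e4f5c81) (.node (nat_lit 0x775520f1370) (.leaf (nat_lit 0x7753f11c085) (nat_lit 2561))
 (.node (nat_lit 0x7755240ca41) (.leaf (nat_lit 0x775520f1370) (nat_lit 3073))
 (.leaf (nat_lit 0x7755240ca41) (nat_lit 3330))
)) (.node (nat_lit 0x7761a66154d) (.leaf (nat_lit 0x7755e4f5c81) (nat_lit 3329))
 (.node (nat_lit 0x77648454cf1) (.leaf (nat_lit 0x7761a66154d) (nat_lit 3073))
 (.leaf (nat_lit 0x77648454cf1) (nat_lit 3072))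
))))) (.node (nat_lit 0x77736a654e9) (.node (nat_lit 0x776ae8ecd55) (.node (nat_lit 0x776a757f57f) (.node (nat_lit 0x776844fed57) (.leaf (nat_lit 0x776844fece9) (nat_lit 3330))
 (.leaf (nat_lit 0x776844fed57) (nat_lit 2561))
) (.node (nat_lit 0x776a75ed54d) (.leaf (nat_lit 0x776a757f57f) (nat_lit 2048))
 (.node (nat_lit 0x776ae8c6d06) (.leaf (nat_lit 0x776a75ed54d) (nat_lit 3073))
 (.leaf (nat_lit 0x776ae8c6d06) (nat_lit 2561))
))) (.node (nat_lit 0x77719645485) (.node (nat_lit 0x776fee454f1) (.leaf (nat_lit 0x776ae8ecd55) (nat_lit 1281))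
 (.node (nat_lit 0x776fee9b17a) (.leaf (nat_lit 0x776fee454f1) (nat_lit 2818))
 (.leaf (nat_lit 0x776fee9b17a) (nat_lit 3073))
)) (.node (nat_lit 0x77729cecd55) (.leaf (nat_lit 0x77719645485) (nat_lit 2817))
 (.node (nat_lit 0x77736a61309) (.leaf (nat_lit 0x77729cecd55) (nat_lit 3329))
 (.leaf (nat_lit 0x77736a61309) (nat_lit 2560))
)))) (.node (nat_lit 0x7861a8c9a41) (.node (nat_lit 0x7860e512370) (.node (nat_lit 0x7773ad7f17a) (.leaf (nat_lit 0x77736a654e9) (nat_lit 2561))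
 (.node (nat_lit 0x7860e4a12e0) (.leaf (nat_lit 0x7773ad7f17a) (nat_lit 2816))
 (.leaf (nat_lit 0x7860e4a12e0) (nat_lit 2818))
)) (.node (nat_lit 0x7860f5ead27) (.leaf (nat_lit 0x7860e512370) (nat_lit 2305))
 (.node (nat_lit 0x7861440782a) (.leaf (nat_lit 0x7860f5ead27) (nat_lit 2818))
 (.leaf (nat_lit 0x7861440782a) (nat_lit 3585))
))) (.node (nat_lit 0x78699dea975) (.node (nat_lit 0x7863980782a) (.leaf (nat_lit 0x7861a8c9a41) (nat_lit 3329))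
 (.node (nat_lit 0x7868d0fed57) (.leaf (nat_lit 0x7863980782a) (nat_lit 3329))
 (.leaf (nat_lit 0x7868d0fed57) (nat_lit 2562))
)) (.node (nat_lit 0x7869e5b6499) (.leaf (nat_lit 0x78699dea975) (nat_lit 2048))
 (.node (nat_lit 0x786a39fec99) (.leaf (nat_lit 0x7869e5b6499) (nat_lit 2816))
 (.leaf (nat_lit 0x786a39fec99) (nat_lit 2817))
)))))) (.node (nat_lit 0x78a1940c8af) (.node (nat_lit 0x788998f7b71) (.node (nat_lit 0x7880e55acf4) (.node (nat_lit 0x78739112557) (.node (nat_lit 0x786b50fccf5) (.leaf (nat_lit 0x786b40fcae0) (nat_lit 1537))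
 (.leaf (nat_lit 0x786b50fccf5) (nat_lit 2561))
) (.node (nat_lit 0x7873a4e5975) (.leaf (nat_lit 0x78739112557) (nat_lit 2560))
 (.node (nat_lit 0x7873a9fec81) (.leaf (nat_lit 0x7873a4e5975) (nat_lit 2306))
 (.leaf (nat_lit 0x7873a9fec81) (nat_lit 2049))
))) (.node (nat_lit 0x7881f0fe455) (.node (nat_lit 0x7880e66eac5) (.leaf (nat_lit 0x7880e55acf4) (nat_lit 2306))
 (.node (nat_lit 0x788148f7d74) (.leaf (nat_lit 0x7880e66eac5) (nat_lit 2048))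
 (.leaf (nat_lit 0x788148f7d74) (nat_lit 3073))
)) (.node (nat_lit 0x78875e6eac5) (.leaf (nat_lit 0x7881f0fe455) (nat_lit 3329))
 (.node (nat_lit 0x78895d15480) (.leaf (nat_lit 0x78875e6eac5) (nat_lit 1537))
 (.leaf (nat_lit 0x78895d15480) (nat_lit 3584))
)))) (.node (nat_lit 0x7893949f203) (.node (nat_lit 0x788e095ab90) (.node (nat_lit 0x788b0cc6a40) (.leaf (nat_lit 0x788998f7b71) (nat_lit 2560))
 (.leaf (nat_lit 0x788b0cc6a40) (nat_lit 3073))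
) (.node (nat_lit 0x788fdd15203) (.leaf (nat_lit 0x788e095ab90) (nat_lit 2817))
 (.node (nat_lit 0x78938266526) (.leaf (nat_lit 0x788fdd15203) (nat_lit 3329))
 (.leaf (nat_lit 0x78938266526) (nat_lit 3330))
))) (.node (nat_lit 0x7895ee66455) (.node (nat_lit 0x7893fce5574) (.leaf (nat_lit 0x7893949f203) (nat_lit 3073))
 (.node (nat_lit 0x789571b6b90) (.leaf (nat_lit 0x7893fce5574) (nat_lit 2305))
 (.leaf (nat_lit 0x789571b6b90) (nat_lit 3328))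
)) (.node (nat_lit 0x78a0e40c845) (.leaf (nat_lit 0x7895ee66455) (nat_lit 3585))
 (.node (nat_lit 0x78a0e556a5d) (.leaf (nat_lit 0x78a0e40c845) (nat_lit 3329))
 (.leaf (nat_lit 0x78a0e556a5d) (nat_lit 3074))
))))) (.node (nat_lit 0x78b3b00ca63) (.node (nat_lit 0x78a93525272) (.node (nat_lit 0x78a434b7570) (.node (nat_lit 0x78a3500cae9) (.leaf (nat_lit 0x78a1940c8af) (nat_lit 2561))
 (.leaf (nat_lit 0x78a3500cae9) (nat_lit 2817))
) (.node (nat_lit 0x78a6700cae9) (.leaf (nat_lit 0x78a434b7570) (nat_lit 3072))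
 (.node (nat_lit 0x78a75c0c845) (.leaf (nat_lit 0x78a6700cae9) (nat_lit 1537))
 (.leaf (nat_lit 0x78a75c0c845) (nat_lit 3073))
))) (.node (nat_lit 0x78af000c8af) (.node (nat_lit 0x78a9d40c885) (.leaf (nat_lit 0x78a93525272) (nat_lit 3585))
 (.node (nat_lit 0x78ab0a4fce5) (.leaf (nat_lit 0x78a9d40c885) (nat_lit 3073))
 (.leaf (nat_lit 0x78ab0a4fce5) (nat_lit 1792))
)) (.node (nat_lit 0x78b0640ca63) (.leaf (nat_lit 0x78af000c8af) (nat_lit 3073))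
 (.node (nat_lit 0x78b1700c885) (.leaf (nat_lit 0x78b0640ca63) (nat_lit 3073))
 (.leaf (nat_lit 0x78b1700c885) (nat_lit 3073))
)))) (.node (nat_lit 0x78c7595625c) (.node (nat_lit 0x78c0e64eace) (.node (nat_lit 0x78b3be1a124) (.leaf (nat_lit 0x78b3b00ca63) (nat_lit 2561))
 (.node (nat_lit 0x78c0e619a7a) (.leaf (nat_lit 0x78b3be1a124) (nat_lit 2049))
 (.leaf (nat_lit 0x78c0e619a7a) (nat_lit 3072))
)) (.node (nat_lit 0x78c15d24271) (.leaf (nat_lit 0x78c0e64eace) (nat_lit 2817))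
 (.node (nat_lit 0x78c2de4eace) (.leaf (nat_lit 0x78c15d24271) (nat_lit 1794))
 (.leaf (nat_lit 0x78c2de4eace) (nat_lit 3073))
))) (.node (nat_lit 0x78c9a4b7d6e) (.node (nat_lit 0x78c8d524554) (.leaf (nat_lit 0x78c7595625c) (nat_lit 3072))
 (.node (nat_lit 0x78c90524554) (.leaf (nat_lit 0x78c8d524554) (nat_lit 2050))
 (.leaf (nat_lit 0x78c90524554) (nat_lit 2817))
)) (.node (nat_lit 0x78cd00b79ac) (.leaf (nat_lit 0x78c9a4b7d6e) (nat_lit 3074))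
 (.node (nat_lit 0x78d31219a7a) (.leaf (nat_lit 0x78cd00b79ac) (nat_lit 3073))
 (.leaf (nat_lit 0x78d31219a7a) (nat_lit 2305))
))))))) (.node (nat_lit 0x7b543611865) (.node (nat_lit 0x7aa3d61f91d) (.node (nat_lit 0x7a83ee05af5) (.node (nat_lit 0x7a805d09c1f) (.node (nat_lit 0x78d475562c4) (.node (nat_lit 0x78d35d562c4) (.leaf (nat_lit 0x78d35a4ece4) (nat_lit 2560))
 (.leaf (nat_lit 0x78d35d562c4) (nat_lit 3586))
) (.node (nat_lit 0x78d52a19925) (.leaf (nat_lit 0x78d475562c4) (nat_lit 3329))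
 (.node (nat_lit 0x78d5acb79ac) (.leaf (nat_lit 0x78d52a19925) (nat_lit 3586))
 (.leaf (nat_lit 0x78d5acb79ac) (nat_lit 2561))
))) (.node (nat_lit 0x7a829a38916) (.node (nat_lit 0x7a8101099d2) (.leaf (nat_lit 0x7a805d09c1f) (nat_lit 2817))
 (.node (nat_lit 0x7a81025e9d2) (.leaf (nat_lit 0x7a8101099d2) (nat_lit 2562))
 (.leaf (nat_lit 0x7a81025e9d2) (nat_lit 2818))
)) (.node (nat_lit 0x7a83d21bcdf) (.leaf (nat_lit 0x7a829a38916) (nat_lit 2817))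
 (.node (nat_lit 0x7a83ec54abd) (.leaf (nat_lit 0x7a83d21bcdf) (nat_lit 3073))
 (.leaf (nat_lit 0x7a83ec54abd) (nat_lit 2305))
)))) (.node (nat_lit 0x7a8fe260532) (.node (nat_lit 0x7a858e9bca2) (.node (nat_lit 0x7a858e13d32) (.leaf (nat_lit 0x7a83ee05af5) (nat_lit 3329))
 (.leaf (nat_lit 0x7a858e13d32) (nat_lit 1537))
) (.node (nat_lit 0x7a8b02139b1) (.leaf (nat_lit 0x7a858e9bca2) (nat_lit 2305))
 (.node (nat_lit 0x7a8fe205af5) (.leaf (nat_lit 0x7a8b02139b1) (nat_lit 2560))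
 (.leaf (nat_lit 0x7a8fe205af5) (nat_lit 2306))
))) (.node (nat_lit 0x7a92ca9bd4d) (.node (nat_lit 0x7a92a21babd) (.leaf (nat_lit 0x7a8fe260532) (nat_lit 2562))
 (.node (nat_lit 0x7a92a21f4a2) (.leaf (nat_lit 0x7a92a21babd) (nat_lit 3329))
 (.leaf (nat_lit 0x7a92a21f4a2) (nat_lit 3585))
)) (.node (nat_lit 0x7aa054e3d7e) (.leaf (nat_lit 0x7a92ca9bd4d) (nat_lit 2305))
 (.node (nat_lit 0x7aa295768ba) (.leaf (nat_lit 0x7aa054e3d7e) (nat_lit 3073))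
 (.leaf (nat_lit 0x7aa295768ba) (nat_lit 2049))
))))) (.node (nat_lit 0x7aac81f24de) (.node (nat_lit 0x7aa83ce3d4f) (.node (nat_lit 0x7aa46e38117) (.node (nat_lit 0x7aa46d768ba) (.leaf (nat_lit 0x7aa3d61f91d) (nat_lit 3073))
 (.leaf (nat_lit 0x7aa46d768ba) (nat_lit 3329))
) (.node (nat_lit 0x7aa5f0d341e) (.leaf (nat_lit 0x7aa46e38117) (nat_lit 3072))
 (.node (nat_lit 0x7aa5f26157e) (.leaf (nat_lit 0x7aa5f0d341e) (nat_lit 2561))
 (.leaf (nat_lit 0x7aa5f26157e) (nat_lit 2305))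
))) (.node (nat_lit 0x7aa944d317a) (.node (nat_lit 0x7aa83e5e572) (.leaf (nat_lit 0x7aa83ce3d4f) (nat_lit 2818))
 (.node (nat_lit 0x7aa9445397a) (.leaf (nat_lit 0x7aa83e5e572) (nat_lit 2817))
 (.leaf (nat_lit 0x7aa9445397a) (nat_lit 1792))
)) (.node (nat_lit 0x7aaafde19b0) (.leaf (nat_lit 0x7aa944d317a) (nat_lit 2560))
 (.node (nat_lit 0x7aac81e191d) (.leaf (nat_lit 0x7aaafde19b0) (nat_lit 3330))
 (.leaf (nat_lit 0x7aac81e191d) (nat_lit 3073))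
)))) (.node (nat_lit 0x7b4999dc27a) (.node (nat_lit 0x7b40e4da294) (.node (nat_lit 0x7ab2c1f2572) (.leaf (nat_lit 0x7aac81f24de) (nat_lit 3073))
 (.node (nat_lit 0x7b40e42c8e8) (.leaf (nat_lit 0x7ab2c1f2572) (nat_lit 2818))
 (.leaf (nat_lit 0x7b40e42c8e8) (nat_lit 2817))
)) (.node (nat_lit 0x7b442dea276) (.leaf (nat_lit 0x7b40e4da294) (nat_lit 3072))
 (.node (nat_lit 0x7b48082c8e8) (.leaf (nat_lit 0x7b442dea276) (nat_lit 2817))
 (.leaf (nat_lit 0x7b48082c8e8) (nat_lit 2817))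
))) (.node (nat_lit 0x7b4fd5ea275) (.node (nat_lit 0x7b4a38da27a) (.leaf (nat_lit 0x7b4999dc27a) (nat_lit 2561))
 (.node (nat_lit 0x7b4f00f8a72) (.leaf (nat_lit 0x7b4a38da27a) (nat_lit 3073))
 (.leaf (nat_lit 0x7b4f00f8a72) (nat_lit 2561))
)) (.node (nat_lit 0x7b50e512065) (.leaf (nat_lit 0x7b4fd5ea275) (nat_lit 2818))
 (.node (nat_lit 0x7b5310d9406) (.leaf (nat_lit 0x7b50e512065) (nat_lit 3073))
 (.leaf (nat_lit 0x7b5310d9406) (nat_lit 2305))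
)))))) (.node (nat_lit 0x7b8351bd8f0) (.node (nat_lit 0x7b6ae50c960) (.node (nat_lit 0x7b619017ab8) (.node (nat_lit 0x7b552e44276) (.node (nat_lit 0x7b547d52a72) (.leaf (nat_lit 0x7b543611865) (nat_lit 2561))
 (.leaf (nat_lit 0x7b547d52a72) (nat_lit 2818))
) (.node (nat_lit 0x7b557611ac5) (.leaf (nat_lit 0x7b552e44276) (nat_lit 2817))
 (.node (nat_lit 0x7b55d8f8984) (.leaf (nat_lit 0x7b557611ac5) (nat_lit 2561))
 (.leaf (nat_lit 0x7b55d8f8984) (nat_lit 2818))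
))) (.node (nat_lit 0x7b634c9d051) (.node (nat_lit 0x7b626159390) (.leaf (nat_lit 0x7b619017ab8) (nat_lit 3073))
 (.node (nat_lit 0x7b634c83851) (.leaf (nat_lit 0x7b626159390) (nat_lit 2816))
 (.leaf (nat_lit 0x7b634c83851) (nat_lit 3073))
)) (.node (nat_lit 0x7b6a60e227c) (.leaf (nat_lit 0x7b634c9d051) (nat_lit 3073))
 (.node (nat_lit 0x7b6acc0c91e) (.leaf (nat_lit 0x7b6a60e227c) (nat_lit 3073))
 (.leaf (nat_lit 0x7b6acc0c91e) (nat_lit 3072))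
)))) (.node (nat_lit 0x7b6ff0ef54b) (.node (nat_lit 0x7b6bc4f13ca) (.node (nat_lit 0x7b6ae648960) (.leaf (nat_lit 0x7b6ae50c960) (nat_lit 2817))
 (.node (nat_lit 0x7b6b1ccf323) (.leaf (nat_lit 0x7b6ae648960) (nat_lit 3073))
 (.leaf (nat_lit 0x7b6b1ccf323) (nat_lit 3073))
)) (.node (nat_lit 0x7b6bc5dabca) (.leaf (nat_lit 0x7b6bc4f13ca) (nat_lit 3072))
 (.node (nat_lit 0x7b6ff0a454b) (.leaf (nat_lit 0x7b6bc5dabca) (nat_lit 3074))
 (.leaf (nat_lit 0x7b6ff0a454b) (nat_lit 2306))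
))) (.node (nat_lit 0x7b80e550985) (.node (nat_lit 0x7b73b40c857) (.leaf (nat_lit 0x7b6ff0ef54b) (nat_lit 3073))
 (.node (nat_lit 0x7b73b43c057) (.leaf (nat_lit 0x7b73b40c857) (nat_lit 3329))
 (.leaf (nat_lit 0x7b73b43c057) (nat_lit 2306))
)) (.node (nat_lit 0x7b80e55bb1a) (.leaf (nat_lit 0x7b80e550985) (nat_lit 3073))
 (.node (nat_lit 0x7b814a1b4f5) (.leaf (nat_lit 0x7b80e55bb1a) (nat_lit 3074))
 (.leaf (nat_lit 0x7b814a1b4f5) (nat_lit 2817))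
))))) (.node (nat_lit 0x7b9528d9c07) (.node (nat_lit 0x7b8b509f4f5) (.node (nat_lit 0x7b891c3b2b8) (.node (nat_lit 0x7b84383b2b8) (.leaf (nat_lit 0x7b8351bd8f0) (nat_lit 3329))
 (.leaf (nat_lit 0x7b84383b2b8) (nat_lit 2049))
) (.node (nat_lit 0x7b8ac1dda95) (.leaf (nat_lit 0x7b891c3b2b8) (nat_lit 2817))
 (.node (nat_lit 0x7b8b2d13ac4) (.leaf (nat_lit 0x7b8ac1dda95) (nat_lit 3328))
 (.leaf (nat_lit 0x7b8b2d13ac4) (nat_lit 2305))
))) (.node (nat_lit 0x7b92ee1b0f0) (.node (nat_lit 0x7b9199bdb1a) (.leaf (nat_lit 0x7b8b509f4f5) (nat_lit 2817))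
 (.node (nat_lit 0x7b91fa44a74) (.leaf (nat_lit 0x7b9199bdb1a) (nat_lit 2562))
 (.leaf (nat_lit 0x7b91fa44a74) (nat_lit 3585))
)) (.node (nat_lit 0x7b93f49f203) (.leaf (nat_lit 0x7b92ee1b0f0) (nat_lit 3073))
 (.node (nat_lit 0x7b948d5ba03) (.leaf (nat_lit 0x7b93f49f203) (nat_lit 3073))
 (.leaf (nat_lit 0x7b948d5ba03) (nat_lit 2817))
)))) (.node (nat_lit 0x7ba486bea75) (.node (nat_lit 0x7ba20e47974) (.node (nat_lit 0x7ba1a40cac8) (.leaf (nat_lit 0x7b9528d9c07) (nat_lit 2816))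
 (.node (nat_lit 0x7ba20d9b174) (.leaf (nat_lit 0x7ba1a40cac8) (nat_lit 2561))
 (.leaf (nat_lit 0x7ba20d9b174) (nat_lit 3328))
)) (.node (nat_lit 0x7ba25ca5b92) (.leaf (nat_lit 0x7ba20e47974) (nat_lit 3074))
 (.node (nat_lit 0x7ba48513275) (.leaf (nat_lit 0x7ba25ca5b92) (nat_lit 3330))
 (.leaf (nat_lit 0x7ba48513275) (nat_lit 2561))
))) (.node (nat_lit 0x7bab19a8322) (.node (nat_lit 0x7baa75a9a85) (.leaf (nat_lit 0x7ba486bea75) (nat_lit 3074))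
 (.node (nat_lit 0x7bab0463119) (.leaf (nat_lit 0x7baa75a9a85) (nat_lit 2050))
 (.leaf (nat_lit 0x7bab0463119) (nat_lit 2818))
)) (.node (nat_lit 0x7bb0680ca41) (.leaf (nat_lit 0x7bab19a8322) (nat_lit 3585))
 (.node (nat_lit 0x7bb068b4241) (.leaf (nat_lit 0x7bb0680ca41) (nat_lit 3329))
 (.leaf (nat_lit 0x7bb068b4241) (nat_lit 2050))
)))))))))))

/-- Part of a listed class. -/
noncomputable def S3_t : ST :=
(.node (nat_lit 0x8d745817ab8) (.node (nat_lit 0x84b431dabca) (.node (nat_lit 0x7faf0287961) (.node (nat_lit 0x7cf3102d0ea) (.node (nat_lit 0x7c9404f0c55) (.node (nat_lit 0x7c6154fea03) (.node (nat_lit 0x7c28d248d69) (.node (nat_lit 0x7c20e6be575) (.node (nat_lit 0x7bb58d1f203) (.node (nat_lit 0x7bb3685b24d) (.leaf (nat_lit 0x7bb3680f24d) (nat_lit 2561))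
 (.leaf (nat_lit 0x7bb3685b24d) (nat_lit 3329))
) (.node (nat_lit 0x7bb58def203) (.leaf (nat_lit 0x7bb58d1f203) (nat_lit 3328))
 (.node (nat_lit 0x7c20e5a9d75) (.leaf (nat_lit 0x7bb58def203) (nat_lit 3073))
 (.leaf (nat_lit 0x7c20e5a9d75) (nat_lit 3073))
))) (.node (nat_lit 0x7c25d063051) (.node (nat_lit 0x7c21f19b41e) (.leaf (nat_lit 0x7c20e6be575) (nat_lit 2560))
 (.node (nat_lit 0x7c238e34d4f) (.leaf (nat_lit 0x7c21f19b41e) (nat_lit 3073))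
 (.leaf (nat_lit 0x7c238e34d4f) (nat_lit 3074))
)) (.node (nat_lit 0x7c25fc63a69) (.leaf (nat_lit 0x7c25d063051) (nat_lit 3586))
 (.node (nat_lit 0x7c280439d05) (.leaf (nat_lit 0x7c25fc63a69) (nat_lit 3328))
 (.leaf (nat_lit 0x7c280439d05) (nat_lit 3329))
)))) (.node (nat_lit 0x7c2b91c1cde) (.node (nat_lit 0x7c293dba569) (.node (nat_lit 0x7c2901bccf1) (.leaf (nat_lit 0x7c28d248d69) (nat_lit 3073))
 (.leaf (nat_lit 0x7c2901bccf1) (nat_lit 2560))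
) (.node (nat_lit 0x7c29d089269) (.leaf (nat_lit 0x7c293dba569) (nat_lit 3073))
 (.node (nat_lit 0x7c29d80cd05) (.leaf (nat_lit 0x7c29d089269) (nat_lit 2816))
 (.leaf (nat_lit 0x7c29d80cd05) (nat_lit 1280))
))) (.node (nat_lit 0x7c60e4ecd1a) (.node (nat_lit 0x7c34fa02cf1) (.leaf (nat_lit 0x7c2b91c1cde) (nat_lit 3329))
 (.node (nat_lit 0x7c35e40c917) (.leaf (nat_lit 0x7c34fa02cf1) (nat_lit 2562))
 (.leaf (nat_lit 0x7c35e40c917) (nat_lit 2816))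
)) (.node (nat_lit 0x7c60e5b6d1a) (.leaf (nat_lit 0x7c60e4ecd1a) (nat_lit 3586))
 (.node (nat_lit 0x7c6144fec3a) (.leaf (nat_lit 0x7c60e5b6d1a) (nat_lit 2818))
 (.leaf (nat_lit 0x7c6144fec3a) (nat_lit 2818))
))))) (.node (nat_lit 0x7c7559bd0fc) (.node (nat_lit 0x7c69c57f4e7) (.node (nat_lit 0x7c638d7f503) (.node (nat_lit 0x7c62b03b06e) (.leaf (nat_lit 0x7c6154fea03) (nat_lit 2817))
 (.leaf (nat_lit 0x7c62b03b06e) (nat_lit 2816))
) (.node (nat_lit 0x7c658112ce7) (.leaf (nat_lit 0x7c638d7f503) (nat_lit 3073))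
 (.node (nat_lit 0x7c65f5bd367) (.leaf (nat_lit 0x7c658112ce7) (nat_lit 2816))
 (.leaf (nat_lit 0x7c65f5bd367) (nat_lit 2562))
))) (.node (nat_lit 0x7c71fa454d5) (.node (nat_lit 0x7c6b0dcc43a) (.leaf (nat_lit 0x7c69c57f4e7) (nat_lit 2818))
 (.node (nat_lit 0x7c6f284f8fc) (.leaf (nat_lit 0x7c6b0dcc43a) (nat_lit 2816))
 (.leaf (nat_lit 0x7c6f284f8fc) (nat_lit 2560))
)) (.node (nat_lit 0x7c73b8ec954) (.leaf (nat_lit 0x7c71fa454d5) (nat_lit 2562))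
 (.node (nat_lit 0x7c752e454d5) (.leaf (nat_lit 0x7c73b8ec954) (nat_lit 3329))
 (.leaf (nat_lit 0x7c752e454d5) (nat_lit 3329))
)))) (.node (nat_lit 0x7c8a6915527) (.node (nat_lit 0x7c815deaa01) (.node (nat_lit 0x7c80e45027c) (.leaf (nat_lit 0x7c7559bd0fc) (nat_lit 3074))
 (.node (nat_lit 0x7c80e5cda7c) (.leaf (nat_lit 0x7c80e45027c) (nat_lit 1538))
 (.leaf (nat_lit 0x7c80e5cda7c) (nat_lit 2050))
)) (.node (nat_lit 0x7c8601a6502) (.leaf (nat_lit 0x7c815deaa01) (nat_lit 3073))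
 (.node (nat_lit 0x7c8675cc8f0) (.leaf (nat_lit 0x7c8601a6502) (nat_lit 2818))
 (.leaf (nat_lit 0x7c8675cc8f0) (nat_lit 3329))
))) (.node (nat_lit 0x7c9061a60f0) (.node (nat_lit 0x7c8d85b6455) (.leaf (nat_lit 0x7c8a6915527) (nat_lit 3072))
 (.node (nat_lit 0x7c9044d9406) (.leaf (nat_lit 0x7c8d85b6455) (nat_lit 3585))
 (.leaf (nat_lit 0x7c9044d9406) (nat_lit 2817))
)) (.node (nat_lit 0x7c91fcd9406) (.leaf (nat_lit 0x7c9061a60f0) (nat_lit 2817))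
 (.node (nat_lit 0x7c92ec3a870) (.leaf (nat_lit 0x7c91fcd9406) (nat_lit 3329))
 (.leaf (nat_lit 0x7c92ec3a870) (nat_lit 2562))
)))))) (.node (nat_lit 0x7cc38c54abd) (.node (nat_lit 0x7ca99958cdf) (.node (nat_lit 0x7ca0e49d119) (.node (nat_lit 0x7c95b1ead27) (.node (nat_lit 0x7c945dcd94e) (.leaf (nat_lit 0x7c9404f0c55) (nat_lit 3074))
 (.leaf (nat_lit 0x7c945dcd94e) (nat_lit 2817))
) (.node (nat_lit 0x7c95ecf0b66) (.leaf (nat_lit 0x7c95b1ead27) (nat_lit 2817))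
 (.node (nat_lit 0x7ca0e483919) (.leaf (nat_lit 0x7c95ecf0b66) (nat_lit 3073))
 (.leaf (nat_lit 0x7ca0e483919) (nat_lit 2306))
))) (.node (nat_lit 0x7ca744cfd4d) (.node (nat_lit 0x7ca4c29cae2) (.leaf (nat_lit 0x7ca0e49d119) (nat_lit 2817))
 (.node (nat_lit 0x7ca5e80c84f) (.leaf (nat_lit 0x7ca4c29cae2) (nat_lit 2305))
 (.leaf (nat_lit 0x7ca5e80c84f) (nat_lit 2816))
)) (.node (nat_lit 0x7ca758a0478) (.leaf (nat_lit 0x7ca744cfd4d) (nat_lit 2560))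
 (.node (nat_lit 0x7ca93a21478) (.leaf (nat_lit 0x7ca758a0478) (nat_lit 2306))
 (.leaf (nat_lit 0x7ca93a21478) (nat_lit 2817))
)))) (.node (nat_lit 0x7cab2692116) (.node (nat_lit 0x7ca9f61c522) (.node (nat_lit 0x7ca9e49612f) (.leaf (nat_lit 0x7ca99958cdf) (nat_lit 2817))
 (.leaf (nat_lit 0x7ca9e49612f) (nat_lit 3328))
) (.node (nat_lit 0x7caa12bed22) (.leaf (nat_lit 0x7ca9f61c522) (nat_lit 2817))
 (.node (nat_lit 0x7caaa00c92f) (.leaf (nat_lit 0x7caa12bed22) (nat_lit 2050))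
 (.leaf (nat_lit 0x7caaa00c92f) (nat_lit 2816))
))) (.node (nat_lit 0x7cc0e512c1e) (.node (nat_lit 0x7cb158f1ae2) (.leaf (nat_lit 0x7cab2692116) (nat_lit 1792))
 (.node (nat_lit 0x7cb34de141f) (.leaf (nat_lit 0x7cb158f1ae2) (nat_lit 3074))
 (.leaf (nat_lit 0x7cb34de141f) (nat_lit 3329))
)) (.node (nat_lit 0x7cc0e5cface) (.leaf (nat_lit 0x7cc0e512c1e) (nat_lit 2050))
 (.node (nat_lit 0x7cc2e0ec51b) (.leaf (nat_lit 0x7cc0e5cface) (nat_lit 2306))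
 (.leaf (nat_lit 0x7cc2e0ec51b) (nat_lit 3073))
))))) (.node (nat_lit 0x7cd5282c8e8) (.node (nat_lit 0x7cd06454c1e) (.node (nat_lit 0x7cc9381b919) (.node (nat_lit 0x7cc6210ad1b) (.leaf (nat_lit 0x7cc38c54abd) (nat_lit 3073))
 (.leaf (nat_lit 0x7cc6210ad1b) (nat_lit 2818))
) (.node (nat_lit 0x7ccac10aabd) (.leaf (nat_lit 0x7cc9381b919) (nat_lit 2306))
 (.node (nat_lit 0x7ccb281b919) (.leaf (nat_lit 0x7ccac10aabd) (nat_lit 3074))
 (.leaf (nat_lit 0x7ccb281b919) (nat_lit 3074))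
))) (.node (nat_lit 0x7cd3c22ebcb) (.node (nat_lit 0x7cd2ece32f4) (.leaf (nat_lit 0x7cd06454c1e) (nat_lit 3330))
 (.node (nat_lit 0x7cd38a34476) (.leaf (nat_lit 0x7cd2ece32f4) (nat_lit 3072))
 (.leaf (nat_lit 0x7cd38a34476) (nat_lit 3329))
)) (.node (nat_lit 0x7cd3f112d4b) (.leaf (nat_lit 0x7cd3c22ebcb) (nat_lit 3074))
 (.node (nat_lit 0x7cd47cec54b) (.leaf (nat_lit 0x7cd3f112d4b) (nat_lit 2048))
 (.leaf (nat_lit 0x7cd47cec54b) (nat_lit 2817))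
)))) (.node (nat_lit 0x7ce808d9c07) (.node (nat_lit 0x7ce179e22cf) (.node (nat_lit 0x7ce0e4d9c07) (.leaf (nat_lit 0x7cd5282c8e8) (nat_lit 3329))
 (.node (nat_lit 0x7ce0e5f52f5) (.leaf (nat_lit 0x7ce0e4d9c07) (nat_lit 2304))
 (.leaf (nat_lit 0x7ce0e5f52f5) (nat_lit 2817))
)) (.node (nat_lit 0x7ce434dc3ca) (.leaf (nat_lit 0x7ce179e22cf) (nat_lit 1792))
 (.node (nat_lit 0x7ce8062c554) (.leaf (nat_lit 0x7ce434dc3ca) (nat_lit 2817))
 (.leaf (nat_lit 0x7ce8062c554) (nat_lit 2816))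
))) (.node (nat_lit 0x7cec10e3924) (.node (nat_lit 0x7ce9c5e23c0) (.leaf (nat_lit 0x7ce808d9c07) (nat_lit 3329))
 (.node (nat_lit 0x7ce9e49fc78) (.leaf (nat_lit 0x7ce9c5e23c0) (nat_lit 2562))
 (.leaf (nat_lit 0x7ce9e49fc78) (nat_lit 2561))
)) (.node (nat_lit 0x7cefd0dc554) (.leaf (nat_lit 0x7cec10e3924) (nat_lit 3584))
 (.node (nat_lit 0x7cf0e89fac3) (.leaf (nat_lit 0x7cefd0dc554) (nat_lit 2561))
 (.leaf (nat_lit 0x7cf0e89fac3) (nat_lit 1794))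
))))))) (.node (nat_lit 0x7d906d924d5) (.node (nat_lit 0x7d63761bcdf) (.node (nat_lit 0x7d4aa1ccd03) (.node (nat_lit 0x7d40e665503) (.node (nat_lit 0x7cf405f5124) (.node (nat_lit 0x7cf3f5cdbc0) (.leaf (nat_lit 0x7cf3102d0ea) (nat_lit 3329))
 (.leaf (nat_lit 0x7cf3f5cdbc0) (nat_lit 2817))
) (.node (nat_lit 0x7cf43236ac3) (.leaf (nat_lit 0x7cf405f5124) (nat_lit 2305))
 (.node (nat_lit 0x7d40e63a575) (.leaf (nat_lit 0x7cf43236ac3) (nat_lit 3074))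
 (.leaf (nat_lit 0x7d40e63a575) (nat_lit 3329))
))) (.node (nat_lit 0x7d46757e27c) (.node (nat_lit 0x7d414a1b4f5) (.leaf (nat_lit 0x7d40e665503) (nat_lit 2304))
 (.node (nat_lit 0x7d43f05397a) (.leaf (nat_lit 0x7d414a1b4f5) (nat_lit 3328))
 (.leaf (nat_lit 0x7d43f05397a) (nat_lit 3073))
)) (.node (nat_lit 0x7d4959ccd18) (.leaf (nat_lit 0x7d46757e27c) (nat_lit 2817))
 (.node (nat_lit 0x7d499dc7275) (.leaf (nat_lit 0x7d4959ccd18) (nat_lit 3329))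
 (.leaf (nat_lit 0x7d499dc7275) (nat_lit 3072))
)))) (.node (nat_lit 0x7d53fc53cf5) (.node (nat_lit 0x7d52a9c7275) (.node (nat_lit 0x7d507638ce8) (.leaf (nat_lit 0x7d4aa1ccd03) (nat_lit 3585))
 (.leaf (nat_lit 0x7d507638ce8) (nat_lit 2049))
) (.node (nat_lit 0x7d5384a10ef) (.leaf (nat_lit 0x7d52a9c7275) (nat_lit 3073))
 (.node (nat_lit 0x7d53ba3a0a3) (.leaf (nat_lit 0x7d5384a10ef) (nat_lit 3329))
 (.leaf (nat_lit 0x7d53ba3a0a3) (nat_lit 3330))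
))) (.node (nat_lit 0x7d60e5a64df) (.node (nat_lit 0x7d55744f8a3) (.leaf (nat_lit 0x7d53fc53cf5) (nat_lit 3329))
 (.node (nat_lit 0x7d55e8a127c) (.leaf (nat_lit 0x7d55744f8a3) (nat_lit 2817))
 (.leaf (nat_lit 0x7d55e8a127c) (nat_lit 3073))
)) (.node (nat_lit 0x7d60e6384e6) (.leaf (nat_lit 0x7d60e5a64df) (nat_lit 2816))
 (.node (nat_lit 0x7d61a97f484) (.leaf (nat_lit 0x7d60e6384e6) (nat_lit 2561))
 (.leaf (nat_lit 0x7d61a97f484) (nat_lit 3073))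
))))) (.node (nat_lit 0x7d75ba444f1) (.node (nat_lit 0x7d7159768ba) (.node (nat_lit 0x7d69a59e484) (.node (nat_lit 0x7d68d19e174) (.leaf (nat_lit 0x7d63761bcdf) (nat_lit 3330))
 (.leaf (nat_lit 0x7d68d19e174) (nat_lit 2304))
) (.node (nat_lit 0x7d6b5244574) (.leaf (nat_lit 0x7d69a59e484) (nat_lit 2049))
 (.node (nat_lit 0x7d6d24dbd19) (.leaf (nat_lit 0x7d6b5244574) (nat_lit 3328))
 (.leaf (nat_lit 0x7d6d24dbd19) (nat_lit 2817))
))) (.node (nat_lit 0x7d7396664f1) (.node (nat_lit 0x7d7168dba54) (.leaf (nat_lit 0x7d7159768ba) (nat_lit 3329))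
 (.node (nat_lit 0x7d719d768ba) (.leaf (nat_lit 0x7d7168dba54) (nat_lit 3073))
 (.leaf (nat_lit 0x7d719d768ba) (nat_lit 3328))
)) (.node (nat_lit 0x7d7405a60f0) (.leaf (nat_lit 0x7d7396664f1) (nat_lit 2560))
 (.node (nat_lit 0x7d752c50254) (.leaf (nat_lit 0x7d7405a60f0) (nat_lit 3328))
 (.leaf (nat_lit 0x7d752c50254) (nat_lit 2817))
)))) (.node (nat_lit 0x7d8acd96502) (.node (nat_lit 0x7d826181d02) (.node (nat_lit 0x7d80450cd0c) (.leaf (nat_lit 0x7d75ba444f1) (nat_lit 2048))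
 (.node (nat_lit 0x7d821025855) (.leaf (nat_lit 0x7d80450cd0c) (nat_lit 3073))
 (.leaf (nat_lit 0x7d821025855) (nat_lit 3073))
)) (.node (nat_lit 0x7d840021234) (.leaf (nat_lit 0x7d826181d02) (nat_lit 2561))
 (.node (nat_lit 0x7d840040267) (.leaf (nat_lit 0x7d840021234) (nat_lit 2816))
 (.leaf (nat_lit 0x7d840040267) (nat_lit 2305))
))) (.node (nat_lit 0x7d8bc40c885) (.node (nat_lit 0x7d8acdd1c99) (.leaf (nat_lit 0x7d8acd96502) (nat_lit 1794))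
 (.node (nat_lit 0x7d8ae4bc4d5) (.leaf (nat_lit 0x7d8acdd1c99) (nat_lit 2817))
 (.leaf (nat_lit 0x7d8ae4bc4d5) (nat_lit 1282))
)) (.node (nat_lit 0x7d8bc40ca67) (.leaf (nat_lit 0x7d8bc40c885) (nat_lit 1793))
 (.node (nat_lit 0x7d906c3b855) (.leaf (nat_lit 0x7d8bc40ca67) (nat_lit 3074))
 (.leaf (nat_lit 0x7d906c3b855) (nat_lit 2050))
)))))) (.node (nat_lit 0x7f43f213d56) (.node (nat_lit 0x7daaf0b2a40) (.node (nat_lit 0x7da1a5a2ae0) (.node (nat_lit 0x7d9185dac39) (.node (nat_lit 0x7d9185524b4) (.leaf (nat_lit 0x7d906d924d5) (nat_lit 3074))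
 (.leaf (nat_lit 0x7d9185524b4) (nat_lit 2818))
) (.node (nat_lit 0x7d92ea314b4) (.leaf (nat_lit 0x7d9185dac39) (nat_lit 3073))
 (.node (nat_lit 0x7da049ba485) (.leaf (nat_lit 0x7d92ea314b4) (nat_lit 2304))
 (.leaf (nat_lit 0x7da049ba485) (nat_lit 3330))
))) (.node (nat_lit 0x7da25d80ae0) (.node (nat_lit 0x7da1a61c498) (.leaf (nat_lit 0x7da1a5a2ae0) (nat_lit 3072))
 (.node (nat_lit 0x7da20dcbce4) (.leaf (nat_lit 0x7da1a61c498) (nat_lit 3072))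
 (.leaf (nat_lit 0x7da20dcbce4) (nat_lit 3072))
)) (.node (nat_lit 0x7da4840c8af) (.leaf (nat_lit 0x7da25d80ae0) (nat_lit 2817))
 (.node (nat_lit 0x7da4840ca35) (.leaf (nat_lit 0x7da4840c8af) (nat_lit 3072))
 (.leaf (nat_lit 0x7da4840ca35) (nat_lit 2817))
)))) (.node (nat_lit 0x7db2e19b43a) (.node (nat_lit 0x7db19517485) (.node (nat_lit 0x7db1951350d) (.leaf (nat_lit 0x7daaf0b2a40) (nat_lit 1282))
 (.leaf (nat_lit 0x7db1951350d) (nat_lit 3072))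
) (.node (nat_lit 0x7db29c77086) (.leaf (nat_lit 0x7db19517485) (nat_lit 2560))
 (.node (nat_lit 0x7db29c960af) (.leaf (nat_lit 0x7db29c77086) (nat_lit 2561))
 (.leaf (nat_lit 0x7db29c960af) (nat_lit 3072))
))) (.node (nat_lit 0x7f40e6458ef) (.node (nat_lit 0x7db3acb4a40) (.leaf (nat_lit 0x7db2e19b43a) (nat_lit 2816))
 (.node (nat_lit 0x7db3add2ce4) (.leaf (nat_lit 0x7db3acb4a40) (nat_lit 2306))
 (.leaf (nat_lit 0x7db3add2ce4) (nat_lit 2817))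
)) (.node (nat_lit 0x7f40e69bcde) (.leaf (nat_lit 0x7f40e6458ef) (nat_lit 2817))
 (.node (nat_lit 0x7f43761b8ef) (.leaf (nat_lit 0x7f40e69bcde) (nat_lit 2561))
 (.leaf (nat_lit 0x7f43761b8ef) (nat_lit 3329))
))))) (.node (nat_lit 0x7f55b41b851) (.node (nat_lit 0x7f499909d4f) (.node (nat_lit 0x7f45d5b64fd) (.node (nat_lit 0x7f4431099d5) (.leaf (nat_lit 0x7f43f213d56) (nat_lit 3073))
 (.leaf (nat_lit 0x7f4431099d5) (nat_lit 2050))
) (.node (nat_lit 0x7f46221b9b0) (.leaf (nat_lit 0x7f45d5b64fd) (nat_lit 2817))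
 (.node (nat_lit 0x7f4805b64fd) (.leaf (nat_lit 0x7f46221b9b0) (nat_lit 2304))
 (.leaf (nat_lit 0x7f4805b64fd) (nat_lit 2818))
))) (.node (nat_lit 0x7f516613c1e) (.node (nat_lit 0x7f4a0a6e556) (.leaf (nat_lit 0x7f499909d4f) (nat_lit 2817))
 (.node (nat_lit 0x7f4a684f9d5) (.leaf (nat_lit 0x7f4a0a6e556) (nat_lit 3329))
 (.leaf (nat_lit 0x7f4a684f9d5) (nat_lit 2561))
)) (.node (nat_lit 0x7f51f89f254) (.leaf (nat_lit 0x7f516613c1e) (nat_lit 3073))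
 (.node (nat_lit 0x7f55529ba54) (.leaf (nat_lit 0x7f51f89f254) (nat_lit 1536))
 (.leaf (nat_lit 0x7f55529ba54) (nat_lit 3329))
)))) (.node (nat_lit 0x7fa43a5e532) (.node (nat_lit 0x7fa2ae44285) (.node (nat_lit 0x7fa0e622b47) (.leaf (nat_lit 0x7f55b41b851) (nat_lit 2817))
 (.node (nat_lit 0x7fa0e622d32) (.leaf (nat_lit 0x7fa0e622b47) (nat_lit 3329))
 (.leaf (nat_lit 0x7fa0e622d32) (nat_lit 2818))
)) (.node (nat_lit 0x7fa2b01b2dc) (.leaf (nat_lit 0x7fa2ae44285) (nat_lit 2560))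
 (.node (nat_lit 0x7fa395c754b) (.leaf (nat_lit 0x7fa2b01b2dc) (nat_lit 2816))
 (.leaf (nat_lit 0x7fa395c754b) (nat_lit 2818))
))) (.node (nat_lit 0x7fa9de87d4b) (.node (nat_lit 0x7fa6221b9b0) (.leaf (nat_lit 0x7fa43a5e532) (nat_lit 3584))
 (.node (nat_lit 0x7fa9a104285) (.leaf (nat_lit 0x7fa6221b9b0) (nat_lit 3330))
 (.leaf (nat_lit 0x7fa9a104285) (nat_lit 3585))
)) (.node (nat_lit 0x7faa0c2d0ea) (.leaf (nat_lit 0x7fa9de87d4b) (nat_lit 2049))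
 (.node (nat_lit 0x7fac65e19b0) (.leaf (nat_lit 0x7faa0c2d0ea) (nat_lit 2817))
 (.leaf (nat_lit 0x7fac65e19b0) (nat_lit 2818))
)))))))) (.node (nat_lit 0x8170442c8e8) (.node (nat_lit 0x81119dd14d8) (.node (nat_lit 0x802179a651b) (.node (nat_lit 0x7fc6ae5eb1b) (.node (nat_lit 0x7fc0e5bd289) (.node (nat_lit 0x7fb4064428a) (.node (nat_lit 0x7fb3842d0ea) (.leaf (nat_lit 0x7faf0287961) (nat_lit 3074))
 (.leaf (nat_lit 0x7fb3842d0ea) (nat_lit 3072))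
) (.node (nat_lit 0x7fb5e1e1abe) (.leaf (nat_lit 0x7fb4064428a) (nat_lit 2560))
 (.node (nat_lit 0x7fc0b1048fd) (.leaf (nat_lit 0x7fb5e1e1abe) (nat_lit 3330))
 (.leaf (nat_lit 0x7fc0b1048fd) (nat_lit 2817))
))) (.node (nat_lit 0x7fc4c81bada) (.node (nat_lit 0x7fc0e5bd31b) (.leaf (nat_lit 0x7fc0e5bd289) (nat_lit 3074))
 (.node (nat_lit 0x7fc399c7cf0) (.leaf (nat_lit 0x7fc0e5bd31b) (nat_lit 2049))
 (.leaf (nat_lit 0x7fc399c7cf0) (nat_lit 2817))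
)) (.node (nat_lit 0x7fc5e8ec8fd) (.leaf (nat_lit 0x7fc4c81bada) (nat_lit 3330))
 (.node (nat_lit 0x7fc5fa612bd) (.leaf (nat_lit 0x7fc5e8ec8fd) (nat_lit 2561))
 (.leaf (nat_lit 0x7fc5fa612bd) (nat_lit 3073))
)))) (.node (nat_lit 0x7fd39e45160) (.node (nat_lit 0x7fcdb8ecb42) (.node (nat_lit 0x7fcc257f45c) (.leaf (nat_lit 0x7fc6ae5eb1b) (nat_lit 3329))
 (.leaf (nat_lit 0x7fcc257f45c) (nat_lit 2817))
) (.node (nat_lit 0x7fcfe6614f0) (.leaf (nat_lit 0x7fcdb8ecb42) (nat_lit 3074))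
 (.node (nat_lit 0x7fd2ee1b3ce) (.leaf (nat_lit 0x7fcfe6614f0) (nat_lit 3329))
 (.leaf (nat_lit 0x7fd2ee1b3ce) (nat_lit 3330))
))) (.node (nat_lit 0x8020a81b04f) (.node (nat_lit 0x7fd5597f45c) (.leaf (nat_lit 0x7fd39e45160) (nat_lit 3330))
 (.node (nat_lit 0x7fd576453ce) (.leaf (nat_lit 0x7fd5597f45c) (nat_lit 2562))
 (.leaf (nat_lit 0x7fd576453ce) (nat_lit 2817))
)) (.node (nat_lit 0x8020e42d0ea) (.leaf (nat_lit 0x8020a81b04f) (nat_lit 3330))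
 (.node (nat_lit 0x8020e5121b1) (.leaf (nat_lit 0x8020e42d0ea) (nat_lit 2560))
 (.leaf (nat_lit 0x8020e5121b1) (nat_lit 1792))
))))) (.node (nat_lit 0x80355645160) (.node (nat_lit 0x802d24a2c1f) (.node (nat_lit 0x8025f4a1207) (.node (nat_lit 0x8021f110d4d) (.leaf (nat_lit 0x802179a651b) (nat_lit 2817))
 (.leaf (nat_lit 0x8021f110d4d) (nat_lit 2817))
) (.node (nat_lit 0x802a38a2a07) (.leaf (nat_lit 0x8025f4a1207) (nat_lit 2817))
 (.node (nat_lit 0x802aa050392) (.leaf (nat_lit 0x802a38a2a07) (nat_lit 2305))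
 (.leaf (nat_lit 0x802aa050392) (nat_lit 2561))
))) (.node (nat_lit 0x80319912392) (.node (nat_lit 0x802dba6ed1b) (.leaf (nat_lit 0x802d24a2c1f) (nat_lit 3073))
 (.node (nat_lit 0x8030402d0ea) (.leaf (nat_lit 0x802dba6ed1b) (nat_lit 3329))
 (.leaf (nat_lit 0x8030402d0ea) (nat_lit 3329))
)) (.node (nat_lit 0x80341510960) (.leaf (nat_lit 0x80319912392) (nat_lit 3329))
 (.node (nat_lit 0x80345da64df) (.leaf (nat_lit 0x80341510960) (nat_lit 1794))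
 (.leaf (nat_lit 0x80345da64df) (nat_lit 2561))
)))) (.node (nat_lit 0x81048c0c870) (.node (nat_lit 0x810179da51b) (.node (nat_lit 0x8100e40e870) (.leaf (nat_lit 0x80355645160) (nat_lit 3073))
 (.node (nat_lit 0x8100e49ab1d) (.leaf (nat_lit 0x8100e40e870) (nat_lit 2560))
 (.leaf (nat_lit 0x8100e49ab1d) (nat_lit 3074))
)) (.node (nat_lit 0x810381d7522) (.leaf (nat_lit 0x810179da51b) (nat_lit 2304))
 (.node (nat_lit 0x81043631d3e) (.leaf (nat_lit 0x810381d7522) (nat_lit 3072))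
 (.leaf (nat_lit 0x81043631d3e) (nat_lit 2816))
))) (.node (nat_lit 0x810ab825886) (.node (nat_lit 0x8109c40c857) (.leaf (nat_lit 0x81048c0c870) (nat_lit 3330))
 (.node (nat_lit 0x8109d03b886) (.leaf (nat_lit 0x8109c40c857) (nat_lit 2049))
 (.leaf (nat_lit 0x8109d03b886) (nat_lit 3328))
)) (.node (nat_lit 0x811045d291c) (.leaf (nat_lit 0x810ab825886) (nat_lit 2816))
 (.node (nat_lit 0x8110e5ef53e) (.leaf (nat_lit 0x811045d291c) (nat_lit 2305))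
 (.leaf (nat_lit 0x8110e5ef53e) (nat_lit 2561))
)))))) (.node (nat_lit 0x8142ac5aac8) (.node (nat_lit 0x812b243612f) (.node (nat_lit 0x8120e5d851a) (.node (nat_lit 0x8113f0a80fc) (.node (nat_lit 0x8113a9ac91c) (.leaf (nat_lit 0x81119dd14d8) (nat_lit 3329))
 (.leaf (nat_lit 0x8113a9ac91c) (nat_lit 1537))
) (.node (nat_lit 0x8115a5948fc) (.leaf (nat_lit 0x8113f0a80fc) (nat_lit 3072))
 (.node (nat_lit 0x8120e513207) (.leaf (nat_lit 0x8115a5948fc) (nat_lit 2817))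
 (.leaf (nat_lit 0x8120e513207) (nat_lit 2560))
))) (.node (nat_lit 0x81262181acf) (.node (nat_lit 0x8122e1c1acf) (.leaf (nat_lit 0x8120e5d851a) (nat_lit 1538))
 (.node (nat_lit 0x8125fc77055) (.leaf (nat_lit 0x8122e1c1acf) (nat_lit 2305))
 (.leaf (nat_lit 0x8125fc77055) (nat_lit 1793))
)) (.node (nat_lit 0x8129b80cb1f) (.leaf (nat_lit 0x81262181acf) (nat_lit 2817))
 (.node (nat_lit 0x812aed58b22) (.leaf (nat_lit 0x8129b80cb1f) (nat_lit 3074))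
 (.leaf (nat_lit 0x812aed58b22) (nat_lit 3073))
)))) (.node (nat_lit 0x8132d083851) (.node (nat_lit 0x812d85d2207) (.node (nat_lit 0x812d02a0322) (.leaf (nat_lit 0x812b243612f) (nat_lit 2816))
 (.leaf (nat_lit 0x812d02a0322) (nat_lit 2816))
) (.node (nat_lit 0x8130e863051) (.leaf (nat_lit 0x812d85d2207) (nat_lit 3073))
 (.node (nat_lit 0x81316c0c92f) (.leaf (nat_lit 0x8130e863051) (nat_lit 1793))
 (.leaf (nat_lit 0x81316c0c92f) (nat_lit 2817))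
))) (.node (nat_lit 0x8140e4d4989) (.node (nat_lit 0x81338da2d21) (.leaf (nat_lit 0x8132d083851) (nat_lit 2561))
 (.node (nat_lit 0x8135211f4d9) (.leaf (nat_lit 0x81338da2d21) (nat_lit 3073))
 (.leaf (nat_lit 0x8135211f4d9) (nat_lit 3073))
)) (.node (nat_lit 0x8140e5d7a89) (.leaf (nat_lit 0x8140e4d4989) (nat_lit 1025))
 (.node (nat_lit 0x814178a851b) (.leaf (nat_lit 0x8140e5d7a89) (nat_lit 2816))
 (.leaf (nat_lit 0x814178a851b) (nat_lit 3329))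
))))) (.node (nat_lit 0x8155ec0ca63) (.node (nat_lit 0x8149da8ad49) (.node (nat_lit 0x8142e264d1b) (.node (nat_lit 0x8142b0a0c78) (.leaf (nat_lit 0x8142ac5aac8) (nat_lit 3328))
 (.leaf (nat_lit 0x8142b0a0c78) (nat_lit 2306))
) (.node (nat_lit 0x814350eea05) (.leaf (nat_lit 0x8142e264d1b) (nat_lit 2306))
 (.node (nat_lit 0x81499a21478) (.leaf (nat_lit 0x814350eea05) (nat_lit 3329))
 (.leaf (nat_lit 0x81499a21478) (nat_lit 2306))
))) (.node (nat_lit 0x8153909d051) (.node (nat_lit 0x814fe49a851) (.leaf (nat_lit 0x8149da8ad49) (nat_lit 2049))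
 (.node (nat_lit 0x815381ceae0) (.leaf (nat_lit 0x814fe49a851) (nat_lit 2818))
 (.leaf (nat_lit 0x815381ceae0) (nat_lit 3074))
)) (.node (nat_lit 0x815401e9289) (.leaf (nat_lit 0x8153909d051) (nat_lit 2562))
 (.node (nat_lit 0x8154740cac8) (.leaf (nat_lit 0x815401e9289) (nat_lit 2561))
 (.leaf (nat_lit 0x8154740cac8) (nat_lit 2561))
)))) (.node (nat_lit 0x8167466e2e2) (.node (nat_lit 0x8160e49face) (.node (nat_lit 0x8160b01b851) (.leaf (nat_lit 0x8155ec0ca63) (nat_lit 2817))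
 (.node (nat_lit 0x8160e49f4d8) (.leaf (nat_lit 0x8160b01b851) (nat_lit 3330))
 (.leaf (nat_lit 0x8160e49f4d8) (nat_lit 3073))
)) (.node (nat_lit 0x8162e26e342) (.leaf (nat_lit 0x8160e49face) (nat_lit 2816))
 (.node (nat_lit 0x8165f513d2c) (.leaf (nat_lit 0x8162e26e342) (nat_lit 3329))
 (.leaf (nat_lit 0x8165f513d2c) (nat_lit 2561))
))) (.node (nat_lit 0x816c644fb42) (.node (nat_lit 0x8168d10ebcb) (.leaf (nat_lit 0x8167466e2e2) (nat_lit 1793))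
 (.node (nat_lit 0x816a3e45a85) (.leaf (nat_lit 0x8168d10ebcb) (nat_lit 3585))
 (.leaf (nat_lit 0x816a3e45a85) (nat_lit 2818))
)) (.node (nat_lit 0x816d2245ae2) (.leaf (nat_lit 0x816c644fb42) (nat_lit 3074))
 (.node (nat_lit 0x816e084fcd8) (.leaf (nat_lit 0x816d2245ae2) (nat_lit 3073))
 (.leaf (nat_lit 0x816e084fcd8) (nat_lit 3330))
))))))) (.node (nat_lit 0x845075cdca2) (.node (nat_lit 0x81a621ddacf) (.node (nat_lit 0x8189b8fbd7f) (.node (nat_lit 0x8180e4e2526) (.node (nat_lit 0x817311a6c76) (.node (nat_lit 0x8171989f285) (.leaf (nat_lit 0x8170442c8e8) (nat_lit 3584))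
 (.leaf (nat_lit 0x8171989f285) (nat_lit 2817))
) (.node (nat_lit 0x8175b41b851) (.leaf (nat_lit 0x817311a6c76) (nat_lit 3329))
 (.node (nat_lit 0x8180e483a61) (.leaf (nat_lit 0x8175b41b851) (nat_lit 3328))
 (.leaf (nat_lit 0x8180e483a61) (nat_lit 3328))
))) (.node (nat_lit 0x818396a0d4b) (.node (nat_lit 0x8180f5992e2) (.leaf (nat_lit 0x8180e4e2526) (nat_lit 2818))
 (.node (nat_lit 0x818194658af) (.leaf (nat_lit 0x8180f5992e2) (nat_lit 2817))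
 (.leaf (nat_lit 0x818194658af) (nat_lit 3328))
)) (.node (nat_lit 0x8188040c8af) (.leaf (nat_lit 0x818396a0d4b) (nat_lit 2817))
 (.node (nat_lit 0x8189a50ca71) (.leaf (nat_lit 0x8188040c8af) (nat_lit 3073))
 (.leaf (nat_lit 0x8189a50ca71) (nat_lit 2050))
)))) (.node (nat_lit 0x8190466457f) (.node (nat_lit 0x818b4113526) (.node (nat_lit 0x818ac29ca07) (.leaf (nat_lit 0x8189b8fbd7f) (nat_lit 2818))
 (.leaf (nat_lit 0x818ac29ca07) (nat_lit 2818))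
) (.node (nat_lit 0x818db80c98b) (.leaf (nat_lit 0x818b4113526) (nat_lit 2818))
 (.node (nat_lit 0x818fdcb4a34) (.leaf (nat_lit 0x818db80c98b) (nat_lit 769))
 (.leaf (nat_lit 0x818fdcb4a34) (nat_lit 1537))
))) (.node (nat_lit 0x81a0e42d0ea) (.node (nat_lit 0x81939cdda71) (.leaf (nat_lit 0x8190466457f) (nat_lit 2561))
 (.node (nat_lit 0x81955821234) (.leaf (nat_lit 0x81939cdda71) (nat_lit 2305))
 (.leaf (nat_lit 0x81955821234) (nat_lit 3328))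
)) (.node (nat_lit 0x81a0e4fd2c4) (.leaf (nat_lit 0x81a0e42d0ea) (nat_lit 3072))
 (.node (nat_lit 0x81a3f1cfbca) (.leaf (nat_lit 0x81a0e4fd2c4) (nat_lit 1793))
 (.leaf (nat_lit 0x81a3f1cfbca) (nat_lit 3329))
))))) (.node (nat_lit 0x81b5ed760bb) (.node (nat_lit 0x81b3a9760bb) (.node (nat_lit 0x81a93d10cd6) (.node (nat_lit 0x81a809a62c4) (.leaf (nat_lit 0x81a621ddacf) (nat_lit 3073))
 (.leaf (nat_lit 0x81a809a62c4) (nat_lit 2305))
) (.node (nat_lit 0x81ac25cfcd6) (.leaf (nat_lit 0x81a93d10cd6) (nat_lit 3329))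
 (.node (nat_lit 0x81b1f912570) (.leaf (nat_lit 0x81ac25cfcd6) (nat_lit 2562))
 (.leaf (nat_lit 0x81b1f912570) (nat_lit 2817))
))) (.node (nat_lit 0x81b4ae2252d) (.node (nat_lit 0x81b3bcfd478) (.leaf (nat_lit 0x81b3a9760bb) (nat_lit 3329))
 (.node (nat_lit 0x81b3c622570) (.leaf (nat_lit 0x81b3bcfd478) (nat_lit 1794))
 (.leaf (nat_lit 0x81b3c622570) (nat_lit 2561))
)) (.node (nat_lit 0x81b554a2a76) (.leaf (nat_lit 0x81b4ae2252d) (nat_lit 3328))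
 (.node (nat_lit 0x81b5a9dda76) (.leaf (nat_lit 0x81b554a2a76) (nat_lit 2816))
 (.leaf (nat_lit 0x81b5a9dda76) (nat_lit 3073))
)))) (.node (nat_lit 0x844388a2a07) (.node (nat_lit 0x8442180782a) (.node (nat_lit 0x8440e515480) (.leaf (nat_lit 0x81b5ed760bb) (nat_lit 3329))
 (.node (nat_lit 0x8440e6a82e2) (.leaf (nat_lit 0x8440e515480) (nat_lit 2562))
 (.leaf (nat_lit 0x8440e6a82e2) (nat_lit 3073))
)) (.node (nat_lit 0x8442c00782a) (.leaf (nat_lit 0x8442180782a) (nat_lit 3329))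
 (.node (nat_lit 0x8442e0c998b) (.leaf (nat_lit 0x8442c00782a) (nat_lit 2817))
 (.leaf (nat_lit 0x8442e0c998b) (nat_lit 2048))
))) (.node (nat_lit 0x844b0e45485) (.node (nat_lit 0x8449d1cdc39) (.leaf (nat_lit 0x844388a2a07) (nat_lit 3073))
 (.node (nat_lit 0x8449dea8485) (.leaf (nat_lit 0x8449d1cdc39) (nat_lit 2817))
 (.leaf (nat_lit 0x8449dea8485) (nat_lit 2560))
)) (.node (nat_lit 0x844b4287c80) (.leaf (nat_lit 0x844b0e45485) (nat_lit 3073))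
 (.node (nat_lit 0x844ba9040db) (.leaf (nat_lit 0x844b4287c80) (nat_lit 3074))
 (.leaf (nat_lit 0x844ba9040db) (nat_lit 3074))
)))))) (.node (nat_lit 0x8489f5a1ae2) (.node (nat_lit 0x8469e053a85) (.node (nat_lit 0x8460e618522) (.node (nat_lit 0x8453c613c39) (.node (nat_lit 0x84535687d4b) (.leaf (nat_lit 0x845075cdca2) (nat_lit 2562))
 (.leaf (nat_lit 0x84535687d4b) (nat_lit 2305))
) (.node (nat_lit 0x84545ca28db) (.leaf (nat_lit 0x8453c613c39) (nat_lit 1538))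
 (.node (nat_lit 0x8460e4c6989) (.leaf (nat_lit 0x84545ca28db) (nat_lit 2816))
 (.leaf (nat_lit 0x8460e4c6989) (nat_lit 2304))
))) (.node (nat_lit 0x846215c7160) (.node (nat_lit 0x8460f5c7205) (.leaf (nat_lit 0x8460e618522) (nat_lit 3074))
 (.node (nat_lit 0x846179ccacf) (.leaf (nat_lit 0x8460f5c7205) (nat_lit 3074))
 (.leaf (nat_lit 0x846179ccacf) (nat_lit 3330))
)) (.node (nat_lit 0x84675e45a85) (.leaf (nat_lit 0x846215c7160) (nat_lit 3073))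
 (.node (nat_lit 0x84695053d49) (.leaf (nat_lit 0x84675e45a85) (nat_lit 2817))
 (.leaf (nat_lit 0x84695053d49) (nat_lit 2561))
)))) (.node (nat_lit 0x84715912c1e) (.node (nat_lit 0x846c2613160) (.node (nat_lit 0x846a68a12e0) (.leaf (nat_lit 0x8469e053a85) (nat_lit 2818))
 (.node (nat_lit 0x846c1504d22) (.leaf (nat_lit 0x846a68a12e0) (nat_lit 3072))
 (.leaf (nat_lit 0x846c1504d22) (nat_lit 3329))
)) (.node (nat_lit 0x846c48a141e) (.leaf (nat_lit 0x846c2613160) (nat_lit 3072))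
 (.node (nat_lit 0x846c65ccacf) (.leaf (nat_lit 0x846c48a141e) (nat_lit 2818))
 (.leaf (nat_lit 0x846c65ccacf) (nat_lit 3330))
))) (.node (nat_lit 0x8480e629371) (.node (nat_lit 0x8473ba184a0) (.leaf (nat_lit 0x84715912c1e) (nat_lit 2562))
 (.node (nat_lit 0x8480e4ef4a2) (.leaf (nat_lit 0x8473ba184a0) (nat_lit 3328))
 (.leaf (nat_lit 0x8480e4ef4a2) (nat_lit 3072))
)) (.node (nat_lit 0x8486011825c) (.leaf (nat_lit 0x8480e629371) (nat_lit 3072))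
 (.node (nat_lit 0x84893dba557) (.leaf (nat_lit 0x8486011825c) (nat_lit 2561))
 (.leaf (nat_lit 0x84893dba557) (nat_lit 2816))
))))) (.node (nat_lit 0x84a0e421189) (.node (nat_lit 0x84917076885) (.node (nat_lit 0x848c640c98b) (.node (nat_lit 0x848b4196371) (.leaf (nat_lit 0x8489f5a1ae2) (nat_lit 1793))
 (.leaf (nat_lit 0x848b4196371) (nat_lit 2817))
) (.node (nat_lit 0x848e021c25c) (.leaf (nat_lit 0x848c640c98b) (nat_lit 2561))
 (.node (nat_lit 0x848ef9e1557) (.leaf (nat_lit 0x848e021c25c) (nat_lit 3074))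
 (.leaf (nat_lit 0x848ef9e1557) (nat_lit 3074))
))) (.node (nat_lit 0x8493809d261) (.node (nat_lit 0x849210d4bf5) (.leaf (nat_lit 0x84917076885) (nat_lit 2818))
 (.node (nat_lit 0x8492a5cb54b) (.leaf (nat_lit 0x849210d4bf5) (nat_lit 2050))
 (.leaf (nat_lit 0x8492a5cb54b) (nat_lit 3074))
)) (.node (nat_lit 0x84947c0c885) (.leaf (nat_lit 0x8493809d261) (nat_lit 3586))
 (.node (nat_lit 0x8495c0393f5) (.leaf (nat_lit 0x84947c0c885) (nat_lit 2817))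
 (.leaf (nat_lit 0x8495c0393f5) (nat_lit 1794))
)))) (.node (nat_lit 0x84ab340ca63) (.node (nat_lit 0x84a4c011119) (.node (nat_lit 0x84a0e466117) (.leaf (nat_lit 0x84a0e421189) (nat_lit 3329))
 (.node (nat_lit 0x84a2e196b42) (.leaf (nat_lit 0x84a0e466117) (nat_lit 3073))
 (.leaf (nat_lit 0x84a2e196b42) (nat_lit 2561))
)) (.node (nat_lit 0x84a91a9c4a0) (.leaf (nat_lit 0x84a4c011119) (nat_lit 2561))
 (.node (nat_lit 0x84a99ccc549) (.leaf (nat_lit 0x84a91a9c4a0) (nat_lit 2816))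
 (.leaf (nat_lit 0x84a99ccc549) (nat_lit 2561))
))) (.node (nat_lit 0x84b216353ca) (.node (nat_lit 0x84ab91d9532) (.leaf (nat_lit 0x84ab340ca63) (nat_lit 3073))
 (.node (nat_lit 0x84adb992342) (.leaf (nat_lit 0x84ab91d9532) (nat_lit 2560))
 (.leaf (nat_lit 0x84adb992342) (nat_lit 2561))
)) (.node (nat_lit 0x84b24980ae0) (.leaf (nat_lit 0x84b216353ca) (nat_lit 2304))
 (.node (nat_lit 0x84b35c83919) (.leaf (nat_lit 0x84b24980ae0) (nat_lit 2306))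
 (.leaf (nat_lit 0x84b35c83919) (nat_lit 2305))
))))))))) (.node (nat_lit 0x87f2e9c7cf0) (.node (nat_lit 0x85f2a8dc06a) (.node (nat_lit 0x855470a0289) (.node (nat_lit 0x84e744d9c07) (.node (nat_lit 0x84c9b9ff4b1) (.node (nat_lit 0x84c0e5a6c76) (.node (nat_lit 0x84b5700c917) (.node (nat_lit 0x84b4add5532) (.leaf (nat_lit 0x84b431dabca) (nat_lit 2561))
 (.leaf (nat_lit 0x84b4add5532) (nat_lit 2816))
) (.node (nat_lit 0x84c0b0e3554) (.leaf (nat_lit 0x84b5700c917) (nat_lit 2049))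
 (.node (nat_lit 0x84c0e4d9406) (.leaf (nat_lit 0x84c0b0e3554) (nat_lit 3073))
 (.leaf (nat_lit 0x84c0e4d9406) (nat_lit 3585))
))) (.node (nat_lit 0x84c2b44cc17) (.node (nat_lit 0x84c1459e4e5) (.leaf (nat_lit 0x84c0e5a6c76) (nat_lit 3074))
 (.node (nat_lit 0x84c148e3184) (.leaf (nat_lit 0x84c1459e4e5) (nat_lit 3072))
 (.leaf (nat_lit 0x84c148e3184) (nat_lit 3074))
)) (.node (nat_lit 0x84c3f550ce5) (.leaf (nat_lit 0x84c2b44cc17) (nat_lit 2304))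
 (.node (nat_lit 0x84c808fcc76) (.leaf (nat_lit 0x84c3f550ce5) (nat_lit 2562))
 (.leaf (nat_lit 0x84c808fcc76) (nat_lit 2562))
)))) (.node (nat_lit 0x84d3bda6ac5) (.node (nat_lit 0x84c9f44cc17) (.node (nat_lit 0x84c9da11554) (.leaf (nat_lit 0x84c9b9ff4b1) (nat_lit 3586))
 (.leaf (nat_lit 0x84c9da11554) (nat_lit 3329))
) (.node (nat_lit 0x84cc3950a75) (.leaf (nat_lit 0x84c9f44cc17) (nat_lit 3073))
 (.node (nat_lit 0x84d1f5ff53f) (.leaf (nat_lit 0x84cc3950a75) (nat_lit 1794))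
 (.leaf (nat_lit 0x84d1f5ff53f) (nat_lit 3585))
))) (.node (nat_lit 0x84e0e4ec527) (.node (nat_lit 0x84d3c236d3f) (.leaf (nat_lit 0x84d3bda6ac5) (nat_lit 2817))
 (.node (nat_lit 0x84e0a83b24d) (.leaf (nat_lit 0x84d3c236d3f) (nat_lit 3072))
 (.leaf (nat_lit 0x84e0a83b24d) (nat_lit 3073))
)) (.node (nat_lit 0x84e0e611985) (.leaf (nat_lit 0x84e0e4ec527) (nat_lit 3072))
 (.node (nat_lit 0x84e2159f274) (.leaf (nat_lit 0x84e0e611985) (nat_lit 3074))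
 (.leaf (nat_lit 0x84e2159f274) (nat_lit 2304))
))))) (.node (nat_lit 0x8540e464307) (.node (nat_lit 0x84f150e5527) (.node (nat_lit 0x84eda4e5574) (.node (nat_lit 0x84eb5265574) (.leaf (nat_lit 0x84e744d9c07) (nat_lit 1536))
 (.leaf (nat_lit 0x84eb5265574) (nat_lit 3072))
) (.node (nat_lit 0x84f04665503) (.leaf (nat_lit 0x84eda4e5574) (nat_lit 3073))
 (.node (nat_lit 0x84f064ec323) (.leaf (nat_lit 0x84f04665503) (nat_lit 3330))
 (.leaf (nat_lit 0x84f064ec323) (nat_lit 2817))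
))) (.node (nat_lit 0x84f4023ab23) (.node (nat_lit 0x84f16e344b5) (.leaf (nat_lit 0x84f150e5527) (nat_lit 2304))
 (.node (nat_lit 0x84f310fd2c4) (.leaf (nat_lit 0x84f16e344b5) (nat_lit 3073))
 (.leaf (nat_lit 0x84f310fd2c4) (nat_lit 3328))
)) (.node (nat_lit 0x84f5a83b24d) (.leaf (nat_lit 0x84f4023ab23) (nat_lit 1793))
 (.node (nat_lit 0x84f5e63ad03) (.leaf (nat_lit 0x84f5a83b24d) (nat_lit 2305))
 (.leaf (nat_lit 0x84f5e63ad03) (nat_lit 3072))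
)))) (.node (nat_lit 0x854c4c0c92f) (.node (nat_lit 0x854901cb2c2) (.node (nat_lit 0x8540e49d2da) (.leaf (nat_lit 0x8540e464307) (nat_lit 2561))
 (.node (nat_lit 0x8546ac35b07) (.leaf (nat_lit 0x8540e49d2da) (nat_lit 3073))
 (.leaf (nat_lit 0x8546ac35b07) (nat_lit 3074))
)) (.node (nat_lit 0x854940a82c2) (.leaf (nat_lit 0x854901cb2c2) (nat_lit 2305))
 (.node (nat_lit 0x8549ba29d73) (.leaf (nat_lit 0x854940a82c2) (nat_lit 3329))
 (.leaf (nat_lit 0x8549ba29d73) (nat_lit 2562))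
))) (.node (nat_lit 0x8552140c8e5) (.node (nat_lit 0x854c6596b42) (.leaf (nat_lit 0x854c4c0c92f) (nat_lit 3330))
 (.node (nat_lit 0x855169ce97f) (.leaf (nat_lit 0x854c6596b42) (nat_lit 3073))
 (.leaf (nat_lit 0x855169ce97f) (nat_lit 2305))
)) (.node (nat_lit 0x8552a50c97f) (.leaf (nat_lit 0x8552140c8e5) (nat_lit 3072))
 (.node (nat_lit 0x855414260e5) (.leaf (nat_lit 0x8552a50c97f) (nat_lit 2818))
 (.leaf (nat_lit 0x855414260e5) (nat_lit 3330))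
)))))) (.node (nat_lit 0x85ca089a851) (.node (nat_lit 0x8569c6354e7) (.node (nat_lit 0x8561ed9b91c) (.node (nat_lit 0x8555ed18573) (.node (nat_lit 0x8555c1c2960) (.leaf (nat_lit 0x855470a0289) (nat_lit 2818))
 (.leaf (nat_lit 0x8555c1c2960) (nat_lit 3074))
) (.node (nat_lit 0x8560e51b25f) (.leaf (nat_lit 0x8555ed18573) (nat_lit 3330))
 (.node (nat_lit 0x8560e592381) (.leaf (nat_lit 0x8560e51b25f) (nat_lit 3073))
 (.leaf (nat_lit 0x8560e592381) (nat_lit 3329))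
))) (.node (nat_lit 0x85680e63555) (.node (nat_lit 0x856395bc555) (.leaf (nat_lit 0x8561ed9b91c) (nat_lit 3074))
 (.node (nat_lit 0x8563f40ca67) (.leaf (nat_lit 0x856395bc555) (nat_lit 3073))
 (.leaf (nat_lit 0x8563f40ca67) (nat_lit 2560))
)) (.node (nat_lit 0x8568d647c7d) (.leaf (nat_lit 0x85680e63555) (nat_lit 3328))
 (.node (nat_lit 0x8569342590b) (.leaf (nat_lit 0x8568d647c7d) (nat_lit 2561))
 (.leaf (nat_lit 0x8569342590b) (nat_lit 3073))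
)))) (.node (nat_lit 0x85740063916) (.node (nat_lit 0x856b9294d7e) (.node (nat_lit 0x856aa00ca5f) (.leaf (nat_lit 0x8569c6354e7) (nat_lit 2817))
 (.leaf (nat_lit 0x856aa00ca5f) (nat_lit 3329))
) (.node (nat_lit 0x856d8489116) (.leaf (nat_lit 0x856b9294d7e) (nat_lit 2817))
 (.node (nat_lit 0x856e00a057e) (.leaf (nat_lit 0x856d8489116) (nat_lit 3329))
 (.leaf (nat_lit 0x856e00a057e) (nat_lit 2816))
))) (.node (nat_lit 0x85c0e5d452d) (.node (nat_lit 0x8574f9acc7d) (.leaf (nat_lit 0x85740063916) (nat_lit 2818))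
 (.node (nat_lit 0x85c0e594b47) (.leaf (nat_lit 0x8574f9acc7d) (nat_lit 2817))
 (.leaf (nat_lit 0x85c0e594b47) (nat_lit 2561))
)) (.node (nat_lit 0x85c2e00c98b) (.leaf (nat_lit 0x85c0e5d452d) (nat_lit 3329))
 (.node (nat_lit 0x85c95dd9522) (.leaf (nat_lit 0x85c2e00c98b) (nat_lit 2305))
 (.leaf (nat_lit 0x85c95dd9522) (nat_lit 2561))
))))) (.node (nat_lit 0x85e0e4d9c07) (.node (nat_lit 0x85d17063051) (.node (nat_lit 0x85cba29c52d) (.node (nat_lit 0x85cb2e34a8a) (.leaf (nat_lit 0x85ca089a851) (nat_lit 3585))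
 (.leaf (nat_lit 0x85cb2e34a8a) (nat_lit 3072))
) (.node (nat_lit 0x85cdb82098b) (.leaf (nat_lit 0x85cba29c52d) (nat_lit 3328))
 (.node (nat_lit 0x85d071ef392) (.leaf (nat_lit 0x85cdb82098b) (nat_lit 3073))
 (.leaf (nat_lit 0x85d071ef392) (nat_lit 3329))
))) (.node (nat_lit 0x85d3a80cadc) (.node (nat_lit 0x85d24c58931) (.leaf (nat_lit 0x85d17063051) (nat_lit 2049))
 (.node (nat_lit 0x85d34da7522) (.leaf (nat_lit 0x85d24c58931) (nat_lit 3074))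
 (.leaf (nat_lit 0x85d34da7522) (nat_lit 2560))
)) (.node (nat_lit 0x85d4aa29392) (.leaf (nat_lit 0x85d3a80cadc) (nat_lit 3074))
 (.node (nat_lit 0x85d4f9e9961) (.leaf (nat_lit 0x85d4aa29392) (nat_lit 2817))
 (.leaf (nat_lit 0x85d4f9e9961) (nat_lit 2561))
)))) (.node (nat_lit 0x85e9a59e45a) (.node (nat_lit 0x85e5d0dbd70) (.node (nat_lit 0x85e0e5768ba) (.leaf (nat_lit 0x85e0e4d9c07) (nat_lit 2561))
 (.node (nat_lit 0x85e0f9c427a) (.leaf (nat_lit 0x85e0e5768ba) (nat_lit 3073))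
 (.leaf (nat_lit 0x85e0f9c427a) (nat_lit 2816))
)) (.node (nat_lit 0x85e935c44fd) (.leaf (nat_lit 0x85e5d0dbd70) (nat_lit 2561))
 (.node (nat_lit 0x85e9589fbd1) (.leaf (nat_lit 0x85e935c44fd) (nat_lit 2818))
 (.leaf (nat_lit 0x85e9589fbd1) (nat_lit 3073))
))) (.node (nat_lit 0x85f070d9c07) (.node (nat_lit 0x85e9c244476) (.leaf (nat_lit 0x85e9a59e45a) (nat_lit 2049))
 (.node (nat_lit 0x85ec39e245a) (.leaf (nat_lit 0x85e9c244476) (nat_lit 3073))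
 (.leaf (nat_lit 0x85ec39e245a) (nat_lit 2305))
)) (.node (nat_lit 0x85f0e9e2555) (.leaf (nat_lit 0x85f070d9c07) (nat_lit 2817))
 (.node (nat_lit 0x85f1f89fd70) (.leaf (nat_lit 0x85f0e9e2555) (nat_lit 3329))
 (.leaf (nat_lit 0x85f1f89fd70) (nat_lit 2561))
))))))) (.node (nat_lit 0x86d1923453e) (.node (nat_lit 0x86a4c1ab502) (.node (nat_lit 0x86115238ce8) (.node (nat_lit 0x8602ba1b57e) (.node (nat_lit 0x85f5b0dc476) (.node (nat_lit 0x85f575a627a) (.leaf (nat_lit 0x85f2a8dc06a) (nat_lit 3072))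
 (.leaf (nat_lit 0x85f575a627a) (nat_lit 3329))
) (.node (nat_lit 0x8600e44f9b1) (.leaf (nat_lit 0x85f5b0dc476) (nat_lit 2561))
 (.node (nat_lit 0x8600e66557e) (.leaf (nat_lit 0x8600e44f9b1) (nat_lit 2816))
 (.leaf (nat_lit 0x8600e66557e) (nat_lit 2560))
))) (.node (nat_lit 0x860b2a1b1d5) (.node (nat_lit 0x8608d59f554) (.leaf (nat_lit 0x8602ba1b57e) (nat_lit 2562))
 (.node (nat_lit 0x8609d57e4e9) (.leaf (nat_lit 0x8608d59f554) (nat_lit 2560))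
 (.leaf (nat_lit 0x8609d57e4e9) (nat_lit 3074))
)) (.node (nat_lit 0x860c617e1b1) (.leaf (nat_lit 0x860b2a1b1d5) (nat_lit 3072))
 (.node (nat_lit 0x861075760bb) (.leaf (nat_lit 0x860c617e1b1) (nat_lit 2304))
 (.leaf (nat_lit 0x861075760bb) (nat_lit 2305))
)))) (.node (nat_lit 0x8614044f9d5) (.node (nat_lit 0x86119a38ce8) (.node (nat_lit 0x861164da3d0) (.leaf (nat_lit 0x86115238ce8) (nat_lit 2049))
 (.leaf (nat_lit 0x861164da3d0) (nat_lit 2817))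
) (.node (nat_lit 0x86121244865) (.leaf (nat_lit 0x86119a38ce8) (nat_lit 2817))
 (.node (nat_lit 0x861392654e9) (.leaf (nat_lit 0x86121244865) (nat_lit 2560))
 (.leaf (nat_lit 0x861392654e9) (nat_lit 2304))
))) (.node (nat_lit 0x86a0e6be29f) (.node (nat_lit 0x86152da6cfc) (.leaf (nat_lit 0x8614044f9d5) (nat_lit 2817))
 (.node (nat_lit 0x86a0e4a451a) (.leaf (nat_lit 0x86152da6cfc) (nat_lit 3328))
 (.leaf (nat_lit 0x86a0e4a451a) (nat_lit 2562))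
)) (.node (nat_lit 0x86a19477086) (.leaf (nat_lit 0x86a0e6be29f) (nat_lit 3330))
 (.node (nat_lit 0x86a38151a9f) (.leaf (nat_lit 0x86a19477086) (nat_lit 2304))
 (.leaf (nat_lit 0x86a38151a9f) (nat_lit 2818))
))))) (.node (nat_lit 0x86c192344b5) (.node (nat_lit 0x86aa111e502) (.node (nat_lit 0x86a6000cc15) (.node (nat_lit 0x86a5d11c886) (.leaf (nat_lit 0x86a4c1ab502) (nat_lit 2817))
 (.leaf (nat_lit 0x86a5d11c886) (nat_lit 2561))
) (.node (nat_lit 0x86a61d58d1a) (.leaf (nat_lit 0x86a6000cc15) (nat_lit 2816))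
 (.node (nat_lit 0x86a93859415) (.leaf (nat_lit 0x86a61d58d1a) (nat_lit 2818))
 (.leaf (nat_lit 0x86a93859415) (nat_lit 3073))
))) (.node (nat_lit 0x86b38d0f11d) (.node (nat_lit 0x86aaa61c37f) (.leaf (nat_lit 0x86aa111e502) (nat_lit 3072))
 (.node (nat_lit 0x86af280c90d) (.leaf (nat_lit 0x86aaa61c37f) (nat_lit 2817))
 (.leaf (nat_lit 0x86af280c90d) (nat_lit 2561))
)) (.node (nat_lit 0x86b392294e9) (.leaf (nat_lit 0x86b38d0f11d) (nat_lit 2818))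
 (.node (nat_lit 0x86b5aa92269) (.leaf (nat_lit 0x86b392294e9) (nat_lit 2562))
 (.leaf (nat_lit 0x86b5aa92269) (nat_lit 2817))
)))) (.node (nat_lit 0x86cae50ecd5) (.node (nat_lit 0x86c83848d6a) (.node (nat_lit 0x86c2110ebcb) (.leaf (nat_lit 0x86c192344b5) (nat_lit 3074))
 (.node (nat_lit 0x86c8380802c) (.leaf (nat_lit 0x86c2110ebcb) (nat_lit 2562))
 (.leaf (nat_lit 0x86c8380802c) (nat_lit 2049))
)) (.node (nat_lit 0x86caccf029f) (.leaf (nat_lit 0x86c83848d6a) (nat_lit 3328))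
 (.node (nat_lit 0x86cacdfecb5) (.leaf (nat_lit 0x86caccf029f) (nat_lit 2816))
 (.leaf (nat_lit 0x86cacdfecb5) (nat_lit 2817))
))) (.node (nat_lit 0x86cff1f5ac3) (.node (nat_lit 0x86cae5be568) (.leaf (nat_lit 0x86cae50ecd5) (nat_lit 2048))
 (.node (nat_lit 0x86cc500802c) (.leaf (nat_lit 0x86cae5be568) (nat_lit 3586))
 (.leaf (nat_lit 0x86cc500802c) (nat_lit 2816))
)) (.node (nat_lit 0x86d184d3bbe) (.leaf (nat_lit 0x86cff1f5ac3) (nat_lit 1537))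
 (.node (nat_lit 0x86d190d3d68) (.leaf (nat_lit 0x86d184d3bbe) (nat_lit 3073))
 (.leaf (nat_lit 0x86d190d3d68) (nat_lit 2816))
)))))) (.node (nat_lit 0x87ca7634476) (.node (nat_lit 0x86f18112ce7) (.node (nat_lit 0x86eb19f529e) (.node (nat_lit 0x86d595cdbcb) (.node (nat_lit 0x86d594f02c3) (.leaf (nat_lit 0x86d1923453e) (nat_lit 3074))
 (.leaf (nat_lit 0x86d594f02c3) (nat_lit 2305))
) (.node (nat_lit 0x86e1a5ed521) (.leaf (nat_lit 0x86d595cdbcb) (nat_lit 3073))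
 (.node (nat_lit 0x86e20cfe4b4) (.leaf (nat_lit 0x86e1a5ed521) (nat_lit 2560))
 (.leaf (nat_lit 0x86e20cfe4b4) (nat_lit 2562))
))) (.node (nat_lit 0x86ebc1ed4b4) (.node (nat_lit 0x86eb1a17d21) (.leaf (nat_lit 0x86eb19f529e) (nat_lit 2562))
 (.node (nat_lit 0x86ebc112a01) (.leaf (nat_lit 0x86eb1a17d21) (nat_lit 2049))
 (.leaf (nat_lit 0x86ebc112a01) (nat_lit 3072))
)) (.node (nat_lit 0x86ec584956d) (.leaf (nat_lit 0x86ebc1ed4b4) (nat_lit 3330))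
 (.node (nat_lit 0x86efee17a01) (.leaf (nat_lit 0x86ec584956d) (nat_lit 3072))
 (.leaf (nat_lit 0x86efee17a01) (nat_lit 3074))
)))) (.node (nat_lit 0x86f36935886) (.node (nat_lit 0x86f29dcfcd6) (.node (nat_lit 0x86f29d35886) (.leaf (nat_lit 0x86f18112ce7) (nat_lit 2562))
 (.leaf (nat_lit 0x86f29d35886) (nat_lit 2818))
) (.node (nat_lit 0x86f2e0fe4e7) (.leaf (nat_lit 0x86f29dcfcd6) (nat_lit 1280))
 (.node (nat_lit 0x86f2e1c53c0) (.leaf (nat_lit 0x86f2e0fe4e7) (nat_lit 2562))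
 (.leaf (nat_lit 0x86f2e1c53c0) (nat_lit 2818))
))) (.node (nat_lit 0x87c3fcf045c) (.node (nat_lit 0x86f369ff53f) (.leaf (nat_lit 0x86f36935886) (nat_lit 3328))
 (.node (nat_lit 0x87c20c0802c) (.leaf (nat_lit 0x86f369ff53f) (nat_lit 2560))
 (.leaf (nat_lit 0x87c20c0802c) (nat_lit 3329))
)) (.node (nat_lit 0x87c8450ecfc) (.leaf (nat_lit 0x87c3fcf045c) (nat_lit 2562))
 (.node (nat_lit 0x87ca744dc16) (.leaf (nat_lit 0x87c8450ecfc) (nat_lit 2561))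
 (.leaf (nat_lit 0x87ca744dc16) (nat_lit 3329))
))))) (.node (nat_lit 0x87e211c7961) (.node (nat_lit 0x87cc599e4fc) (.node (nat_lit 0x87caf1eaa74) (.node (nat_lit 0x87caf00802c) (.leaf (nat_lit 0x87ca7634476) (nat_lit 2818))
 (.leaf (nat_lit 0x87caf00802c) (nat_lit 2561))
) (.node (nat_lit 0x87cb18a2c76) (.leaf (nat_lit 0x87caf1eaa74) (nat_lit 2817))
 (.node (nat_lit 0x87cc590ed23) (.leaf (nat_lit 0x87cb18a2c76) (nat_lit 2560))
 (.leaf (nat_lit 0x87cc590ed23) (nat_lit 3074))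
))) (.node (nat_lit 0x87d29e22cd6) (.node (nat_lit 0x87d068f04d6) (.leaf (nat_lit 0x87cc599e4fc) (nat_lit 3074))
 (.node (nat_lit 0x87d06a44a77) (.leaf (nat_lit 0x87d068f04d6) (nat_lit 3073))
 (.leaf (nat_lit 0x87d06a44a77) (nat_lit 3585))
)) (.node (nat_lit 0x87d29e342c2) (.leaf (nat_lit 0x87d29e22cd6) (nat_lit 3073))
 (.node (nat_lit 0x87d3ae44a74) (.leaf (nat_lit 0x87d29e342c2) (nat_lit 2561))
 (.leaf (nat_lit 0x87d3ae44a74) (nat_lit 2305))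
)))) (.node (nat_lit 0x87e96665282) (.node (nat_lit 0x87e469b6961) (.node (nat_lit 0x87e401b6a82) (.leaf (nat_lit 0x87e211c7961) (nat_lit 3073))
 (.node (nat_lit 0x87e468058b0) (.leaf (nat_lit 0x87e401b6a82) (nat_lit 2818))
 (.leaf (nat_lit 0x87e468058b0) (nat_lit 3074))
)) (.node (nat_lit 0x87e8399f51f) (.leaf (nat_lit 0x87e469b6961) (nat_lit 2561))
 (.node (nat_lit 0x87e9662245a) (.leaf (nat_lit 0x87e8399f51f) (nat_lit 2562))
 (.leaf (nat_lit 0x87e9662245a) (nat_lit 3073))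
))) (.node (nat_lit 0x87eb1e45c57) (.node (nat_lit 0x87eacc4cc17) (.leaf (nat_lit 0x87e96665282) (nat_lit 3330))
 (.node (nat_lit 0x87eace65457) (.leaf (nat_lit 0x87eacc4cc17) (nat_lit 1793))
 (.leaf (nat_lit 0x87eace65457) (nat_lit 3585))
)) (.node (nat_lit 0x87eff09fac3) (.leaf (nat_lit 0x87eb1e45c57) (nat_lit 2562))
 (.node (nat_lit 0x87eff245cf0) (.leaf (nat_lit 0x87eff09fac3) (nat_lit 3073))
 (.leaf (nat_lit 0x87eff245cf0) (nat_lit 2304))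
)))))))) (.node (nat_lit 0x897359d797f) (.node (nat_lit 0x8893fca1574) (.node (nat_lit 0x8829d196c7d) (.node (nat_lit 0x880b2dd54d8) (.node (nat_lit 0x880179a82cf) (.node (nat_lit 0x87f3b4058b0) (.node (nat_lit 0x87f2e9ea276) (.leaf (nat_lit 0x87f2e9c7cf0) (nat_lit 2560))
 (.leaf (nat_lit 0x87f2e9ea276) (nat_lit 3330))
) (.node (nat_lit 0x8800e4632da) (.leaf (nat_lit 0x87f3b4058b0) (nat_lit 3330))
 (.node (nat_lit 0x8800e6351b1) (.leaf (nat_lit 0x8800e4632da) (nat_lit 3329))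
 (.leaf (nat_lit 0x8800e6351b1) (nat_lit 2560))
))) (.node (nat_lit 0x8809590e4df) (.node (nat_lit 0x8804c05f2c8) (.leaf (nat_lit 0x880179a82cf) (nat_lit 2561))
 (.node (nat_lit 0x88062181acf) (.leaf (nat_lit 0x8804c05f2c8) (nat_lit 2562))
 (.leaf (nat_lit 0x88062181acf) (nat_lit 3072))
)) (.node (nat_lit 0x8809a5cb54b) (.leaf (nat_lit 0x8809590e4df) (nat_lit 2818))
 (.node (nat_lit 0x8809ec0c84f) (.leaf (nat_lit 0x8809a5cb54b) (nat_lit 2305))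
 (.leaf (nat_lit 0x8809ec0c84f) (nat_lit 3073))
)))) (.node (nat_lit 0x8814a80cac8) (.node (nat_lit 0x881075da4d8) (.node (nat_lit 0x880b91e941f) (.leaf (nat_lit 0x880b2dd54d8) (nat_lit 1794))
 (.leaf (nat_lit 0x880b91e941f) (nat_lit 2560))
) (.node (nat_lit 0x8812a4ccd4b) (.leaf (nat_lit 0x881075da4d8) (nat_lit 3072))
 (.node (nat_lit 0x8813b09aada) (.leaf (nat_lit 0x8812a4ccd4b) (nat_lit 3329))
 (.leaf (nat_lit 0x8813b09aada) (nat_lit 2049))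
))) (.node (nat_lit 0x8820e663d18) (.node (nat_lit 0x88157463916) (.leaf (nat_lit 0x8814a80cac8) (nat_lit 3329))
 (.node (nat_lit 0x8820e40c917) (.leaf (nat_lit 0x88157463916) (nat_lit 3073))
 (.leaf (nat_lit 0x8820e40c917) (nat_lit 3073))
)) (.node (nat_lit 0x882375f8d18) (.leaf (nat_lit 0x8820e663d18) (nat_lit 2816))
 (.node (nat_lit 0x8828d5cbc7d) (.leaf (nat_lit 0x882375f8d18) (nat_lit 2305))
 (.leaf (nat_lit 0x8828d5cbc7d) (nat_lit 2561))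
))))) (.node (nat_lit 0x8880e453c1f) (.node (nat_lit 0x8831709d051) (.node (nat_lit 0x882c12922eb) (.node (nat_lit 0x882b24a0c1e) (.leaf (nat_lit 0x8829d196c7d) (nat_lit 2818))
 (.leaf (nat_lit 0x882b24a0c1e) (nat_lit 3072))
) (.node (nat_lit 0x882c64cf1b0) (.leaf (nat_lit 0x882c12922eb) (nat_lit 2817))
 (.node (nat_lit 0x882d25184de) (.leaf (nat_lit 0x882c64cf1b0) (nat_lit 2560))
 (.leaf (nat_lit 0x882d25184de) (nat_lit 2818))
))) (.node (nat_lit 0x8832ec9eaeb) (.node (nat_lit 0x8832162906a) (.leaf (nat_lit 0x8831709d051) (nat_lit 2562))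
 (.node (nat_lit 0x8832a8bb06a) (.leaf (nat_lit 0x8832162906a) (nat_lit 3074))
 (.leaf (nat_lit 0x8832a8bb06a) (nat_lit 2304))
)) (.node (nat_lit 0x8833900c90d) (.leaf (nat_lit 0x8832ec9eaeb) (nat_lit 3074))
 (.node (nat_lit 0x8835c04390d) (.leaf (nat_lit 0x8833900c90d) (nat_lit 3073))
 (.leaf (nat_lit 0x8835c04390d) (nat_lit 3330))
)))) (.node (nat_lit 0x888951ccc7d) (.node (nat_lit 0x8883f618569) (.node (nat_lit 0x8880e453d19) (.leaf (nat_lit 0x8880e453c1f) (nat_lit 3073))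
 (.node (nat_lit 0x888374f741f) (.leaf (nat_lit 0x8880e453d19) (nat_lit 3586))
 (.leaf (nat_lit 0x888374f741f) (nat_lit 3073))
)) (.node (nat_lit 0x888580a130e) (.leaf (nat_lit 0x8883f618569) (nat_lit 1794))
 (.node (nat_lit 0x8885fe3a174) (.leaf (nat_lit 0x888580a130e) (nat_lit 2561))
 (.leaf (nat_lit 0x8885fe3a174) (nat_lit 3073))
))) (.node (nat_lit 0x888ac10a91d) (.node (nat_lit 0x8889e63a11d) (.leaf (nat_lit 0x888951ccc7d) (nat_lit 3074))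
 (.node (nat_lit 0x8889ee18569) (.leaf (nat_lit 0x8889e63a11d) (nat_lit 3072))
 (.leaf (nat_lit 0x8889ee18569) (nat_lit 2561))
)) (.node (nat_lit 0x888ba83b25e) (.leaf (nat_lit 0x888ac10a91d) (nat_lit 2305))
 (.node (nat_lit 0x889165cc8f0) (.leaf (nat_lit 0x888ba83b25e) (nat_lit 1280))
 (.leaf (nat_lit 0x889165cc8f0) (nat_lit 3073))
)))))) (.node (nat_lit 0x89421a48cf0) (.node (nat_lit 0x88ad24f80ef) (.node (nat_lit 0x88a1490994f) (.node (nat_lit 0x8895aa1f30e) (.node (nat_lit 0x889414fe47d) (.leaf (nat_lit 0x8893fca1574) (nat_lit 2048))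
 (.leaf (nat_lit 0x889414fe47d) (nat_lit 2561))
) (.node (nat_lit 0x88a0e5fec81) (.leaf (nat_lit 0x8895aa1f30e) (nat_lit 3073))
 (.node (nat_lit 0x88a0e5fed75) (.leaf (nat_lit 0x88a0e5fec81) (nat_lit 2305))
 (.leaf (nat_lit 0x88a0e5fed75) (nat_lit 3073))
))) (.node (nat_lit 0x88a9c4d317a) (.node (nat_lit 0x88a37cd9406) (.leaf (nat_lit 0x88a1490994f) (nat_lit 2818))
 (.node (nat_lit 0x88a938f7c81) (.leaf (nat_lit 0x88a37cd9406) (nat_lit 2560))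
 (.leaf (nat_lit 0x88a938f7c81) (nat_lit 3074))
)) (.node (nat_lit 0x88aa3a2c518) (.leaf (nat_lit 0x88a9c4d317a) (nat_lit 3072))
 (.node (nat_lit 0x88ac161fb23) (.leaf (nat_lit 0x88aa3a2c518) (nat_lit 3330))
 (.leaf (nat_lit 0x88ac161fb23) (nat_lit 3073))
)))) (.node (nat_lit 0x88b45cd9406) (.node (nat_lit 0x88b2483aa5f) (.node (nat_lit 0x88ada4f814f) (.leaf (nat_lit 0x88ad24f80ef) (nat_lit 3073))
 (.leaf (nat_lit 0x88ada4f814f) (nat_lit 2049))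
) (.node (nat_lit 0x88b3b22c323) (.leaf (nat_lit 0x88b2483aa5f) (nat_lit 2562))
 (.node (nat_lit 0x88b418fea03) (.leaf (nat_lit 0x88b3b22c323) (nat_lit 1794))
 (.leaf (nat_lit 0x88b418fea03) (nat_lit 3074))
))) (.node (nat_lit 0x8940e5d28db) (.node (nat_lit 0x88b550d3203) (.leaf (nat_lit 0x88b45cd9406) (nat_lit 3072))
 (.node (nat_lit 0x8940e4972dc) (.leaf (nat_lit 0x88b550d3203) (nat_lit 3330))
 (.leaf (nat_lit 0x8940e4972dc) (nat_lit 3074))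
)) (.node (nat_lit 0x8940f50dbcc) (.leaf (nat_lit 0x8940e5d28db) (nat_lit 2818))
 (.node (nat_lit 0x89413cb2bf5) (.leaf (nat_lit 0x8940f50dbcc) (nat_lit 2049))
 (.leaf (nat_lit 0x89413cb2bf5) (nat_lit 2561))
))))) (.node (nat_lit 0x8960b0358b0) (.node (nat_lit 0x894f0209175) (.node (nat_lit 0x894a6c0cadc) (.node (nat_lit 0x894a3c46307) (.leaf (nat_lit 0x89421a48cf0) (nat_lit 2817))
 (.leaf (nat_lit 0x894a3c46307) (nat_lit 3073))
) (.node (nat_lit 0x894b910e060) (.leaf (nat_lit 0x894a6c0cadc) (nat_lit 3073))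
 (.node (nat_lit 0x894c240c8af) (.leaf (nat_lit 0x894b910e060) (nat_lit 2816))
 (.leaf (nat_lit 0x894c240c8af) (nat_lit 3329))
))) (.node (nat_lit 0x89547464307) (.node (nat_lit 0x8951591e060) (.leaf (nat_lit 0x894f0209175) (nat_lit 2305))
 (.node (nat_lit 0x895419bca77) (.leaf (nat_lit 0x8951591e060) (nat_lit 2818))
 (.leaf (nat_lit 0x895419bca77) (nat_lit 3073))
)) (.node (nat_lit 0x895525e9277) (.leaf (nat_lit 0x89547464307) (nat_lit 3329))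
 (.node (nat_lit 0x8955c2024f0) (.leaf (nat_lit 0x895525e9277) (nat_lit 3073))
 (.leaf (nat_lit 0x8955c2024f0) (nat_lit 3074))
)))) (.node (nat_lit 0x8969d00cbf4) (.node (nat_lit 0x896140a0cf4) (.node (nat_lit 0x8960e4f1a5c) (.leaf (nat_lit 0x8960b0358b0) (nat_lit 3074))
 (.node (nat_lit 0x8960e51f4f4) (.leaf (nat_lit 0x8960e4f1a5c) (nat_lit 2561))
 (.leaf (nat_lit 0x8960e51f4f4) (nat_lit 2816))
)) (.node (nat_lit 0x8964389e2e9) (.leaf (nat_lit 0x896140a0cf4) (nat_lit 2818))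
 (.node (nat_lit 0x896584d4a34) (.leaf (nat_lit 0x8964389e2e9) (nat_lit 3328))
 (.leaf (nat_lit 0x896584d4a34) (nat_lit 2306))
))) (.node (nat_lit 0x896b36943ce) (.node (nat_lit 0x896a69d18de) (.leaf (nat_lit 0x8969d00cbf4) (nat_lit 2562))
 (.node (nat_lit 0x896b0821234) (.leaf (nat_lit 0x896a69d18de) (nat_lit 2562))
 (.leaf (nat_lit 0x896b0821234) (nat_lit 3585))
)) (.node (nat_lit 0x896ba29c2e0) (.leaf (nat_lit 0x896b36943ce) (nat_lit 1282))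
 (.node (nat_lit 0x8970740cae9) (.leaf (nat_lit 0x896ba29c2e0) (nat_lit 2816))
 (.leaf (nat_lit 0x8970740cae9) (nat_lit 2818))
))))))) (.node (nat_lit 0x8b13f95acf4) (.node (nat_lit 0x89e345a9a77) (.node (nat_lit 0x89d2ac0ccaa) (.node (nat_lit 0x89cb1cfb8ef) (.node (nat_lit 0x897458a02e0) (.node (nat_lit 0x8973811825c) (.leaf (nat_lit 0x897359d797f) (nat_lit 2304))
 (.leaf (nat_lit 0x8973811825c) (nat_lit 3073))
) (.node (nat_lit 0x89c261f88ef) (.leaf (nat_lit 0x897458a02e0) (nat_lit 3073))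
 (.node (nat_lit 0x89c964462ae) (.leaf (nat_lit 0x89c261f88ef) (nat_lit 3072))
 (.leaf (nat_lit 0x89c964462ae) (nat_lit 2560))
))) (.node (nat_lit 0x89cbc4e230e) (.node (nat_lit 0x89cb1e021d4) (.leaf (nat_lit 0x89cb1cfb8ef) (nat_lit 3329))
 (.node (nat_lit 0x89cb4c89269) (.leaf (nat_lit 0x89cb1e021d4) (nat_lit 2817))
 (.leaf (nat_lit 0x89cb4c89269) (nat_lit 2560))
)) (.node (nat_lit 0x89cbc59647e) (.leaf (nat_lit 0x89cbc4e230e) (nat_lit 3073))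
 (.node (nat_lit 0x89d06c0c84f) (.leaf (nat_lit 0x89cbc59647e) (nat_lit 2562))
 (.leaf (nat_lit 0x89d06c0c84f) (nat_lit 3073))
)))) (.node (nat_lit 0x89d36ccf555) (.node (nat_lit 0x89d2e8bc4f0) (.node (nat_lit 0x89d2ac3ea69) (.leaf (nat_lit 0x89d2ac0ccaa) (nat_lit 2048))
 (.leaf (nat_lit 0x89d2ac3ea69) (nat_lit 2562))
) (.node (nat_lit 0x89d2e8ccb0e) (.leaf (nat_lit 0x89d2e8bc4f0) (nat_lit 2816))
 (.node (nat_lit 0x89d36c9d84f) (.leaf (nat_lit 0x89d2e8ccb0e) (nat_lit 3072))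
 (.leaf (nat_lit 0x89d36c9d84f) (nat_lit 2561))
))) (.node (nat_lit 0x89e049cbc7d) (.node (nat_lit 0x89d3b663555) (.leaf (nat_lit 0x89d36ccf555) (nat_lit 2306))
 (.node (nat_lit 0x89e048cc0fd) (.leaf (nat_lit 0x89d3b663555) (nat_lit 3073))
 (.leaf (nat_lit 0x89e048cc0fd) (nat_lit 2817))
)) (.node (nat_lit 0x89e25e212be) (.leaf (nat_lit 0x89e049cbc7d) (nat_lit 2818))
 (.node (nat_lit 0x89e3440ea4f) (.leaf (nat_lit 0x89e25e212be) (nat_lit 3328))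
 (.leaf (nat_lit 0x89e3440ea4f) (nat_lit 2818))
))))) (.node (nat_lit 0x8b00e4dbcf4) (.node (nat_lit 0x89e968640b0) (.node (nat_lit 0x89e3fc968b0) (.node (nat_lit 0x89e3fc0caaf) (.leaf (nat_lit 0x89e345a9a77) (nat_lit 2817))
 (.leaf (nat_lit 0x89e3fc0caaf) (nat_lit 2562))
) (.node (nat_lit 0x89e485a2cf1) (.leaf (nat_lit 0x89e3fc968b0) (nat_lit 3074))
 (.node (nat_lit 0x89e485a80fd) (.leaf (nat_lit 0x89e485a2cf1) (nat_lit 3585))
 (.leaf (nat_lit 0x89e485a80fd) (nat_lit 1792))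
))) (.node (nat_lit 0x89eae863ca9) (.node (nat_lit 0x89ea75ac9d5) (.leaf (nat_lit 0x89e968640b0) (nat_lit 2561))
 (.node (nat_lit 0x89ea75c1abe) (.leaf (nat_lit 0x89ea75ac9d5) (nat_lit 2561))
 (.leaf (nat_lit 0x89ea75c1abe) (nat_lit 2562))
)) (.node (nat_lit 0x89f069e9277) (.leaf (nat_lit 0x89eae863ca9) (nat_lit 3074))
 (.node (nat_lit 0x89f3ac0ca4f) (.leaf (nat_lit 0x89f069e9277) (nat_lit 3074))
 (.leaf (nat_lit 0x89f3ac0ca4f) (nat_lit 3329))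
)))) (.node (nat_lit 0x8b0675f33cc) (.node (nat_lit 0x8b01540782a) (.node (nat_lit 0x8b00e57f57f) (.leaf (nat_lit 0x8b00e4dbcf4) (nat_lit 3841))
 (.node (nat_lit 0x8b00f5c4d7f) (.leaf (nat_lit 0x8b00e57f57f) (nat_lit 3073))
 (.leaf (nat_lit 0x8b00f5c4d7f) (nat_lit 3074))
)) (.node (nat_lit 0x8b042c0782a) (.leaf (nat_lit 0x8b01540782a) (nat_lit 2817))
 (.node (nat_lit 0x8b05e8c9a35) (.leaf (nat_lit 0x8b042c0782a) (nat_lit 3072))
 (.leaf (nat_lit 0x8b05e8c9a35) (nat_lit 2817))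
))) (.node (nat_lit 0x8b11fd52a05) (.node (nat_lit 0x8b0a0e22bcc) (.leaf (nat_lit 0x8b0675f33cc) (nat_lit 2817))
 (.node (nat_lit 0x8b0d80dbb62) (.leaf (nat_lit 0x8b0a0e22bcc) (nat_lit 2816))
 (.leaf (nat_lit 0x8b0d80dbb62) (nat_lit 2049))
)) (.node (nat_lit 0x8b138222c98) (.leaf (nat_lit 0x8b11fd52a05) (nat_lit 3073))
 (.node (nat_lit 0x8b13f552d0d) (.leaf (nat_lit 0x8b138222c98) (nat_lit 3074))
 (.leaf (nat_lit 0x8b13f552d0d) (nat_lit 2561))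
)))))) (.node (nat_lit 0x8d05d1bd271) (.node (nat_lit 0x8ba9321ba7f) (.node (nat_lit 0x8ba1aa9bd0c) (.node (nat_lit 0x8b15b1c7205) (.node (nat_lit 0x8b1415c4c3a) (.leaf (nat_lit 0x8b13f95acf4) (nat_lit 2561))
 (.leaf (nat_lit 0x8b1415c4c3a) (nat_lit 3330))
) (.node (nat_lit 0x8ba0e605b64) (.leaf (nat_lit 0x8b15b1c7205) (nat_lit 3330))
 (.node (nat_lit 0x8ba0e69bd30) (.leaf (nat_lit 0x8ba0e605b64) (nat_lit 2050))
 (.leaf (nat_lit 0x8ba0e69bd30) (nat_lit 3074))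
))) (.node (nat_lit 0x8ba584c6a34) (.node (nat_lit 0x8ba2b21ba7f) (.leaf (nat_lit 0x8ba1aa9bd0c) (nat_lit 3330))
 (.node (nat_lit 0x8ba389b6499) (.leaf (nat_lit 0x8ba2b21ba7f) (nat_lit 2817))
 (.leaf (nat_lit 0x8ba389b6499) (nat_lit 2562))
)) (.node (nat_lit 0x8ba5d613c39) (.leaf (nat_lit 0x8ba584c6a34) (nat_lit 3072))
 (.node (nat_lit 0x8ba75df3b66) (.leaf (nat_lit 0x8ba5d613c39) (nat_lit 3073))
 (.leaf (nat_lit 0x8ba75df3b66) (nat_lit 2817))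
)))) (.node (nat_lit 0x8bb5595ba7b) (.node (nat_lit 0x8bafd5c7a50) (.node (nat_lit 0x8ba9c9b627b) (.leaf (nat_lit 0x8ba9321ba7f) (nat_lit 2304))
 (.node (nat_lit 0x8bad857e530) (.leaf (nat_lit 0x8ba9c9b627b) (nat_lit 2817))
 (.leaf (nat_lit 0x8bad857e530) (nat_lit 3074))
)) (.node (nat_lit 0x8bb19a05b66) (.leaf (nat_lit 0x8bafd5c7a50) (nat_lit 3074))
 (.node (nat_lit 0x8bb52613a50) (.leaf (nat_lit 0x8bb19a05b66) (nat_lit 2561))
 (.leaf (nat_lit 0x8bb52613a50) (nat_lit 2305))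
))) (.node (nat_lit 0x8d01a89f439) (.node (nat_lit 0x8d00e5f3b71) (.leaf (nat_lit 0x8bb5595ba7b) (nat_lit 2817))
 (.node (nat_lit 0x8d00e66157e) (.leaf (nat_lit 0x8d00e5f3b71) (nat_lit 3073))
 (.leaf (nat_lit 0x8d00e66157e) (nat_lit 2561))
)) (.node (nat_lit 0x8d042cfeb0e) (.leaf (nat_lit 0x8d01a89f439) (nat_lit 3072))
 (.node (nat_lit 0x8d0438f72e0) (.leaf (nat_lit 0x8d042cfeb0e) (nat_lit 3329))
 (.leaf (nat_lit 0x8d0438f72e0) (nat_lit 2817))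
))))) (.node (nat_lit 0x8d60e5e3cf4) (.node (nat_lit 0x8d117245556) (.node (nat_lit 0x8d0d00feb71) (.node (nat_lit 0x8d080d7f484) (.leaf (nat_lit 0x8d05d1bd271) (nat_lit 2304))
 (.leaf (nat_lit 0x8d080d7f484) (nat_lit 2816))
) (.node (nat_lit 0x8d1062133cc) (.leaf (nat_lit 0x8d0d00feb71) (nat_lit 2817))
 (.node (nat_lit 0x8d116638aeb) (.leaf (nat_lit 0x8d1062133cc) (nat_lit 3586))
 (.leaf (nat_lit 0x8d116638aeb) (nat_lit 2305))
))) (.node (nat_lit 0x8d13ba613cc) (.node (nat_lit 0x8d139dbd271) (.leaf (nat_lit 0x8d117245556) (nat_lit 2817))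
 (.node (nat_lit 0x8d13b2452e0) (.leaf (nat_lit 0x8d139dbd271) (nat_lit 3328))
 (.leaf (nat_lit 0x8d13b2452e0) (nat_lit 2817))
)) (.node (nat_lit 0x8d13c57f439) (.leaf (nat_lit 0x8d13ba613cc) (nat_lit 3586))
 (.node (nat_lit 0x8d60e5ac0a3) (.leaf (nat_lit 0x8d13c57f439) (nat_lit 3328))
 (.leaf (nat_lit 0x8d60e5ac0a3) (nat_lit 2561))
)))) (.node (nat_lit 0x8d6b500c8c3) (.node (nat_lit 0x8d65fe29174) (.node (nat_lit 0x8d637cdb371) (.leaf (nat_lit 0x8d60e5e3cf4) (nat_lit 3074))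
 (.node (nat_lit 0x8d63880c845) (.leaf (nat_lit 0x8d637cdb371) (nat_lit 3074))
 (.leaf (nat_lit 0x8d63880c845) (nat_lit 2818))
)) (.node (nat_lit 0x8d693159480) (.leaf (nat_lit 0x8d65fe29174) (nat_lit 2816))
 (.node (nat_lit 0x8d69c8fb174) (.leaf (nat_lit 0x8d693159480) (nat_lit 2818))
 (.leaf (nat_lit 0x8d69c8fb174) (nat_lit 2305))
))) (.node (nat_lit 0x8d6d81efa94) (.node (nat_lit 0x8d6c145eab8) (.leaf (nat_lit 0x8d6b500c8c3) (nat_lit 3073))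
 (.node (nat_lit 0x8d6d2263a94) (.leaf (nat_lit 0x8d6c145eab8) (nat_lit 2305))
 (.leaf (nat_lit 0x8d6d2263a94) (nat_lit 3330))
)) (.node (nat_lit 0x8d717039240) (.leaf (nat_lit 0x8d6d81efa94) (nat_lit 2562))
 (.node (nat_lit 0x8d735dc18a3) (.leaf (nat_lit 0x8d717039240) (nat_lit 2049))
 (.leaf (nat_lit 0x8d735dc18a3) (nat_lit 3328))
)))))))))) (.node (nat_lit 0x9875c00c90d) (.node (nat_lit 0x9133a605d0d) (.node (nat_lit 0x8e33bdcfd60) (.node (nat_lit 0x8dcfe1d2c7b) (.node (nat_lit 0x8da905c4c7d) (.node (nat_lit 0x8d8aa40cae9) (.node (nat_lit 0x8d842d99ce4) (.node (nat_lit 0x8d80e5d54a0) (.node (nat_lit 0x8d75d91c0c3) (.leaf (nat_lit 0x8d745817ab8) (nat_lit 3329))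
 (.leaf (nat_lit 0x8d75d91c0c3) (nat_lit 3073))
) (.node (nat_lit 0x8d80e6bec81) (.leaf (nat_lit 0x8d80e5d54a0) (nat_lit 3072))
 (.node (nat_lit 0x8d815cb2bf5) (.leaf (nat_lit 0x8d80e6bec81) (nat_lit 3329))
 (.leaf (nat_lit 0x8d815cb2bf5) (nat_lit 3585))
))) (.node (nat_lit 0x8d8670e1b70) (.node (nat_lit 0x8d84ca92ae9) (.leaf (nat_lit 0x8d842d99ce4) (nat_lit 3073))
 (.node (nat_lit 0x8d85d5d1c39) (.leaf (nat_lit 0x8d84ca92ae9) (nat_lit 2817))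
 (.leaf (nat_lit 0x8d85d5d1c39) (nat_lit 2816))
)) (.node (nat_lit 0x8d8951d2ce4) (.leaf (nat_lit 0x8d8670e1b70) (nat_lit 2817))
 (.node (nat_lit 0x8d89ec0ca41) (.leaf (nat_lit 0x8d8951d2ce4) (nat_lit 2561))
 (.leaf (nat_lit 0x8d89ec0ca41) (nat_lit 3586))
)))) (.node (nat_lit 0x8d9418ccc39) (.node (nat_lit 0x8d8b41c2ca0) (.node (nat_lit 0x8d8b345b047) (.leaf (nat_lit 0x8d8aa40cae9) (nat_lit 2816))
 (.leaf (nat_lit 0x8d8b345b047) (nat_lit 2562))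
) (.node (nat_lit 0x8d93f4213f5) (.leaf (nat_lit 0x8d8b41c2ca0) (nat_lit 2818))
 (.node (nat_lit 0x8d93fdcf4f5) (.leaf (nat_lit 0x8d93f4213f5) (nat_lit 3328))
 (.leaf (nat_lit 0x8d93fdcf4f5) (nat_lit 3073))
))) (.node (nat_lit 0x8da0e6139b1) (.node (nat_lit 0x8da0b0f7c7d) (.leaf (nat_lit 0x8d9418ccc39) (nat_lit 3073))
 (.node (nat_lit 0x8da0e5768ba) (.leaf (nat_lit 0x8da0b0f7c7d) (nat_lit 3072))
 (.leaf (nat_lit 0x8da0e5768ba) (nat_lit 3073))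
)) (.node (nat_lit 0x8da175121b1) (.leaf (nat_lit 0x8da0e6139b1) (nat_lit 3329))
 (.node (nat_lit 0x8da75ca10ef) (.leaf (nat_lit 0x8da175121b1) (nat_lit 3073))
 (.leaf (nat_lit 0x8da75ca10ef) (nat_lit 2818))
))))) (.node (nat_lit 0x8dc638b5000) (.node (nat_lit 0x8dae02a837f) (.node (nat_lit 0x8da9dd12557) (.node (nat_lit 0x8da95a382e9) (.leaf (nat_lit 0x8da905c4c7d) (nat_lit 2818))
 (.leaf (nat_lit 0x8da95a382e9) (nat_lit 2562))
) (.node (nat_lit 0x8dad05c4d7f) (.leaf (nat_lit 0x8da9dd12557) (nat_lit 2049))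
 (.node (nat_lit 0x8dad25768ba) (.leaf (nat_lit 0x8dad05c4d7f) (nat_lit 3073))
 (.leaf (nat_lit 0x8dad25768ba) (nat_lit 2561))
))) (.node (nat_lit 0x8db3f4f8309) (.node (nat_lit 0x8daf2aa8485) (.leaf (nat_lit 0x8dae02a837f) (nat_lit 3072))
 (.node (nat_lit 0x8db35df337f) (.leaf (nat_lit 0x8daf2aa8485) (nat_lit 3328))
 (.leaf (nat_lit 0x8db35df337f) (nat_lit 3074))
)) (.node (nat_lit 0x8db474f80ef) (.leaf (nat_lit 0x8db3f4f8309) (nat_lit 2049))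
 (.node (nat_lit 0x8dc58c96000) (.leaf (nat_lit 0x8db474f80ef) (nat_lit 2049))
 (.leaf (nat_lit 0x8dc58c96000) (nat_lit 3074))
)))) (.node (nat_lit 0x8dcb0018000) (.node (nat_lit 0x8dca4843800) (.node (nat_lit 0x8dc85c65800) (.leaf (nat_lit 0x8dc638b5000) (nat_lit 1026))
 (.node (nat_lit 0x8dc954cfa59) (.leaf (nat_lit 0x8dc85c65800) (nat_lit 3073))
 (.leaf (nat_lit 0x8dc954cfa59) (nat_lit 3073))
)) (.node (nat_lit 0x8dca490f0a1) (.leaf (nat_lit 0x8dca4843800) (nat_lit 2817))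
 (.node (nat_lit 0x8dcb000c800) (.leaf (nat_lit 0x8dca490f0a1) (nat_lit 2305))
 (.leaf (nat_lit 0x8dcb000c800) (nat_lit 2561))
))) (.node (nat_lit 0x8dcc8445000) (.node (nat_lit 0x8dcc5c35827) (.leaf (nat_lit 0x8dcb0018000) (nat_lit 3073))
 (.node (nat_lit 0x8dcc5c59000) (.leaf (nat_lit 0x8dcc5c35827) (nat_lit 2817))
 (.leaf (nat_lit 0x8dcc5c59000) (nat_lit 3330))
)) (.node (nat_lit 0x8dcc84fbb0d) (.leaf (nat_lit 0x8dcc8445000) (nat_lit 2817))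
 (.node (nat_lit 0x8dcfe097000) (.leaf (nat_lit 0x8dcc84fbb0d) (nat_lit 2818))
 (.leaf (nat_lit 0x8dcfe097000) (nat_lit 3330))
)))))) (.node (nat_lit 0x8e06ad04d5e) (.node (nat_lit 0x8de83ca0b0c) (.node (nat_lit 0x8de349d5477) (.node (nat_lit 0x8de295dab0c) (.node (nat_lit 0x8dd2c80c800) (.leaf (nat_lit 0x8dcfe1d2c7b) (nat_lit 3329))
 (.leaf (nat_lit 0x8dd2c80c800) (nat_lit 1537))
) (.node (nat_lit 0x8de295e10a2) (.leaf (nat_lit 0x8de295dab0c) (nat_lit 2560))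
 (.node (nat_lit 0x8de3491e0a2) (.leaf (nat_lit 0x8de295e10a2) (nat_lit 2049))
 (.leaf (nat_lit 0x8de3491e0a2) (nat_lit 2561))
))) (.node (nat_lit 0x8de5880c825) (.node (nat_lit 0x8de3dc0c825) (.leaf (nat_lit 0x8de349d5477) (nat_lit 2304))
 (.node (nat_lit 0x8de3de8ac77) (.leaf (nat_lit 0x8de3dc0c825) (nat_lit 2817))
 (.leaf (nat_lit 0x8de3de8ac77) (nat_lit 3330))
)) (.node (nat_lit 0x8de640bb30c) (.leaf (nat_lit 0x8de5880c825) (nat_lit 3328))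
 (.node (nat_lit 0x8de83c36025) (.leaf (nat_lit 0x8de640bb30c) (nat_lit 1026))
 (.leaf (nat_lit 0x8de83c36025) (nat_lit 3073))
)))) (.node (nat_lit 0x8df2c1d1c77) (.node (nat_lit 0x8de944f1a5a) (.node (nat_lit 0x8de858f60a2) (.leaf (nat_lit 0x8de83ca0b0c) (nat_lit 1794))
 (.leaf (nat_lit 0x8de858f60a2) (nat_lit 2305))
) (.node (nat_lit 0x8dea64e1a5a) (.leaf (nat_lit 0x8de944f1a5a) (nat_lit 2562))
 (.node (nat_lit 0x8dea662925a) (.leaf (nat_lit 0x8dea64e1a5a) (nat_lit 3329))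
 (.leaf (nat_lit 0x8dea662925a) (nat_lit 3330))
))) (.node (nat_lit 0x8e02ad5bd5e) (.node (nat_lit 0x8e00e617d5e) (.leaf (nat_lit 0x8df2c1d1c77) (nat_lit 1793))
 (.node (nat_lit 0x8e00e63455e) (.leaf (nat_lit 0x8e00e617d5e) (nat_lit 2306))
 (.leaf (nat_lit 0x8e00e63455e) (nat_lit 3584))
)) (.node (nat_lit 0x8e039104d5e) (.leaf (nat_lit 0x8e02ad5bd5e) (nat_lit 3074))
 (.node (nat_lit 0x8e048e8755e) (.leaf (nat_lit 0x8e039104d5e) (nat_lit 3330))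
 (.leaf (nat_lit 0x8e048e8755e) (nat_lit 3330))
))))) (.node (nat_lit 0x8e20e687d60) (.node (nat_lit 0x8e10655bd5e) (.node (nat_lit 0x8e0a3cec55e) (.node (nat_lit 0x8e080950d5e) (.leaf (nat_lit 0x8e06ad04d5e) (nat_lit 2560))
 (.leaf (nat_lit 0x8e080950d5e) (nat_lit 2817))
) (.node (nat_lit 0x8e0b41b6d5e) (.leaf (nat_lit 0x8e0a3cec55e) (nat_lit 2817))
 (.node (nat_lit 0x8e0d01ea55e) (.leaf (nat_lit 0x8e0b41b6d5e) (nat_lit 2818))
 (.leaf (nat_lit 0x8e0d01ea55e) (nat_lit 2816))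
))) (.node (nat_lit 0x8e1458ec55e) (.node (nat_lit 0x8e107217d5e) (.leaf (nat_lit 0x8e10655bd5e) (nat_lit 1538))
 (.node (nat_lit 0x8e11fdb6d5e) (.leaf (nat_lit 0x8e107217d5e) (nat_lit 2561))
 (.leaf (nat_lit 0x8e11fdb6d5e) (nat_lit 3328))
)) (.node (nat_lit 0x8e1571f555e) (.leaf (nat_lit 0x8e1458ec55e) (nat_lit 3586))
 (.node (nat_lit 0x8e20e5cfd60) (.leaf (nat_lit 0x8e1571f555e) (nat_lit 2049))
 (.leaf (nat_lit 0x8e20e5cfd60) (nat_lit 2817))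
)))) (.node (nat_lit 0x8e25f9fd560) (.node (nat_lit 0x8e2354fd560) (.node (nat_lit 0x8e20f5ead60) (.leaf (nat_lit 0x8e20e687d60) (nat_lit 1792))
 (.node (nat_lit 0x8e22b1ddd60) (.leaf (nat_lit 0x8e20f5ead60) (nat_lit 3330))
 (.leaf (nat_lit 0x8e22b1ddd60) (nat_lit 3074))
)) (.node (nat_lit 0x8e2375ddd60) (.leaf (nat_lit 0x8e2354fd560) (nat_lit 3330))
 (.node (nat_lit 0x8e2380fd560) (.leaf (nat_lit 0x8e2375ddd60) (nat_lit 1793))
 (.leaf (nat_lit 0x8e2380fd560) (nat_lit 2560))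
))) (.node (nat_lit 0x8e2c4e22560) (.node (nat_lit 0x8e295df5d60) (.leaf (nat_lit 0x8e25f9fd560) (nat_lit 3328))
 (.node (nat_lit 0x8e2b3622560) (.leaf (nat_lit 0x8e295df5d60) (nat_lit 2562))
 (.leaf (nat_lit 0x8e2b3622560) (nat_lit 2305))
)) (.node (nat_lit 0x8e2d2236d60) (.leaf (nat_lit 0x8e2c4e22560) (nat_lit 2048))
 (.node (nat_lit 0x8e316dfd560) (.leaf (nat_lit 0x8e2d2236d60) (nat_lit 1537))
 (.leaf (nat_lit 0x8e316dfd560) (nat_lit 1538))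
))))))) (.node (nat_lit 0x8e938245bcc) (.node (nat_lit 0x8e63dca0527) (.node (nat_lit 0x8e4a580c84f) (.node (nat_lit 0x8e43c594b7f) (.node (nat_lit 0x8e40f21c37f) (.node (nat_lit 0x8e352952d60) (.leaf (nat_lit 0x8e33bdcfd60) (nat_lit 3073))
 (.leaf (nat_lit 0x8e352952d60) (nat_lit 3073))
) (.node (nat_lit 0x8e4359ac9d5) (.leaf (nat_lit 0x8e40f21c37f) (nat_lit 2817))
 (.node (nat_lit 0x8e43c51ba5e) (.leaf (nat_lit 0x8e4359ac9d5) (nat_lit 2817))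
 (.leaf (nat_lit 0x8e43c51ba5e) (nat_lit 3072))
))) (.node (nat_lit 0x8e485e34bd1) (.node (nat_lit 0x8e4639b9519) (.leaf (nat_lit 0x8e43c594b7f) (nat_lit 3329))
 (.node (nat_lit 0x8e4639bc9d5) (.leaf (nat_lit 0x8e4639b9519) (nat_lit 1538))
 (.leaf (nat_lit 0x8e4639bc9d5) (nat_lit 2817))
)) (.node (nat_lit 0x8e4a4a023d1) (.leaf (nat_lit 0x8e485e34bd1) (nat_lit 2818))
 (.node (nat_lit 0x8e4a4a630f0) (.leaf (nat_lit 0x8e4a4a023d1) (nat_lit 1794))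
 (.leaf (nat_lit 0x8e4a4a630f0) (nat_lit 2049))
)))) (.node (nat_lit 0x8e520da9574) (.node (nat_lit 0x8e4c3c0cce6) (.node (nat_lit 0x8e4a586284f) (.leaf (nat_lit 0x8e4a580c84f) (nat_lit 3072))
 (.leaf (nat_lit 0x8e4a586284f) (nat_lit 2561))
) (.node (nat_lit 0x8e4c3c3eaeb) (.leaf (nat_lit 0x8e4c3c0cce6) (nat_lit 2560))
 (.node (nat_lit 0x8e4c5c9eaeb) (.leaf (nat_lit 0x8e4c3c3eaeb) (nat_lit 2816))
 (.leaf (nat_lit 0x8e4c5c9eaeb) (nat_lit 2817))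
))) (.node (nat_lit 0x8e60fd819d3) (.node (nat_lit 0x8e60ec0ca5f) (.leaf (nat_lit 0x8e520da9574) (nat_lit 3074))
 (.node (nat_lit 0x8e60fca09d3) (.leaf (nat_lit 0x8e60ec0ca5f) (nat_lit 2306))
 (.leaf (nat_lit 0x8e60fca09d3) (nat_lit 2816))
)) (.node (nat_lit 0x8e634a8ad18) (.leaf (nat_lit 0x8e60fd819d3) (nat_lit 3072))
 (.node (nat_lit 0x8e63dc0f06e) (.leaf (nat_lit 0x8e634a8ad18) (nat_lit 2817))
 (.leaf (nat_lit 0x8e63dc0f06e) (nat_lit 2305))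
))))) (.node (nat_lit 0x8e80e6133cc) (.node (nat_lit 0x8e6fd80cb06) (.node (nat_lit 0x8e658996ac5) (.node (nat_lit 0x8e658865b06) (.leaf (nat_lit 0x8e63dca0527) (nat_lit 2561))
 (.leaf (nat_lit 0x8e658865b06) (nat_lit 2817))
) (.node (nat_lit 0x8e6858fb8ef) (.leaf (nat_lit 0x8e658996ac5) (nat_lit 3329))
 (.node (nat_lit 0x8e6c56924e8) (.leaf (nat_lit 0x8e6858fb8ef) (nat_lit 2818))
 (.leaf (nat_lit 0x8e6c56924e8) (nat_lit 2816))
))) (.node (nat_lit 0x8e72985e86e) (.node (nat_lit 0x8e6fda1dd27) (.leaf (nat_lit 0x8e6fd80cb06) (nat_lit 1793))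
 (.node (nat_lit 0x8e720abe575) (.leaf (nat_lit 0x8e6fda1dd27) (nat_lit 2818))
 (.leaf (nat_lit 0x8e720abe575) (nat_lit 3329))
)) (.node (nat_lit 0x8e729958ac5) (.leaf (nat_lit 0x8e72985e86e) (nat_lit 2816))
 (.node (nat_lit 0x8e80e4c6989) (.leaf (nat_lit 0x8e729958ac5) (nat_lit 3329))
 (.leaf (nat_lit 0x8e80e4c6989) (nat_lit 2306))
)))) (.node (nat_lit 0x8e89de13557) (.node (nat_lit 0x8e843104b64) (.node (nat_lit 0x8e82bc0802c) (.leaf (nat_lit 0x8e80e6133cc) (nat_lit 1794))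
 (.node (nat_lit 0x8e82dcc6989) (.leaf (nat_lit 0x8e82bc0802c) (nat_lit 2304))
 (.leaf (nat_lit 0x8e82dcc6989) (nat_lit 1537))
)) (.node (nat_lit 0x8e85809fd70) (.leaf (nat_lit 0x8e843104b64) (nat_lit 2818))
 (.node (nat_lit 0x8e89d512d57) (.leaf (nat_lit 0x8e85809fd70) (nat_lit 3329))
 (.leaf (nat_lit 0x8e89d512d57) (nat_lit 2818))
))) (.node (nat_lit 0x8e907112b64) (.node (nat_lit 0x8e8b2904d26) (.leaf (nat_lit 0x8e89de13557) (nat_lit 2816))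
 (.node (nat_lit 0x8e8b368725d) (.leaf (nat_lit 0x8e8b2904d26) (nat_lit 2305))
 (.leaf (nat_lit 0x8e8b368725d) (nat_lit 2304))
)) (.node (nat_lit 0x8e9159cf924) (.leaf (nat_lit 0x8e907112b64) (nat_lit 2818))
 (.node (nat_lit 0x8e919a45d26) (.leaf (nat_lit 0x8e9159cf924) (nat_lit 2818))
 (.leaf (nat_lit 0x8e919a45d26) (nat_lit 2817))
)))))) (.node (nat_lit 0x91058135085) (.node (nat_lit 0x8eac26a84d6) (.node (nat_lit 0x8ea2180782a) (.node (nat_lit 0x8ea0e4f8925) (.node (nat_lit 0x8e93c6a9272) (.leaf (nat_lit 0x8e938245bcc) (nat_lit 2305))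
 (.leaf (nat_lit 0x8e93c6a9272) (nat_lit 3074))
) (.node (nat_lit 0x8ea0e5cda95) (.leaf (nat_lit 0x8ea0e4f8925) (nat_lit 3073))
 (.node (nat_lit 0x8ea0f5c525c) (.leaf (nat_lit 0x8ea0e5cda95) (nat_lit 3328))
 (.leaf (nat_lit 0x8ea0f5c525c) (nat_lit 2560))
))) (.node (nat_lit 0x8ea905c52c3) (.node (nat_lit 0x8ea5f4a2bd0) (.leaf (nat_lit 0x8ea2180782a) (nat_lit 2048))
 (.node (nat_lit 0x8ea80cda56e) (.leaf (nat_lit 0x8ea5f4a2bd0) (nat_lit 2561))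
 (.leaf (nat_lit 0x8ea80cda56e) (nat_lit 3329))
)) (.node (nat_lit 0x8ea9c02c8e8) (.leaf (nat_lit 0x8ea905c52c3) (nat_lit 1793))
 (.node (nat_lit 0x8eaa68da3d0) (.leaf (nat_lit 0x8ea9c02c8e8) (nat_lit 2817))
 (.leaf (nat_lit 0x8eaa68da3d0) (nat_lit 2561))
)))) (.node (nat_lit 0x8eb5702c8e8) (.node (nat_lit 0x8eb0ea87ac3) (.node (nat_lit 0x8eafd5ea4d6) (.leaf (nat_lit 0x8eac26a84d6) (nat_lit 2817))
 (.leaf (nat_lit 0x8eafd5ea4d6) (nat_lit 2561))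
) (.node (nat_lit 0x8eb150f8a95) (.leaf (nat_lit 0x8eb0ea87ac3) (nat_lit 2818))
 (.node (nat_lit 0x8eb2a5ea271) (.leaf (nat_lit 0x8eb150f8a95) (nat_lit 2818))
 (.leaf (nat_lit 0x8eb2a5ea271) (nat_lit 3074))
))) (.node (nat_lit 0x9101edbe05f) (.node (nat_lit 0x9100e5f5d1a) (.leaf (nat_lit 0x8eb5702c8e8) (nat_lit 3329))
 (.node (nat_lit 0x9100e61805f) (.leaf (nat_lit 0x9100e5f5d1a) (nat_lit 2562))
 (.leaf (nat_lit 0x9100e61805f) (nat_lit 2305))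
)) (.node (nat_lit 0x910381fec99) (.leaf (nat_lit 0x9101edbe05f) (nat_lit 3074))
 (.node (nat_lit 0x910399be50c) (.leaf (nat_lit 0x910381fec99) (nat_lit 1793))
 (.leaf (nat_lit 0x910399be50c) (nat_lit 1281))
))))) (.node (nat_lit 0x9120e613b62) (.node (nat_lit 0x910fd048d6a) (.node (nat_lit 0x91090448d6a) (.node (nat_lit 0x91075dee11c) (.leaf (nat_lit 0x91058135085) (nat_lit 3073))
 (.leaf (nat_lit 0x91075dee11c) (nat_lit 2562))
) (.node (nat_lit 0x910d00fe94e) (.leaf (nat_lit 0x91090448d6a) (nat_lit 3329))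
 (.node (nat_lit 0x910dbd1551a) (.leaf (nat_lit 0x910d00fe94e) (nat_lit 3073))
 (.leaf (nat_lit 0x910dbd1551a) (nat_lit 2306))
))) (.node (nat_lit 0x911471f5b64) (.node (nat_lit 0x91135dcd94e) (.leaf (nat_lit 0x910fd048d6a) (nat_lit 2305))
 (.node (nat_lit 0x91145dfe91c) (.leaf (nat_lit 0x91135dcd94e) (nat_lit 2305))
 (.leaf (nat_lit 0x91145dfe91c) (nat_lit 2305))
)) (.node (nat_lit 0x91147dcdc39) (.leaf (nat_lit 0x911471f5b64) (nat_lit 2560))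
 (.node (nat_lit 0x9120e5b6480) (.leaf (nat_lit 0x91147dcdc39) (nat_lit 2562))
 (.leaf (nat_lit 0x9120e5b6480) (nat_lit 2562))
)))) (.node (nat_lit 0x91280e05bf9) (.node (nat_lit 0x912434fe3f9) (.node (nat_lit 0x9123569bc98) (.leaf (nat_lit 0x9120e613b62) (nat_lit 3074))
 (.node (nat_lit 0x91243109925) (.leaf (nat_lit 0x9123569bc98) (nat_lit 2561))
 (.leaf (nat_lit 0x91243109925) (nat_lit 2818))
)) (.node (nat_lit 0x9125d135886) (.leaf (nat_lit 0x912434fe3f9) (nat_lit 3330))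
 (.node (nat_lit 0x912675ed4a0) (.leaf (nat_lit 0x9125d135886) (nat_lit 3072))
 (.leaf (nat_lit 0x912675ed4a0) (nat_lit 1793))
))) (.node (nat_lit 0x912efa9bd57) (.node (nat_lit 0x9129ed12d57) (.leaf (nat_lit 0x91280e05bf9) (nat_lit 3073))
 (.node (nat_lit 0x912b0db643a) (.leaf (nat_lit 0x9129ed12d57) (nat_lit 2305))
 (.leaf (nat_lit 0x912b0db643a) (nat_lit 3329))
)) (.node (nat_lit 0x91306613ca0) (.leaf (nat_lit 0x912efa9bd57) (nat_lit 3586))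
 (.node (nat_lit 0x91324909925) (.leaf (nat_lit 0x91306613ca0) (nat_lit 3329))
 (.leaf (nat_lit 0x91324909925) (nat_lit 2561))
)))))))) (.node (nat_lit 0x920fd8f1ae2) (.node (nat_lit 0x91955d924b3) (.node (nat_lit 0x916434dc4e5) (.node (nat_lit 0x914e0150a7a) (.node (nat_lit 0x9145ea11d3f) (.node (nat_lit 0x9140e5358c1) (.node (nat_lit 0x91347617c80) (.leaf (nat_lit 0x9133a605d0d) (nat_lit 513))
 (.leaf (nat_lit 0x91347617c80) (nat_lit 2817))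
) (.node (nat_lit 0x9140e60691c) (.leaf (nat_lit 0x9140e5358c1) (nat_lit 2818))
 (.node (nat_lit 0x9143823a91c) (.leaf (nat_lit 0x9140e60691c) (nat_lit 2304))
 (.leaf (nat_lit 0x9143823a91c) (nat_lit 2816))
))) (.node (nat_lit 0x9149321f362) (.node (nat_lit 0x9146055bb62) (.leaf (nat_lit 0x9145ea11d3f) (nat_lit 3328))
 (.node (nat_lit 0x91491e1f4d9) (.leaf (nat_lit 0x9146055bb62) (nat_lit 2049))
 (.leaf (nat_lit 0x91491e1f4d9) (nat_lit 3074))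
)) (.node (nat_lit 0x9149a44956d) (.leaf (nat_lit 0x9149321f362) (nat_lit 2304))
 (.node (nat_lit 0x914b55358c1) (.leaf (nat_lit 0x9149a44956d) (nat_lit 3072))
 (.leaf (nat_lit 0x914b55358c1) (nat_lit 2306))
)))) (.node (nat_lit 0x91555206a7b) (.node (nat_lit 0x9150663acd9) (.node (nat_lit 0x914f2d5ba7b) (.leaf (nat_lit 0x914e0150a7a) (nat_lit 2306))
 (.leaf (nat_lit 0x914f2d5ba7b) (nat_lit 2560))
) (.node (nat_lit 0x9151f5fd3c0) (.leaf (nat_lit 0x9150663acd9) (nat_lit 2560))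
 (.node (nat_lit 0x91538cd3a9e) (.leaf (nat_lit 0x9151f5fd3c0) (nat_lit 2817))
 (.leaf (nat_lit 0x91538cd3a9e) (nat_lit 3330))
))) (.node (nat_lit 0x916155c4065) (.node (nat_lit 0x9160e552af4) (.leaf (nat_lit 0x91555206a7b) (nat_lit 2562))
 (.node (nat_lit 0x9160e5e227f) (.leaf (nat_lit 0x9160e552af4) (nat_lit 3585))
 (.leaf (nat_lit 0x9160e5e227f) (nat_lit 1794))
)) (.node (nat_lit 0x9161edc429f) (.leaf (nat_lit 0x916155c4065) (nat_lit 2562))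
 (.node (nat_lit 0x9163f600ce5) (.leaf (nat_lit 0x9161edc429f) (nat_lit 3329))
 (.leaf (nat_lit 0x9163f600ce5) (nat_lit 2816))
))))) (.node (nat_lit 0x9180e61c498) (.node (nat_lit 0x916e09e22f4) (.node (nat_lit 0x9169e0d9c07) (.node (nat_lit 0x9168d448d6a) (.leaf (nat_lit 0x916434dc4e5) (nat_lit 2817))
 (.leaf (nat_lit 0x9168d448d6a) (nat_lit 3329))
) (.node (nat_lit 0x916aa5f51ac) (.leaf (nat_lit 0x9169e0d9c07) (nat_lit 2049))
 (.node (nat_lit 0x916abcdc3be) (.leaf (nat_lit 0x916aa5f51ac) (nat_lit 3073))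
 (.leaf (nat_lit 0x916abcdc3be) (nat_lit 3586))
))) (.node (nat_lit 0x9174a8d9c07) (.node (nat_lit 0x91716e111ac) (.leaf (nat_lit 0x916e09e22f4) (nat_lit 3073))
 (.node (nat_lit 0x917434d3065) (.leaf (nat_lit 0x91716e111ac) (nat_lit 2817))
 (.leaf (nat_lit 0x917434d3065) (nat_lit 2816))
)) (.node (nat_lit 0x917525f553e) (.leaf (nat_lit 0x9174a8d9c07) (nat_lit 2561))
 (.node (nat_lit 0x9180e43b8c1) (.leaf (nat_lit 0x917525f553e) (nat_lit 2817))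
 (.leaf (nat_lit 0x9180e43b8c1) (nat_lit 2304))
)))) (.node (nat_lit 0x918901cb282) (.node (nat_lit 0x91843035c14) (.node (nat_lit 0x9181ed99c98) (.leaf (nat_lit 0x9180e61c498) (nat_lit 2305))
 (.node (nat_lit 0x9183811e060) (.leaf (nat_lit 0x9181ed99c98) (nat_lit 2818))
 (.leaf (nat_lit 0x9183811e060) (nat_lit 2818))
)) (.node (nat_lit 0x91858466267) (.leaf (nat_lit 0x91843035c14) (nat_lit 3074))
 (.node (nat_lit 0x918759d1a9f) (.leaf (nat_lit 0x91858466267) (nat_lit 3072))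
 (.leaf (nat_lit 0x918759d1a9f) (nat_lit 1794))
))) (.node (nat_lit 0x918fdc0ca67) (.node (nat_lit 0x918a6cf1d30) (.leaf (nat_lit 0x918901cb282) (nat_lit 2560))
 (.node (nat_lit 0x918ba0a5d30) (.leaf (nat_lit 0x918a6cf1d30) (nat_lit 2561))
 (.leaf (nat_lit 0x918ba0a5d30) (nat_lit 2306))
)) (.node (nat_lit 0x9194300c8e5) (.leaf (nat_lit 0x918fdc0ca67) (nat_lit 3074))
 (.node (nat_lit 0x91945a6429f) (.leaf (nat_lit 0x9194300c8e5) (nat_lit 2818))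
 (.leaf (nat_lit 0x91945a6429f) (nat_lit 2817))
)))))) (.node (nat_lit 0x91c3c40c92f) (.node (nat_lit 0x91aef8440e6) (.node (nat_lit 0x91a154b53f4) (.node (nat_lit 0x91a0e40cc15) (.node (nat_lit 0x9195dd1c8c1) (.leaf (nat_lit 0x91955d924b3) (nat_lit 3073))
 (.leaf (nat_lit 0x9195dd1c8c1) (nat_lit 3074))
) (.node (nat_lit 0x91a0e496931) (.leaf (nat_lit 0x91a0e40cc15) (nat_lit 3328))
 (.node (nat_lit 0x91a0fa48d73) (.leaf (nat_lit 0x91a0e496931) (nat_lit 2816))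
 (.leaf (nat_lit 0x91a0fa48d73) (nat_lit 2561))
))) (.node (nat_lit 0x91a43858931) (.node (nat_lit 0x91a2150dd23) (.leaf (nat_lit 0x91a154b53f4) (nat_lit 2816))
 (.node (nat_lit 0x91a3550f05f) (.leaf (nat_lit 0x91a2150dd23) (nat_lit 2305))
 (.leaf (nat_lit 0x91a3550f05f) (nat_lit 2818))
)) (.node (nat_lit 0x91a4c0a0c57) (.leaf (nat_lit 0x91a43858931) (nat_lit 2816))
 (.node (nat_lit 0x91aa3cfb457) (.leaf (nat_lit 0x91a4c0a0c57) (nat_lit 3585))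
 (.leaf (nat_lit 0x91aa3cfb457) (nat_lit 2305))
)))) (.node (nat_lit 0x91b4f80cbf4) (.node (nat_lit 0x91b3a602d23) (.node (nat_lit 0x91af2de9a7b) (.leaf (nat_lit 0x91aef8440e6) (nat_lit 2560))
 (.leaf (nat_lit 0x91af2de9a7b) (nat_lit 2560))
) (.node (nat_lit 0x91b41a314b4) (.leaf (nat_lit 0x91b3a602d23) (nat_lit 2561))
 (.node (nat_lit 0x91b471ac573) (.leaf (nat_lit 0x91b41a314b4) (nat_lit 3073))
 (.leaf (nat_lit 0x91b471ac573) (nat_lit 2050))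
))) (.node (nat_lit 0x91c101f81d2) (.node (nat_lit 0x91c0f0a02e0) (.leaf (nat_lit 0x91b4f80cbf4) (nat_lit 1024))
 (.node (nat_lit 0x91c101ab9d2) (.leaf (nat_lit 0x91c0f0a02e0) (nat_lit 3073))
 (.leaf (nat_lit 0x91c101ab9d2) (nat_lit 2817))
)) (.node (nat_lit 0x91c2986592f) (.leaf (nat_lit 0x91c101f81d2) (nat_lit 3074))
 (.node (nat_lit 0x91c2989ab1d) (.leaf (nat_lit 0x91c2986592f) (nat_lit 3074))
 (.leaf (nat_lit 0x91c2989ab1d) (nat_lit 3074))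
))))) (.node (nat_lit 0x920055ab499) (.node (nat_lit 0x91c85da2d4f) (.node (nat_lit 0x91c3ec0ca63) (.node (nat_lit 0x91c3c634d4f) (.leaf (nat_lit 0x91c3c40c92f) (nat_lit 2305))
 (.leaf (nat_lit 0x91c3c634d4f) (nat_lit 3330))
) (.node (nat_lit 0x91c461a7205) (.leaf (nat_lit 0x91c3ec0ca63) (nat_lit 2561))
 (.node (nat_lit 0x91c639b94a0) (.leaf (nat_lit 0x91c461a7205) (nat_lit 3074))
 (.leaf (nat_lit 0x91c639b94a0) (nat_lit 3073))
))) (.node (nat_lit 0x91cc8483b1d) (.node (nat_lit 0x91c85dd752d) (.leaf (nat_lit 0x91c85da2d4f) (nat_lit 2049))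
 (.node (nat_lit 0x91cb00b4989) (.leaf (nat_lit 0x91c85dd752d) (nat_lit 1538))
 (.leaf (nat_lit 0x91cb00b4989) (nat_lit 3585))
)) (.node (nat_lit 0x91cc84cfd2d) (.leaf (nat_lit 0x91cc8483b1d) (nat_lit 3073))
 (.node (nat_lit 0x92005411261) (.leaf (nat_lit 0x91cc84cfd2d) (nat_lit 2817))
 (.leaf (nat_lit 0x92005411261) (nat_lit 2050))
)))) (.node (nat_lit 0x9206410dbcc) (.node (nat_lit 0x920349cf3cc) (.node (nat_lit 0x9200ee94125) (.leaf (nat_lit 0x920055ab499) (nat_lit 2561))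
 (.node (nat_lit 0x920348f64a2) (.leaf (nat_lit 0x9200ee94125) (nat_lit 3074))
 (.leaf (nat_lit 0x920348f64a2) (nat_lit 2305))
)) (.node (nat_lit 0x9203dd52499) (.leaf (nat_lit 0x920349cf3cc) (nat_lit 2306))
 (.node (nat_lit 0x92046c662e9) (.leaf (nat_lit 0x9203dd52499) (nat_lit 2562))
 (.leaf (nat_lit 0x92046c662e9) (nat_lit 2818))
))) (.node (nat_lit 0x920afc0c98b) (.node (nat_lit 0x92094421240) (.leaf (nat_lit 0x9206410dbcc) (nat_lit 3328))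
 (.node (nat_lit 0x92094439240) (.leaf (nat_lit 0x92094421240) (nat_lit 3074))
 (.leaf (nat_lit 0x92094439240) (nat_lit 1026))
)) (.node (nat_lit 0x920c400cae9) (.leaf (nat_lit 0x920afc0c98b) (nat_lit 3073))
 (.node (nat_lit 0x920c41e9a07) (.leaf (nat_lit 0x920c400cae9) (nat_lit 3329))
 (.leaf (nat_lit 0x920c41e9a07) (nat_lit 2817))
))))))) (.node (nat_lit 0x9812162eac3) (.node (nat_lit 0x97a838dc56e) (.node (nat_lit 0x978bc0e5309) (.node (nat_lit 0x9789689f439) (.node (nat_lit 0x978048fe3f9) (.node (nat_lit 0x920fd9e3925) (.leaf (nat_lit 0x920fd8f1ae2) (nat_lit 3072))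
 (.leaf (nat_lit 0x920fd9e3925) (nat_lit 3072))
) (.node (nat_lit 0x97820c0802c) (.leaf (nat_lit 0x978048fe3f9) (nat_lit 1794))
 (.node (nat_lit 0x97820cfe439) (.leaf (nat_lit 0x97820c0802c) (nat_lit 3073))
 (.leaf (nat_lit 0x97820cfe439) (nat_lit 2562))
))) (.node (nat_lit 0x978a75ff124) (.node (nat_lit 0x97896913a72) (.leaf (nat_lit 0x9789689f439) (nat_lit 3329))
 (.node (nat_lit 0x978a75b6a05) (.leaf (nat_lit 0x97896913a72) (nat_lit 2305))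
 (.leaf (nat_lit 0x978a75b6a05) (nat_lit 2817))
)) (.node (nat_lit 0x978b04e5205) (.leaf (nat_lit 0x978a75ff124) (nat_lit 3585))
 (.node (nat_lit 0x978bc0c6a40) (.leaf (nat_lit 0x978b04e5205) (nat_lit 3074))
 (.leaf (nat_lit 0x978bc0c6a40) (nat_lit 2817))
)))) (.node (nat_lit 0x9793acc6a40) (.node (nat_lit 0x979194fd4e5) (.node (nat_lit 0x978c59ea570) (.leaf (nat_lit 0x978bc0e5309) (nat_lit 1281))
 (.leaf (nat_lit 0x978c59ea570) (nat_lit 2818))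
) (.node (nat_lit 0x979195b6bf9) (.leaf (nat_lit 0x979194fd4e5) (nat_lit 2816))
 (.node (nat_lit 0x9793689f309) (.leaf (nat_lit 0x979195b6bf9) (nat_lit 3072))
 (.leaf (nat_lit 0x9793689f309) (nat_lit 2560))
))) (.node (nat_lit 0x97a190d9c07) (.node (nat_lit 0x97a045c44e4) (.leaf (nat_lit 0x9793acc6a40) (nat_lit 3328))
 (.node (nat_lit 0x97a1909f925) (.leaf (nat_lit 0x97a045c44e4) (nat_lit 2048))
 (.leaf (nat_lit 0x97a1909f925) (nat_lit 2304))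
)) (.node (nat_lit 0x97a34cfca76) (.leaf (nat_lit 0x97a190d9c07) (nat_lit 3073))
 (.node (nat_lit 0x97a34df5271) (.leaf (nat_lit 0x97a34cfca76) (nat_lit 2050))
 (.leaf (nat_lit 0x97a34df5271) (nat_lit 3074))
))))) (.node (nat_lit 0x9800e6872ce) (.node (nat_lit 0x97b06dfecfc) (.node (nat_lit 0x97aaccd9c07) (.node (nat_lit 0x97a839ead3f) (.leaf (nat_lit 0x97a838dc56e) (nat_lit 3074))
 (.leaf (nat_lit 0x97a839ead3f) (nat_lit 3072))
) (.node (nat_lit 0x97ac50dc53f) (.leaf (nat_lit 0x97aaccd9c07) (nat_lit 3328))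
 (.node (nat_lit 0x97b06df53cb) (.leaf (nat_lit 0x97ac50dc53f) (nat_lit 2817))
 (.leaf (nat_lit 0x97b06df53cb) (nat_lit 3073))
))) (.node (nat_lit 0x97b36d123cb) (.node (nat_lit 0x97b2e80782a) (.leaf (nat_lit 0x97b06dfecfc) (nat_lit 2306))
 (.node (nat_lit 0x97b2e9c4276) (.leaf (nat_lit 0x97b2e80782a) (nat_lit 3073))
 (.leaf (nat_lit 0x97b2e9c4276) (nat_lit 2560))
)) (.node (nat_lit 0x97b3b49fcfc) (.leaf (nat_lit 0x97b36d123cb) (nat_lit 2561))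
 (.node (nat_lit 0x9800e5a62ce) (.leaf (nat_lit 0x97b3b49fcfc) (nat_lit 2561))
 (.leaf (nat_lit 0x9800e5a62ce) (nat_lit 3072))
)))) (.node (nat_lit 0x9804359f570) (.node (nat_lit 0x9801f19f4b1) (.node (nat_lit 0x9801444956d) (.leaf (nat_lit 0x9800e6872ce) (nat_lit 3330))
 (.node (nat_lit 0x98015deaac3) (.leaf (nat_lit 0x9801444956d) (nat_lit 3072))
 (.leaf (nat_lit 0x98015deaac3) (nat_lit 1792))
)) (.node (nat_lit 0x9802c04956d) (.leaf (nat_lit 0x9801f19f4b1) (nat_lit 2306))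
 (.node (nat_lit 0x9803f0f0cfc) (.leaf (nat_lit 0x9802c04956d) (nat_lit 3329))
 (.leaf (nat_lit 0x9803f0f0cfc) (nat_lit 2817))
))) (.node (nat_lit 0x980c4913a94) (.node (nat_lit 0x980581cdd70) (.leaf (nat_lit 0x9804359f570) (nat_lit 1538))
 (.node (nat_lit 0x980b2cd9406) (.leaf (nat_lit 0x980581cdd70) (nat_lit 3074))
 (.leaf (nat_lit 0x980b2cd9406) (nat_lit 2560))
)) (.node (nat_lit 0x980f2e87275) (.leaf (nat_lit 0x980c4913a94) (nat_lit 3074))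
 (.node (nat_lit 0x98116e2eac5) (.leaf (nat_lit 0x980f2e87275) (nat_lit 3072))
 (.leaf (nat_lit 0x98116e2eac5) (nat_lit 3330))
)))))) (.node (nat_lit 0x984c103b06e) (.node (nat_lit 0x9829400c8af) (.node (nat_lit 0x98215cbb556) (.node (nat_lit 0x9820e4b4989) (.node (nat_lit 0x98152d13cfc) (.leaf (nat_lit 0x9812162eac3) (nat_lit 3073))
 (.leaf (nat_lit 0x98152d13cfc) (nat_lit 3073))
) (.node (nat_lit 0x9820e5d1c99) (.leaf (nat_lit 0x9820e4b4989) (nat_lit 2561))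
 (.node (nat_lit 0x9820f599499) (.leaf (nat_lit 0x9820e5d1c99) (nat_lit 2816))
 (.leaf (nat_lit 0x9820f599499) (nat_lit 2818))
))) (.node (nat_lit 0x9825d0450af) (.node (nat_lit 0x982174d4989) (.leaf (nat_lit 0x98215cbb556) (nat_lit 2304))
 (.node (nat_lit 0x9824c159480) (.leaf (nat_lit 0x982174d4989) (nat_lit 2817))
 (.leaf (nat_lit 0x9824c159480) (nat_lit 3074))
)) (.node (nat_lit 0x9826721c25c) (.leaf (nat_lit 0x9825d0450af) (nat_lit 3073))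
 (.node (nat_lit 0x982932922eb) (.leaf (nat_lit 0x9826721c25c) (nat_lit 1537))
 (.leaf (nat_lit 0x982932922eb) (nat_lit 2818))
)))) (.node (nat_lit 0x9840e512b90) (.node (nat_lit 0x982aa2be480) (.node (nat_lit 0x982a09d2c84) (.leaf (nat_lit 0x9829400c8af) (nat_lit 3074))
 (.node (nat_lit 0x982a11cea5c) (.leaf (nat_lit 0x982a09d2c84) (nat_lit 3586))
 (.leaf (nat_lit 0x982a11cea5c) (nat_lit 2817))
)) (.node (nat_lit 0x9830e40cd05) (.leaf (nat_lit 0x982aa2be480) (nat_lit 3074))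
 (.node (nat_lit 0x983380a057e) (.leaf (nat_lit 0x9830e40cd05) (nat_lit 2305))
 (.leaf (nat_lit 0x983380a057e) (nat_lit 3072))
))) (.node (nat_lit 0x98491c3b06e) (.node (nat_lit 0x9840e5b6b90) (.leaf (nat_lit 0x9840e512b90) (nat_lit 3328))
 (.node (nat_lit 0x9846044fd19) (.leaf (nat_lit 0x9840e5b6b90) (nat_lit 3585))
 (.leaf (nat_lit 0x9846044fd19) (nat_lit 3329))
)) (.node (nat_lit 0x9849b8d9c07) (.leaf (nat_lit 0x98491c3b06e) (nat_lit 2561))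
 (.node (nat_lit 0x984a69cfcb5) (.leaf (nat_lit 0x9849b8d9c07) (nat_lit 3584))
 (.leaf (nat_lit 0x984a69cfcb5) (nat_lit 2817))
))))) (.node (nat_lit 0x9861f247d72) (.node (nat_lit 0x9853a9cc0a3) (.node (nat_lit 0x984e09cc481) (.node (nat_lit 0x984d81b6c81) (.leaf (nat_lit 0x984c103b06e) (nat_lit 1537))
 (.leaf (nat_lit 0x984d81b6c81) (nat_lit 2050))
) (.node (nat_lit 0x984f29a6a74) (.leaf (nat_lit 0x984e09cc481) (nat_lit 3074))
 (.node (nat_lit 0x9850644f8a3) (.leaf (nat_lit 0x984f29a6a74) (nat_lit 2817))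
 (.leaf (nat_lit 0x9850644f8a3) (nat_lit 2306))
))) (.node (nat_lit 0x9855adea2c4) (.node (nat_lit 0x98545d12d19) (.leaf (nat_lit 0x9853a9cc0a3) (nat_lit 3073))
 (.node (nat_lit 0x985574f0295) (.leaf (nat_lit 0x98545d12d19) (nat_lit 3329))
 (.leaf (nat_lit 0x985574f0295) (nat_lit 3074))
)) (.node (nat_lit 0x9860e40cae9) (.leaf (nat_lit 0x9855adea2c4) (nat_lit 3329))
 (.node (nat_lit 0x9860e43ece8) (.leaf (nat_lit 0x9860e40cae9) (nat_lit 2304))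
 (.leaf (nat_lit 0x9860e43ece8) (nat_lit 2817))
)))) (.node (nat_lit 0x9869389ece8) (.node (nat_lit 0x9865d5ac4fd) (.node (nat_lit 0x98638a9457f) (.leaf (nat_lit 0x9861f247d72) (nat_lit 2560))
 (.node (nat_lit 0x986395ba485) (.leaf (nat_lit 0x98638a9457f) (nat_lit 2817))
 (.leaf (nat_lit 0x986395ba485) (nat_lit 2305))
)) (.node (nat_lit 0x9868d19bcfd) (.leaf (nat_lit 0x9865d5ac4fd) (nat_lit 2818))
 (.node (nat_lit 0x9869042610d) (.leaf (nat_lit 0x9868d19bcfd) (nat_lit 1537))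
 (.leaf (nat_lit 0x9869042610d) (nat_lit 2816))
))) (.node (nat_lit 0x986ba158cdf) (.node (nat_lit 0x9869c839506) (.leaf (nat_lit 0x9869389ece8) (nat_lit 2817))
 (.node (nat_lit 0x9869d663d57) (.leaf (nat_lit 0x9869c839506) (nat_lit 3073))
 (.leaf (nat_lit 0x9869d663d57) (nat_lit 1536))
)) (.node (nat_lit 0x986d8202d72) (.leaf (nat_lit 0x986ba158cdf) (nat_lit 2817))
 (.node (nat_lit 0x987401c2cdf) (.leaf (nat_lit 0x986d8202d72) (nat_lit 3072))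
 (.leaf (nat_lit 0x987401c2cdf) (nat_lit 3584))
))))))))) (.node (nat_lit 0xa6f5a9dda76) (.node (nat_lit 0x9f35b4358b0) (.node (nat_lit 0x9b95a244c5a) (.node (nat_lit 0x99895c2c8e8) (.node (nat_lit 0x9952a44956d) (.node (nat_lit 0x994808d3295) (.node (nat_lit 0x9940e687295) (.node (nat_lit 0x9940e5f1d2d) (.leaf (nat_lit 0x9875c00c90d) (nat_lit 3329))
 (.leaf (nat_lit 0x9940e5f1d2d) (nat_lit 3585))
) (.node (nat_lit 0x994431dc1ac) (.leaf (nat_lit 0x9940e687295) (nat_lit 3074))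
 (.node (nat_lit 0x9945e913a72) (.leaf (nat_lit 0x994431dc1ac) (nat_lit 2048))
 (.leaf (nat_lit 0x9945e913a72) (nat_lit 2304))
))) (.node (nat_lit 0x994c662eacf) (.node (nat_lit 0x994aa42d0ea) (.leaf (nat_lit 0x994808d3295) (nat_lit 2816))
 (.node (nat_lit 0x994ab84956d) (.leaf (nat_lit 0x994aa42d0ea) (nat_lit 2048))
 (.leaf (nat_lit 0x994ab84956d) (nat_lit 1537))
)) (.node (nat_lit 0x9951722ed68) (.leaf (nat_lit 0x994c662eacf) (nat_lit 2050))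
 (.node (nat_lit 0x99521513bca) (.leaf (nat_lit 0x9951722ed68) (nat_lit 1538))
 (.leaf (nat_lit 0x99521513bca) (nat_lit 3074))
)))) (.node (nat_lit 0x9980e6134a2) (.node (nat_lit 0x99545df19ac) (.node (nat_lit 0x9952d1f5a72) (.leaf (nat_lit 0x9952a44956d) (nat_lit 2304))
 (.leaf (nat_lit 0x9952d1f5a72) (nat_lit 2816))
) (.node (nat_lit 0x99552a872f5) (.leaf (nat_lit 0x99545df19ac) (nat_lit 3330))
 (.node (nat_lit 0x9955baa8568) (.leaf (nat_lit 0x99552a872f5) (nat_lit 3073))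
 (.leaf (nat_lit 0x9955baa8568) (nat_lit 2817))
))) (.node (nat_lit 0x9984c81bb1d) (.node (nat_lit 0x9980e6a92ce) (.leaf (nat_lit 0x9980e6134a2) (nat_lit 2817))
 (.node (nat_lit 0x998179bd9b0) (.leaf (nat_lit 0x9980e6a92ce) (nat_lit 2817))
 (.leaf (nat_lit 0x998179bd9b0) (nat_lit 2306))
)) (.node (nat_lit 0x9986221f1b0) (.leaf (nat_lit 0x9984c81bb1d) (nat_lit 3329))
 (.node (nat_lit 0x99891e1f4a2) (.leaf (nat_lit 0x9986221f1b0) (nat_lit 2560))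
 (.leaf (nat_lit 0x99891e1f4a2) (nat_lit 2560))
))))) (.node (nat_lit 0x9b8582343c0) (.node (nat_lit 0x99935e17b22) (.node (nat_lit 0x998ba9ddd2c) (.node (nat_lit 0x998b8cd3af4) (.leaf (nat_lit 0x99895c2c8e8) (nat_lit 1793))
 (.leaf (nat_lit 0x998b8cd3af4) (nat_lit 2560))
) (.node (nat_lit 0x999071bdb22) (.leaf (nat_lit 0x998ba9ddd2c) (nat_lit 2817))
 (.node (nat_lit 0x9992481bb1d) (.leaf (nat_lit 0x999071bdb22) (nat_lit 3074))
 (.leaf (nat_lit 0x9992481bb1d) (nat_lit 3330))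
))) (.node (nat_lit 0x9995c213160) (.node (nat_lit 0x999435f53cb) (.leaf (nat_lit 0x99935e17b22) (nat_lit 2049))
 (.node (nat_lit 0x9994fe17960) (.leaf (nat_lit 0x999435f53cb) (nat_lit 3074))
 (.leaf (nat_lit 0x9994fe17960) (nat_lit 2817))
)) (.node (nat_lit 0x9b80e4d3af4) (.leaf (nat_lit 0x9995c213160) (nat_lit 2817))
 (.node (nat_lit 0x9b80e4f04b1) (.leaf (nat_lit 0x9b80e4d3af4) (nat_lit 2049))
 (.leaf (nat_lit 0x9b80e4f04b1) (nat_lit 2049))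
)))) (.node (nat_lit 0x9b8da644984) (.node (nat_lit 0x9b8a0cf03d0) (.node (nat_lit 0x9b880a87af4) (.leaf (nat_lit 0x9b8582343c0) (nat_lit 2562))
 (.node (nat_lit 0x9b8930e3bd0) (.leaf (nat_lit 0x9b880a87af4) (nat_lit 2561))
 (.leaf (nat_lit 0x9b8930e3bd0) (nat_lit 2050))
)) (.node (nat_lit 0x9b8a68d9406) (.leaf (nat_lit 0x9b8a0cf03d0) (nat_lit 2304))
 (.node (nat_lit 0x9b8abc0802c) (.leaf (nat_lit 0x9b8a68d9406) (nat_lit 3073))
 (.leaf (nat_lit 0x9b8abc0802c) (nat_lit 3328))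
))) (.node (nat_lit 0x9b92ce34275) (.node (nat_lit 0x9b9210dbbc0) (.leaf (nat_lit 0x9b8da644984) (nat_lit 1794))
 (.node (nat_lit 0x9b92a80802c) (.leaf (nat_lit 0x9b9210dbbc0) (nat_lit 2817))
 (.leaf (nat_lit 0x9b92a80802c) (nat_lit 3073))
)) (.node (nat_lit 0x9b94fe00c5a) (.leaf (nat_lit 0x9b92ce34275) (nat_lit 2816))
 (.node (nat_lit 0x9b9528d3a94) (.leaf (nat_lit 0x9b94fe00c5a) (nat_lit 1281))
 (.leaf (nat_lit 0x9b9528d3a94) (nat_lit 3074))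
)))))) (.node (nat_lit 0x9f05d44410b) (.node (nat_lit 0x9bb0e8da274) (.node (nat_lit 0x9ba4c8e34b5) (.node (nat_lit 0x9ba0e606b67) (.node (nat_lit 0x9ba0e5fd185) (.leaf (nat_lit 0x9b95a244c5a) (nat_lit 2816))
 (.leaf (nat_lit 0x9ba0e5fd185) (nat_lit 3585))
) (.node (nat_lit 0x9ba1490494f) (.leaf (nat_lit 0x9ba0e606b67) (nat_lit 2562))
 (.node (nat_lit 0x9ba2b03b047) (.leaf (nat_lit 0x9ba1490494f) (nat_lit 2560))
 (.leaf (nat_lit 0x9ba2b03b047) (nat_lit 2048))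
))) (.node (nat_lit 0x9bab8e87295) (.node (nat_lit 0x9ba60454a7c) (.leaf (nat_lit 0x9ba4c8e34b5) (nat_lit 2305))
 (.node (nat_lit 0x9bab2904b67) (.leaf (nat_lit 0x9ba60454a7c) (nat_lit 2817))
 (.leaf (nat_lit 0x9bab2904b67) (nat_lit 2561))
)) (.node (nat_lit 0x9baba83b047) (.leaf (nat_lit 0x9bab8e87295) (nat_lit 3073))
 (.node (nat_lit 0x9bac48d9c07) (.leaf (nat_lit 0x9baba83b047) (nat_lit 1793))
 (.leaf (nat_lit 0x9bac48d9c07) (nat_lit 3329))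
)))) (.node (nat_lit 0x9f00e4eeb62) (.node (nat_lit 0x9bb4fa06974) (.node (nat_lit 0x9bb1fd7e27c) (.leaf (nat_lit 0x9bb0e8da274) (nat_lit 2817))
 (.leaf (nat_lit 0x9bb1fd7e27c) (nat_lit 3073))
) (.node (nat_lit 0x9bb5b97e174) (.leaf (nat_lit 0x9bb4fa06974) (nat_lit 3329))
 (.node (nat_lit 0x9bb5d85494f) (.leaf (nat_lit 0x9bb5b97e174) (nat_lit 3074))
 (.leaf (nat_lit 0x9bb5d85494f) (nat_lit 2817))
))) (.node (nat_lit 0x9f02adda27f) (.node (nat_lit 0x9f00e5a851a) (.leaf (nat_lit 0x9f00e4eeb62) (nat_lit 2816))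
 (.node (nat_lit 0x9f02199ba82) (.leaf (nat_lit 0x9f00e5a851a) (nat_lit 2561))
 (.leaf (nat_lit 0x9f02199ba82) (nat_lit 2562))
)) (.node (nat_lit 0x9f02ddd851a) (.leaf (nat_lit 0x9f02adda27f) (nat_lit 3073))
 (.node (nat_lit 0x9f035496c14) (.leaf (nat_lit 0x9f02ddd851a) (nat_lit 2562))
 (.leaf (nat_lit 0x9f035496c14) (nat_lit 3073))
))))) (.node (nat_lit 0x9f23800cc15) (.node (nat_lit 0x9f138de1362) (.node (nat_lit 0x9f09342590b) (.node (nat_lit 0x9f07405a870) (.leaf (nat_lit 0x9f05d44410b) (nat_lit 3073))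
 (.leaf (nat_lit 0x9f07405a870) (nat_lit 2560))
) (.node (nat_lit 0x9f09f5c2860) (.leaf (nat_lit 0x9f09342590b) (nat_lit 2561))
 (.node (nat_lit 0x9f12edaba7f) (.leaf (nat_lit 0x9f09f5c2860) (nat_lit 2818))
 (.leaf (nat_lit 0x9f12edaba7f) (nat_lit 3328))
))) (.node (nat_lit 0x9f152c0c8e5) (.node (nat_lit 0x9f1416318fd) (.leaf (nat_lit 0x9f138de1362) (nat_lit 2562))
 (.node (nat_lit 0x9f14a80c870) (.leaf (nat_lit 0x9f1416318fd) (nat_lit 2817))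
 (.leaf (nat_lit 0x9f14a80c870) (nat_lit 3073))
)) (.node (nat_lit 0x9f20e596b1b) (.leaf (nat_lit 0x9f152c0c8e5) (nat_lit 2817))
 (.node (nat_lit 0x9f20e5ce85f) (.leaf (nat_lit 0x9f20e596b1b) (nat_lit 2818))
 (.leaf (nat_lit 0x9f20e5ce85f) (nat_lit 3330))
)))) (.node (nat_lit 0x9f2c11f89d4) (.node (nat_lit 0x9f29d51c8e6) (.node (nat_lit 0x9f280c460b0) (.leaf (nat_lit 0x9f23800cc15) (nat_lit 3329))
 (.node (nat_lit 0x9f2941d7ac2) (.leaf (nat_lit 0x9f280c460b0) (nat_lit 3074))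
 (.leaf (nat_lit 0x9f2941d7ac2) (nat_lit 2816))
)) (.node (nat_lit 0x9f2a220931b) (.leaf (nat_lit 0x9f29d51c8e6) (nat_lit 2818))
 (.node (nat_lit 0x9f2b2de39d4) (.leaf (nat_lit 0x9f2a220931b) (nat_lit 2818))
 (.leaf (nat_lit 0x9f2b2de39d4) (nat_lit 3074))
))) (.node (nat_lit 0x9f335abe27b) (.node (nat_lit 0x9f304062adc) (.leaf (nat_lit 0x9f2c11f89d4) (nat_lit 2817))
 (.node (nat_lit 0x9f31fc0cadc) (.leaf (nat_lit 0x9f304062adc) (nat_lit 2817))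
 (.leaf (nat_lit 0x9f31fc0cadc) (nat_lit 3328))
)) (.node (nat_lit 0x9f3434ff2c2) (.leaf (nat_lit 0x9f335abe27b) (nat_lit 2049))
 (.node (nat_lit 0x9f3559948fc) (.leaf (nat_lit 0x9f3434ff2c2) (nat_lit 3073))
 (.leaf (nat_lit 0x9f3559948fc) (nat_lit 3073))
))))))) (.node (nat_lit 0xa6959518556) (.node (nat_lit 0xa1e93d10a50) (.node (nat_lit 0xa1cf2c50254) (.node (nat_lit 0xa1c2b5ee498) (.node (nat_lit 0xa1c0e5f337f) (.node (nat_lit 0xa1c0e4504d9) (.leaf (nat_lit 0x9f35b4358b0) (nat_lit 2816))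
 (.leaf (nat_lit 0xa1c0e4504d9) (nat_lit 1792))
) (.node (nat_lit 0xa1c13cfe4b4) (.leaf (nat_lit 0xa1c0e5f337f) (nat_lit 2562))
 (.node (nat_lit 0xa1c1a9f34b4) (.leaf (nat_lit 0xa1c13cfe4b4) (nat_lit 2305))
 (.leaf (nat_lit 0xa1c1a9f34b4) (nat_lit 3073))
))) (.node (nat_lit 0xa1c5fe38a69) (.node (nat_lit 0xa1c2ba1f91d) (.leaf (nat_lit 0xa1c2b5ee498) (nat_lit 3072))
 (.node (nat_lit 0xa1c5f66e498) (.leaf (nat_lit 0xa1c2ba1f91d) (nat_lit 2818))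
 (.leaf (nat_lit 0xa1c5f66e498) (nat_lit 2049))
)) (.node (nat_lit 0xa1c75e9b14e) (.leaf (nat_lit 0xa1c5fe38a69) (nat_lit 3072))
 (.node (nat_lit 0xa1c93a1f94e) (.leaf (nat_lit 0xa1c75e9b14e) (nat_lit 3073))
 (.leaf (nat_lit 0xa1c93a1f94e) (nat_lit 3585))
)))) (.node (nat_lit 0xa1e0e6111d5) (.node (nat_lit 0xa1d1fe3acd9) (.node (nat_lit 0xa1d1f8e5d3e) (.leaf (nat_lit 0xa1cf2c50254) (nat_lit 2562))
 (.leaf (nat_lit 0xa1d1f8e5d3e) (nat_lit 2817))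
) (.node (nat_lit 0xa1d55ce5d3e) (.leaf (nat_lit 0xa1d1fe3acd9) (nat_lit 2304))
 (.node (nat_lit 0xa1d5a5ee4e9) (.leaf (nat_lit 0xa1d55ce5d3e) (nat_lit 3330))
 (.leaf (nat_lit 0xa1d5a5ee4e9) (nat_lit 3329))
))) (.node (nat_lit 0xa1e398dab0e) (.node (nat_lit 0xa1e0e63a575) (.leaf (nat_lit 0xa1e0e6111d5) (nat_lit 3073))
 (.node (nat_lit 0xa1e154feb0e) (.leaf (nat_lit 0xa1e0e63a575) (nat_lit 2560))
 (.leaf (nat_lit 0xa1e154feb0e) (nat_lit 1280))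
)) (.node (nat_lit 0xa1e6769bd4d) (.leaf (nat_lit 0xa1e398dab0e) (nat_lit 3073))
 (.node (nat_lit 0xa1e745768ba) (.leaf (nat_lit 0xa1e6769bd4d) (nat_lit 2306))
 (.leaf (nat_lit 0xa1e745768ba) (nat_lit 2816))
))))) (.node (nat_lit 0xa684000ca67) (.node (nat_lit 0xa1efde38267) (.node (nat_lit 0xa1ed25fe91c) (.node (nat_lit 0xa1eab8dace7) (.leaf (nat_lit 0xa1e93d10a50) (nat_lit 2304))
 (.leaf (nat_lit 0xa1eab8dace7) (nat_lit 3585))
) (.node (nat_lit 0xa1ed85768ba) (.leaf (nat_lit 0xa1ed25fe91c) (nat_lit 2305))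
 (.node (nat_lit 0xa1eda1fed75) (.leaf (nat_lit 0xa1ed85768ba) (nat_lit 3329))
 (.leaf (nat_lit 0xa1eda1fed75) (nat_lit 2561))
))) (.node (nat_lit 0xa1f5b110d4d) (.node (nat_lit 0xa1f1666e9d5) (.leaf (nat_lit 0xa1efde38267) (nat_lit 3074))
 (.node (nat_lit 0xa1f1f211381) (.leaf (nat_lit 0xa1f1666e9d5) (nat_lit 2305))
 (.leaf (nat_lit 0xa1f1f211381) (nat_lit 2562))
)) (.node (nat_lit 0xa68261f8b81) (.leaf (nat_lit 0xa1f5b110d4d) (nat_lit 3328))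
 (.node (nat_lit 0xa68262924e8) (.leaf (nat_lit 0xa68261f8b81) (nat_lit 2305))
 (.leaf (nat_lit 0xa68262924e8) (nat_lit 2816))
)))) (.node (nat_lit 0xa68ff1d1ce7) (.node (nat_lit 0xa68ae5b9556) (.node (nat_lit 0xa684028a86a) (.leaf (nat_lit 0xa684000ca67) (nat_lit 3330))
 (.node (nat_lit 0xa684689704f) (.leaf (nat_lit 0xa684028a86a) (nat_lit 3074))
 (.leaf (nat_lit 0xa684689704f) (nat_lit 3328))
)) (.node (nat_lit 0xa68b1c3ece8) (.leaf (nat_lit 0xa68ae5b9556) (nat_lit 2561))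
 (.node (nat_lit 0xa68b4cffcf1) (.leaf (nat_lit 0xa68b1c3ece8) (nat_lit 2561))
 (.leaf (nat_lit 0xa68b4cffcf1) (nat_lit 2561))
))) (.node (nat_lit 0xa692ad1c90b) (.node (nat_lit 0xa68ff1e106a) (.leaf (nat_lit 0xa68ff1d1ce7) (nat_lit 2817))
 (.node (nat_lit 0xa691850e250) (.leaf (nat_lit 0xa68ff1e106a) (nat_lit 1793))
 (.leaf (nat_lit 0xa691850e250) (nat_lit 3074))
)) (.node (nat_lit 0xa692adcecf1) (.leaf (nat_lit 0xa692ad1c90b) (nat_lit 3074))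
 (.node (nat_lit 0xa695940c84f) (.leaf (nat_lit 0xa692adcecf1) (nat_lit 2818))
 (.leaf (nat_lit 0xa695940c84f) (nat_lit 3329))
)))))) (.node (nat_lit 0xa6c935c4272) (.node (nat_lit 0xa6b068440e6) (.node (nat_lit 0xa6a484b4235) (.node (nat_lit 0xa6a1a5d4530) (.node (nat_lit 0xa6a1a4cf37f) (.leaf (nat_lit 0xa6959518556) (nat_lit 2816))
 (.leaf (nat_lit 0xa6a1a4cf37f) (nat_lit 2561))
) (.node (nat_lit 0xa6a3440ca35) (.leaf (nat_lit 0xa6a1a5d4530) (nat_lit 2561))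
 (.node (nat_lit 0xa6a344ff201) (.leaf (nat_lit 0xa6a3440ca35) (nat_lit 2049))
 (.leaf (nat_lit 0xa6a344ff201) (nat_lit 3073))
))) (.node (nat_lit 0xa6aae80c90d) (.node (nat_lit 0xa6a844258e6) (.leaf (nat_lit 0xa6a484b4235) (nat_lit 3074))
 (.node (nat_lit 0xa6a846314e9) (.leaf (nat_lit 0xa6a844258e6) (nat_lit 3329))
 (.leaf (nat_lit 0xa6a846314e9) (nat_lit 3074))
)) (.node (nat_lit 0xa6aaf2a0a01) (.leaf (nat_lit 0xa6aae80c90d) (nat_lit 2049))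
 (.node (nat_lit 0xa6ab19dad30) (.leaf (nat_lit 0xa6aaf2a0a01) (nat_lit 3074))
 (.leaf (nat_lit 0xa6ab19dad30) (nat_lit 1281))
)))) (.node (nat_lit 0xa6c0e49face) (.node (nat_lit 0xa6b181d94d5) (.node (nat_lit 0xa6b06889269) (.leaf (nat_lit 0xa6b068440e6) (nat_lit 2562))
 (.leaf (nat_lit 0xa6b06889269) (nat_lit 3074))
) (.node (nat_lit 0xa6b2e1994d5) (.leaf (nat_lit 0xa6b181d94d5) (nat_lit 2560))
 (.node (nat_lit 0xa6b2e19b254) (.leaf (nat_lit 0xa6b2e1994d5) (nat_lit 2816))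
 (.leaf (nat_lit 0xa6b2e19b254) (nat_lit 3073))
))) (.node (nat_lit 0xa6c2acd9c07) (.node (nat_lit 0xa6c0e5e23d0) (.leaf (nat_lit 0xa6c0e49face) (nat_lit 3330))
 (.node (nat_lit 0xa6c145c445c) (.leaf (nat_lit 0xa6c0e5e23d0) (nat_lit 2050))
 (.leaf (nat_lit 0xa6c145c445c) (nat_lit 2817))
)) (.node (nat_lit 0xa6c61ddc2ce) (.leaf (nat_lit 0xa6c2acd9c07) (nat_lit 3585))
 (.node (nat_lit 0xa6c7444dc16) (.leaf (nat_lit 0xa6c61ddc2ce) (nat_lit 3073))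
 (.leaf (nat_lit 0xa6c7444dc16) (nat_lit 3585))
))))) (.node (nat_lit 0xa6e0e44cc17) (.node (nat_lit 0xa6d3c687a72) (.node (nat_lit 0xa6ca20d9c07) (.node (nat_lit 0xa6c9b8f0a9e) (.leaf (nat_lit 0xa6c935c4272) (nat_lit 2817))
 (.leaf (nat_lit 0xa6c9b8f0a9e) (nat_lit 3330))
) (.node (nat_lit 0xa6cb8de21ad) (.leaf (nat_lit 0xa6ca20d9c07) (nat_lit 1281))
 (.node (nat_lit 0xa6cc25f52c2) (.leaf (nat_lit 0xa6cb8de21ad) (nat_lit 2562))
 (.leaf (nat_lit 0xa6cc25f52c2) (nat_lit 3586))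
))) (.node (nat_lit 0xa6d5509fa77) (.node (nat_lit 0xa6d4a9f529e) (.leaf (nat_lit 0xa6d3c687a72) (nat_lit 2816))
 (.node (nat_lit 0xa6d528f83d0) (.leaf (nat_lit 0xa6d4a9f529e) (nat_lit 2818))
 (.leaf (nat_lit 0xa6d528f83d0) (nat_lit 1537))
)) (.node (nat_lit 0xa6e0b1048fd) (.leaf (nat_lit 0xa6d5509fa77) (nat_lit 3073))
 (.node (nat_lit 0xa6e0e405b07) (.leaf (nat_lit 0xa6e0b1048fd) (nat_lit 2560))
 (.leaf (nat_lit 0xa6e0e405b07) (nat_lit 3585))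
)))) (.node (nat_lit 0xa6ec1504a8a) (.node (nat_lit 0xa6e80e8745a) (.node (nat_lit 0xa6e2b0f70de) (.leaf (nat_lit 0xa6e0e44cc17) (nat_lit 2049))
 (.node (nat_lit 0xa6e74005b07) (.leaf (nat_lit 0xa6e2b0f70de) (nat_lit 3329))
 (.leaf (nat_lit 0xa6e74005b07) (nat_lit 2562))
)) (.node (nat_lit 0xa6e91cf728a) (.leaf (nat_lit 0xa6e80e8745a) (nat_lit 2560))
 (.node (nat_lit 0xa6e9d5bdc7e) (.leaf (nat_lit 0xa6e91cf728a) (nat_lit 2562))
 (.leaf (nat_lit 0xa6e9d5bdc7e) (nat_lit 2818))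
))) (.node (nat_lit 0xa6f310f89ac) (.node (nat_lit 0xa6f045cc0de) (.leaf (nat_lit 0xa6ec1504a8a) (nat_lit 2816))
 (.node (nat_lit 0xa6f214f02c3) (.leaf (nat_lit 0xa6f045cc0de) (nat_lit 3329))
 (.leaf (nat_lit 0xa6f214f02c3) (nat_lit 3586))
)) (.node (nat_lit 0xa6f355cc47e) (.leaf (nat_lit 0xa6f310f89ac) (nat_lit 3329))
 (.node (nat_lit 0xa6f5a1bd8fd) (.leaf (nat_lit 0xa6f355cc47e) (nat_lit 2818))
 (.leaf (nat_lit 0xa6f5a1bd8fd) (nat_lit 2561))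
)))))))) (.node (nat_lit 0xaa555e65282) (.node (nat_lit 0xa855b2a0b90) (.node (nat_lit 0xa76af1ba569) (.node (nat_lit 0xa74ff294c5c) (.node (nat_lit 0xa74964d43f4) (.node (nat_lit 0xa74212a0161) (.node (nat_lit 0xa742123145c) (.leaf (nat_lit 0xa6f5a9dda76) (nat_lit 2817))
 (.leaf (nat_lit 0xa742123145c) (nat_lit 2562))
) (.node (nat_lit 0xa7426058b07) (.leaf (nat_lit 0xa74212a0161) (nat_lit 2816))
 (.node (nat_lit 0xa744000cbf4) (.leaf (nat_lit 0xa7426058b07) (nat_lit 2816))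
 (.leaf (nat_lit 0xa744000cbf4) (nat_lit 2305))
))) (.node (nat_lit 0xa74a6202d72) (.node (nat_lit 0xa7496664c7d) (.leaf (nat_lit 0xa74964d43f4) (nat_lit 1793))
 (.node (nat_lit 0xa74a6046307) (.leaf (nat_lit 0xa7496664c7d) (nat_lit 3074))
 (.leaf (nat_lit 0xa74a6046307) (nat_lit 3585))
)) (.node (nat_lit 0xa74bc4894a9) (.leaf (nat_lit 0xa74a6202d72) (nat_lit 3073))
 (.node (nat_lit 0xa74bc5924b3) (.leaf (nat_lit 0xa74bc4894a9) (nat_lit 3074))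
 (.leaf (nat_lit 0xa74bc5924b3) (nat_lit 2561))
)))) (.node (nat_lit 0xa7625c9e916) (.node (nat_lit 0xa7519151cb3) (.node (nat_lit 0xa751900caaf) (.leaf (nat_lit 0xa74ff294c5c) (nat_lit 3073))
 (.leaf (nat_lit 0xa751900caaf) (nat_lit 3329))
) (.node (nat_lit 0xa752acffcf1) (.leaf (nat_lit 0xa7519151cb3) (nat_lit 3330))
 (.node (nat_lit 0xa75595d9161) (.leaf (nat_lit 0xa752acffcf1) (nat_lit 2818))
 (.leaf (nat_lit 0xa75595d9161) (nat_lit 1792))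
))) (.node (nat_lit 0xa76485d2c84) (.node (nat_lit 0xa763fe8a47e) (.leaf (nat_lit 0xa7625c9e916) (nat_lit 2305))
 (.node (nat_lit 0xa76484642ae) (.leaf (nat_lit 0xa763fe8a47e) (nat_lit 2818))
 (.leaf (nat_lit 0xa76484642ae) (nat_lit 3072))
)) (.node (nat_lit 0xa76ae91c10d) (.leaf (nat_lit 0xa76485d2c84) (nat_lit 2560))
 (.node (nat_lit 0xa76ae9cf4f0) (.leaf (nat_lit 0xa76ae91c10d) (nat_lit 2049))
 (.leaf (nat_lit 0xa76ae9cf4f0) (nat_lit 2817))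
))))) (.node (nat_lit 0xa84354fb366) (.node (nat_lit 0xa771800ccaa) (.node (nat_lit 0xa76b1863916) (.node (nat_lit 0xa76af2a097a) (.leaf (nat_lit 0xa76af1ba569) (nat_lit 2561))
 (.leaf (nat_lit 0xa76af2a097a) (nat_lit 2561))
) (.node (nat_lit 0xa76b19ac573) (.leaf (nat_lit 0xa76b1863916) (nat_lit 2562))
 (.node (nat_lit 0xa76fecf597a) (.leaf (nat_lit 0xa76b19ac573) (nat_lit 2817))
 (.leaf (nat_lit 0xa76fecf597a) (nat_lit 3073))
))) (.node (nat_lit 0xa7758d0e569) (.node (nat_lit 0xa7718118484) (.leaf (nat_lit 0xa771800ccaa) (nat_lit 2561))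
 (.node (nat_lit 0xa7729c0c90d) (.leaf (nat_lit 0xa7718118484) (nat_lit 3072))
 (.leaf (nat_lit 0xa7729c0c90d) (nat_lit 2818))
)) (.node (nat_lit 0xa840e4440c1) (.leaf (nat_lit 0xa7758d0e569) (nat_lit 3072))
 (.node (nat_lit 0xa840e4f6294) (.leaf (nat_lit 0xa840e4440c1) (nat_lit 2816))
 (.leaf (nat_lit 0xa840e4f6294) (nat_lit 3329))
)))) (.node (nat_lit 0xa84da5e994f) (.node (nat_lit 0xa8491d59390) (.node (nat_lit 0xa844305ea5e) (.leaf (nat_lit 0xa84354fb366) (nat_lit 2049))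
 (.node (nat_lit 0xa845f40c870) (.leaf (nat_lit 0xa844305ea5e) (nat_lit 2560))
 (.leaf (nat_lit 0xa845f40c870) (nat_lit 2562))
)) (.node (nat_lit 0xa84aeca5a94) (.leaf (nat_lit 0xa8491d59390) (nat_lit 2562))
 (.node (nat_lit 0xa84b2c0f25e) (.leaf (nat_lit 0xa84aeca5a94) (nat_lit 3330))
 (.leaf (nat_lit 0xa84b2c0f25e) (nat_lit 2816))
))) (.node (nat_lit 0xa853f2bea01) (.node (nat_lit 0xa84f0020a41) (.leaf (nat_lit 0xa84da5e994f) (nat_lit 2560))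
 (.node (nat_lit 0xa853a40ca41) (.leaf (nat_lit 0xa84f0020a41) (nat_lit 3329))
 (.leaf (nat_lit 0xa853a40ca41) (nat_lit 2817))
)) (.node (nat_lit 0xa853fe0214f) (.leaf (nat_lit 0xa853f2bea01) (nat_lit 2818))
 (.node (nat_lit 0xa85471da14e) (.leaf (nat_lit 0xa853fe0214f) (nat_lit 3328))
 (.leaf (nat_lit 0xa85471da14e) (nat_lit 3072))
)))))) (.node (nat_lit 0xaa0a0cfcc57) (.node (nat_lit 0xa874351c8e6) (.node (nat_lit 0xa86d04cc362) (.node (nat_lit 0xa860e594954) (.node (nat_lit 0xa860e48431f) (.leaf (nat_lit 0xa855b2a0b90) (nat_lit 2818))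
 (.leaf (nat_lit 0xa860e48431f) (nat_lit 2817))
) (.node (nat_lit 0xa8648c0cb1f) (.leaf (nat_lit 0xa860e594954) (nat_lit 2816))
 (.node (nat_lit 0xa86581a753e) (.leaf (nat_lit 0xa8648c0cb1f) (nat_lit 3328))
 (.leaf (nat_lit 0xa86581a753e) (nat_lit 2560))
))) (.node (nat_lit 0xa86fde02a50) (.node (nat_lit 0xa86ef83b8e6) (.leaf (nat_lit 0xa86d04cc362) (nat_lit 2560))
 (.node (nat_lit 0xa86fd5b9250) (.leaf (nat_lit 0xa86ef83b8e6) (nat_lit 3330))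
 (.leaf (nat_lit 0xa86fd5b9250) (nat_lit 2818))
)) (.node (nat_lit 0xa8734dd1362) (.leaf (nat_lit 0xa86fde02a50) (nat_lit 3073))
 (.node (nat_lit 0xa8738cdb367) (.leaf (nat_lit 0xa8734dd1362) (nat_lit 2818))
 (.leaf (nat_lit 0xa8738cdb367) (nat_lit 2818))
)))) (.node (nat_lit 0xaa00e4d9406) (.node (nat_lit 0xa8748d1f203) (.node (nat_lit 0xa8745d1b86e) (.leaf (nat_lit 0xa874351c8e6) (nat_lit 2562))
 (.leaf (nat_lit 0xa8745d1b86e) (nat_lit 2562))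
) (.node (nat_lit 0xa8755e1dd3e) (.leaf (nat_lit 0xa8748d1f203) (nat_lit 2816))
 (.node (nat_lit 0xa875d80c8c3) (.leaf (nat_lit 0xa8755e1dd3e) (nat_lit 3330))
 (.leaf (nat_lit 0xa875d80c8c3) (nat_lit 3072))
))) (.node (nat_lit 0xaa03999e174) (.node (nat_lit 0xaa00e63695d) (.leaf (nat_lit 0xaa00e4d9406) (nat_lit 3329))
 (.node (nat_lit 0xaa00f99e0a4) (.leaf (nat_lit 0xaa00e63695d) (nat_lit 3073))
 (.leaf (nat_lit 0xaa00f99e0a4) (nat_lit 2817))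
)) (.node (nat_lit 0xaa0740d9406) (.leaf (nat_lit 0xaa03999e174) (nat_lit 1537))
 (.node (nat_lit 0xaa09da3a174) (.leaf (nat_lit 0xaa0740d9406) (nat_lit 2305))
 (.leaf (nat_lit 0xaa09da3a174) (nat_lit 2561))
))))) (.node (nat_lit 0xaa40e63aabe) (.node (nat_lit 0xaa140611154) (.node (nat_lit 0xaa106636b90) (.node (nat_lit 0xaa0a6ce5b90) (.leaf (nat_lit 0xaa0a0cfcc57) (nat_lit 3074))
 (.leaf (nat_lit 0xaa0a6ce5b90) (nat_lit 2562))
) (.node (nat_lit 0xaa116cec954) (.leaf (nat_lit 0xaa106636b90) (nat_lit 3073))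
 (.node (nat_lit 0xaa13fe664f5) (.leaf (nat_lit 0xaa116cec954) (nat_lit 3073))
 (.leaf (nat_lit 0xaa13fe664f5) (nat_lit 2561))
))) (.node (nat_lit 0xaa15e21131b) (.node (nat_lit 0xaa15b43aa4f) (.leaf (nat_lit 0xaa140611154) (nat_lit 2561))
 (.node (nat_lit 0xaa15d8fccf5) (.leaf (nat_lit 0xaa15b43aa4f) (nat_lit 2305))
 (.leaf (nat_lit 0xaa15d8fccf5) (nat_lit 2562))
)) (.node (nat_lit 0xaa40a83b24d) (.leaf (nat_lit 0xaa15e21131b) (nat_lit 3072))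
 (.node (nat_lit 0xaa40e5b6455) (.leaf (nat_lit 0xaa40a83b24d) (nat_lit 1793))
 (.leaf (nat_lit 0xaa40e5b6455) (nat_lit 2818))
)))) (.node (nat_lit 0xaa4aa4e51d4) (.node (nat_lit 0xaa46ad09abe) (.node (nat_lit 0xaa41490994f) (.leaf (nat_lit 0xaa40e63aabe) (nat_lit 2305))
 (.node (nat_lit 0xaa45fa05b1a) (.leaf (nat_lit 0xaa41490994f) (nat_lit 2306))
 (.leaf (nat_lit 0xaa45fa05b1a) (nat_lit 3072))
)) (.node (nat_lit 0xaa49321b9d4) (.leaf (nat_lit 0xaa46ad09abe) (nat_lit 2818))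
 (.node (nat_lit 0xaa49ddb63f7) (.leaf (nat_lit 0xaa49321b9d4) (nat_lit 2818))
 (.leaf (nat_lit 0xaa49ddb63f7) (nat_lit 3073))
))) (.node (nat_lit 0xaa53a69bd23) (.node (nat_lit 0xaa4c121b8a3) (.leaf (nat_lit 0xaa4aa4e51d4) (nat_lit 3074))
 (.node (nat_lit 0xaa4c3a05a82) (.leaf (nat_lit 0xaa4c121b8a3) (nat_lit 2817))
 (.leaf (nat_lit 0xaa4c3a05a82) (nat_lit 2817))
)) (.node (nat_lit 0xaa53c0ec3f7) (.leaf (nat_lit 0xaa53a69bd23) (nat_lit 1538))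
 (.node (nat_lit 0xaa552e9bd23) (.leaf (nat_lit 0xaa53c0ec3f7) (nat_lit 3074))
 (.leaf (nat_lit 0xaa552e9bd23) (nat_lit 3329))
))))))) (.node (nat_lit 0xab55a2bea82) (.node (nat_lit 0xab25e83b8e6) (.node (nat_lit 0xab0db8cf1b0) (.node (nat_lit 0xab03f2353ca) (.node (nat_lit 0xab00e6942bd) (.node (nat_lit 0xab00e4a451a) (.leaf (nat_lit 0xaa555e65282) (nat_lit 2817))
 (.leaf (nat_lit 0xab00e4a451a) (nat_lit 2817))
) (.node (nat_lit 0xab017a8a9b0) (.leaf (nat_lit 0xab00e6942bd) (nat_lit 2562))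
 (.node (nat_lit 0xab01ecbc530) (.leaf (nat_lit 0xab017a8a9b0) (nat_lit 3073))
 (.leaf (nat_lit 0xab01ecbc530) (nat_lit 3330))
))) (.node (nat_lit 0xab0a3c0cac8) (.node (nat_lit 0xab07400eac8) (.leaf (nat_lit 0xab03f2353ca) (nat_lit 3585))
 (.node (nat_lit 0xab08d6a0bca) (.leaf (nat_lit 0xab07400eac8) (nat_lit 2306))
 (.leaf (nat_lit 0xab08d6a0bca) (nat_lit 2306))
)) (.node (nat_lit 0xab0aa49aa61) (.leaf (nat_lit 0xab0a3c0cac8) (nat_lit 3073))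
 (.node (nat_lit 0xab0d200cb1f) (.leaf (nat_lit 0xab0aa49aa61) (nat_lit 3073))
 (.leaf (nat_lit 0xab0d200cb1f) (nat_lit 2049))
)))) (.node (nat_lit 0xab20e5d54d8) (.node (nat_lit 0xab0fd425855) (.node (nat_lit 0xab0e01a84d9) (.leaf (nat_lit 0xab0db8cf1b0) (nat_lit 2561))
 (.leaf (nat_lit 0xab0e01a84d9) (nat_lit 2306))
) (.node (nat_lit 0xab131483a61) (.leaf (nat_lit 0xab0fd425855) (nat_lit 2817))
 (.node (nat_lit 0xab15b1bc2bd) (.leaf (nat_lit 0xab131483a61) (nat_lit 3073))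
 (.leaf (nat_lit 0xab15b1bc2bd) (nat_lit 2817))
))) (.node (nat_lit 0xab235552532) (.node (nat_lit 0xab20e5ef94e) (.leaf (nat_lit 0xab20e5d54d8) (nat_lit 2050))
 (.node (nat_lit 0xab2194f643a) (.leaf (nat_lit 0xab20e5ef94e) (nat_lit 2306))
 (.leaf (nat_lit 0xab2194f643a) (nat_lit 2560))
)) (.node (nat_lit 0xab23f40ca67) (.leaf (nat_lit 0xab235552532) (nat_lit 3072))
 (.node (nat_lit 0xab248d1e14e) (.leaf (nat_lit 0xab23f40ca67) (nat_lit 2304))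
 (.leaf (nat_lit 0xab248d1e14e) (nat_lit 2816))
))))) (.node (nat_lit 0xab40e60915d) (.node (nat_lit 0xab31f80c857) (.node (nat_lit 0xab2919aba7f) (.node (nat_lit 0xab26215951b) (.leaf (nat_lit 0xab25e83b8e6) (nat_lit 2561))
 (.leaf (nat_lit 0xab26215951b) (nat_lit 2304))
) (.node (nat_lit 0xab29301131d) (.leaf (nat_lit 0xab2919aba7f) (nat_lit 2816))
 (.node (nat_lit 0xab30610f27f) (.leaf (nat_lit 0xab29301131d) (nat_lit 2305))
 (.leaf (nat_lit 0xab30610f27f) (nat_lit 2050))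
))) (.node (nat_lit 0xab35b692a67) (.node (nat_lit 0xab3390440e6) (.leaf (nat_lit 0xab31f80c857) (nat_lit 2816))
 (.node (nat_lit 0xab355694c3a) (.leaf (nat_lit 0xab3390440e6) (nat_lit 2560))
 (.leaf (nat_lit 0xab355694c3a) (nat_lit 2562))
)) (.node (nat_lit 0xab40a858aae) (.leaf (nat_lit 0xab35b692a67) (nat_lit 2562))
 (.node (nat_lit 0xab40e4ff95d) (.leaf (nat_lit 0xab40a858aae) (nat_lit 2560))
 (.leaf (nat_lit 0xab40e4ff95d) (nat_lit 3073))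
)))) (.node (nat_lit 0xab493648960) (.node (nat_lit 0xab45e9a9a77) (.node (nat_lit 0xab42b181abd) (.leaf (nat_lit 0xab40e60915d) (nat_lit 2817))
 (.node (nat_lit 0xab437dd7a89) (.leaf (nat_lit 0xab42b181abd) (nat_lit 2817))
 (.leaf (nat_lit 0xab437dd7a89) (nat_lit 2818))
)) (.node (nat_lit 0xab4804642ae) (.leaf (nat_lit 0xab45e9a9a77) (nat_lit 2817))
 (.node (nat_lit 0xab49019ba82) (.leaf (nat_lit 0xab4804642ae) (nat_lit 2817))
 (.leaf (nat_lit 0xab49019ba82) (nat_lit 2817))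
))) (.node (nat_lit 0xab4b2c0c92f) (.node (nat_lit 0xab49500cbf4) (.leaf (nat_lit 0xab493648960) (nat_lit 2562))
 (.node (nat_lit 0xab49d020bf4) (.leaf (nat_lit 0xab49500cbf4) (nat_lit 2818))
 (.leaf (nat_lit 0xab49d020bf4) (nat_lit 2816))
)) (.node (nat_lit 0xab5314632da) (.leaf (nat_lit 0xab4b2c0c92f) (nat_lit 3586))
 (.node (nat_lit 0xab5435cf277) (.leaf (nat_lit 0xab5314632da) (nat_lit 3073))
 (.leaf (nat_lit 0xab5435cf277) (nat_lit 2560))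
)))))) (.node (nat_lit 0xacca21d257f) (.node (nat_lit 0xab6b241131d) (.node (nat_lit 0xab67409ab1d) (.node (nat_lit 0xab60e4182c8) (.node (nat_lit 0xab60e40cac8) (.leaf (nat_lit 0xab55a2bea82) (nat_lit 2561))
 (.leaf (nat_lit 0xab60e40cac8) (nat_lit 2817))
) (.node (nat_lit 0xab62aca4207) (.leaf (nat_lit 0xab60e4182c8) (nat_lit 2817))
 (.node (nat_lit 0xab64ca2128a) (.leaf (nat_lit 0xab62aca4207) (nat_lit 2817))
 (.leaf (nat_lit 0xab64ca2128a) (nat_lit 3840))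
))) (.node (nat_lit 0xab6a20eeaf5) (.node (nat_lit 0xab69329ca07) (.leaf (nat_lit 0xab67409ab1d) (nat_lit 2817))
 (.node (nat_lit 0xab693d0d961) (.leaf (nat_lit 0xab69329ca07) (nat_lit 2560))
 (.leaf (nat_lit 0xab693d0d961) (nat_lit 2817))
)) (.node (nat_lit 0xab6a3896931) (.leaf (nat_lit 0xab6a20eeaf5) (nat_lit 3329))
 (.node (nat_lit 0xab6ac1592f5) (.leaf (nat_lit 0xab6a3896931) (nat_lit 3329))
 (.leaf (nat_lit 0xab6ac1592f5) (nat_lit 3073))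
)))) (.node (nat_lit 0xacc0e5e3925) (.node (nat_lit 0xab74700cadc) (.node (nat_lit 0xab6d059b41e) (.leaf (nat_lit 0xab6b241131d) (nat_lit 2304))
 (.node (nat_lit 0xab7159da2be) (.leaf (nat_lit 0xab6d059b41e) (nat_lit 3072))
 (.leaf (nat_lit 0xab7159da2be) (nat_lit 2562))
)) (.node (nat_lit 0xab74a9e3c1e) (.leaf (nat_lit 0xab74700cadc) (nat_lit 2049))
 (.node (nat_lit 0xacc0e4d4989) (.leaf (nat_lit 0xab74a9e3c1e) (nat_lit 2561))
 (.leaf (nat_lit 0xacc0e4d4989) (nat_lit 2560))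
))) (.node (nat_lit 0xacc38915925) (.node (nat_lit 0xacc0f5cb8de) (.leaf (nat_lit 0xacc0e5e3925) (nat_lit 2818))
 (.node (nat_lit 0xacc2ac0c845) (.leaf (nat_lit 0xacc0f5cb8de) (nat_lit 3074))
 (.leaf (nat_lit 0xacc2ac0c845) (nat_lit 3074))
)) (.node (nat_lit 0xacc7411b045) (.leaf (nat_lit 0xacc38915925) (nat_lit 2818))
 (.node (nat_lit 0xacc9359bc39) (.leaf (nat_lit 0xacc7411b045) (nat_lit 2049))
 (.leaf (nat_lit 0xacc9359bc39) (nat_lit 3329))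
))))) (.node (nat_lit 0xace5d00c8af) (.node (nat_lit 0xacd47ddac39) (.node (nat_lit 0xaccef8eebf7) (.node (nat_lit 0xaccc6039189) (.leaf (nat_lit 0xacca21d257f) (nat_lit 1537))
 (.leaf (nat_lit 0xaccc6039189) (nat_lit 3074))
) (.node (nat_lit 0xaccf28968b0) (.leaf (nat_lit 0xaccef8eebf7) (nat_lit 1536))
 (.node (nat_lit 0xacd0611757f) (.leaf (nat_lit 0xaccf28968b0) (nat_lit 2818))
 (.leaf (nat_lit 0xacd0611757f) (nat_lit 2816))
))) (.node (nat_lit 0xace0a89e4aa) (.node (nat_lit 0xacd4ae02bce) (.leaf (nat_lit 0xacd47ddac39) (nat_lit 2818))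
 (.node (nat_lit 0xacd5b80cbf4) (.leaf (nat_lit 0xacd4ae02bce) (nat_lit 2050))
 (.leaf (nat_lit 0xacd5b80cbf4) (nat_lit 2817))
)) (.node (nat_lit 0xace0e5923cc) (.leaf (nat_lit 0xace0a89e4aa) (nat_lit 2305))
 (.node (nat_lit 0xace0e5a9457) (.leaf (nat_lit 0xace0e5923cc) (nat_lit 2049))
 (.leaf (nat_lit 0xace0e5a9457) (nat_lit 1794))
)))) (.node (nat_lit 0xacf210213f5) (.node (nat_lit 0xaceb35cf0db) (.node (nat_lit 0xace90647c5c) (.leaf (nat_lit 0xace5d00c8af) (nat_lit 2818))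
 (.node (nat_lit 0xace91835c14) (.leaf (nat_lit 0xace90647c5c) (nat_lit 2050))
 (.leaf (nat_lit 0xace91835c14) (nat_lit 2306))
)) (.node (nat_lit 0xacec1580abe) (.leaf (nat_lit 0xaceb35cf0db) (nat_lit 2817))
 (.node (nat_lit 0xacf1fdda2be) (.leaf (nat_lit 0xacec1580abe) (nat_lit 2561))
 (.leaf (nat_lit 0xacf1fdda2be) (nat_lit 2306))
))) (.node (nat_lit 0xacf4300ccaa) (.node (nat_lit 0xacf31446414) (.leaf (nat_lit 0xacf210213f5) (nat_lit 3072))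
 (.node (nat_lit 0xacf354ddbf9) (.leaf (nat_lit 0xacf31446414) (nat_lit 3073))
 (.leaf (nat_lit 0xacf354ddbf9) (nat_lit 2306))
)) (.node (nat_lit 0xacf4a8ffc57) (.leaf (nat_lit 0xacf4300ccaa) (nat_lit 3073))
 (.node (nat_lit 0xacf5599645c) (.leaf (nat_lit 0xacf4a8ffc57) (nat_lit 2562))
 (.leaf (nat_lit 0xacf5599645c) (nat_lit 2562))
)))))))))))

/-- A listed class. -/
noncomputable def S_t : ST :=
  .node (nat_lit 0x446da40c8c3) (.node (nat_lit 0x1943591c000) S0_t S1_t) (.node (nat_lit 0x7bb3680f24d) S2_t S3_t)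

theorem S0_ok : S0_t.all2 (orbLeaf A [(nat_lit 0x91f80e03f), (nat_lit 0xe82b003800), (nat_lit 0x12f13800019)] (nat_lit 0x28a8d448d6a) S_t) = true := by decide +kernel

theorem S1_ok : S1_t.all2 (orbLeaf A [(nat_lit 0x91f80e03f), (nat_lit 0xe82b003800), (nat_lit 0x12f13800019)] (nat_lit 0x28a8d448d6a) S_t) = true := by decide +kernel

theorem S2_ok : S2_t.all2 (orbLeaf A [(nat_lit 0x91f80e03f), (nat_lit 0xe82b003800), (nat_lit 0x12f13800019)] (nat_lit 0x28a8d448d6a) S_t) = true := by decide +kernel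

theorem S3_ok : S3_t.all2 (orbLeaf A [(nat_lit 0x91f80e03f), (nat_lit 0xe82b003800), (nat_lit 0x12f13800019)] (nat_lit 0x28a8d448d6a) S_t) = true := by decide +kernel

theorem all2_node {k : ℕ} {l r : ST} {f : ℕ → ℕ → Bool} (h1 : l.all2 f = true) (h2 : r.all2 f = true) :
    (ST.node k l r).all2 f = true := (band_iff _ _).2 ⟨h1, h2⟩

theorem S_ok : orbOK A [(nat_lit 0x91f80e03f), (nat_lit 0xe82b003800), (nat_lit 0x12f13800019)] (nat_lit 0x28a8d448d6a) S_t (nat_lit 5775) = true :=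
  (band_iff _ _).2 ⟨by decide +kernel, (band_iff _ _).2 ⟨all2_node (all2_node S0_ok S1_ok) (all2_node S2_ok S3_ok),
    by decide +kernel⟩⟩

end Cfsg.Agent.Rec.HN
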