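import Mathlib
import Cfsg.Agent.Rec.HN.Cod
import Cfsg.Agent.Rec.Orb

/-! A class of involutions and a Sylow subgroup of `2.HS.2`. -/

set_option autoImplicit false
set_option maxRecDepth 100000
set_option exponentiation.threshold 100000

namespace Cfsg.Agent.Rec.HN

open Cfsg.Agent.Spor Cfsg.Agent.Rec

/-- A listed class. -/
noncomputable def Z_t : ST :=
(.node (nat_lit 0x58c7b95d996) (.node (nat_lit 0x2094f18e0c4) (.node (nat_lit 0x130eb0c896d) (.node (nat_lit 0xc34f494134) (.node (nat_lit 0x4a0840ac6f) (.node (nat_lit 0x22ec48a079) (.node (nat_lit 0x14e40a801) (.node (nat_lit 0xc058a801) (.node (nat_lit 0x7158f001) (.node (nat_lit 0x53024001) (.node (nat_lit 0x52d07801) (.leaf (nat_lit 0x52c7a801) (nat_lit 3074))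
 (.leaf (nat_lit 0x52d07801) (nat_lit 3073))
) (.node (nat_lit 0x71494001) (.leaf (nat_lit 0x53024001) (nat_lit 3584))
 (.leaf (nat_lit 0x71494001) (nat_lit 2562))
)) (.node (nat_lit 0xac653001) (.node (nat_lit 0xac507801) (.leaf (nat_lit 0x7158f001) (nat_lit 2306))
 (.leaf (nat_lit 0xac507801) (nat_lit 3328))
) (.node (nat_lit 0xc040a801) (.leaf (nat_lit 0xac653001) (nat_lit 2306))
 (.leaf (nat_lit 0xc040a801) (nat_lit 3841))
))) (.node (nat_lit 0x10a48a801) (.node (nat_lit 0xd7894001) (.node (nat_lit 0xd580a801) (.leaf (nat_lit 0xc058a801) (nat_lit 2562))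
 (.leaf (nat_lit 0xd580a801) (nat_lit 3841))
) (.node (nat_lit 0xfc58a801) (.leaf (nat_lit 0xd7894001) (nat_lit 2817))
 (.leaf (nat_lit 0xfc58a801) (nat_lit 2818))
)) (.node (nat_lit 0x10f42b001) (.node (nat_lit 0x10c894001) (.leaf (nat_lit 0x10a48a801) (nat_lit 3072))
 (.leaf (nat_lit 0x10c894001) (nat_lit 3074))
) (.node (nat_lit 0x110d8a801) (.leaf (nat_lit 0x10f42b001) (nat_lit 3329))
 (.node (nat_lit 0x11348a801) (.leaf (nat_lit 0x110d8a801) (nat_lit 2048))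
 (.leaf (nat_lit 0x11348a801) (nat_lit 3073))
))))) (.node (nat_lit 0x227182001a) (.node (nat_lit 0x220902c167) (.node (nat_lit 0x14f121801) (.node (nat_lit 0x14f08a801) (.leaf (nat_lit 0x14e40a801) (nat_lit 3584))
 (.leaf (nat_lit 0x14f08a801) (nat_lit 2305))
) (.node (nat_lit 0x150507801) (.leaf (nat_lit 0x14f121801) (nat_lit 1538))
 (.leaf (nat_lit 0x150507801) (nat_lit 2048))
)) (.node (nat_lit 0x221d87a0ca) (.node (nat_lit 0x220dc7a0ca) (.leaf (nat_lit 0x220902c167) (nat_lit 2306))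
 (.leaf (nat_lit 0x220dc7a0ca) (nat_lit 2562))
) (.node (nat_lit 0x221d9080ca) (.leaf (nat_lit 0x221d87a0ca) (nat_lit 2305))
 (.leaf (nat_lit 0x221d9080ca) (nat_lit 3072))
))) (.node (nat_lit 0x2282c2c079) (.node (nat_lit 0x227be5404d) (.node (nat_lit 0x227698e109) (.leaf (nat_lit 0x227182001a) (nat_lit 3329))
 (.leaf (nat_lit 0x227698e109) (nat_lit 2817))
) (.node (nat_lit 0x228247a33a) (.leaf (nat_lit 0x227be5404d) (nat_lit 2562))
 (.leaf (nat_lit 0x228247a33a) (nat_lit 1793))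
)) (.node (nat_lit 0x22eac23074) (.node (nat_lit 0x2284e54081) (.leaf (nat_lit 0x2282c2c079) (nat_lit 3074))
 (.leaf (nat_lit 0x2284e54081) (nat_lit 3074))
) (.node (nat_lit 0x22eac94881) (.leaf (nat_lit 0x22eac23074) (nat_lit 3840))
 (.node (nat_lit 0x22ec423074) (.leaf (nat_lit 0x22eac94881) (nat_lit 2305))
 (.leaf (nat_lit 0x22ec423074) (nat_lit 3840))
)))))) (.node (nat_lit 0x2485653082) (.node (nat_lit 0x2408c2b164) (.node (nat_lit 0x231398e044) (.node (nat_lit 0x22fb42c079) (.node (nat_lit 0x22ee00b874) (.leaf (nat_lit 0x22ec48a079) (nat_lit 3073))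
 (.leaf (nat_lit 0x22ee00b874) (nat_lit 3330))
) (.node (nat_lit 0x22fb58e109) (.leaf (nat_lit 0x22fb42c079) (nat_lit 2818))
 (.leaf (nat_lit 0x22fb58e109) (nat_lit 2816))
)) (.node (nat_lit 0x232f18b909) (.node (nat_lit 0x2323823195) (.leaf (nat_lit 0x231398e044) (nat_lit 3328))
 (.leaf (nat_lit 0x2323823195) (nat_lit 2304))
) (.node (nat_lit 0x232f254081) (.leaf (nat_lit 0x232f18b909) (nat_lit 2818))
 (.leaf (nat_lit 0x232f254081) (nat_lit 2817))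
))) (.node (nat_lit 0x2471c1f81c) (.node (nat_lit 0x241d47a8c9) (.node (nat_lit 0x240d87a8c9) (.leaf (nat_lit 0x2408c2b164) (nat_lit 2562))
 (.leaf (nat_lit 0x240d87a8c9) (nat_lit 2306))
) (.node (nat_lit 0x241d5078c9) (.leaf (nat_lit 0x241d47a8c9) (nat_lit 2561))
 (.leaf (nat_lit 0x241d5078c9) (nat_lit 3328))
)) (.node (nat_lit 0x247ba5304e) (.node (nat_lit 0x247718f10a) (.leaf (nat_lit 0x2471c1f81c) (nat_lit 3585))
 (.leaf (nat_lit 0x247718f10a) (nat_lit 2561))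
) (.node (nat_lit 0x248207ab3b) (.leaf (nat_lit 0x247ba5304e) (nat_lit 2818))
 (.node (nat_lit 0x248282b07a) (.leaf (nat_lit 0x248207ab3b) (nat_lit 1537))
 (.leaf (nat_lit 0x248282b07a) (nat_lit 2818))
))))) (.node (nat_lit 0x2513d8f043) (.node (nat_lit 0x24ecc8a87a) (.node (nat_lit 0x24eb094082) (.node (nat_lit 0x24eb024071) (.leaf (nat_lit 0x2485653082) (nat_lit 2818))
 (.leaf (nat_lit 0x24eb024071) (nat_lit 4096))
) (.node (nat_lit 0x24ecc24071) (.leaf (nat_lit 0x24eb094082) (nat_lit 2049))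
 (.leaf (nat_lit 0x24ecc24071) (nat_lit 3584))
)) (.node (nat_lit 0x24fb02b07a) (.node (nat_lit 0x24eec0a871) (.leaf (nat_lit 0x24ecc8a87a) (nat_lit 2817))
 (.leaf (nat_lit 0x24eec0a871) (nat_lit 3586))
) (.node (nat_lit 0x24fb18f10a) (.leaf (nat_lit 0x24fb02b07a) (nat_lit 2562))
 (.leaf (nat_lit 0x24fb18f10a) (nat_lit 2560))
))) (.node (nat_lit 0x2b4ecc896d) (.node (nat_lit 0x252f58a90a) (.node (nat_lit 0x2524024194) (.leaf (nat_lit 0x2513d8f043) (nat_lit 3072))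
 (.leaf (nat_lit 0x2524024194) (nat_lit 2048))
) (.node (nat_lit 0x252f653082) (.leaf (nat_lit 0x252f58a90a) (nat_lit 2562))
 (.leaf (nat_lit 0x252f653082) (nat_lit 2561))
)) (.node (nat_lit 0x2f4e8c796c) (.node (nat_lit 0x2cc04c716b) (.leaf (nat_lit 0x2b4ecc896d) (nat_lit 1537))
 (.leaf (nat_lit 0x2cc04c716b) (nat_lit 3329))
) (.node (nat_lit 0x30c0cc8166) (.leaf (nat_lit 0x2f4e8c796c) (nat_lit 1793))
 (.node (nat_lit 0x4a0382402d) (.leaf (nat_lit 0x30c0cc8166) (nat_lit 3073))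
 (.leaf (nat_lit 0x4a0382402d) (nat_lit 3330))
))))))) (.node (nat_lit 0x4f0c82c034) (.node (nat_lit 0x4b1358f136) (.node (nat_lit 0x4a6fc2b038) (.node (nat_lit 0x4a36a5300d) (.node (nat_lit 0x4a171218ca) (.node (nat_lit 0x4a1702402d) (.leaf (nat_lit 0x4a0840ac6f) (nat_lit 2049))
 (.leaf (nat_lit 0x4a1702402d) (nat_lit 3073))
) (.node (nat_lit 0x4a23e5346f) (.leaf (nat_lit 0x4a171218ca) (nat_lit 2562))
 (.leaf (nat_lit 0x4a23e5346f) (nat_lit 2816))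
)) (.node (nat_lit 0x4a4f58a82d) (.node (nat_lit 0x4a36a5346f) (.leaf (nat_lit 0x4a36a5300d) (nat_lit 2561))
 (.leaf (nat_lit 0x4a36a5346f) (nat_lit 2816))
) (.node (nat_lit 0x4a52d07b3a) (.leaf (nat_lit 0x4a4f58a82d) (nat_lit 2818))
 (.leaf (nat_lit 0x4a52d07b3a) (nat_lit 2816))
))) (.node (nat_lit 0x4b0a58f136) (.node (nat_lit 0x4ad7d8f054) (.node (nat_lit 0x4a6fd21b3a) (.leaf (nat_lit 0x4a6fc2b038) (nat_lit 2306))
 (.leaf (nat_lit 0x4a6fd21b3a) (nat_lit 2817))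
) (.node (nat_lit 0x4b0a42b12a) (.leaf (nat_lit 0x4ad7d8f054) (nat_lit 2049))
 (.leaf (nat_lit 0x4b0a42b12a) (nat_lit 2561))
)) (.node (nat_lit 0x4b0f094038) (.node (nat_lit 0x4b0c42b038) (.leaf (nat_lit 0x4b0a58f136) (nat_lit 2816))
 (.leaf (nat_lit 0x4b0c42b038) (nat_lit 2818))
) (.node (nat_lit 0x4b1081f81c) (.leaf (nat_lit 0x4b0f094038) (nat_lit 2561))
 (.node (nat_lit 0x4b1342408b) (.leaf (nat_lit 0x4b1081f81c) (nat_lit 2561))
 (.leaf (nat_lit 0x4b1342408b) (nat_lit 2561))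
))))) (.node (nat_lit 0x4e35e5400c) (.node (nat_lit 0x4e0880bc6e) (.node (nat_lit 0x4b4f121b3a) (.node (nat_lit 0x4b17c8a936) (.leaf (nat_lit 0x4b1358f136) (nat_lit 2561))
 (.leaf (nat_lit 0x4b17c8a936) (nat_lit 2818))
) (.node (nat_lit 0x4e0282302e) (.leaf (nat_lit 0x4b4f121b3a) (nat_lit 2562))
 (.leaf (nat_lit 0x4e0282302e) (nat_lit 3330))
)) (.node (nat_lit 0x4e16d210c9) (.node (nat_lit 0x4e16c2302e) (.leaf (nat_lit 0x4e0880bc6e) (nat_lit 2048))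
 (.leaf (nat_lit 0x4e16c2302e) (nat_lit 3329))
) (.node (nat_lit 0x4e23a5446e) (.leaf (nat_lit 0x4e16d210c9) (nat_lit 2306))
 (.leaf (nat_lit 0x4e23a5446e) (nat_lit 3072))
))) (.node (nat_lit 0x4e7142c034) (.node (nat_lit 0x4e4f18b82e) (.node (nat_lit 0x4e35e5446e) (.leaf (nat_lit 0x4e35e5400c) (nat_lit 2305))
 (.leaf (nat_lit 0x4e35e5446e) (nat_lit 2560))
) (.node (nat_lit 0x4e5050833b) (.leaf (nat_lit 0x4e4f18b82e) (nat_lit 2562))
 (.leaf (nat_lit 0x4e5050833b) (nat_lit 2560))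
)) (.node (nat_lit 0x4ed798e053) (.node (nat_lit 0x4e7152133b) (.leaf (nat_lit 0x4e7142c034) (nat_lit 2050))
 (.leaf (nat_lit 0x4e7152133b) (nat_lit 2561))
) (.node (nat_lit 0x4f0a02c12b) (.leaf (nat_lit 0x4ed798e053) (nat_lit 2305))
 (.node (nat_lit 0x4f0a18e137) (.leaf (nat_lit 0x4f0a02c12b) (nat_lit 2305))
 (.leaf (nat_lit 0x4f0a18e137) (nat_lit 2560))
)))))) (.node (nat_lit 0xc21708a896) (.node (nat_lit 0x78eb0ae0f6) (.node (nat_lit 0x4f1318e137) (.node (nat_lit 0x4f10c2001a) (.node (nat_lit 0x4f0f494834) (.leaf (nat_lit 0x4f0c82c034) (nat_lit 2562))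
 (.leaf (nat_lit 0x4f0f494834) (nat_lit 2817))
) (.node (nat_lit 0x4f1302308d) (.leaf (nat_lit 0x4f10c2001a) (nat_lit 2305))
 (.leaf (nat_lit 0x4f1302308d) (nat_lit 2305))
)) (.node (nat_lit 0x4f4f52133b) (.node (nat_lit 0x4f1788a137) (.leaf (nat_lit 0x4f1318e137) (nat_lit 2305))
 (.leaf (nat_lit 0x4f1788a137) (nat_lit 3074))
) (.node (nat_lit 0x76eacac0f3) (.leaf (nat_lit 0x4f4f52133b) (nat_lit 2818))
 (.leaf (nat_lit 0x76eacac0f3) (nat_lit 3328))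
))) (.node (nat_lit 0x914944c01f) (.node (nat_lit 0x80f6cc7807) (.node (nat_lit 0x7ef74c8808) (.leaf (nat_lit 0x78eb0ae0f6) (nat_lit 3072))
 (.leaf (nat_lit 0x7ef74c8808) (nat_lit 513))
) (.node (nat_lit 0x8d4904b820) (.leaf (nat_lit 0x80f6cc7807) (nat_lit 257))
 (.leaf (nat_lit 0x8d4904b820) (nat_lit 3585))
)) (.node (nat_lit 0xb01b04ba3b) (.node (nat_lit 0xac1ac4c23a) (.leaf (nat_lit 0x914944c01f) (nat_lit 3585))
 (.leaf (nat_lit 0xac1ac4c23a) (nat_lit 3073))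
) (.node (nat_lit 0xc20289407e) (.leaf (nat_lit 0xb01b04ba3b) (nat_lit 3073))
 (.node (nat_lit 0xc208907896) (.leaf (nat_lit 0xc20289407e) (nat_lit 2562))
 (.leaf (nat_lit 0xc208907896) (nat_lit 2305))
))))) (.node (nat_lit 0xc2c0507934) (.node (nat_lit 0xc24f47a80c) (.node (nat_lit 0xc22ca5346f) (.node (nat_lit 0xc22c98a87e) (.leaf (nat_lit 0xc21708a896) (nat_lit 2049))
 (.leaf (nat_lit 0xc22c98a87e) (nat_lit 2561))
) (.node (nat_lit 0xc22f90787e) (.leaf (nat_lit 0xc22ca5346f) (nat_lit 1792))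
 (.leaf (nat_lit 0xc22f90787e) (nat_lit 3585))
)) (.node (nat_lit 0xc25302b192) (.node (nat_lit 0xc24f58a896) (.leaf (nat_lit 0xc24f47a80c) (nat_lit 3073))
 (.leaf (nat_lit 0xc24f58a896) (nat_lit 2048))
) (.node (nat_lit 0xc26fc8a934) (.leaf (nat_lit 0xc25302b192) (nat_lit 2306))
 (.node (nat_lit 0xc2c041f81c) (.leaf (nat_lit 0xc26fc8a934) (nat_lit 2304))
 (.leaf (nat_lit 0xc2c041f81c) (nat_lit 3841))
)))) (.node (nat_lit 0xc30f424071) (.node (nat_lit 0xc2d7c8a8d9) (.node (nat_lit 0xc2d581f81c) (.leaf (nat_lit 0xc2c0507934) (nat_lit 2560))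
 (.leaf (nat_lit 0xc2d581f81c) (nat_lit 3585))
) (.node (nat_lit 0xc2d7d8f035) (.leaf (nat_lit 0xc2d7c8a8d9) (nat_lit 3329))
 (.leaf (nat_lit 0xc2d7d8f035) (nat_lit 2304))
)) (.node (nat_lit 0xc313121995) (.node (nat_lit 0xc3130940d9) (.leaf (nat_lit 0xc30f424071) (nat_lit 3585))
 (.leaf (nat_lit 0xc3130940d9) (nat_lit 2306))
) (.node (nat_lit 0xc323d8a8d9) (.leaf (nat_lit 0xc313121995) (nat_lit 1024))
 (.node (nat_lit 0xc34e41f81c) (.leaf (nat_lit 0xc323d8a8d9) (nat_lit 2562))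
 (.leaf (nat_lit 0xc34e41f81c) (nat_lit 3585))
)))))))) (.node (nat_lit 0x1061da5304a) (.node (nat_lit 0xc8eec570f3) (.node (nat_lit 0xc5134948d8) (.node (nat_lit 0xc44f18b894) (.node (nat_lit 0xc42c58b87f) (.node (nat_lit 0xc408508094) (.node (nat_lit 0xc40389487f) (.leaf (nat_lit 0xc34f494134) (nat_lit 2049))
 (.leaf (nat_lit 0xc40389487f) (nat_lit 2306))
) (.node (nat_lit 0xc416c8a094) (.leaf (nat_lit 0xc408508094) (nat_lit 2049))
 (.leaf (nat_lit 0xc416c8a094) (nat_lit 2305))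
)) (.node (nat_lit 0xc42f50807f) (.node (nat_lit 0xc42c65446e) (.leaf (nat_lit 0xc42c58b87f) (nat_lit 2562))
 (.leaf (nat_lit 0xc42c65446e) (nat_lit 1793))
) (.node (nat_lit 0xc44f07a00d) (.leaf (nat_lit 0xc42f50807f) (nat_lit 3585))
 (.leaf (nat_lit 0xc44f07a00d) (nat_lit 3329))
))) (.node (nat_lit 0xc4c0d08133) (.node (nat_lit 0xc47148a133) (.node (nat_lit 0xc45342c186) (.leaf (nat_lit 0xc44f18b894) (nat_lit 2304))
 (.leaf (nat_lit 0xc45342c186) (nat_lit 2050))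
) (.node (nat_lit 0xc4c0c2001a) (.leaf (nat_lit 0xc47148a133) (nat_lit 2560))
 (.leaf (nat_lit 0xc4c0c2001a) (nat_lit 4097))
)) (.node (nat_lit 0xc4d788a0d8) (.node (nat_lit 0xc4d5c2001a) (.leaf (nat_lit 0xc4c0d08133) (nat_lit 2304))
 (.leaf (nat_lit 0xc4d5c2001a) (nat_lit 3585))
) (.node (nat_lit 0xc4d798e033) (.leaf (nat_lit 0xc4d788a0d8) (nat_lit 3329))
 (.node (nat_lit 0xc50f023074) (.leaf (nat_lit 0xc4d798e033) (nat_lit 2048))
 (.leaf (nat_lit 0xc50f023074) (nat_lit 3329))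
))))) (.node (nat_lit 0xc8768140f3) (.node (nat_lit 0xc54f094933) (.node (nat_lit 0xc52458b8d8) (.node (nat_lit 0xc513521194) (.leaf (nat_lit 0xc5134948d8) (nat_lit 2562))
 (.leaf (nat_lit 0xc513521194) (nat_lit 1280))
) (.node (nat_lit 0xc54e02001a) (.leaf (nat_lit 0xc52458b8d8) (nat_lit 2818))
 (.leaf (nat_lit 0xc54e02001a) (nat_lit 3329))
)) (.node (nat_lit 0xc859c5d524) (.node (nat_lit 0xc8092030bd) (.leaf (nat_lit 0xc54f094933) (nat_lit 1793))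
 (.leaf (nat_lit 0xc8092030bd) (nat_lit 1281))
) (.node (nat_lit 0xc86f8ac0f3) (.leaf (nat_lit 0xc859c5d524) (nat_lit 3329))
 (.leaf (nat_lit 0xc86f8ac0f3) (nat_lit 2305))
))) (.node (nat_lit 0xc884c990f3) (.node (nat_lit 0xc87b9238f3) (.node (nat_lit 0xc87b815169) (.leaf (nat_lit 0xc8768140f3) (nat_lit 3585))
 (.leaf (nat_lit 0xc87b815169) (nat_lit 3072))
) (.node (nat_lit 0xc8825828f3) (.leaf (nat_lit 0xc87b9238f3) (nat_lit 3072))
 (.leaf (nat_lit 0xc8825828f3) (nat_lit 2306))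
)) (.node (nat_lit 0xc8e20570f3) (.node (nat_lit 0xc8a9c368f3) (.leaf (nat_lit 0xc884c990f3) (nat_lit 2562))
 (.leaf (nat_lit 0xc8a9c368f3) (nat_lit 3074))
) (.node (nat_lit 0xc8eac75107) (.leaf (nat_lit 0xc8e20570f3) (nat_lit 2816))
 (.node (nat_lit 0xc8eac8f8f3) (.leaf (nat_lit 0xc8eac75107) (nat_lit 1281))
 (.leaf (nat_lit 0xc8eac8f8f3) (nat_lit 2562))
)))))) (.node (nat_lit 0xd2821820f6) (.node (nat_lit 0xc94d0ac0f3) (.node (nat_lit 0xc8fb0830f3) (.node (nat_lit 0xc8f74140f3) (.node (nat_lit 0xc8eeeb50ee) (.leaf (nat_lit 0xc8eec570f3) (nat_lit 2816))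
 (.leaf (nat_lit 0xc8eeeb50ee) (nat_lit 2816))
) (.node (nat_lit 0xc8f74c60f3) (.leaf (nat_lit 0xc8f74140f3) (nat_lit 3584))
 (.leaf (nat_lit 0xc8f74c60f3) (nat_lit 2050))
)) (.node (nat_lit 0xc90dc990f3) (.node (nat_lit 0xc90dc1e89a) (.leaf (nat_lit 0xc8fb0830f3) (nat_lit 2562))
 (.leaf (nat_lit 0xc90dc1e89a) (nat_lit 2817))
) (.node (nat_lit 0xc92f5828f3) (.leaf (nat_lit 0xc90dc990f3) (nat_lit 2562))
 (.leaf (nat_lit 0xc92f5828f3) (nat_lit 2306))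
))) (.node (nat_lit 0xd25905dd25) (.node (nat_lit 0xd06fe0b00b) (.node (nat_lit 0xcc7160b809) (.leaf (nat_lit 0xc94d0ac0f3) (nat_lit 2305))
 (.leaf (nat_lit 0xcc7160b809) (nat_lit 1281))
) (.node (nat_lit 0xd208e038be) (.leaf (nat_lit 0xd06fe0b00b) (nat_lit 1025))
 (.leaf (nat_lit 0xd208e038be) (nat_lit 1025))
)) (.node (nat_lit 0xd2770130f6) (.node (nat_lit 0xd2708ae0f6) (.leaf (nat_lit 0xd25905dd25) (nat_lit 3073))
 (.leaf (nat_lit 0xd2708ae0f6) (nat_lit 2561))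
) (.node (nat_lit 0xd27bc16168) (.leaf (nat_lit 0xd2770130f6) (nat_lit 3841))
 (.node (nat_lit 0xd27bd230f6) (.leaf (nat_lit 0xd27bc16168) (nat_lit 2816))
 (.leaf (nat_lit 0xd27bd230f6) (nat_lit 3328))
))))) (.node (nat_lit 0xd2f6cc50f6) (.node (nat_lit 0xd2eb074108) (.node (nat_lit 0xd2a98378f6) (.node (nat_lit 0xd2854980f6) (.leaf (nat_lit 0xd2821820f6) (nat_lit 2562))
 (.leaf (nat_lit 0xd2854980f6) (nat_lit 2818))
) (.node (nat_lit 0xd2e24560f6) (.leaf (nat_lit 0xd2a98378f6) (nat_lit 3330))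
 (.leaf (nat_lit 0xd2e24560f6) (nat_lit 3072))
)) (.node (nat_lit 0xd2ee0560f6) (.node (nat_lit 0xd2eb0900f6) (.leaf (nat_lit 0xd2eb074108) (nat_lit 1537))
 (.leaf (nat_lit 0xd2eb0900f6) (nat_lit 2306))
) (.node (nat_lit 0xd2ee2b68ed) (.leaf (nat_lit 0xd2ee0560f6) (nat_lit 3072))
 (.node (nat_lit 0xd2f6c130f6) (.leaf (nat_lit 0xd2ee2b68ed) (nat_lit 2816))
 (.leaf (nat_lit 0xd2f6c130f6) (nat_lit 3584))
)))) (.node (nat_lit 0xd32f1820f6) (.node (nat_lit 0xd30d81f09c) (.node (nat_lit 0xd2fb4828f6) (.leaf (nat_lit 0xd2f6cc50f6) (nat_lit 1794))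
 (.leaf (nat_lit 0xd2fb4828f6) (nat_lit 2562))
) (.node (nat_lit 0xd30d8980f6) (.leaf (nat_lit 0xd30d81f09c) (nat_lit 3073))
 (.leaf (nat_lit 0xd30d8980f6) (nat_lit 2561))
)) (.node (nat_lit 0x10603521967) (.node (nat_lit 0xd34d4ae0f6) (.leaf (nat_lit 0xd32f1820f6) (nat_lit 2050))
 (.leaf (nat_lit 0xd34d4ae0f6) (nat_lit 2049))
) (.node (nat_lit 0x1060908a967) (.leaf (nat_lit 0x10603521967) (nat_lit 2560))
 (.node (nat_lit 0x10609121967) (.leaf (nat_lit 0x1060908a967) (nat_lit 2305))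
 (.leaf (nat_lit 0x10609121967) (nat_lit 3073))
))))))) (.node (nat_lit 0x1090de5410f) (.node (nat_lit 0x1074ec240b3) (.node (nat_lit 0x106eed8a910) (.node (nat_lit 0x10682c9412b) (.node (nat_lit 0x10671d078b3) (.node (nat_lit 0x1067098f035) (.leaf (nat_lit 0x1061da5304a) (nat_lit 2306))
 (.leaf (nat_lit 0x1067098f035) (nat_lit 2049))
) (.node (nat_lit 0x1068207a92b) (.leaf (nat_lit 0x10671d078b3) (nat_lit 3329))
 (.leaf (nat_lit 0x1068207a92b) (nat_lit 1793))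
)) (.node (nat_lit 0x10685653110) (.node (nat_lit 0x10682d21879) (.leaf (nat_lit 0x10682c9412b) (nat_lit 2560))
 (.leaf (nat_lit 0x10682d21879) (nat_lit 2562))
) (.node (nat_lit 0x1068b18f035) (.leaf (nat_lit 0x10685653110) (nat_lit 2306))
 (.leaf (nat_lit 0x1068b18f035) (nat_lit 3074))
))) (.node (nat_lit 0x1070d81f81c) (.node (nat_lit 0x106fb0240b3) (.node (nat_lit 0x106f74240e7) (.leaf (nat_lit 0x106eed8a910) (nat_lit 2049))
 (.leaf (nat_lit 0x106f74240e7) (nat_lit 3072))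
) (.node (nat_lit 0x106fb18f186) (.leaf (nat_lit 0x106fb0240b3) (nat_lit 2816))
 (.leaf (nat_lit 0x106fb18f186) (nat_lit 2816))
)) (.node (nat_lit 0x1070fc0a835) (.node (nat_lit 0x1070da53110) (.leaf (nat_lit 0x1070d81f81c) (nat_lit 3073))
 (.leaf (nat_lit 0x1070da53110) (nat_lit 2050))
) (.node (nat_lit 0x1070fc7a834) (.leaf (nat_lit 0x1070fc0a835) (nat_lit 3073))
 (.node (nat_lit 0x1072f07a92b) (.leaf (nat_lit 0x1070fc7a834) (nat_lit 3329))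
 (.leaf (nat_lit 0x1072f07a92b) (nat_lit 2305))
))))) (.node (nat_lit 0x1088289492a) (.node (nat_lit 0x1081d654049) (.node (nat_lit 0x10808c8a164) (.node (nat_lit 0x10803121164) (.leaf (nat_lit 0x1074ec240b3) (nat_lit 3073))
 (.leaf (nat_lit 0x10803121164) (nat_lit 2816))
) (.node (nat_lit 0x10808d21164) (.leaf (nat_lit 0x10808c8a164) (nat_lit 2561))
 (.leaf (nat_lit 0x10808d21164) (nat_lit 2817))
)) (.node (nat_lit 0x108719080b4) (.node (nat_lit 0x1086f98e033) (.leaf (nat_lit 0x1081d654049) (nat_lit 2050))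
 (.leaf (nat_lit 0x1086f98e033) (nat_lit 1793))
) (.node (nat_lit 0x1088247a12a) (.leaf (nat_lit 0x108719080b4) (nat_lit 3073))
 (.leaf (nat_lit 0x1088247a12a) (nat_lit 2049))
))) (.node (nat_lit 0x108ee18b90f) (.node (nat_lit 0x10884e5410f) (.node (nat_lit 0x1088292107a) (.leaf (nat_lit 0x1088289492a) (nat_lit 2304))
 (.leaf (nat_lit 0x1088292107a) (nat_lit 2818))
) (.node (nat_lit 0x1088b58e033) (.leaf (nat_lit 0x10884e5410f) (nat_lit 2050))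
 (.leaf (nat_lit 0x1088b58e033) (nat_lit 3073))
)) (.node (nat_lit 0x108fb4230b4) (.node (nat_lit 0x108f6c230ec) (.leaf (nat_lit 0x108ee18b90f) (nat_lit 2305))
 (.leaf (nat_lit 0x108f6c230ec) (nat_lit 2816))
) (.node (nat_lit 0x108fb58e192) (.leaf (nat_lit 0x108fb4230b4) (nat_lit 3072))
 (.node (nat_lit 0x1090dc2001a) (.leaf (nat_lit 0x108fb58e192) (nat_lit 2818))
 (.leaf (nat_lit 0x1090dc2001a) (nat_lit 2817))
)))))) (.node (nat_lit 0x12ef6cc796c) (.node (nat_lit 0x12e71d8a16c) (.node (nat_lit 0x1094e8230b4) (.node (nat_lit 0x1090f87a038) (.node (nat_lit 0x1090f80b833) (.leaf (nat_lit 0x1090de5410f) (nat_lit 2306))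
 (.leaf (nat_lit 0x1090f80b833) (nat_lit 3073))
) (.node (nat_lit 0x1092f47a12a) (.leaf (nat_lit 0x1090f87a038) (nat_lit 3073))
 (.leaf (nat_lit 0x1092f47a12a) (nat_lit 2049))
)) (.node (nat_lit 0x12e590c788f) (.node (nat_lit 0x12e08cc78da) (.leaf (nat_lit 0x1094e8230b4) (nat_lit 3073))
 (.leaf (nat_lit 0x12e08cc78da) (nat_lit 2305))
) (.node (nat_lit 0x12e708c796c) (.leaf (nat_lit 0x12e590c788f) (nat_lit 2305))
 (.leaf (nat_lit 0x12e708c796c) (nat_lit 3329))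
))) (.node (nat_lit 0x12e8b0c796c) (.node (nat_lit 0x12e768c7893) (.node (nat_lit 0x12e7683096c) (.leaf (nat_lit 0x12e71d8a16c) (nat_lit 2562))
 (.leaf (nat_lit 0x12e7683096c) (nat_lit 1026))
) (.node (nat_lit 0x12e828c796c) (.leaf (nat_lit 0x12e768c7893) (nat_lit 2817))
 (.leaf (nat_lit 0x12e828c796c) (nat_lit 3073))
)) (.node (nat_lit 0x12eeacc796c) (.node (nat_lit 0x12ed68c796c) (.leaf (nat_lit 0x12e8b0c796c) (nat_lit 3585))
 (.leaf (nat_lit 0x12ed68c796c) (nat_lit 3073))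
) (.node (nat_lit 0x12eec4c796c) (.leaf (nat_lit 0x12eeacc796c) (nat_lit 2817))
 (.node (nat_lit 0x12eeed0716c) (.leaf (nat_lit 0x12eec4c796c) (nat_lit 3329))
 (.leaf (nat_lit 0x12eeed0716c) (nat_lit 2562))
))))) (.node (nat_lit 0x130090c88d7) (.node (nat_lit 0x12f13800019) (.node (nat_lit 0x12efb0c7803) (.node (nat_lit 0x12ef6e5b16c) (.leaf (nat_lit 0x12ef6cc796c) (nat_lit 2817))
 (.leaf (nat_lit 0x12ef6e5b16c) (nat_lit 2050))
) (.node (nat_lit 0x12efb0c796c) (.leaf (nat_lit 0x12efb0c7803) (nat_lit 768))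
 (.leaf (nat_lit 0x12efb0c796c) (nat_lit 3073))
)) (.node (nat_lit 0x12f4d4c796c) (.node (nat_lit 0x12f138c796c) (.leaf (nat_lit 0x12f13800019) (nat_lit 0))
 (.leaf (nat_lit 0x12f138c796c) (nat_lit 2049))
) (.node (nat_lit 0x12f4e8c7a64) (.leaf (nat_lit 0x12f4d4c796c) (nat_lit 2560))
 (.node (nat_lit 0x12f4e97d96c) (.leaf (nat_lit 0x12f4e8c7a64) (nat_lit 1793))
 (.leaf (nat_lit 0x12f4e97d96c) (nat_lit 3074))
)))) (.node (nat_lit 0x1307703116d) (.node (nat_lit 0x1306f8c896d) (.node (nat_lit 0x13059cc888e) (.leaf (nat_lit 0x130090c88d7) (nat_lit 2049))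
 (.leaf (nat_lit 0x13059cc888e) (nat_lit 2561))
) (.node (nat_lit 0x1307198b16d) (.leaf (nat_lit 0x1306f8c896d) (nat_lit 3073))
 (.leaf (nat_lit 0x1307198b16d) (nat_lit 2818))
)) (.node (nat_lit 0x13082cc896d) (.node (nat_lit 0x130770c8895) (.leaf (nat_lit 0x1307703116d) (nat_lit 770))
 (.leaf (nat_lit 0x130770c8895) (nat_lit 2561))
) (.node (nat_lit 0x1308b4c896d) (.leaf (nat_lit 0x13082cc896d) (nat_lit 2817))
 (.node (nat_lit 0x130d6cc896d) (.leaf (nat_lit 0x1308b4c896d) (nat_lit 3329))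
 (.leaf (nat_lit 0x130d6cc896d) (nat_lit 2817))
))))))))) (.node (nat_lit 0x1c30c936133) (.node (nat_lit 0x1a2e84ac08d) (.node (nat_lit 0x1441acd582d) (.node (nat_lit 0x14236a5d82e) (.node (nat_lit 0x13113cc896d) (.node (nat_lit 0x130f765b96d) (.node (nat_lit 0x130ee10896d) (.node (nat_lit 0x130eccc896d) (.leaf (nat_lit 0x130eb0c896d) (nat_lit 3073))
 (.leaf (nat_lit 0x130eccc896d) (nat_lit 3073))
) (.node (nat_lit 0x130f74c896d) (.leaf (nat_lit 0x130ee10896d) (nat_lit 2306))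
 (.leaf (nat_lit 0x130f74c896d) (nat_lit 2816))
)) (.node (nat_lit 0x130fb4c896d) (.node (nat_lit 0x130fb4c8804) (.leaf (nat_lit 0x130f765b96d) (nat_lit 2306))
 (.leaf (nat_lit 0x130fb4c8804) (nat_lit 512))
) (.node (nat_lit 0x13113c8981b) (.leaf (nat_lit 0x130fb4c896d) (nat_lit 3329))
 (.leaf (nat_lit 0x13113c8981b) (nat_lit 256))
))) (.node (nat_lit 0x1421724dc6e) (.node (nat_lit 0x1314ecc8a65) (.node (nat_lit 0x1314d0c896d) (.leaf (nat_lit 0x13113cc896d) (nat_lit 2305))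
 (.leaf (nat_lit 0x1314d0c896d) (nat_lit 2304))
) (.node (nat_lit 0x1314ed7d16d) (.leaf (nat_lit 0x1314ecc8a65) (nat_lit 2049))
 (.leaf (nat_lit 0x1314ed7d16d) (nat_lit 2818))
)) (.node (nat_lit 0x14223d5802e) (.node (nat_lit 0x1421b0d502e) (.leaf (nat_lit 0x1421724dc6e) (nat_lit 2562))
 (.leaf (nat_lit 0x1421b0d502e) (nat_lit 3073))
) (.node (nat_lit 0x14223e5d849) (.leaf (nat_lit 0x14223d5802e) (nat_lit 2561))
 (.node (nat_lit 0x1422c649c6e) (.leaf (nat_lit 0x14223e5d849) (nat_lit 2817))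
 (.leaf (nat_lit 0x1422c649c6e) (nat_lit 2048))
))))) (.node (nat_lit 0x142d78c60d8) (.node (nat_lit 0x14253130137) (.node (nat_lit 0x1424f42946e) (.node (nat_lit 0x1424f41500f) (.leaf (nat_lit 0x14236a5d82e) (nat_lit 2817))
 (.leaf (nat_lit 0x1424f41500f) (nat_lit 2049))
) (.node (nat_lit 0x14250457899) (.leaf (nat_lit 0x1424f42946e) (nat_lit 2048))
 (.leaf (nat_lit 0x14250457899) (nat_lit 2306))
)) (.node (nat_lit 0x1427160b899) (.node (nat_lit 0x1427156e937) (.leaf (nat_lit 0x14253130137) (nat_lit 3328))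
 (.leaf (nat_lit 0x1427156e937) (nat_lit 1025))
) (.node (nat_lit 0x142d5974137) (.leaf (nat_lit 0x1427160b899) (nat_lit 3073))
 (.leaf (nat_lit 0x142d5974137) (nat_lit 3072))
))) (.node (nat_lit 0x14310d650b9) (.node (nat_lit 0x142fc029035) (.node (nat_lit 0x142dd06e834) (.leaf (nat_lit 0x142d78c60d8) (nat_lit 2561))
 (.leaf (nat_lit 0x142dd06e834) (nat_lit 2816))
) (.node (nat_lit 0x142fc087034) (.leaf (nat_lit 0x142fc029035) (nat_lit 2049))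
 (.leaf (nat_lit 0x142fc087034) (nat_lit 2817))
)) (.node (nat_lit 0x1434e1740d0) (.node (nat_lit 0x1434e165034) (.leaf (nat_lit 0x14310d650b9) (nat_lit 2560))
 (.leaf (nat_lit 0x1434e165034) (nat_lit 2304))
) (.node (nat_lit 0x1434f60b899) (.leaf (nat_lit 0x1434e1740d0) (nat_lit 3073))
 (.node (nat_lit 0x14416e4d46f) (.leaf (nat_lit 0x1434f60b899) (nat_lit 2816))
 (.leaf (nat_lit 0x14416e4d46f) (nat_lit 2306))
)))))) (.node (nat_lit 0x1454e564838) (.node (nat_lit 0x14453531136) (.node (nat_lit 0x14435e5c82d) (.node (nat_lit 0x14423a5c84a) (.node (nat_lit 0x1442395d82d) (.leaf (nat_lit 0x1441acd582d) (nat_lit 2817))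
 (.leaf (nat_lit 0x1442395d82d) (nat_lit 2817))
) (.node (nat_lit 0x1442ca4946f) (.leaf (nat_lit 0x14423a5c84a) (nat_lit 2561))
 (.leaf (nat_lit 0x1442ca4946f) (nat_lit 2304))
)) (.node (nat_lit 0x1444f02846f) (.node (nat_lit 0x1444f016010) (.leaf (nat_lit 0x14435e5c82d) (nat_lit 2561))
 (.leaf (nat_lit 0x1444f016010) (nat_lit 1793))
) (.node (nat_lit 0x14452c5809b) (.leaf (nat_lit 0x1444f02846f) (nat_lit 2304))
 (.leaf (nat_lit 0x14452c5809b) (nat_lit 2050))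
))) (.node (nat_lit 0x144d7cc50d9) (.node (nat_lit 0x1446fe0b09b) (.node (nat_lit 0x1446fd6d936) (.leaf (nat_lit 0x14453531136) (nat_lit 3072))
 (.leaf (nat_lit 0x1446fd6d936) (nat_lit 1281))
) (.node (nat_lit 0x144d5d75136) (.leaf (nat_lit 0x1446fe0b09b) (nat_lit 2817))
 (.leaf (nat_lit 0x144d5d75136) (nat_lit 2816))
)) (.node (nat_lit 0x144fc428033) (.node (nat_lit 0x144dc872038) (.leaf (nat_lit 0x144d7cc50d9) (nat_lit 2305))
 (.leaf (nat_lit 0x144dc872038) (nat_lit 3072))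
) (.node (nat_lit 0x144fc486038) (.leaf (nat_lit 0x144fc428033) (nat_lit 2305))
 (.node (nat_lit 0x145109648bc) (.leaf (nat_lit 0x144fc486038) (nat_lit 3073))
 (.leaf (nat_lit 0x145109648bc) (nat_lit 2304))
))))) (.node (nat_lit 0x1a259d31023) (.node (nat_lit 0x14c6f936196) (.node (nat_lit 0x1454f20b09b) (.node (nat_lit 0x1454e5750cf) (.leaf (nat_lit 0x1454e564838) (nat_lit 2560))
 (.leaf (nat_lit 0x1454e5750cf) (nat_lit 2817))
) (.node (nat_lit 0x14a70936997) (.leaf (nat_lit 0x1454f20b09b) (nat_lit 3072))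
 (.leaf (nat_lit 0x14a70936997) (nat_lit 2560))
)) (.node (nat_lit 0x1a212522023) (.node (nat_lit 0x1a20d85600d) (.leaf (nat_lit 0x14c6f936196) (nat_lit 2304))
 (.leaf (nat_lit 0x1a20d85600d) (nat_lit 2560))
) (.node (nat_lit 0x1a259c83023) (.leaf (nat_lit 0x1a212522023) (nat_lit 2562))
 (.leaf (nat_lit 0x1a259c83023) (nat_lit 2305))
))) (.node (nat_lit 0x1a27bc56195) (.node (nat_lit 0x1a276919843) (.node (nat_lit 0x1a271d8288d) (.leaf (nat_lit 0x1a259d31023) (nat_lit 3073))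
 (.leaf (nat_lit 0x1a271d8288d) (nat_lit 2817))
) (.node (nat_lit 0x1a276a031b2) (.leaf (nat_lit 0x1a276919843) (nat_lit 2048))
 (.leaf (nat_lit 0x1a276a031b2) (nat_lit 1537))
)) (.node (nat_lit 0x1a2855740d0) (.node (nat_lit 0x1a27bc720d9) (.leaf (nat_lit 0x1a27bc56195) (nat_lit 2049))
 (.leaf (nat_lit 0x1a27bc720d9) (nat_lit 2816))
) (.node (nat_lit 0x1a28b15c1b2) (.leaf (nat_lit 0x1a2855740d0) (nat_lit 3074))
 (.node (nat_lit 0x1a2a996e8d0) (.leaf (nat_lit 0x1a28b15c1b2) (nat_lit 1538))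
 (.leaf (nat_lit 0x1a2a996e8d0) (nat_lit 2304))
))))))) (.node (nat_lit 0x1b81ad740ce) (.node (nat_lit 0x1a67b857194) (.node (nat_lit 0x1a34d51988d) (.node (nat_lit 0x1a2ece4d0d0) (.node (nat_lit 0x1a2eacc5195) (.node (nat_lit 0x1a2e856e937) (.leaf (nat_lit 0x1a2e84ac08d) (nat_lit 2817))
 (.leaf (nat_lit 0x1a2e856e937) (nat_lit 3073))
) (.node (nat_lit 0x1a2ecc83081) (.leaf (nat_lit 0x1a2eacc5195) (nat_lit 1793))
 (.leaf (nat_lit 0x1a2ecc83081) (nat_lit 2562))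
)) (.node (nat_lit 0x1a313e031b2) (.node (nat_lit 0x1a2f7474059) (.leaf (nat_lit 0x1a2ece4d0d0) (nat_lit 3073))
 (.leaf (nat_lit 0x1a2f7474059) (nat_lit 2817))
) (.node (nat_lit 0x1a32f0c3995) (.leaf (nat_lit 0x1a313e031b2) (nat_lit 3073))
 (.leaf (nat_lit 0x1a32f0c3995) (nat_lit 2561))
))) (.node (nat_lit 0x1a659082824) (.node (nat_lit 0x1a60dc5700c) (.node (nat_lit 0x1a4a9890138) (.leaf (nat_lit 0x1a34d51988d) (nat_lit 2818))
 (.leaf (nat_lit 0x1a4a9890138) (nat_lit 2049))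
) (.node (nat_lit 0x1a612922824) (.leaf (nat_lit 0x1a60dc5700c) (nat_lit 2304))
 (.leaf (nat_lit 0x1a612922824) (nat_lit 2306))
)) (.node (nat_lit 0x1a67198208b) (.node (nat_lit 0x1a659130024) (.leaf (nat_lit 0x1a659082824) (nat_lit 2049))
 (.leaf (nat_lit 0x1a659130024) (nat_lit 3072))
) (.node (nat_lit 0x1a677119044) (.leaf (nat_lit 0x1a67198208b) (nat_lit 2817))
 (.node (nat_lit 0x1a6772039b3) (.leaf (nat_lit 0x1a677119044) (nat_lit 2304))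
 (.leaf (nat_lit 0x1a6772039b3) (nat_lit 1281))
))))) (.node (nat_lit 0x1a6ec482882) (.node (nat_lit 0x1a6a9d6d8cf) (.node (nat_lit 0x1a684d750cf) (.node (nat_lit 0x1a67b86e8d8) (.leaf (nat_lit 0x1a67b857194) (nat_lit 1793))
 (.leaf (nat_lit 0x1a67b86e8d8) (nat_lit 3072))
) (.node (nat_lit 0x1a68b5641b3) (.leaf (nat_lit 0x1a684d750cf) (nat_lit 2818))
 (.leaf (nat_lit 0x1a68b5641b3) (nat_lit 1794))
)) (.node (nat_lit 0x1a6e816d936) (.node (nat_lit 0x1a6e80ae08b) (.leaf (nat_lit 0x1a6a9d6d8cf) (nat_lit 2048))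
 (.leaf (nat_lit 0x1a6e80ae08b) (nat_lit 3073))
) (.node (nat_lit 0x1a6eb0c6194) (.leaf (nat_lit 0x1a6e816d936) (nat_lit 2817))
 (.leaf (nat_lit 0x1a6eb0c6194) (nat_lit 2049))
))) (.node (nat_lit 0x1a72f4c4194) (.node (nat_lit 0x1a6f6c7505a) (.node (nat_lit 0x1a6ec64d8cf) (.leaf (nat_lit 0x1a6ec482882) (nat_lit 2306))
 (.leaf (nat_lit 0x1a6ec64d8cf) (nat_lit 3329))
) (.node (nat_lit 0x1a713a039b3) (.leaf (nat_lit 0x1a6f6c7505a) (nat_lit 3073))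
 (.leaf (nat_lit 0x1a713a039b3) (nat_lit 2817))
)) (.node (nat_lit 0x1aca9c8f939) (.node (nat_lit 0x1a74d11908b) (.leaf (nat_lit 0x1a72f4c4194) (nat_lit 2305))
 (.leaf (nat_lit 0x1a74d11908b) (nat_lit 3074))
) (.node (nat_lit 0x1b80893446e) (.leaf (nat_lit 0x1aca9c8f939) (nat_lit 1793))
 (.node (nat_lit 0x1b808a490ce) (.leaf (nat_lit 0x1b80893446e) (nat_lit 2048))
 (.leaf (nat_lit 0x1b808a490ce) (nat_lit 2561))
)))))) (.node (nat_lit 0x1b94e4d5053) (.node (nat_lit 0x1b886499053) (.node (nat_lit 0x1b836816010) (.node (nat_lit 0x1b82c843091) (.node (nat_lit 0x1b823eb5091) (.leaf (nat_lit 0x1b81ad740ce) (nat_lit 3328))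
 (.leaf (nat_lit 0x1b823eb5091) (nat_lit 2561))
) (.node (nat_lit 0x1b82f5238ce) (.leaf (nat_lit 0x1b82c843091) (nat_lit 2050))
 (.leaf (nat_lit 0x1b82f5238ce) (nat_lit 1793))
)) (.node (nat_lit 0x1b852c86192) (.node (nat_lit 0x1b836ab5091) (.leaf (nat_lit 0x1b836816010) (nat_lit 3585))
 (.leaf (nat_lit 0x1b836ab5091) (nat_lit 2561))
) (.node (nat_lit 0x1b871461192) (.leaf (nat_lit 0x1b852c86192) (nat_lit 2305))
 (.leaf (nat_lit 0x1b871461192) (nat_lit 2305))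
))) (.node (nat_lit 0x1b8d781312a) (.node (nat_lit 0x1b8ac95d8b9) (.node (nat_lit 0x1b8ac934192) (.leaf (nat_lit 0x1b886499053) (nat_lit 2817))
 (.leaf (nat_lit 0x1b8ac934192) (nat_lit 2305))
) (.node (nat_lit 0x1b8d5cd52df) (.leaf (nat_lit 0x1b8ac95d8b9) (nat_lit 3329))
 (.leaf (nat_lit 0x1b8d5cd52df) (nat_lit 2817))
)) (.node (nat_lit 0x1b90c536934) (.node (nat_lit 0x1b8d78ac053) (.leaf (nat_lit 0x1b8d781312a) (nat_lit 2816))
 (.leaf (nat_lit 0x1b8d78ac053) (nat_lit 2817))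
) (.node (nat_lit 0x1b90f0378b9) (.leaf (nat_lit 0x1b90c536934) (nat_lit 2817))
 (.node (nat_lit 0x1b9130130b9) (.leaf (nat_lit 0x1b90f0378b9) (nat_lit 3073))
 (.leaf (nat_lit 0x1b9130130b9) (nat_lit 3073))
))))) (.node (nat_lit 0x1c235eb6892) (.node (nat_lit 0x1c21b1750cd) (.node (nat_lit 0x1c20853346f) (.node (nat_lit 0x1b94e5238e7) (.leaf (nat_lit 0x1b94e4d5053) (nat_lit 2817))
 (.leaf (nat_lit 0x1b94e5238e7) (nat_lit 1536))
) (.node (nat_lit 0x1c2086498cd) (.leaf (nat_lit 0x1c20853346f) (nat_lit 1792))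
 (.leaf (nat_lit 0x1c2086498cd) (nat_lit 2817))
)) (.node (nat_lit 0x1c22c442892) (.node (nat_lit 0x1c223ab6892) (.leaf (nat_lit 0x1c21b1750cd) (nat_lit 3072))
 (.leaf (nat_lit 0x1c223ab6892) (nat_lit 2817))
) (.node (nat_lit 0x1c22f9230cd) (.leaf (nat_lit 0x1c22c442892) (nat_lit 1794))
 (.node (nat_lit 0x1c235c1500f) (.leaf (nat_lit 0x1c22f9230cd) (nat_lit 2049))
 (.leaf (nat_lit 0x1c235c1500f) (nat_lit 3585))
)))) (.node (nat_lit 0x1c2ac533186) (.node (nat_lit 0x1c26fc60186) (.node (nat_lit 0x1c250487186) (.leaf (nat_lit 0x1c235eb6892) (nat_lit 2817))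
 (.leaf (nat_lit 0x1c250487186) (nat_lit 2561))
) (.node (nat_lit 0x1c286c98054) (.leaf (nat_lit 0x1c26fc60186) (nat_lit 2304))
 (.leaf (nat_lit 0x1c286c98054) (nat_lit 2816))
)) (.node (nat_lit 0x1c2d58d5ade) (.node (nat_lit 0x1c2ac5580bc) (.leaf (nat_lit 0x1c2ac533186) (nat_lit 2049))
 (.leaf (nat_lit 0x1c2ac5580bc) (nat_lit 3329))
) (.node (nat_lit 0x1c2d7c1412b) (.leaf (nat_lit 0x1c2d58d5ade) (nat_lit 3073))
 (.node (nat_lit 0x1c2d7cae054) (.leaf (nat_lit 0x1c2d7c1412b) (nat_lit 2560))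
 (.leaf (nat_lit 0x1c2d7cae054) (nat_lit 2561))
)))))))) (.node (nat_lit 0x1fefb45daec) (.node (nat_lit 0x1f416c2b049) (.node (nat_lit 0x1f24f45700c) (.node (nat_lit 0x1eaeec4c0f3) (.node (nat_lit 0x1c34e1230ec) (.node (nat_lit 0x1c3134140bc) (.node (nat_lit 0x1c30f4368bc) (.leaf (nat_lit 0x1c30c936133) (nat_lit 2561))
 (.leaf (nat_lit 0x1c30f4368bc) (nat_lit 2817))
) (.node (nat_lit 0x1c34e0d5854) (.leaf (nat_lit 0x1c3134140bc) (nat_lit 3072))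
 (.leaf (nat_lit 0x1c34e0d5854) (nat_lit 2561))
)) (.node (nat_lit 0x1e50f8c3997) (.node (nat_lit 0x1e30fcc4196) (.leaf (nat_lit 0x1c34e1230ec) (nat_lit 1280))
 (.leaf (nat_lit 0x1e30fcc4196) (nat_lit 2048))
) (.node (nat_lit 0x1e8ee04b8f6) (.leaf (nat_lit 0x1e50f8c3997) (nat_lit 2304))
 (.leaf (nat_lit 0x1e8ee04b8f6) (nat_lit 2817))
))) (.node (nat_lit 0x1f223d58049) (.node (nat_lit 0x1f113082b31) (.node (nat_lit 0x1ef2f249331) (.leaf (nat_lit 0x1eaeec4c0f3) (nat_lit 3073))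
 (.leaf (nat_lit 0x1ef2f249331) (nat_lit 1281))
) (.node (nat_lit 0x1f2038ac00c) (.leaf (nat_lit 0x1f113082b31) (nat_lit 1793))
 (.leaf (nat_lit 0x1f2038ac00c) (nat_lit 2817))
)) (.node (nat_lit 0x1f22c6b6892) (.node (nat_lit 0x1f22c4c400c) (.leaf (nat_lit 0x1f223d58049) (nat_lit 2560))
 (.leaf (nat_lit 0x1f22c4c400c) (nat_lit 2050))
) (.node (nat_lit 0x1f23695802e) (.leaf (nat_lit 0x1f22c6b6892) (nat_lit 2561))
 (.node (nat_lit 0x1f236a5d849) (.leaf (nat_lit 0x1f23695802e) (nat_lit 2817))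
 (.leaf (nat_lit 0x1f236a5d849) (nat_lit 3072))
))))) (.node (nat_lit 0x1f310d272de) (.node (nat_lit 0x1f2d5923ade) (.node (nat_lit 0x1f2ac534aed) (.node (nat_lit 0x1f27145d2ed) (.leaf (nat_lit 0x1f24f45700c) (nat_lit 2816))
 (.leaf (nat_lit 0x1f27145d2ed) (nat_lit 2561))
) (.node (nat_lit 0x1f2d589812a) (.leaf (nat_lit 0x1f2ac534aed) (nat_lit 2817))
 (.leaf (nat_lit 0x1f2d589812a) (nat_lit 3073))
)) (.node (nat_lit 0x1f30f0c504d) (.node (nat_lit 0x1f2fc123879) (.leaf (nat_lit 0x1f2d5923ade) (nat_lit 2818))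
 (.leaf (nat_lit 0x1f2fc123879) (nat_lit 3330))
) (.node (nat_lit 0x1f310cc4194) (.leaf (nat_lit 0x1f30f0c504d) (nat_lit 2817))
 (.leaf (nat_lit 0x1f310cc4194) (nat_lit 2816))
))) (.node (nat_lit 0x1f34e09804d) (.node (nat_lit 0x1f3188d5ade) (.node (nat_lit 0x1f3131310d9) (.leaf (nat_lit 0x1f310d272de) (nat_lit 2561))
 (.leaf (nat_lit 0x1f3131310d9) (nat_lit 2817))
) (.node (nat_lit 0x1f349472049) (.leaf (nat_lit 0x1f3188d5ade) (nat_lit 3328))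
 (.leaf (nat_lit 0x1f349472049) (nat_lit 2818))
)) (.node (nat_lit 0x1f34f53684d) (.node (nat_lit 0x1f34f45d2ed) (.leaf (nat_lit 0x1f34e09804d) (nat_lit 2560))
 (.leaf (nat_lit 0x1f34f45d2ed) (nat_lit 2561))
) (.node (nat_lit 0x1f40282b049) (.leaf (nat_lit 0x1f34f53684d) (nat_lit 1793))
 (.node (nat_lit 0x1f40298f0cd) (.leaf (nat_lit 0x1f40282b049) (nat_lit 2562))
 (.leaf (nat_lit 0x1f40298f0cd) (nat_lit 2818))
)))))) (.node (nat_lit 0x1f54f4242de) (.node (nat_lit 0x1f4ac5078bf) (.node (nat_lit 0x1f42f40a80c) (.node (nat_lit 0x1f42387ac6e) (.node (nat_lit 0x1f42387a80c) (.leaf (nat_lit 0x1f416c2b049) (nat_lit 2817))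
 (.leaf (nat_lit 0x1f42387a80c) (nat_lit 3841))
) (.node (nat_lit 0x1f42c98a849) (.leaf (nat_lit 0x1f42387ac6e) (nat_lit 2305))
 (.leaf (nat_lit 0x1f42c98a849) (nat_lit 2304))
)) (.node (nat_lit 0x1f45348aade) (.node (nat_lit 0x1f435c7a80c) (.leaf (nat_lit 0x1f42f40a80c) (nat_lit 3072))
 (.leaf (nat_lit 0x1f435c7a80c) (nat_lit 3329))
) (.node (nat_lit 0x1f47158f0bf) (.leaf (nat_lit 0x1f45348aade) (nat_lit 2817))
 (.leaf (nat_lit 0x1f47158f0bf) (nat_lit 2306))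
))) (.node (nat_lit 0x1f4fc01f81c) (.node (nat_lit 0x1f4d792184d) (.node (nat_lit 0x1f4d782b10f) (.leaf (nat_lit 0x1f4ac5078bf) (nat_lit 2817))
 (.leaf (nat_lit 0x1f4d782b10f) (nat_lit 2306))
) (.node (nat_lit 0x1f4e109404d) (.leaf (nat_lit 0x1f4d792184d) (nat_lit 3073))
 (.leaf (nat_lit 0x1f4e109404d) (nat_lit 2305))
)) (.node (nat_lit 0x1f50c8240cf) (.node (nat_lit 0x1f50a0242de) (.leaf (nat_lit 0x1f4fc01f81c) (nat_lit 3585))
 (.leaf (nat_lit 0x1f50a0242de) (nat_lit 3074))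
) (.node (nat_lit 0x1f50c92184d) (.leaf (nat_lit 0x1f50c8240cf) (nat_lit 2560))
 (.node (nat_lit 0x1f513121881) (.leaf (nat_lit 0x1f50c92184d) (nat_lit 3328))
 (.leaf (nat_lit 0x1f513121881) (nat_lit 2561))
))))) (.node (nat_lit 0x1fe7192633a) (.node (nat_lit 0x1fe0dd5d82d) (.node (nat_lit 0x1f72f649b30) (.node (nat_lit 0x1f54f58f0bf) (.leaf (nat_lit 0x1f54f4242de) (nat_lit 2050))
 (.leaf (nat_lit 0x1f54f58f0bf) (nat_lit 2049))
) (.node (nat_lit 0x1fd13483330) (.leaf (nat_lit 0x1f72f649b30) (nat_lit 1025))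
 (.leaf (nat_lit 0x1fd13483330) (nat_lit 1537))
)) (.node (nat_lit 0x1fe1d8c402d) (.node (nat_lit 0x1fe0dd6502d) (.leaf (nat_lit 0x1fe0dd5d82d) (nat_lit 2562))
 (.leaf (nat_lit 0x1fe0dd6502d) (nat_lit 2306))
) (.node (nat_lit 0x1fe5916e824) (.leaf (nat_lit 0x1fe1d8c402d) (nat_lit 2050))
 (.node (nat_lit 0x1fe6e1260b4) (.leaf (nat_lit 0x1fe5916e824) (nat_lit 2561))
 (.leaf (nat_lit 0x1fe6e1260b4) (nat_lit 2049))
)))) (.node (nat_lit 0x1fe854c4043) (.node (nat_lit 0x1fe8206e879) (.node (nat_lit 0x1fe71a5d838) (.leaf (nat_lit 0x1fe7192633a) (nat_lit 2049))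
 (.leaf (nat_lit 0x1fe71a5d838) (nat_lit 2050))
) (.node (nat_lit 0x1fe8280a33a) (.leaf (nat_lit 0x1fe8206e879) (nat_lit 2306))
 (.leaf (nat_lit 0x1fe8280a33a) (nat_lit 2306))
)) (.node (nat_lit 0x1fee8131136) (.node (nat_lit 0x1fe8b16e838) (.leaf (nat_lit 0x1fe854c4043) (nat_lit 2561))
 (.leaf (nat_lit 0x1fe8b16e838) (nat_lit 2818))
) (.node (nat_lit 0x1feecd1933a) (.leaf (nat_lit 0x1fee8131136) (nat_lit 2560))
 (.node (nat_lit 0x1feecd22136) (.leaf (nat_lit 0x1feecd1933a) (nat_lit 3330))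
 (.leaf (nat_lit 0x1feecd22136) (nat_lit 2050))
))))))) (.node (nat_lit 0x2024f05600d) (.node (nat_lit 0x2008b56d834) (.node (nat_lit 0x2000d96482e) (.node (nat_lit 0x1ff4d482806) (.node (nat_lit 0x1ff0fd5709b) (.node (nat_lit 0x1ff0fc6e936) (.leaf (nat_lit 0x1fefb45daec) (nat_lit 2561))
 (.leaf (nat_lit 0x1ff0fc6e936) (nat_lit 2817))
) (.node (nat_lit 0x1ff13e0b09b) (.leaf (nat_lit 0x1ff0fd5709b) (nat_lit 1794))
 (.leaf (nat_lit 0x1ff13e0b09b) (nat_lit 2817))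
)) (.node (nat_lit 0x1ff4ea0b09b) (.node (nat_lit 0x1ff4e861038) (.leaf (nat_lit 0x1ff4d482806) (nat_lit 2049))
 (.leaf (nat_lit 0x1ff4e861038) (nat_lit 2816))
) (.node (nat_lit 0x2000d95802e) (.leaf (nat_lit 0x1ff4ea0b09b) (nat_lit 2816))
 (.leaf (nat_lit 0x2000d95802e) (nat_lit 2306))
))) (.node (nat_lit 0x20071d2733b) (.node (nat_lit 0x20059d6d823) (.node (nat_lit 0x2001d4c382e) (.leaf (nat_lit 0x2000d96482e) (nat_lit 2562))
 (.leaf (nat_lit 0x2001d4c382e) (nat_lit 2306))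
) (.node (nat_lit 0x2006d5270b3) (.leaf (nat_lit 0x20059d6d823) (nat_lit 2817))
 (.leaf (nat_lit 0x2006d5270b3) (nat_lit 1793))
)) (.node (nat_lit 0x2008247207a) (.node (nat_lit 0x20071e5c834) (.leaf (nat_lit 0x20071d2733b) (nat_lit 2048))
 (.leaf (nat_lit 0x20071e5c834) (nat_lit 1794))
) (.node (nat_lit 0x20082c09b3b) (.leaf (nat_lit 0x2008247207a) (nat_lit 2562))
 (.node (nat_lit 0x20084cc3844) (.leaf (nat_lit 0x20082c09b3b) (nat_lit 2050))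
 (.leaf (nat_lit 0x20084cc3844) (nat_lit 2817))
))))) (.node (nat_lit 0x2014d083005) (.node (nat_lit 0x200fb05d2ed) (.node (nat_lit 0x200ec519b3b) (.node (nat_lit 0x200e8530137) (.leaf (nat_lit 0x2008b56d834) (nat_lit 2816))
 (.leaf (nat_lit 0x200e8530137) (nat_lit 2304))
) (.node (nat_lit 0x200ec522937) (.leaf (nat_lit 0x200ec519b3b) (nat_lit 3074))
 (.leaf (nat_lit 0x200ec522937) (nat_lit 2306))
)) (.node (nat_lit 0x2010f957899) (.node (nat_lit 0x2010f872137) (.leaf (nat_lit 0x200fb05d2ed) (nat_lit 2561))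
 (.leaf (nat_lit 0x2010f872137) (nat_lit 2816))
) (.node (nat_lit 0x20113a0b899) (.leaf (nat_lit 0x2010f957899) (nat_lit 1538))
 (.leaf (nat_lit 0x20113a0b899) (nat_lit 2561))
))) (.node (nat_lit 0x2022395d84a) (.node (nat_lit 0x2014ee0b899) (.node (nat_lit 0x2014ec60034) (.leaf (nat_lit 0x2014d083005) (nat_lit 2305))
 (.leaf (nat_lit 0x2014ec60034) (nat_lit 2817))
) (.node (nat_lit 0x202028ae00d) (.leaf (nat_lit 0x2014ee0b899) (nat_lit 3072))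
 (.leaf (nat_lit 0x202028ae00d) (nat_lit 3073))
)) (.node (nat_lit 0x2022cab5091) (.node (nat_lit 0x2022c8c380d) (.leaf (nat_lit 0x2022395d84a) (nat_lit 2561))
 (.leaf (nat_lit 0x2022c8c380d) (nat_lit 2306))
) (.node (nat_lit 0x20235d5d82d) (.leaf (nat_lit 0x2022cab5091) (nat_lit 2305))
 (.node (nat_lit 0x20235e5c84a) (.leaf (nat_lit 0x20235d5d82d) (nat_lit 2561))
 (.leaf (nat_lit 0x20235e5c84a) (nat_lit 2816))
)))))) (.node (nat_lit 0x2081702c04a) (.node (nat_lit 0x203109262df) (.node (nat_lit 0x202d5d232df) (.node (nat_lit 0x202ac933aec) (.node (nat_lit 0x2026fc5daec) (.leaf (nat_lit 0x2024f05600d) (nat_lit 2560))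
 (.leaf (nat_lit 0x2026fc5daec) (nat_lit 2817))
) (.node (nat_lit 0x202d5c9912b) (.leaf (nat_lit 0x202ac933aec) (nat_lit 2561))
 (.leaf (nat_lit 0x202d5c9912b) (nat_lit 2817))
)) (.node (nat_lit 0x2030f4c604e) (.node (nat_lit 0x202fc52307a) (.leaf (nat_lit 0x202d5d232df) (nat_lit 2562))
 (.leaf (nat_lit 0x202fc52307a) (nat_lit 3074))
) (.node (nat_lit 0x203108c3995) (.leaf (nat_lit 0x2030f4c604e) (nat_lit 2561))
 (.leaf (nat_lit 0x203108c3995) (nat_lit 2560))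
))) (.node (nat_lit 0x2034e49904e) (.node (nat_lit 0x20318cd52df) (.node (nat_lit 0x203135300d8) (.leaf (nat_lit 0x203109262df) (nat_lit 2817))
 (.leaf (nat_lit 0x203135300d8) (nat_lit 3073))
) (.node (nat_lit 0x2034906e84a) (.leaf (nat_lit 0x20318cd52df) (nat_lit 3584))
 (.leaf (nat_lit 0x2034906e84a) (nat_lit 3074))
)) (.node (nat_lit 0x2034f13604e) (.node (nat_lit 0x2034f05daec) (.leaf (nat_lit 0x2034e49904e) (nat_lit 2816))
 (.leaf (nat_lit 0x2034f05daec) (nat_lit 2305))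
) (.node (nat_lit 0x2080382c04a) (.leaf (nat_lit 0x2034f13604e) (nat_lit 2049))
 (.node (nat_lit 0x2080398e0ce) (.leaf (nat_lit 0x2080382c04a) (nat_lit 2818))
 (.leaf (nat_lit 0x2080398e0ce) (nat_lit 2562))
))))) (.node (nat_lit 0x208d7c2c110) (.node (nat_lit 0x2082f80b80d) (.node (nat_lit 0x20823c7a46f) (.node (nat_lit 0x20823c7a00d) (.leaf (nat_lit 0x2081702c04a) (nat_lit 2561))
 (.leaf (nat_lit 0x20823c7a00d) (nat_lit 3585))
) (.node (nat_lit 0x2082c58b84a) (.leaf (nat_lit 0x20823c7a46f) (nat_lit 2305))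
 (.leaf (nat_lit 0x2082c58b84a) (nat_lit 2560))
)) (.node (nat_lit 0x2085308a2df) (.node (nat_lit 0x2083687a00d) (.leaf (nat_lit 0x2082f80b80d) (nat_lit 3328))
 (.leaf (nat_lit 0x2083687a00d) (nat_lit 3329))
) (.node (nat_lit 0x2086fd8e0c4) (.leaf (nat_lit 0x2085308a2df) (nat_lit 3073))
 (.node (nat_lit 0x208ac9080c4) (.leaf (nat_lit 0x2086fd8e0c4) (nat_lit 2050))
 (.leaf (nat_lit 0x208ac9080c4) (nat_lit 3073))
)))) (.node (nat_lit 0x2090a4232df) (.node (nat_lit 0x208df89484e) (.node (nat_lit 0x208d7d2104e) (.leaf (nat_lit 0x208d7c2c110) (nat_lit 2562))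
 (.leaf (nat_lit 0x208d7d2104e) (nat_lit 3073))
) (.node (nat_lit 0x208fc42001a) (.leaf (nat_lit 0x208df89484e) (nat_lit 2561))
 (.leaf (nat_lit 0x208fc42001a) (nat_lit 3585))
)) (.node (nat_lit 0x2090c52104e) (.node (nat_lit 0x2090c4230d0) (.leaf (nat_lit 0x2090a4232df) (nat_lit 2818))
 (.leaf (nat_lit 0x2090c4230d0) (nat_lit 2816))
) (.node (nat_lit 0x20913521082) (.leaf (nat_lit 0x2090c52104e) (nat_lit 3072))
 (.node (nat_lit 0x2094f0232df) (.leaf (nat_lit 0x20913521082) (nat_lit 2305))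
 (.leaf (nat_lit 0x2094f0232df) (nat_lit 2306))
)))))))))) (.node (nat_lit 0x4b4e8536b3a) (.node (nat_lit 0x31efc44c134) (.node (nat_lit 0x2510f0c896d) (.node (nat_lit 0x234a9d6e059) (.node (nat_lit 0x2271308a002) (.node (nat_lit 0x226c0c0b802) (.node (nat_lit 0x2266fc94802) (.node (nat_lit 0x22650508002) (.node (nat_lit 0x2265047a002) (.leaf (nat_lit 0x2094f18e0c4) (nat_lit 2305))
 (.leaf (nat_lit 0x2265047a002) (nat_lit 3330))
) (.node (nat_lit 0x22653423002) (.leaf (nat_lit 0x22650508002) (nat_lit 3072))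
 (.leaf (nat_lit 0x22653423002) (nat_lit 3328))
)) (.node (nat_lit 0x226ac908002) (.node (nat_lit 0x2266fd8e002) (.leaf (nat_lit 0x2266fc94802) (nat_lit 2306))
 (.leaf (nat_lit 0x2266fd8e002) (nat_lit 2562))
) (.node (nat_lit 0x226aca54002) (.leaf (nat_lit 0x226ac908002) (nat_lit 3584))
 (.leaf (nat_lit 0x226aca54002) (nat_lit 2050))
))) (.node (nat_lit 0x226fc18b802) (.node (nat_lit 0x226d5c0b802) (.node (nat_lit 0x226c0d8b802) (.leaf (nat_lit 0x226c0c0b802) (nat_lit 3585))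
 (.leaf (nat_lit 0x226c0d8b802) (nat_lit 2560))
) (.node (nat_lit 0x226d7c94802) (.leaf (nat_lit 0x226d5c0b802) (nat_lit 3841))
 (.leaf (nat_lit 0x226d7c94802) (nat_lit 2561))
)) (.node (nat_lit 0x2270c494802) (.node (nat_lit 0x2270a08a002) (.leaf (nat_lit 0x226fc18b802) (nat_lit 2562))
 (.leaf (nat_lit 0x2270a08a002) (nat_lit 3073))
) (.node (nat_lit 0x2270f02c002) (.leaf (nat_lit 0x2270c494802) (nat_lit 3074))
 (.node (nat_lit 0x2271098b802) (.leaf (nat_lit 0x2270f02c002) (nat_lit 3329))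
 (.leaf (nat_lit 0x2271098b802) (nat_lit 1792))
))))) (.node (nat_lit 0x23408cc6164) (.node (nat_lit 0x22750108002) (.node (nat_lit 0x2274f48a002) (.node (nat_lit 0x2274e00b802) (.leaf (nat_lit 0x2271308a002) (nat_lit 3329))
 (.leaf (nat_lit 0x2274e00b802) (nat_lit 3840))
) (.node (nat_lit 0x2274f521002) (.leaf (nat_lit 0x2274f48a002) (nat_lit 2561))
 (.leaf (nat_lit 0x2274f521002) (nat_lit 1282))
)) (.node (nat_lit 0x22a534c896d) (.node (nat_lit 0x228530c796c) (.leaf (nat_lit 0x22750108002) (nat_lit 2304))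
 (.leaf (nat_lit 0x228530c796c) (nat_lit 2561))
) (.node (nat_lit 0x230ecd6e939) (.leaf (nat_lit 0x22a534c896d) (nat_lit 2305))
 (.leaf (nat_lit 0x230ecd6e939) (nat_lit 1792))
))) (.node (nat_lit 0x2347680a10f) (.node (nat_lit 0x2341d582094) (.node (nat_lit 0x23408e4d164) (.leaf (nat_lit 0x23408cc6164) (nat_lit 1537))
 (.leaf (nat_lit 0x23408e4d164) (nat_lit 2305))
) (.node (nat_lit 0x2341fd19964) (.leaf (nat_lit 0x2341d582094) (nat_lit 2561))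
 (.leaf (nat_lit 0x2341fd19964) (nat_lit 3072))
)) (.node (nat_lit 0x23484e4990f) (.node (nat_lit 0x2347bc28033) (.leaf (nat_lit 0x2347680a10f) (nat_lit 2562))
 (.leaf (nat_lit 0x2347bc28033) (nat_lit 2816))
) (.node (nat_lit 0x2348b00a044) (.leaf (nat_lit 0x23484e4990f) (nat_lit 3328))
 (.node (nat_lit 0x2348b08310f) (.leaf (nat_lit 0x2348b00a044) (nat_lit 3074))
 (.leaf (nat_lit 0x2348b08310f) (nat_lit 3074))
)))))) (.node (nat_lit 0x24277009910) (.node (nat_lit 0x23513874059) (.node (nat_lit 0x234eed65071) (.node (nat_lit 0x234ec60b09b) (.node (nat_lit 0x234ec474059) (.leaf (nat_lit 0x234a9d6e059) (nat_lit 1794))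
 (.leaf (nat_lit 0x234ec474059) (nat_lit 2049))
) (.node (nat_lit 0x234eed65033) (.leaf (nat_lit 0x234ec60b09b) (nat_lit 2561))
 (.leaf (nat_lit 0x234eed65033) (nat_lit 2305))
)) (.node (nat_lit 0x234fb08f833) (.node (nat_lit 0x234f6e4d0d0) (.leaf (nat_lit 0x234eed65071) (nat_lit 3072))
 (.leaf (nat_lit 0x234f6e4d0d0) (nat_lit 2817))
) (.node (nat_lit 0x2350fd260b4) (.leaf (nat_lit 0x234fb08f833) (nat_lit 2306))
 (.leaf (nat_lit 0x2350fd260b4) (nat_lit 2562))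
))) (.node (nat_lit 0x236ec56d938) (.node (nat_lit 0x2354d56d8bf) (.node (nat_lit 0x2354d4368b4) (.leaf (nat_lit 0x23513874059) (nat_lit 2049))
 (.leaf (nat_lit 0x2354d4368b4) (nat_lit 2818))
) (.node (nat_lit 0x2354e96d8b4) (.leaf (nat_lit 0x2354d56d8bf) (nat_lit 2561))
 (.leaf (nat_lit 0x2354e96d8b4) (nat_lit 2562))
)) (.node (nat_lit 0x2420924d967) (.node (nat_lit 0x242090c5167) (.leaf (nat_lit 0x236ec56d938) (nat_lit 2048))
 (.leaf (nat_lit 0x242090c5167) (nat_lit 1793))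
) (.node (nat_lit 0x2421d982896) (.leaf (nat_lit 0x2420924d967) (nat_lit 2306))
 (.node (nat_lit 0x2421f919167) (.leaf (nat_lit 0x2421d982896) (nat_lit 2562))
 (.leaf (nat_lit 0x2421f919167) (nat_lit 2816))
))))) (.node (nat_lit 0x242ee164835) (.node (nat_lit 0x2428b482910) (.node (nat_lit 0x24285649110) (.node (nat_lit 0x2427b829035) (.leaf (nat_lit 0x24277009910) (nat_lit 2818))
 (.leaf (nat_lit 0x2427b829035) (nat_lit 2560))
) (.node (nat_lit 0x2428b409843) (.leaf (nat_lit 0x24285649110) (nat_lit 3072))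
 (.leaf (nat_lit 0x2428b409843) (nat_lit 2818))
)) (.node (nat_lit 0x242ecc7505a) (.node (nat_lit 0x242a996d05a) (.leaf (nat_lit 0x2428b482910) (nat_lit 3074))
 (.leaf (nat_lit 0x242a996d05a) (nat_lit 1538))
) (.node (nat_lit 0x242ece0b899) (.leaf (nat_lit 0x242ecc7505a) (nat_lit 2305))
 (.leaf (nat_lit 0x242ece0b899) (nat_lit 2817))
))) (.node (nat_lit 0x2430f9270b3) (.node (nat_lit 0x242f764d8cf) (.node (nat_lit 0x242ee164874) (.leaf (nat_lit 0x242ee164835) (nat_lit 2561))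
 (.leaf (nat_lit 0x242ee164874) (nat_lit 3328))
) (.node (nat_lit 0x242fb490035) (.leaf (nat_lit 0x242f764d8cf) (nat_lit 2561))
 (.leaf (nat_lit 0x242fb490035) (nat_lit 2562))
)) (.node (nat_lit 0x2434d0378b3) (.node (nat_lit 0x24313c7505a) (.leaf (nat_lit 0x2430f9270b3) (nat_lit 2818))
 (.leaf (nat_lit 0x24313c7505a) (nat_lit 1793))
) (.node (nat_lit 0x2434d16e8c4) (.leaf (nat_lit 0x2434d0378b3) (nat_lit 2817))
 (.node (nat_lit 0x2434ed6e8b3) (.leaf (nat_lit 0x2434d16e8c4) (nat_lit 2817))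
 (.leaf (nat_lit 0x2434ed6e8b3) (nat_lit 2306))
))))))) (.node (nat_lit 0x2b692123986) (.node (nat_lit 0x2b4d5d75081) (.node (nat_lit 0x2b42c5330ce) (.node (nat_lit 0x2b4038828ce) (.node (nat_lit 0x2ab0a4c6196) (.node (nat_lit 0x2530f4c796c) (.leaf (nat_lit 0x2510f0c896d) (nat_lit 2817))
 (.leaf (nat_lit 0x2530f4c796c) (nat_lit 2561))
) (.node (nat_lit 0x2ad0a0c5197) (.leaf (nat_lit 0x2ab0a4c6196) (nat_lit 2562))
 (.leaf (nat_lit 0x2ad0a0c5197) (nat_lit 2306))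
)) (.node (nat_lit 0x2b423c73091) (.node (nat_lit 0x2b41ad580ce) (.leaf (nat_lit 0x2b4038828ce) (nat_lit 2048))
 (.leaf (nat_lit 0x2b41ad580ce) (nat_lit 2305))
) (.node (nat_lit 0x2b42c46e84a) (.leaf (nat_lit 0x2b423c73091) (nat_lit 3073))
 (.leaf (nat_lit 0x2b42c46e84a) (nat_lit 2817))
))) (.node (nat_lit 0x2b453119994) (.node (nat_lit 0x2b42fab5091) (.node (nat_lit 0x2b42f85707e) (.leaf (nat_lit 0x2b42c5330ce) (nat_lit 3073))
 (.leaf (nat_lit 0x2b42f85707e) (nat_lit 3330))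
) (.node (nat_lit 0x2b453119992) (.leaf (nat_lit 0x2b42fab5091) (nat_lit 2304))
 (.leaf (nat_lit 0x2b453119992) (nat_lit 3074))
)) (.node (nat_lit 0x2b4ac8c3844) (.node (nat_lit 0x2b492923192) (.leaf (nat_lit 0x2b453119994) (nat_lit 2305))
 (.leaf (nat_lit 0x2b492923192) (nat_lit 2562))
) (.node (nat_lit 0x2b4ac9750b9) (.leaf (nat_lit 0x2b4ac8c3844) (nat_lit 2816))
 (.node (nat_lit 0x2b4c05650b9) (.leaf (nat_lit 0x2b4ac9750b9) (nat_lit 2818))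
 (.leaf (nat_lit 0x2b4c05650b9) (nat_lit 3073))
))))) (.node (nat_lit 0x2b6028830cd) (.node (nat_lit 0x2b50c60b899) (.node (nat_lit 0x2b4fc486192) (.node (nat_lit 0x2b4d7cc5044) (.leaf (nat_lit 0x2b4d5d75081) (nat_lit 2561))
 (.leaf (nat_lit 0x2b4d7cc5044) (nat_lit 2305))
) (.node (nat_lit 0x2b4fc5580b4) (.leaf (nat_lit 0x2b4fc486192) (nat_lit 2816))
 (.leaf (nat_lit 0x2b4fc5580b4) (nat_lit 2818))
)) (.node (nat_lit 0x2b54e06e844) (.node (nat_lit 0x2b5496b5091) (.leaf (nat_lit 0x2b50c60b899) (nat_lit 1793))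
 (.leaf (nat_lit 0x2b5496b5091) (nat_lit 3329))
) (.node (nat_lit 0x2b54f0378b9) (.leaf (nat_lit 0x2b54e06e844) (nat_lit 2817))
 (.leaf (nat_lit 0x2b54f0378b9) (nat_lit 3073))
))) (.node (nat_lit 0x2b62c9340cd) (.node (nat_lit 0x2b623872892) (.node (nat_lit 0x2b61b15d8cd) (.leaf (nat_lit 0x2b6028830cd) (nat_lit 2304))
 (.leaf (nat_lit 0x2b61b15d8cd) (nat_lit 2561))
) (.node (nat_lit 0x2b62c872049) (.leaf (nat_lit 0x2b623872892) (nat_lit 2817))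
 (.leaf (nat_lit 0x2b62c872049) (nat_lit 3073))
)) (.node (nat_lit 0x2b62f6b6892) (.node (nat_lit 0x2b62f45607f) (.leaf (nat_lit 0x2b62c9340cd) (nat_lit 3073))
 (.leaf (nat_lit 0x2b62f45607f) (nat_lit 3074))
) (.node (nat_lit 0x2b653519186) (.leaf (nat_lit 0x2b62f6b6892) (nat_lit 2560))
 (.node (nat_lit 0x2b653519195) (.leaf (nat_lit 0x2b653519186) (nat_lit 3073))
 (.leaf (nat_lit 0x2b653519195) (nat_lit 2561))
)))))) (.node (nat_lit 0x2e70c930139) (.node (nat_lit 0x2b70ca0b09b) (.node (nat_lit 0x2b6d5974082) (.node (nat_lit 0x2b6ac5740bc) (.node (nat_lit 0x2b6ac4c4043) (.leaf (nat_lit 0x2b692123986) (nat_lit 2818))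
 (.leaf (nat_lit 0x2b6ac4c4043) (nat_lit 2818))
) (.node (nat_lit 0x2b6c0d648bc) (.leaf (nat_lit 0x2b6ac5740bc) (nat_lit 2818))
 (.leaf (nat_lit 0x2b6c0d648bc) (nat_lit 3072))
)) (.node (nat_lit 0x2b6fc087186) (.node (nat_lit 0x2b6d78c6043) (.leaf (nat_lit 0x2b6d5974082) (nat_lit 2817))
 (.leaf (nat_lit 0x2b6d78c6043) (nat_lit 2561))
) (.node (nat_lit 0x2b6fc15d8b3) (.leaf (nat_lit 0x2b6fc087186) (nat_lit 2817))
 (.leaf (nat_lit 0x2b6fc15d8b3) (nat_lit 2562))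
))) (.node (nat_lit 0x2bcfc174331) (.node (nat_lit 0x2b74e472043) (.node (nat_lit 0x2b7492b6892) (.leaf (nat_lit 0x2b70ca0b09b) (nat_lit 2049))
 (.leaf (nat_lit 0x2b7492b6892) (nat_lit 3329))
) (.node (nat_lit 0x2b74f4368bc) (.leaf (nat_lit 0x2b74e472043) (nat_lit 3073))
 (.leaf (nat_lit 0x2b74f4368bc) (nat_lit 3329))
)) (.node (nat_lit 0x2c485533331) (.node (nat_lit 0x2befc575330) (.leaf (nat_lit 0x2bcfc174331) (nat_lit 1281))
 (.leaf (nat_lit 0x2befc575330) (nat_lit 1537))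
) (.node (nat_lit 0x2c684d34330) (.leaf (nat_lit 0x2c485533331) (nat_lit 2305))
 (.node (nat_lit 0x2e50c531138) (.leaf (nat_lit 0x2c684d34330) (nat_lit 2049))
 (.leaf (nat_lit 0x2e50c531138) (nat_lit 2817))
))))) (.node (nat_lit 0x31e4f04c07e) (.node (nat_lit 0x31e0884c096) (.node (nat_lit 0x2f87b8570f3) (.node (nat_lit 0x2f67bc560f6) (.leaf (nat_lit 0x2e70c930139) (nat_lit 2561))
 (.leaf (nat_lit 0x2f67bc560f6) (nat_lit 3072))
) (.node (nat_lit 0x31cfb00c16c) (.leaf (nat_lit 0x2f87b8570f3) (nat_lit 3328))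
 (.leaf (nat_lit 0x31cfb00c16c) (nat_lit 514))
)) (.node (nat_lit 0x31e1ac4c096) (.node (nat_lit 0x31e1ac0880f) (.leaf (nat_lit 0x31e0884c096) (nat_lit 2818))
 (.leaf (nat_lit 0x31e1ac0880f) (nat_lit 3585))
) (.node (nat_lit 0x31e2c44c096) (.leaf (nat_lit 0x31e1ac4c096) (nat_lit 2817))
 (.node (nat_lit 0x31e2f84c07e) (.leaf (nat_lit 0x31e2c44c096) (nat_lit 2049))
 (.leaf (nat_lit 0x31e2f84c07e) (nat_lit 3073))
)))) (.node (nat_lit 0x31ec044c0d9) (.node (nat_lit 0x31e530822ed) (.node (nat_lit 0x31e5044c0d9) (.leaf (nat_lit 0x31e4f04c07e) (nat_lit 2818))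
 (.leaf (nat_lit 0x31e5044c0d9) (nat_lit 3329))
) (.node (nat_lit 0x31eac84c0d9) (.leaf (nat_lit 0x31e530822ed) (nat_lit 3329))
 (.leaf (nat_lit 0x31eac84c0d9) (nat_lit 3073))
)) (.node (nat_lit 0x31ecc84c006) (.node (nat_lit 0x31ec044c134) (.leaf (nat_lit 0x31ec044c0d9) (nat_lit 2562))
 (.leaf (nat_lit 0x31ec044c134) (nat_lit 2561))
) (.node (nat_lit 0x31ed5c4205a) (.leaf (nat_lit 0x31ecc84c006) (nat_lit 3840))
 (.node (nat_lit 0x31ed5c4c006) (.leaf (nat_lit 0x31ed5c4205a) (nat_lit 2306))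
 (.leaf (nat_lit 0x31ed5c4c006) (nat_lit 3585))
)))))))) (.node (nat_lit 0x422e8094805) (.node (nat_lit 0x41c0dd07896) (.node (nat_lit 0x322c0c4b8d8) (.node (nat_lit 0x3220844b894) (.node (nat_lit 0x31f4965d091) (.node (nat_lit 0x31f10c4c134) (.node (nat_lit 0x31f0f41389b) (.leaf (nat_lit 0x31efc44c134) (nat_lit 2305))
 (.leaf (nat_lit 0x31f0f41389b) (nat_lit 1282))
) (.node (nat_lit 0x31f4944c07e) (.leaf (nat_lit 0x31f10c4c134) (nat_lit 2050))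
 (.leaf (nat_lit 0x31f4944c07e) (nat_lit 3072))
)) (.node (nat_lit 0x31f4e15c9b2) (.node (nat_lit 0x31f4e04c006) (.leaf (nat_lit 0x31f4965d091) (nat_lit 2562))
 (.leaf (nat_lit 0x31f4e04c006) (nat_lit 3841))
) (.node (nat_lit 0x320fb40b16d) (.leaf (nat_lit 0x31f4e15c9b2) (nat_lit 1026))
 (.leaf (nat_lit 0x320fb40b16d) (nat_lit 770))
))) (.node (nat_lit 0x3222f44b87f) (.node (nat_lit 0x3221b04b894) (.node (nat_lit 0x3221b009010) (.leaf (nat_lit 0x3220844b894) (nat_lit 2817))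
 (.leaf (nat_lit 0x3221b009010) (nat_lit 3841))
) (.node (nat_lit 0x3222c84b894) (.leaf (nat_lit 0x3221b04b894) (nat_lit 2817))
 (.leaf (nat_lit 0x3222c84b894) (nat_lit 2305))
)) (.node (nat_lit 0x32252c4b8d8) (.node (nat_lit 0x3224f44b87f) (.leaf (nat_lit 0x3222f44b87f) (nat_lit 3073))
 (.leaf (nat_lit 0x3224f44b87f) (nat_lit 2562))
) (.node (nat_lit 0x3225347d2ec) (.leaf (nat_lit 0x32252c4b8d8) (nat_lit 3329))
 (.node (nat_lit 0x322ac44b8d8) (.leaf (nat_lit 0x3225347d2ec) (nat_lit 3329))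
 (.leaf (nat_lit 0x322ac44b8d8) (nat_lit 2817))
))))) (.node (nat_lit 0x3234904b87f) (.node (nat_lit 0x322d584b805) (.node (nat_lit 0x322ccc4b805) (.node (nat_lit 0x322c0c4b933) (.leaf (nat_lit 0x322c0c4b8d8) (nat_lit 2306))
 (.leaf (nat_lit 0x322c0c4b933) (nat_lit 2305))
) (.node (nat_lit 0x322d5841859) (.leaf (nat_lit 0x322ccc4b805) (nat_lit 3841))
 (.leaf (nat_lit 0x322d5841859) (nat_lit 2050))
)) (.node (nat_lit 0x3230f012899) (.node (nat_lit 0x322fc04b933) (.leaf (nat_lit 0x322d584b805) (nat_lit 3329))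
 (.leaf (nat_lit 0x322fc04b933) (nat_lit 2561))
) (.node (nat_lit 0x3231084b933) (.leaf (nat_lit 0x3230f012899) (nat_lit 1538))
 (.leaf (nat_lit 0x3231084b933) (nat_lit 2306))
))) (.node (nat_lit 0x35cd7c140f3) (.node (nat_lit 0x3234e44b805) (.node (nat_lit 0x3234925c092) (.leaf (nat_lit 0x3234904b87f) (nat_lit 3073))
 (.leaf (nat_lit 0x3234925c092) (nat_lit 2306))
) (.node (nat_lit 0x3234e55e1b3) (.leaf (nat_lit 0x3234e44b805) (nat_lit 3841))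
 (.leaf (nat_lit 0x3234e55e1b3) (nat_lit 1282))
)) (.node (nat_lit 0x4080286023b) (.node (nat_lit 0x35ed78130f6) (.leaf (nat_lit 0x35cd7c140f3) (nat_lit 3073))
 (.leaf (nat_lit 0x35ed78130f6) (nat_lit 3329))
) (.node (nat_lit 0x40c0386123a) (.leaf (nat_lit 0x4080286023b) (nat_lit 2305))
 (.node (nat_lit 0x41c09121967) (.leaf (nat_lit 0x40c0386123a) (nat_lit 2561))
 (.leaf (nat_lit 0x41c09121967) (nat_lit 2306))
)))))) (.node (nat_lit 0x41d0f98a806) (.node (nat_lit 0x41c85507806) (.node (nat_lit 0x41c7b907934) (.node (nat_lit 0x41c1d98a896) (.node (nat_lit 0x41c1d80a896) (.leaf (nat_lit 0x41c0dd07896) (nat_lit 2561))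
 (.leaf (nat_lit 0x41c1d80a896) (nat_lit 2561))
) (.node (nat_lit 0x41c7b81f81c) (.leaf (nat_lit 0x41c1d98a896) (nat_lit 3072))
 (.leaf (nat_lit 0x41c7b81f81c) (nat_lit 2560))
)) (.node (nat_lit 0x41c8240a934) (.node (nat_lit 0x41c7f6530d0) (.leaf (nat_lit 0x41c7b907934) (nat_lit 2561))
 (.leaf (nat_lit 0x41c7f6530d0) (nat_lit 2304))
) (.node (nat_lit 0x41c8540a8d9) (.leaf (nat_lit 0x41c8240a934) (nat_lit 2818))
 (.leaf (nat_lit 0x41c8540a8d9) (nat_lit 2817))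
))) (.node (nat_lit 0x41ce8494006) (.node (nat_lit 0x41ca98940d9) (.node (nat_lit 0x41c8b42b07a) (.leaf (nat_lit 0x41c85507806) (nat_lit 3330))
 (.leaf (nat_lit 0x41c8b42b07a) (nat_lit 3330))
) (.node (nat_lit 0x41ca9894134) (.leaf (nat_lit 0x41ca98940d9) (nat_lit 3074))
 (.leaf (nat_lit 0x41ca9894134) (nat_lit 2561))
)) (.node (nat_lit 0x41cee07a853) (.node (nat_lit 0x41cecc242de) (.leaf (nat_lit 0x41ce8494006) (nat_lit 2305))
 (.leaf (nat_lit 0x41cecc242de) (nat_lit 2818))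
) (.node (nat_lit 0x41d0d81f81c) (.leaf (nat_lit 0x41cee07a853) (nat_lit 3328))
 (.node (nat_lit 0x41d0f81f81c) (.leaf (nat_lit 0x41d0d81f81c) (nat_lit 2817))
 (.leaf (nat_lit 0x41d0f81f81c) (nat_lit 2817))
))))) (.node (nat_lit 0x4227bc2001a) (.node (nat_lit 0x420768c796c) (.node (nat_lit 0x41d4d18f136) (.node (nat_lit 0x41d2f58a8d9) (.leaf (nat_lit 0x41d0f98a806) (nat_lit 2817))
 (.leaf (nat_lit 0x41d2f58a8d9) (nat_lit 2562))
) (.node (nat_lit 0x41e770c896d) (.leaf (nat_lit 0x41d4d18f136) (nat_lit 2050))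
 (.leaf (nat_lit 0x41e770c896d) (nat_lit 2305))
)) (.node (nat_lit 0x4220d908094) (.node (nat_lit 0x42208d21164) (.leaf (nat_lit 0x420768c796c) (nat_lit 2049))
 (.leaf (nat_lit 0x42208d21164) (nat_lit 2562))
) (.node (nat_lit 0x4221d40b894) (.leaf (nat_lit 0x4220d908094) (nat_lit 2817))
 (.node (nat_lit 0x4221d58b894) (.leaf (nat_lit 0x4221d40b894) (nat_lit 2305))
 (.leaf (nat_lit 0x4221d58b894) (nat_lit 2816))
)))) (.node (nat_lit 0x42284c0b8d8) (.node (nat_lit 0x4227f2540cf) (.node (nat_lit 0x4227bd08133) (.leaf (nat_lit 0x4227bc2001a) (nat_lit 2304))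
 (.leaf (nat_lit 0x4227bd08133) (nat_lit 2305))
) (.node (nat_lit 0x4228200b933) (.leaf (nat_lit 0x4227f2540cf) (nat_lit 2560))
 (.leaf (nat_lit 0x4228200b933) (nat_lit 3074))
)) (.node (nat_lit 0x4228b02c079) (.node (nat_lit 0x42284d08005) (.leaf (nat_lit 0x42284c0b8d8) (nat_lit 3073))
 (.leaf (nat_lit 0x42284d08005) (nat_lit 3074))
) (.node (nat_lit 0x422a9c948d8) (.leaf (nat_lit 0x4228b02c079) (nat_lit 3074))
 (.node (nat_lit 0x422a9c94933) (.leaf (nat_lit 0x422a9c948d8) (nat_lit 2818))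
 (.leaf (nat_lit 0x422a9c94933) (nat_lit 2817))
))))))) (.node (nat_lit 0x4aa59e03076) (.node (nat_lit 0x4a617036820) (.node (nat_lit 0x42d4d40a197) (.node (nat_lit 0x4230fc2001a) (.node (nat_lit 0x422eec7a054) (.node (nat_lit 0x422ec4232df) (.leaf (nat_lit 0x422e8094805) (nat_lit 2561))
 (.leaf (nat_lit 0x422ec4232df) (nat_lit 2818))
) (.node (nat_lit 0x4230dc2001a) (.leaf (nat_lit 0x422eec7a054) (nat_lit 3072))
 (.leaf (nat_lit 0x4230dc2001a) (nat_lit 3073))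
)) (.node (nat_lit 0x4232f18b8d8) (.node (nat_lit 0x4230fd8b805) (.leaf (nat_lit 0x4230fc2001a) (nat_lit 3073))
 (.leaf (nat_lit 0x4230fd8b805) (nat_lit 2561))
) (.node (nat_lit 0x4234d58e137) (.leaf (nat_lit 0x4232f18b8d8) (nat_lit 2818))
 (.leaf (nat_lit 0x4234d58e137) (nat_lit 2306))
))) (.node (nat_lit 0x4a259203875) (.node (nat_lit 0x4854e44b996) (.node (nat_lit 0x42f4d009996) (.leaf (nat_lit 0x42d4d40a197) (nat_lit 1025))
 (.leaf (nat_lit 0x42f4d009996) (nat_lit 769))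
) (.node (nat_lit 0x4874e04c197) (.leaf (nat_lit 0x4854e44b996) (nat_lit 1281))
 (.leaf (nat_lit 0x4874e04c197) (nat_lit 1025))
)) (.node (nat_lit 0x4a608899020) (.node (nat_lit 0x4a603836820) (.leaf (nat_lit 0x4a259203875) (nat_lit 1024))
 (.leaf (nat_lit 0x4a603836820) (nat_lit 3330))
) (.node (nat_lit 0x4a608926020) (.leaf (nat_lit 0x4a608899020) (nat_lit 2818))
 (.node (nat_lit 0x4a61700a020) (.leaf (nat_lit 0x4a608926020) (nat_lit 3072))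
 (.leaf (nat_lit 0x4a61700a020) (nat_lit 2306))
))))) (.node (nat_lit 0x4a64f564820) (.node (nat_lit 0x4a62c526020) (.node (nat_lit 0x4a623872020) (.node (nat_lit 0x4a61ad58020) (.leaf (nat_lit 0x4a617036820) (nat_lit 3072))
 (.leaf (nat_lit 0x4a61ad58020) (nat_lit 3329))
) (.node (nat_lit 0x4a6238d5020) (.leaf (nat_lit 0x4a623872020) (nat_lit 2816))
 (.leaf (nat_lit 0x4a6238d5020) (nat_lit 2817))
)) (.node (nat_lit 0x4a62f429020) (.node (nat_lit 0x4a62c533020) (.leaf (nat_lit 0x4a62c526020) (nat_lit 3073))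
 (.leaf (nat_lit 0x4a62c533020) (nat_lit 2818))
) (.node (nat_lit 0x4a635cd5020) (.leaf (nat_lit 0x4a62f429020) (nat_lit 2562))
 (.leaf (nat_lit 0x4a635cd5020) (nat_lit 2561))
))) (.node (nat_lit 0x4a7109a04f6) (.node (nat_lit 0x4a65aab684c) (.node (nat_lit 0x4a65345d8cc) (.leaf (nat_lit 0x4a64f564820) (nat_lit 2816))
 (.leaf (nat_lit 0x4a65345d8cc) (nat_lit 2305))
) (.node (nat_lit 0x4a70c60b92c) (.leaf (nat_lit 0x4a65aab684c) (nat_lit 1280))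
 (.leaf (nat_lit 0x4a70c60b92c) (nat_lit 2560))
)) (.node (nat_lit 0x4a749158020) (.node (nat_lit 0x4a71307412e) (.leaf (nat_lit 0x4a7109a04f6) (nat_lit 3841))
 (.leaf (nat_lit 0x4a71307412e) (nat_lit 2561))
) (.node (nat_lit 0x4a749164820) (.leaf (nat_lit 0x4a749158020) (nat_lit 3841))
 (.node (nat_lit 0x4a74e0161a8) (.leaf (nat_lit 0x4a749164820) (nat_lit 1792))
 (.leaf (nat_lit 0x4a74e0161a8) (nat_lit 3329))
)))))) (.node (nat_lit 0x4b30fc6e834) (.node (nat_lit 0x4b282860034) (.node (nat_lit 0x4b21d97546e) (.node (nat_lit 0x4b20dd3446e) (.node (nat_lit 0x4b209119167) (.leaf (nat_lit 0x4aa59e03076) (nat_lit 768))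
 (.leaf (nat_lit 0x4b209119167) (nat_lit 3330))
) (.node (nat_lit 0x4b21d88646e) (.leaf (nat_lit 0x4b20dd3446e) (nat_lit 2560))
 (.leaf (nat_lit 0x4b21d88646e) (nat_lit 3073))
)) (.node (nat_lit 0x4b271828137) (.node (nat_lit 0x4b26f836933) (.leaf (nat_lit 0x4b21d97546e) (nat_lit 1536))
 (.leaf (nat_lit 0x4b26f836933) (nat_lit 2560))
) (.node (nat_lit 0x4b2769220bf) (.leaf (nat_lit 0x4b271828137) (nat_lit 2816))
 (.leaf (nat_lit 0x4b2769220bf) (nat_lit 2817))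
))) (.node (nat_lit 0x4b2a9e4d082) (.node (nat_lit 0x4b28b16e937) (.node (nat_lit 0x4b282a0b899) (.leaf (nat_lit 0x4b282860034) (nat_lit 3073))
 (.leaf (nat_lit 0x4b282a0b899) (nat_lit 2816))
) (.node (nat_lit 0x4b28b20b899) (.leaf (nat_lit 0x4b28b16e937) (nat_lit 2818))
 (.leaf (nat_lit 0x4b28b20b899) (nat_lit 3329))
)) (.node (nat_lit 0x4b2e813633b) (.node (nat_lit 0x4b2cd2031b2) (.leaf (nat_lit 0x4b2a9e4d082) (nat_lit 2817))
 (.leaf (nat_lit 0x4b2cd2031b2) (nat_lit 2560))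
) (.node (nat_lit 0x4b2e824d034) (.leaf (nat_lit 0x4b2e813633b) (nat_lit 2561))
 (.node (nat_lit 0x4b2ecd83099) (.leaf (nat_lit 0x4b2e824d034) (nat_lit 2306))
 (.leaf (nat_lit 0x4b2ecd83099) (nat_lit 2561))
))))) (.node (nat_lit 0x4b470837934) (.node (nat_lit 0x4b34e809b3b) (.node (nat_lit 0x4b313d2233b) (.node (nat_lit 0x4b313d19137) (.leaf (nat_lit 0x4b30fc6e834) (nat_lit 1538))
 (.leaf (nat_lit 0x4b313d19137) (nat_lit 3330))
) (.node (nat_lit 0x4b32f486192) (.leaf (nat_lit 0x4b313d2233b) (nat_lit 2561))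
 (.leaf (nat_lit 0x4b32f486192) (nat_lit 2304))
)) (.node (nat_lit 0x4b40d93346f) (.node (nat_lit 0x4b408d19964) (.leaf (nat_lit 0x4b34e809b3b) (nat_lit 2817))
 (.leaf (nat_lit 0x4b408d19964) (nat_lit 3074))
) (.node (nat_lit 0x4b41d48746f) (.leaf (nat_lit 0x4b40d93346f) (nat_lit 2304))
 (.node (nat_lit 0x4b41d57446f) (.leaf (nat_lit 0x4b41d48746f) (nat_lit 3073))
 (.leaf (nat_lit 0x4b41d57446f) (nat_lit 1280))
)))) (.node (nat_lit 0x4b482e0b09b) (.node (nat_lit 0x4b4771228c4) (.node (nat_lit 0x4b471c29136) (.leaf (nat_lit 0x4b470837934) (nat_lit 2304))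
 (.leaf (nat_lit 0x4b471c29136) (nat_lit 3072))
) (.node (nat_lit 0x4b482c61038) (.leaf (nat_lit 0x4b4771228c4) (nat_lit 2818))
 (.leaf (nat_lit 0x4b482c61038) (nat_lit 2817))
)) (.node (nat_lit 0x4b48b60b09b) (.node (nat_lit 0x4b48b56d936) (.leaf (nat_lit 0x4b482e0b09b) (nat_lit 2816))
 (.leaf (nat_lit 0x4b48b56d936) (nat_lit 3074))
) (.node (nat_lit 0x4b4a9a4d881) (.leaf (nat_lit 0x4b48b60b09b) (nat_lit 3073))
 (.node (nat_lit 0x4b4cd6039b3) (.leaf (nat_lit 0x4b4a9a4d881) (nat_lit 2818))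
 (.leaf (nat_lit 0x4b4cd6039b3) (nat_lit 2304))
))))))))) (.node (nat_lit 0x5312f65c938) (.node (nat_lit 0x5190a0c50bc) (.node (nat_lit 0x5162f8570c9) (.node (nat_lit 0x4b62c93401f) (.node (nat_lit 0x4b60283781f) (.node (nat_lit 0x4b513919936) (.node (nat_lit 0x4b4ec58389b) (.node (nat_lit 0x4b4e864d838) (.leaf (nat_lit 0x4b4e8536b3a) (nat_lit 2817))
 (.leaf (nat_lit 0x4b4e864d838) (nat_lit 2050))
) (.node (nat_lit 0x4b50f872038) (.leaf (nat_lit 0x4b4ec58389b) (nat_lit 2562))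
 (.leaf (nat_lit 0x4b50f872038) (nat_lit 1794))
)) (.node (nat_lit 0x4b52f087186) (.node (nat_lit 0x4b513922b3a) (.leaf (nat_lit 0x4b513919936) (nat_lit 3329))
 (.leaf (nat_lit 0x4b513922b3a) (nat_lit 2305))
) (.node (nat_lit 0x4b54ec0a33a) (.leaf (nat_lit 0x4b52f087186) (nat_lit 2048))
 (.leaf (nat_lit 0x4b54ec0a33a) (nat_lit 3073))
))) (.node (nat_lit 0x4b616c3781f) (.node (nat_lit 0x4b60852701f) (.node (nat_lit 0x4b60849801f) (.leaf (nat_lit 0x4b60283781f) (nat_lit 3329))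
 (.leaf (nat_lit 0x4b60849801f) (nat_lit 2562))
) (.node (nat_lit 0x4b616c0981f) (.leaf (nat_lit 0x4b60852701f) (nat_lit 2816))
 (.leaf (nat_lit 0x4b616c0981f) (nat_lit 2562))
)) (.node (nat_lit 0x4b623c6e81f) (.node (nat_lit 0x4b61b15d81f) (.leaf (nat_lit 0x4b616c3781f) (nat_lit 3072))
 (.leaf (nat_lit 0x4b61b15d81f) (nat_lit 3585))
) (.node (nat_lit 0x4b623cd581f) (.leaf (nat_lit 0x4b623c6e81f) (nat_lit 2817))
 (.node (nat_lit 0x4b62c92701f) (.leaf (nat_lit 0x4b623cd581f) (nat_lit 3073))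
 (.leaf (nat_lit 0x4b62c92701f) (nat_lit 2817))
))))) (.node (nat_lit 0x4b713475135) (.node (nat_lit 0x4b65305d0c7) (.node (nat_lit 0x4b6368d581f) (.node (nat_lit 0x4b62f82801f) (.leaf (nat_lit 0x4b62c93401f) (nat_lit 3074))
 (.leaf (nat_lit 0x4b62f82801f) (nat_lit 2818))
) (.node (nat_lit 0x4b64f16501f) (.leaf (nat_lit 0x4b6368d581f) (nat_lit 2817))
 (.leaf (nat_lit 0x4b64f16501f) (nat_lit 2560))
)) (.node (nat_lit 0x4b70ca0b12d) (.node (nat_lit 0x4b6596b504b) (.leaf (nat_lit 0x4b65305d0c7) (nat_lit 2561))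
 (.leaf (nat_lit 0x4b6596b504b) (nat_lit 1536))
) (.node (nat_lit 0x4b710da0cf7) (.leaf (nat_lit 0x4b70ca0b12d) (nat_lit 2304))
 (.leaf (nat_lit 0x4b710da0cf7) (nat_lit 3585))
))) (.node (nat_lit 0x50c35d2323a) (.node (nat_lit 0x4b74956501f) (.node (nat_lit 0x4b74955d81f) (.leaf (nat_lit 0x4b713475135) (nat_lit 2561))
 (.leaf (nat_lit 0x4b74955d81f) (nat_lit 3585))
) (.node (nat_lit 0x4b74e4151a9) (.leaf (nat_lit 0x4b74956501f) (nat_lit 2048))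
 (.leaf (nat_lit 0x4b74e4151a9) (nat_lit 3585))
)) (.node (nat_lit 0x516085648c9) (.node (nat_lit 0x50e36923a3b) (.leaf (nat_lit 0x50c35d2323a) (nat_lit 2561))
 (.leaf (nat_lit 0x50e36923a3b) (nat_lit 2305))
) (.node (nat_lit 0x5162381500f) (.leaf (nat_lit 0x516085648c9) (nat_lit 2817))
 (.node (nat_lit 0x51623ab6892) (.leaf (nat_lit 0x5162381500f) (nat_lit 3073))
 (.leaf (nat_lit 0x51623ab6892) (nat_lit 2816))
)))))) (.node (nat_lit 0x5174f037871) (.node (nat_lit 0x516cdd74082) (.node (nat_lit 0x51650582071) (.node (nat_lit 0x51635c1500f) (.node (nat_lit 0x5162f98200d) (.leaf (nat_lit 0x5162f8570c9) (nat_lit 2816))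
 (.leaf (nat_lit 0x5162f98200d) (nat_lit 2818))
) (.node (nat_lit 0x5164f51a00f) (.leaf (nat_lit 0x51635c1500f) (nat_lit 2817))
 (.leaf (nat_lit 0x5164f51a00f) (nat_lit 1282))
)) (.node (nat_lit 0x5165346107a) (.node (nat_lit 0x5165065d87a) (.leaf (nat_lit 0x51650582071) (nat_lit 2817))
 (.leaf (nat_lit 0x5165065d87a) (nat_lit 2306))
) (.node (nat_lit 0x516ac527071) (.leaf (nat_lit 0x5165346107a) (nat_lit 3073))
 (.leaf (nat_lit 0x516ac527071) (nat_lit 2817))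
))) (.node (nat_lit 0x5170a16d934) (.node (nat_lit 0x516d59648b4) (.node (nat_lit 0x516d586e882) (.leaf (nat_lit 0x516cdd74082) (nat_lit 3073))
 (.leaf (nat_lit 0x516d586e882) (nat_lit 3074))
) (.node (nat_lit 0x516d7c8307a) (.leaf (nat_lit 0x516d59648b4) (nat_lit 2560))
 (.leaf (nat_lit 0x516d7c8307a) (nat_lit 3072))
)) (.node (nat_lit 0x5171364d082) (.node (nat_lit 0x517134830cf) (.leaf (nat_lit 0x5170a16d934) (nat_lit 2561))
 (.leaf (nat_lit 0x517134830cf) (nat_lit 2561))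
) (.node (nat_lit 0x517494990c9) (.leaf (nat_lit 0x5171364d082) (nat_lit 2561))
 (.node (nat_lit 0x5174e06e834) (.leaf (nat_lit 0x517494990c9) (nat_lit 3073))
 (.leaf (nat_lit 0x5174e06e834) (nat_lit 2817))
))))) (.node (nat_lit 0x51850565043) (.node (nat_lit 0x5181aeb6892) (.node (nat_lit 0x5180882b892) (.node (nat_lit 0x518028830cd) (.leaf (nat_lit 0x5174f037871) (nat_lit 2049))
 (.leaf (nat_lit 0x518028830cd) (nat_lit 2049))
) (.node (nat_lit 0x5181ad6502d) (.leaf (nat_lit 0x5180882b892) (nat_lit 2050))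
 (.leaf (nat_lit 0x5181ad6502d) (nat_lit 2560))
)) (.node (nat_lit 0x51823d750cd) (.node (nat_lit 0x51823c990c9) (.leaf (nat_lit 0x5181aeb6892) (nat_lit 1792))
 (.leaf (nat_lit 0x51823c990c9) (nat_lit 2562))
) (.node (nat_lit 0x518368990cd) (.leaf (nat_lit 0x51823d750cd) (nat_lit 2304))
 (.leaf (nat_lit 0x518368990cd) (nat_lit 3073))
))) (.node (nat_lit 0x518ac649054) (.node (nat_lit 0x5186fc09843) (.node (nat_lit 0x51853013054) (.leaf (nat_lit 0x51850565043) (nat_lit 2049))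
 (.leaf (nat_lit 0x51853013054) (nat_lit 3074))
) (.node (nat_lit 0x518ac4c4043) (.leaf (nat_lit 0x5186fc09843) (nat_lit 2561))
 (.leaf (nat_lit 0x518ac4c4043) (nat_lit 2562))
)) (.node (nat_lit 0x518e5d580bc) (.node (nat_lit 0x518d5a5c805) (.leaf (nat_lit 0x518ac649054) (nat_lit 3329))
 (.leaf (nat_lit 0x518d5a5c805) (nat_lit 2562))
) (.node (nat_lit 0x518fc582054) (.leaf (nat_lit 0x518e5d580bc) (nat_lit 1793))
 (.node (nat_lit 0x5190a07505a) (.leaf (nat_lit 0x518fc582054) (nat_lit 2818))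
 (.leaf (nat_lit 0x5190a07505a) (nat_lit 2817))
))))))) (.node (nat_lit 0x52053414053) (.node (nat_lit 0x51ad5c72081) (.node (nat_lit 0x51a2f4560ca) (.node (nat_lit 0x519492b6892) (.node (nat_lit 0x519108d50bc) (.node (nat_lit 0x5190c8c504d) (.leaf (nat_lit 0x5190a0c50bc) (nat_lit 2306))
 (.leaf (nat_lit 0x5190c8c504d) (nat_lit 2817))
) (.node (nat_lit 0x51910a490d0) (.leaf (nat_lit 0x519108d50bc) (nat_lit 2050))
 (.leaf (nat_lit 0x51910a490d0) (nat_lit 2560))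
)) (.node (nat_lit 0x51a23c16010) (.node (nat_lit 0x51a089650ca) (.leaf (nat_lit 0x519492b6892) (nat_lit 1793))
 (.leaf (nat_lit 0x51a089650ca) (nat_lit 2817))
) (.node (nat_lit 0x51a23eb5091) (.leaf (nat_lit 0x51a23c16010) (nat_lit 3329))
 (.leaf (nat_lit 0x51a23eb5091) (nat_lit 2817))
))) (.node (nat_lit 0x51a52d82874) (.node (nat_lit 0x51a36816010) (.node (nat_lit 0x51a2f58280c) (.leaf (nat_lit 0x51a2f4560ca) (nat_lit 3072))
 (.leaf (nat_lit 0x51a2f58280c) (nat_lit 2818))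
) (.node (nat_lit 0x51a4f11a810) (.leaf (nat_lit 0x51a36816010) (nat_lit 2817))
 (.leaf (nat_lit 0x51a4f11a810) (nat_lit 1538))
)) (.node (nat_lit 0x51a53060079) (.node (nat_lit 0x51a52e5c879) (.leaf (nat_lit 0x51a52d82874) (nat_lit 2818))
 (.leaf (nat_lit 0x51a52e5c879) (nat_lit 2562))
) (.node (nat_lit 0x51aac926074) (.leaf (nat_lit 0x51a53060079) (nat_lit 2817))
 (.node (nat_lit 0x51acd975081) (.leaf (nat_lit 0x51aac926074) (nat_lit 2817))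
 (.leaf (nat_lit 0x51acd975081) (nat_lit 2817))
))))) (.node (nat_lit 0x51b4f436874) (.node (nat_lit 0x51b130828d0) (.node (nat_lit 0x51ad7882879) (.node (nat_lit 0x51ad5d650b3) (.leaf (nat_lit 0x51ad5c72081) (nat_lit 2818))
 (.leaf (nat_lit 0x51ad5d650b3) (nat_lit 2561))
) (.node (nat_lit 0x51b0a56e933) (.leaf (nat_lit 0x51ad7882879) (nat_lit 2816))
 (.leaf (nat_lit 0x51b0a56e933) (nat_lit 2305))
)) (.node (nat_lit 0x51b490980ca) (.node (nat_lit 0x51b1324d881) (.leaf (nat_lit 0x51b130828d0) (nat_lit 2305))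
 (.leaf (nat_lit 0x51b1324d881) (nat_lit 2305))
) (.node (nat_lit 0x51b4e472038) (.leaf (nat_lit 0x51b490980ca) (nat_lit 3074))
 (.leaf (nat_lit 0x51b4e472038) (nat_lit 2816))
))) (.node (nat_lit 0x5201b2b5091) (.node (nat_lit 0x5200842a891) (.node (nat_lit 0x520038828ce) (.leaf (nat_lit 0x51b4f436874) (nat_lit 2305))
 (.leaf (nat_lit 0x520038828ce) (nat_lit 2305))
) (.node (nat_lit 0x5201b16482e) (.leaf (nat_lit 0x5200842a891) (nat_lit 1794))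
 (.leaf (nat_lit 0x5201b16482e) (nat_lit 2816))
)) (.node (nat_lit 0x520239740ce) (.node (nat_lit 0x520238980ca) (.leaf (nat_lit 0x5201b2b5091) (nat_lit 2048))
 (.leaf (nat_lit 0x520238980ca) (nat_lit 2818))
) (.node (nat_lit 0x52035c980ce) (.leaf (nat_lit 0x520239740ce) (nat_lit 2048))
 (.node (nat_lit 0x52052d64844) (.leaf (nat_lit 0x52035c980ce) (nat_lit 2817))
 (.leaf (nat_lit 0x52052d64844) (nat_lit 2305))
)))))) (.node (nat_lit 0x53059c7485c) (.node (nat_lit 0x5210a4c60b9) (.node (nat_lit 0x520d5e5d806) (.node (nat_lit 0x520ac8c3844) (.node (nat_lit 0x5207140a044) (.leaf (nat_lit 0x52053414053) (nat_lit 3073))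
 (.leaf (nat_lit 0x5207140a044) (nat_lit 2817))
) (.node (nat_lit 0x520aca49853) (.leaf (nat_lit 0x520ac8c3844) (nat_lit 2306))
 (.leaf (nat_lit 0x520aca49853) (nat_lit 3330))
)) (.node (nat_lit 0x520fc182853) (.node (nat_lit 0x520e595d8b9) (.leaf (nat_lit 0x520d5e5d806) (nat_lit 2561))
 (.leaf (nat_lit 0x520e595d8b9) (nat_lit 2049))
) (.node (nat_lit 0x5210a474059) (.leaf (nat_lit 0x520fc182853) (nat_lit 2562))
 (.leaf (nat_lit 0x5210a474059) (nat_lit 3073))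
))) (.node (nat_lit 0x521496b5091) (.node (nat_lit 0x52110cd58b9) (.node (nat_lit 0x5210c4c604e) (.leaf (nat_lit 0x5210a4c60b9) (nat_lit 2306))
 (.leaf (nat_lit 0x5210c4c604e) (nat_lit 3073))
) (.node (nat_lit 0x52110e498cf) (.leaf (nat_lit 0x52110cd58b9) (nat_lit 2306))
 (.leaf (nat_lit 0x52110e498cf) (nat_lit 2816))
)) (.node (nat_lit 0x52482d22939) (.node (nat_lit 0x52282922138) (.leaf (nat_lit 0x521496b5091) (nat_lit 1537))
 (.leaf (nat_lit 0x52282922138) (nat_lit 2306))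
) (.node (nat_lit 0x52c09075037) (.leaf (nat_lit 0x52482d22939) (nat_lit 2562))
 (.node (nat_lit 0x5300905d13d) (.leaf (nat_lit 0x52c09075037) (nat_lit 2048))
 (.leaf (nat_lit 0x5300905d13d) (nat_lit 2561))
))))) (.node (nat_lit 0x530e8522138) (.node (nat_lit 0x53082a0302f) (.node (nat_lit 0x53082029138) (.node (nat_lit 0x53082015072) (.leaf (nat_lit 0x53059c7485c) (nat_lit 2049))
 (.leaf (nat_lit 0x53082015072) (nat_lit 1024))
) (.node (nat_lit 0x53082931138) (.leaf (nat_lit 0x53082029138) (nat_lit 2817))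
 (.leaf (nat_lit 0x53082931138) (nat_lit 2562))
)) (.node (nat_lit 0x530a987513a) (.node (nat_lit 0x53084c29138) (.leaf (nat_lit 0x53082a0302f) (nat_lit 1280))
 (.leaf (nat_lit 0x53084c29138) (nat_lit 2818))
) (.node (nat_lit 0x530a9922138) (.leaf (nat_lit 0x530a987513a) (nat_lit 2304))
 (.node (nat_lit 0x530d764d938) (.leaf (nat_lit 0x530a9922138) (nat_lit 1536))
 (.leaf (nat_lit 0x530d764d938) (nat_lit 2304))
)))) (.node (nat_lit 0x530ee056138) (.node (nat_lit 0x530ec531138) (.node (nat_lit 0x530eb090138) (.leaf (nat_lit 0x530e8522138) (nat_lit 3073))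
 (.leaf (nat_lit 0x530eb090138) (nat_lit 2561))
) (.node (nat_lit 0x530ec60b0c8) (.leaf (nat_lit 0x530ec531138) (nat_lit 1793))
 (.leaf (nat_lit 0x530ec60b0c8) (nat_lit 1793))
)) (.node (nat_lit 0x530f756d938) (.node (nat_lit 0x530f7490138) (.leaf (nat_lit 0x530ee056138) (nat_lit 2305))
 (.leaf (nat_lit 0x530f7490138) (nat_lit 2818))
) (.node (nat_lit 0x5310fd26138) (.leaf (nat_lit 0x530f756d938) (nat_lit 2561))
 (.node (nat_lit 0x53113936138) (.leaf (nat_lit 0x5310fd26138) (nat_lit 3074))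
 (.leaf (nat_lit 0x53113936138) (nat_lit 3328))
)))))))) (.node (nat_lit 0x5740dd2600c) (.node (nat_lit 0x56685574331) (.node (nat_lit 0x53aeec57139) (.node (nat_lit 0x53a82e03830) (.node (nat_lit 0x53a5907585b) (.node (nat_lit 0x53208c74036) (.node (nat_lit 0x5314e96d938) (.leaf (nat_lit 0x5312f65c938) (nat_lit 2561))
 (.leaf (nat_lit 0x5314e96d938) (nat_lit 2561))
) (.node (nat_lit 0x53a08c5d93c) (.leaf (nat_lit 0x53208c74036) (nat_lit 1792))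
 (.leaf (nat_lit 0x53a08c5d93c) (nat_lit 2305))
)) (.node (nat_lit 0x53a82428139) (.node (nat_lit 0x53a82416073) (.leaf (nat_lit 0x53a5907585b) (nat_lit 1793))
 (.leaf (nat_lit 0x53a82416073) (nat_lit 1280))
) (.node (nat_lit 0x53a82d30139) (.leaf (nat_lit 0x53a82428139) (nat_lit 2818))
 (.leaf (nat_lit 0x53a82d30139) (nat_lit 2306))
))) (.node (nat_lit 0x53ad724d139) (.node (nat_lit 0x53aa9c7413b) (.node (nat_lit 0x53a85428139) (.leaf (nat_lit 0x53a82e03830) (nat_lit 1536))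
 (.leaf (nat_lit 0x53a85428139) (nat_lit 3074))
) (.node (nat_lit 0x53aa9d22939) (.leaf (nat_lit 0x53aa9c7413b) (nat_lit 2560))
 (.leaf (nat_lit 0x53aa9d22939) (nat_lit 1792))
)) (.node (nat_lit 0x53aeac8f939) (.node (nat_lit 0x53ae8122939) (.leaf (nat_lit 0x53ad724d139) (nat_lit 2560))
 (.leaf (nat_lit 0x53ae8122939) (nat_lit 2817))
) (.node (nat_lit 0x53aecd30139) (.leaf (nat_lit 0x53aeac8f939) (nat_lit 2817))
 (.node (nat_lit 0x53aece0b8cb) (.leaf (nat_lit 0x53aecd30139) (nat_lit 2049))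
 (.leaf (nat_lit 0x53aece0b8cb) (nat_lit 1537))
))))) (.node (nat_lit 0x5565041518d) (.node (nat_lit 0x53b13d36939) (.node (nat_lit 0x53af6d6e939) (.node (nat_lit 0x53af6c8f939) (.leaf (nat_lit 0x53aeec57139) (nat_lit 2049))
 (.leaf (nat_lit 0x53af6c8f939) (nat_lit 3074))
) (.node (nat_lit 0x53b0f927139) (.leaf (nat_lit 0x53af6d6e939) (nat_lit 2817))
 (.leaf (nat_lit 0x53b0f927139) (nat_lit 3074))
)) (.node (nat_lit 0x53b4ed6e939) (.node (nat_lit 0x53b2f25d939) (.leaf (nat_lit 0x53b13d36939) (nat_lit 3330))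
 (.leaf (nat_lit 0x53b2f25d939) (nat_lit 2817))
) (.node (nat_lit 0x55452c16193) (.leaf (nat_lit 0x53b4ed6e939) (nat_lit 2305))
 (.leaf (nat_lit 0x55452c16193) (nat_lit 3585))
))) (.node (nat_lit 0x56671e49331) (.node (nat_lit 0x56659c75022) (.node (nat_lit 0x5660920b06b) (.leaf (nat_lit 0x5565041518d) (nat_lit 3329))
 (.leaf (nat_lit 0x5660920b06b) (nat_lit 1536))
) (.node (nat_lit 0x56671c15042) (.leaf (nat_lit 0x56659c75022) (nat_lit 1025))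
 (.leaf (nat_lit 0x56671c15042) (nat_lit 1025))
)) (.node (nat_lit 0x5667bd33331) (.node (nat_lit 0x56676882b31) (.leaf (nat_lit 0x56671e49331) (nat_lit 2817))
 (.leaf (nat_lit 0x56676882b31) (nat_lit 2305))
) (.node (nat_lit 0x56682e4d331) (.leaf (nat_lit 0x5667bd33331) (nat_lit 2305))
 (.node (nat_lit 0x5668543e031) (.leaf (nat_lit 0x56682e4d331) (nat_lit 1793))
 (.leaf (nat_lit 0x5668543e031) (nat_lit 1537))
)))))) (.node (nat_lit 0x5727be540cf) (.node (nat_lit 0x566fb013331) (.node (nat_lit 0x566e8460331) (.node (nat_lit 0x5668b2030b6) (.node (nat_lit 0x5668b119b31) (.leaf (nat_lit 0x56685574331) (nat_lit 1793))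
 (.leaf (nat_lit 0x5668b119b31) (nat_lit 2305))
) (.node (nat_lit 0x566df249331) (.leaf (nat_lit 0x5668b2030b6) (nat_lit 1792))
 (.leaf (nat_lit 0x566df249331) (nat_lit 2817))
)) (.node (nat_lit 0x566f7482b31) (.node (nat_lit 0x566ece4d331) (.leaf (nat_lit 0x566e8460331) (nat_lit 1793))
 (.leaf (nat_lit 0x566ece4d331) (nat_lit 2305))
) (.node (nat_lit 0x566f7530331) (.leaf (nat_lit 0x566f7482b31) (nat_lit 2817))
 (.leaf (nat_lit 0x566f7530331) (nat_lit 2818))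
))) (.node (nat_lit 0x5672f2b5077) (.node (nat_lit 0x5670fd33331) (.node (nat_lit 0x5670d974331) (.leaf (nat_lit 0x566fb013331) (nat_lit 2305))
 (.leaf (nat_lit 0x5670d974331) (nat_lit 2048))
) (.node (nat_lit 0x5672f164b31) (.leaf (nat_lit 0x5670fd33331) (nat_lit 2050))
 (.leaf (nat_lit 0x5672f164b31) (nat_lit 3328))
)) (.node (nat_lit 0x57259094824) (.node (nat_lit 0x5720dc7a02d) (.leaf (nat_lit 0x5672f2b5077) (nat_lit 1537))
 (.leaf (nat_lit 0x5720dc7a02d) (nat_lit 2817))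
) (.node (nat_lit 0x5725918e024) (.leaf (nat_lit 0x57259094824) (nat_lit 2049))
 (.node (nat_lit 0x5727198b88b) (.leaf (nat_lit 0x5725918e024) (nat_lit 2817))
 (.leaf (nat_lit 0x5727198b88b) (nat_lit 2305))
))))) (.node (nat_lit 0x572fb42c0e7) (.node (nat_lit 0x5728547a08b) (.node (nat_lit 0x572822542de) (.node (nat_lit 0x5728200b994) (.leaf (nat_lit 0x5727be540cf) (nat_lit 1793))
 (.leaf (nat_lit 0x5728200b994) (nat_lit 1280))
) (.node (nat_lit 0x5728542001a) (.leaf (nat_lit 0x572822542de) (nat_lit 3072))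
 (.leaf (nat_lit 0x5728542001a) (nat_lit 2561))
)) (.node (nat_lit 0x572ecd21194) (.node (nat_lit 0x572eb121194) (.leaf (nat_lit 0x5728547a08b) (nat_lit 2305))
 (.leaf (nat_lit 0x572eb121194) (nat_lit 2817))
) (.node (nat_lit 0x572ee1080e7) (.leaf (nat_lit 0x572ecd21194) (nat_lit 3329))
 (.node (nat_lit 0x572f6c2c0b3) (.leaf (nat_lit 0x572ee1080e7) (nat_lit 3074))
 (.leaf (nat_lit 0x572f6c2c0b3) (nat_lit 2305))
)))) (.node (nat_lit 0x5731b98e024) (.node (nat_lit 0x5730d87a08b) (.node (nat_lit 0x572fb521071) (.leaf (nat_lit 0x572fb42c0e7) (nat_lit 2304))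
 (.leaf (nat_lit 0x572fb521071) (nat_lit 2050))
) (.node (nat_lit 0x5730fe540cf) (.leaf (nat_lit 0x5730d87a08b) (nat_lit 2305))
 (.leaf (nat_lit 0x5730fe540cf) (nat_lit 2305))
)) (.node (nat_lit 0x5734d58e0b9) (.node (nat_lit 0x5734d48a0cf) (.leaf (nat_lit 0x5731b98e024) (nat_lit 2561))
 (.leaf (nat_lit 0x5734d48a0cf) (nat_lit 2561))
) (.node (nat_lit 0x5734e82c0e7) (.leaf (nat_lit 0x5734d58e0b9) (nat_lit 2817))
 (.node (nat_lit 0x5740dc9900c) (.leaf (nat_lit 0x5734e82c0e7) (nat_lit 1793))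
 (.leaf (nat_lit 0x5740dc9900c) (nat_lit 2048))
))))))) (.node (nat_lit 0x578fb121874) (.node (nat_lit 0x5754d037ade) (.node (nat_lit 0x574a9d6d8bf) (.node (nat_lit 0x57477009b3b) (.node (nat_lit 0x5745908f824) (.node (nat_lit 0x5741d98280c) (.leaf (nat_lit 0x5740dd2600c) (nat_lit 3330))
 (.leaf (nat_lit 0x5741d98280c) (nat_lit 2816))
) (.node (nat_lit 0x5747088b2ed) (.leaf (nat_lit 0x5745908f824) (nat_lit 2817))
 (.leaf (nat_lit 0x5747088b2ed) (nat_lit 2304))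
)) (.node (nat_lit 0x574820d5ade) (.node (nat_lit 0x5747b926074) (.leaf (nat_lit 0x57477009b3b) (nat_lit 2305))
 (.leaf (nat_lit 0x5747b926074) (nat_lit 3586))
) (.node (nat_lit 0x574a9cae2de) (.leaf (nat_lit 0x574820d5ade) (nat_lit 2305))
 (.leaf (nat_lit 0x574a9cae2de) (nat_lit 3073))
))) (.node (nat_lit 0x574ec461134) (.node (nat_lit 0x574eb05d2ed) (.node (nat_lit 0x574e80ae054) (.leaf (nat_lit 0x574a9d6d8bf) (nat_lit 3330))
 (.leaf (nat_lit 0x574e80ae054) (nat_lit 2561))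
) (.node (nat_lit 0x574eb13684d) (.leaf (nat_lit 0x574eb05d2ed) (nat_lit 2560))
 (.leaf (nat_lit 0x574eb13684d) (nat_lit 3072))
)) (.node (nat_lit 0x575138098bf) (.node (nat_lit 0x574eecc384d) (.leaf (nat_lit 0x574ec461134) (nat_lit 2818))
 (.leaf (nat_lit 0x574eecc384d) (nat_lit 2816))
) (.node (nat_lit 0x5751388f84d) (.leaf (nat_lit 0x575138098bf) (nat_lit 2818))
 (.node (nat_lit 0x5751cc74059) (.leaf (nat_lit 0x5751388f84d) (nat_lit 3328))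
 (.leaf (nat_lit 0x5751cc74059) (nat_lit 3072))
))))) (.node (nat_lit 0x5788240a995) (.node (nat_lit 0x57859c94023) (.node (nat_lit 0x5754ed220bf) (.node (nat_lit 0x5754d05d2ed) (.leaf (nat_lit 0x5754d037ade) (nat_lit 2818))
 (.leaf (nat_lit 0x5754d05d2ed) (nat_lit 3073))
) (.node (nat_lit 0x5780d87a82e) (.leaf (nat_lit 0x5754ed220bf) (nat_lit 2818))
 (.leaf (nat_lit 0x5780d87a82e) (nat_lit 3073))
)) (.node (nat_lit 0x57871d8a88d) (.node (nat_lit 0x57859d8f023) (.leaf (nat_lit 0x57859c94023) (nat_lit 2305))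
 (.leaf (nat_lit 0x57859d8f023) (nat_lit 2561))
) (.node (nat_lit 0x5787ba530d0) (.leaf (nat_lit 0x57871d8a88d) (nat_lit 2049))
 (.leaf (nat_lit 0x5787ba530d0) (nat_lit 2049))
))) (.node (nat_lit 0x578ead21995) (.node (nat_lit 0x57884c1f81c) (.node (nat_lit 0x578826532df) (.leaf (nat_lit 0x5788240a995) (nat_lit 1536))
 (.leaf (nat_lit 0x578826532df) (nat_lit 3328))
) (.node (nat_lit 0x57884c7a88d) (.leaf (nat_lit 0x57884c1f81c) (nat_lit 2817))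
 (.leaf (nat_lit 0x57884c7a88d) (nat_lit 2561))
)) (.node (nat_lit 0x578eed078ec) (.node (nat_lit 0x578ec521995) (.leaf (nat_lit 0x578ead21995) (nat_lit 3073))
 (.leaf (nat_lit 0x578ec521995) (nat_lit 3073))
) (.node (nat_lit 0x578f742b0b4) (.leaf (nat_lit 0x578eed078ec) (nat_lit 3073))
 (.node (nat_lit 0x578fb02b0ec) (.leaf (nat_lit 0x578f742b0b4) (nat_lit 2561))
 (.leaf (nat_lit 0x578fb02b0ec) (nat_lit 2560))
)))))) (.node (nat_lit 0x58284d75330) (.node (nat_lit 0x5801d48723b) (.node (nat_lit 0x5794d08a8d0) (.node (nat_lit 0x5790fa530d0) (.node (nat_lit 0x5790dc7a88d) (.leaf (nat_lit 0x578fb121874) (nat_lit 2306))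
 (.leaf (nat_lit 0x5790dc7a88d) (nat_lit 2561))
) (.node (nat_lit 0x5791bd8f023) (.leaf (nat_lit 0x5790fa530d0) (nat_lit 2561))
 (.leaf (nat_lit 0x5791bd8f023) (nat_lit 2817))
)) (.node (nat_lit 0x5794ec2b0ec) (.node (nat_lit 0x5794d18f0bc) (.leaf (nat_lit 0x5794d08a8d0) (nat_lit 2305))
 (.leaf (nat_lit 0x5794d18f0bc) (nat_lit 2816))
) (.node (nat_lit 0x57e1d88623a) (.leaf (nat_lit 0x5794ec2b0ec) (nat_lit 1537))
 (.leaf (nat_lit 0x57e1d88623a) (nat_lit 2817))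
))) (.node (nat_lit 0x58271a49b30) (.node (nat_lit 0x58259074021) (.node (nat_lit 0x58208e0b86c) (.leaf (nat_lit 0x5801d48723b) (nat_lit 3073))
 (.leaf (nat_lit 0x58208e0b86c) (nat_lit 1280))
) (.node (nat_lit 0x58271816041) (.leaf (nat_lit 0x58259074021) (nat_lit 1281))
 (.leaf (nat_lit 0x58271816041) (nat_lit 769))
)) (.node (nat_lit 0x5827b934330) (.node (nat_lit 0x58277083330) (.leaf (nat_lit 0x58271a49b30) (nat_lit 2561))
 (.leaf (nat_lit 0x58277083330) (nat_lit 2561))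
) (.node (nat_lit 0x58282a4db30) (.leaf (nat_lit 0x5827b934330) (nat_lit 2561))
 (.node (nat_lit 0x58284c3d832) (.leaf (nat_lit 0x58282a4db30) (nat_lit 1537))
 (.leaf (nat_lit 0x58284c3d832) (nat_lit 1793))
))))) (.node (nat_lit 0x5830dd75330) (.node (nat_lit 0x582e8061330) (.node (nat_lit 0x5828b6038b5) (.node (nat_lit 0x5828b519330) (.leaf (nat_lit 0x58284d75330) (nat_lit 2049))
 (.leaf (nat_lit 0x5828b519330) (nat_lit 2561))
) (.node (nat_lit 0x582e2a49b30) (.leaf (nat_lit 0x5828b6038b5) (nat_lit 1536))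
 (.leaf (nat_lit 0x582e2a49b30) (nat_lit 2561))
)) (.node (nat_lit 0x582f6c83330) (.node (nat_lit 0x582ec64db30) (.leaf (nat_lit 0x582e8061330) (nat_lit 2049))
 (.leaf (nat_lit 0x582ec64db30) (nat_lit 2049))
) (.node (nat_lit 0x582f6d31330) (.leaf (nat_lit 0x582f6c83330) (nat_lit 2561))
 (.node (nat_lit 0x582fb414330) (.leaf (nat_lit 0x582f6d31330) (nat_lit 3074))
 (.leaf (nat_lit 0x582fb414330) (nat_lit 2561))
)))) (.node (nat_lit 0x58c08c1580a) (.node (nat_lit 0x5832f565330) (.node (nat_lit 0x5830f934330) (.leaf (nat_lit 0x5830dd75330) (nat_lit 1792))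
 (.leaf (nat_lit 0x5830f934330) (nat_lit 2306))
) (.node (nat_lit 0x5832f6b6878) (.leaf (nat_lit 0x5832f565330) (nat_lit 3072))
 (.leaf (nat_lit 0x5832f6b6878) (nat_lit 1793))
)) (.node (nat_lit 0x58c6f85d911) (.node (nat_lit 0x58c5920b8b2) (.leaf (nat_lit 0x58c08c1580a) (nat_lit 1025))
 (.leaf (nat_lit 0x58c5920b8b2) (nat_lit 2048))
) (.node (nat_lit 0x58c6f8c6196) (.leaf (nat_lit 0x58c6f85d911) (nat_lit 2306))
 (.node (nat_lit 0x58c71e49196) (.leaf (nat_lit 0x58c6f8c6196) (nat_lit 2305))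
 (.leaf (nat_lit 0x58c71e49196) (nat_lit 2816))
))))))))))) (.node (nat_lit 0x8c8ecd22081) (.node (nat_lit 0x6181ae4982d) (.node (nat_lit 0x5b30ca039b3) (.node (nat_lit 0x5a47146107a) (.node (nat_lit 0x58f4d4750c6) (.node (nat_lit 0x58e59e0b0b1) (.node (nat_lit 0x58cf6d36196) (.node (nat_lit 0x58ca9809996) (.node (nat_lit 0x58c82086196) (.node (nat_lit 0x58c7d0ac196) (.leaf (nat_lit 0x58c7b95d996) (nat_lit 2049))
 (.leaf (nat_lit 0x58c7d0ac196) (nat_lit 2304))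
) (.node (nat_lit 0x58c8b119996) (.leaf (nat_lit 0x58c82086196) (nat_lit 2305))
 (.leaf (nat_lit 0x58c8b119996) (nat_lit 2816))
)) (.node (nat_lit 0x58ce860381d) (.node (nat_lit 0x58ce8409996) (.leaf (nat_lit 0x58ca9809996) (nat_lit 3328))
 (.leaf (nat_lit 0x58ce8409996) (nat_lit 3328))
) (.node (nat_lit 0x58cf6d19996) (.leaf (nat_lit 0x58ce860381d) (nat_lit 513))
 (.leaf (nat_lit 0x58cf6d19996) (nat_lit 3073))
))) (.node (nat_lit 0x58d13d6d996) (.node (nat_lit 0x58d0fcc4196) (.node (nat_lit 0x58d0dcc4196) (.leaf (nat_lit 0x58cf6d36196) (nat_lit 2818))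
 (.leaf (nat_lit 0x58d0dcc4196) (nat_lit 2818))
) (.node (nat_lit 0x58d0feb6887) (.leaf (nat_lit 0x58d0fcc4196) (nat_lit 2817))
 (.leaf (nat_lit 0x58d0feb6887) (nat_lit 1536))
)) (.node (nat_lit 0x58d4d0c6196) (.node (nat_lit 0x58d4d0740c5) (.leaf (nat_lit 0x58d13d6d996) (nat_lit 1792))
 (.leaf (nat_lit 0x58d4d0740c5) (nat_lit 1792))
) (.node (nat_lit 0x58d4ed36196) (.leaf (nat_lit 0x58d4d0c6196) (nat_lit 2816))
 (.node (nat_lit 0x58e0901480e) (.leaf (nat_lit 0x58d4ed36196) (nat_lit 2817))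
 (.leaf (nat_lit 0x58e0901480e) (nat_lit 769))
))))) (.node (nat_lit 0x58ea9c0a197) (.node (nat_lit 0x58e7bd58197) (.node (nat_lit 0x58e708c5197) (.node (nat_lit 0x58e7085d112) (.leaf (nat_lit 0x58e59e0b0b1) (nat_lit 1792))
 (.leaf (nat_lit 0x58e7085d112) (nat_lit 2304))
) (.node (nat_lit 0x58e71a49997) (.leaf (nat_lit 0x58e708c5197) (nat_lit 2561))
 (.leaf (nat_lit 0x58e71a49997) (nat_lit 2560))
)) (.node (nat_lit 0x58e82487197) (.node (nat_lit 0x58e7ecae197) (.leaf (nat_lit 0x58e7bd58197) (nat_lit 1793))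
 (.leaf (nat_lit 0x58e7ecae197) (nat_lit 2048))
) (.node (nat_lit 0x58e8b519197) (.leaf (nat_lit 0x58e82487197) (nat_lit 2561))
 (.leaf (nat_lit 0x58e8b519197) (nat_lit 3072))
))) (.node (nat_lit 0x58ef7536997) (.node (nat_lit 0x58ee820301e) (.node (nat_lit 0x58ee800a197) (.leaf (nat_lit 0x58ea9c0a197) (nat_lit 3072))
 (.leaf (nat_lit 0x58ee800a197) (nat_lit 3584))
) (.node (nat_lit 0x58ef7519197) (.leaf (nat_lit 0x58ee820301e) (nat_lit 769))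
 (.leaf (nat_lit 0x58ef7519197) (nat_lit 3072))
)) (.node (nat_lit 0x58f0f8c3997) (.node (nat_lit 0x58f0d8c3997) (.leaf (nat_lit 0x58ef7536997) (nat_lit 2562))
 (.leaf (nat_lit 0x58f0d8c3997) (nat_lit 3074))
) (.node (nat_lit 0x58f0fab5088) (.leaf (nat_lit 0x58f0f8c3997) (nat_lit 3073))
 (.node (nat_lit 0x58f1396e997) (.leaf (nat_lit 0x58f0fab5088) (nat_lit 1792))
 (.leaf (nat_lit 0x58f1396e997) (nat_lit 2048))
)))))) (.node (nat_lit 0x5a30f090035) (.node (nat_lit 0x5a24f4d582d) (.node (nat_lit 0x5a208649894) (.node (nat_lit 0x58f4e936997) (.node (nat_lit 0x58f4d4c5197) (.leaf (nat_lit 0x58f4d4750c6) (nat_lit 2048))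
 (.leaf (nat_lit 0x58f4d4c5197) (nat_lit 2560))
) (.node (nat_lit 0x5a208416010) (.leaf (nat_lit 0x58f4e936997) (nat_lit 2561))
 (.leaf (nat_lit 0x5a208416010) (nat_lit 2561))
)) (.node (nat_lit 0x5a21b016010) (.node (nat_lit 0x5a2170130ca) (.leaf (nat_lit 0x5a208649894) (nat_lit 2306))
 (.leaf (nat_lit 0x5a2170130ca) (nat_lit 2817))
) (.node (nat_lit 0x5a236a82810) (.leaf (nat_lit 0x5a21b016010) (nat_lit 3073))
 (.leaf (nat_lit 0x5a236a82810) (nat_lit 1026))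
))) (.node (nat_lit 0x5a25b964874) (.node (nat_lit 0x5a252c28109) (.node (nat_lit 0x5a24f5820ca) (.leaf (nat_lit 0x5a24f4d582d) (nat_lit 2561))
 (.leaf (nat_lit 0x5a24f5820ca) (nat_lit 2817))
) (.node (nat_lit 0x5a252c99079) (.leaf (nat_lit 0x5a252c28109) (nat_lit 3072))
 (.leaf (nat_lit 0x5a252c99079) (nat_lit 2306))
)) (.node (nat_lit 0x5a2c0d23879) (.node (nat_lit 0x5a26fc60079) (.leaf (nat_lit 0x5a25b964874) (nat_lit 3074))
 (.leaf (nat_lit 0x5a26fc60079) (nat_lit 2561))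
) (.node (nat_lit 0x5a2d58d5909) (.leaf (nat_lit 0x5a2c0d23879) (nat_lit 3074))
 (.node (nat_lit 0x5a30a45d2ed) (.leaf (nat_lit 0x5a2d58d5909) (nat_lit 2305))
 (.leaf (nat_lit 0x5a30a45d2ed) (nat_lit 2561))
))))) (.node (nat_lit 0x5a408a49096) (.node (nat_lit 0x5a313530109) (.node (nat_lit 0x5a310926074) (.node (nat_lit 0x5a30f090074) (.leaf (nat_lit 0x5a30f090035) (nat_lit 2050))
 (.leaf (nat_lit 0x5a30f090074) (nat_lit 2817))
) (.node (nat_lit 0x5a310a5d8ec) (.leaf (nat_lit 0x5a310926074) (nat_lit 2306))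
 (.leaf (nat_lit 0x5a310a5d8ec) (nat_lit 2305))
)) (.node (nat_lit 0x5a34e499053) (.node (nat_lit 0x5a34925d8ca) (.leaf (nat_lit 0x5a313530109) (nat_lit 2817))
 (.leaf (nat_lit 0x5a34925d8ca) (nat_lit 2560))
) (.node (nat_lit 0x5a40881500f) (.leaf (nat_lit 0x5a34e499053) (nat_lit 2561))
 (.leaf (nat_lit 0x5a40881500f) (nat_lit 2817))
))) (.node (nat_lit 0x5a44f0d502e) (.node (nat_lit 0x5a41ac1500f) (.node (nat_lit 0x5a416c140c9) (.leaf (nat_lit 0x5a408a49096) (nat_lit 2562))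
 (.leaf (nat_lit 0x5a416c140c9) (nat_lit 2818))
) (.node (nat_lit 0x5a435e8300f) (.leaf (nat_lit 0x5a41ac1500f) (nat_lit 3329))
 (.leaf (nat_lit 0x5a435e8300f) (nat_lit 1282))
)) (.node (nat_lit 0x5a45042910a) (.node (nat_lit 0x5a44f1828c9) (.leaf (nat_lit 0x5a44f0d502e) (nat_lit 2817))
 (.leaf (nat_lit 0x5a44f1828c9) (nat_lit 2561))
) (.node (nat_lit 0x5a45049807a) (.leaf (nat_lit 0x5a45042910a) (nat_lit 3073))
 (.node (nat_lit 0x5a45bd65071) (.leaf (nat_lit 0x5a45049807a) (nat_lit 2562))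
 (.leaf (nat_lit 0x5a45bd65071) (nat_lit 2818))
))))))) (.node (nat_lit 0x5b0170130ca) (.node (nat_lit 0x5a67bd27071) (.node (nat_lit 0x5a51313110a) (.node (nat_lit 0x5a50f48f833) (.node (nat_lit 0x5a4d5cd510a) (.node (nat_lit 0x5a4c052307a) (.leaf (nat_lit 0x5a47146107a) (nat_lit 2817))
 (.leaf (nat_lit 0x5a4c052307a) (nat_lit 2818))
) (.node (nat_lit 0x5a50a05daec) (.leaf (nat_lit 0x5a4d5cd510a) (nat_lit 2049))
 (.leaf (nat_lit 0x5a50a05daec) (nat_lit 2817))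
)) (.node (nat_lit 0x5a510d27071) (.node (nat_lit 0x5a50f48f871) (.leaf (nat_lit 0x5a50f48f833) (nat_lit 2306))
 (.leaf (nat_lit 0x5a50f48f871) (nat_lit 2561))
) (.node (nat_lit 0x5a510e5c8e7) (.leaf (nat_lit 0x5a510d27071) (nat_lit 2050))
 (.leaf (nat_lit 0x5a510e5c8e7) (nat_lit 2561))
))) (.node (nat_lit 0x5a60d92700d) (.node (nat_lit 0x5a54e098054) (.node (nat_lit 0x5a54965c8c9) (.leaf (nat_lit 0x5a51313110a) (nat_lit 3073))
 (.leaf (nat_lit 0x5a54965c8c9) (nat_lit 2304))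
) (.node (nat_lit 0x5a60d89800d) (.leaf (nat_lit 0x5a54e098054) (nat_lit 2305))
 (.leaf (nat_lit 0x5a60d89800d) (nat_lit 1792))
)) (.node (nat_lit 0x5a659c90023) (.node (nat_lit 0x5a61d58200d) (.leaf (nat_lit 0x5a60d92700d) (nat_lit 3330))
 (.leaf (nat_lit 0x5a61d58200d) (nat_lit 2818))
) (.node (nat_lit 0x5a66f88baec) (.leaf (nat_lit 0x5a659c90023) (nat_lit 3073))
 (.node (nat_lit 0x5a67680a33a) (.leaf (nat_lit 0x5a66f88baec) (nat_lit 2306))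
 (.leaf (nat_lit 0x5a67680a33a) (nat_lit 2561))
))))) (.node (nat_lit 0x5a6ee0c404e) (.node (nat_lit 0x5a6e84ac053) (.node (nat_lit 0x5a6a98ac2df) (.node (nat_lit 0x5a6824d52df) (.leaf (nat_lit 0x5a67bd27071) (nat_lit 3586))
 (.leaf (nat_lit 0x5a6824d52df) (nat_lit 2561))
) (.node (nat_lit 0x5a6a996e8c4) (.leaf (nat_lit 0x5a6a98ac2df) (nat_lit 3073))
 (.leaf (nat_lit 0x5a6a996e8c4) (nat_lit 3074))
)) (.node (nat_lit 0x5a6ead3604e) (.node (nat_lit 0x5a6eac5daec) (.leaf (nat_lit 0x5a6e84ac053) (nat_lit 2817))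
 (.leaf (nat_lit 0x5a6eac5daec) (nat_lit 2816))
) (.node (nat_lit 0x5a6ecc60133) (.leaf (nat_lit 0x5a6ead3604e) (nat_lit 2816))
 (.leaf (nat_lit 0x5a6ecc60133) (nat_lit 2562))
))) (.node (nat_lit 0x5a74d436adf) (.node (nat_lit 0x5a713c9004e) (.node (nat_lit 0x5a713c0a0c4) (.leaf (nat_lit 0x5a6ee0c404e) (nat_lit 3072))
 (.leaf (nat_lit 0x5a713c0a0c4) (nat_lit 3074))
) (.node (nat_lit 0x5a71c87505a) (.leaf (nat_lit 0x5a713c9004e) (nat_lit 3072))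
 (.leaf (nat_lit 0x5a71c87505a) (nat_lit 3073))
)) (.node (nat_lit 0x5a74e9228c4) (.node (nat_lit 0x5a74d45daec) (.leaf (nat_lit 0x5a74d436adf) (nat_lit 3074))
 (.leaf (nat_lit 0x5a74d45daec) (nat_lit 3329))
) (.node (nat_lit 0x5ac2c558020) (.leaf (nat_lit 0x5a74e9228c4) (nat_lit 2562))
 (.node (nat_lit 0x5ae2c95d81f) (.leaf (nat_lit 0x5ac2c558020) (nat_lit 3585))
 (.leaf (nat_lit 0x5ae2c95d81f) (nat_lit 3584))
)))))) (.node (nat_lit 0x5b149416010) (.node (nat_lit 0x5b05da5c879) (.node (nat_lit 0x5b035c980ca) (.node (nat_lit 0x5b0239740ca) (.node (nat_lit 0x5b01b016010) (.leaf (nat_lit 0x5b0170130ca) (nat_lit 3073))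
 (.leaf (nat_lit 0x5b01b016010) (nat_lit 3841))
) (.node (nat_lit 0x5b02f920810) (.leaf (nat_lit 0x5b0239740ca) (nat_lit 3329))
 (.leaf (nat_lit 0x5b02f920810) (nat_lit 3586))
)) (.node (nat_lit 0x5b052c28109) (.node (nat_lit 0x5b035d740ce) (.leaf (nat_lit 0x5b035c980ca) (nat_lit 2306))
 (.leaf (nat_lit 0x5b035d740ce) (nat_lit 2561))
) (.node (nat_lit 0x5b052c57081) (.leaf (nat_lit 0x5b052c28109) (nat_lit 2561))
 (.leaf (nat_lit 0x5b052c57081) (nat_lit 3073))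
))) (.node (nat_lit 0x5b10a531136) (.node (nat_lit 0x5b0fc05712b) (.node (nat_lit 0x5b0ac923109) (.leaf (nat_lit 0x5b05da5c879) (nat_lit 3074))
 (.leaf (nat_lit 0x5b0ac923109) (nat_lit 2817))
) (.node (nat_lit 0x5b0fc06e879) (.leaf (nat_lit 0x5b0fc05712b) (nat_lit 2560))
 (.leaf (nat_lit 0x5b0fc06e879) (nat_lit 2050))
)) (.node (nat_lit 0x5b10c6031b2) (.node (nat_lit 0x5b10c531079) (.leaf (nat_lit 0x5b10a531136) (nat_lit 1281))
 (.leaf (nat_lit 0x5b10c531079) (nat_lit 2817))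
) (.node (nat_lit 0x5b10f483081) (.leaf (nat_lit 0x5b10c6031b2) (nat_lit 2049))
 (.node (nat_lit 0x5b110d34081) (.leaf (nat_lit 0x5b10f483081) (nat_lit 2050))
 (.leaf (nat_lit 0x5b110d34081) (nat_lit 2305))
))))) (.node (nat_lit 0x5b2369750cd) (.node (nat_lit 0x5b216c140c9) (.node (nat_lit 0x5b14e558005) (.node (nat_lit 0x5b149523049) (.leaf (nat_lit 0x5b149416010) (nat_lit 3840))
 (.leaf (nat_lit 0x5b149523049) (nat_lit 2816))
) (.node (nat_lit 0x5b14f522909) (.leaf (nat_lit 0x5b14e558005) (nat_lit 3329))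
 (.leaf (nat_lit 0x5b14f522909) (nat_lit 2305))
)) (.node (nat_lit 0x5b223d750c9) (.node (nat_lit 0x5b21ac1500f) (.leaf (nat_lit 0x5b216c140c9) (nat_lit 2817))
 (.leaf (nat_lit 0x5b21ac1500f) (nat_lit 3585))
) (.node (nat_lit 0x5b22f52000f) (.leaf (nat_lit 0x5b223d750c9) (nat_lit 3329))
 (.node (nat_lit 0x5b2368990c9) (.leaf (nat_lit 0x5b22f52000f) (nat_lit 3842))
 (.leaf (nat_lit 0x5b2368990c9) (nat_lit 2562))
)))) (.node (nat_lit 0x5b2ac52390a) (.node (nat_lit 0x5b250456082) (.node (nat_lit 0x5b25042910a) (.leaf (nat_lit 0x5b2369750cd) (nat_lit 2305))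
 (.leaf (nat_lit 0x5b25042910a) (nat_lit 2817))
) (.node (nat_lit 0x5b25e25d87a) (.leaf (nat_lit 0x5b250456082) (nat_lit 3073))
 (.leaf (nat_lit 0x5b25e25d87a) (nat_lit 3074))
)) (.node (nat_lit 0x5b2fc47207a) (.node (nat_lit 0x5b2fc45612a) (.leaf (nat_lit 0x5b2ac52390a) (nat_lit 2561))
 (.leaf (nat_lit 0x5b2fc45612a) (nat_lit 2304))
) (.node (nat_lit 0x5b30a130137) (.leaf (nat_lit 0x5b2fc47207a) (nat_lit 1794))
 (.node (nat_lit 0x5b30c93007a) (.leaf (nat_lit 0x5b30a130137) (nat_lit 1537))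
 (.leaf (nat_lit 0x5b30c93007a) (nat_lit 2561))
)))))))) (.node (nat_lit 0x5e14ed360ec) (.node (nat_lit 0x5caac498054) (.node (nat_lit 0x5c2e5083044) (.node (nat_lit 0x5c2028ae00d) (.node (nat_lit 0x5b34912384a) (.node (nat_lit 0x5b310933082) (.node (nat_lit 0x5b30f082882) (.leaf (nat_lit 0x5b30ca039b3) (nat_lit 2305))
 (.leaf (nat_lit 0x5b30f082882) (nat_lit 1794))
) (.node (nat_lit 0x5b34901500f) (.leaf (nat_lit 0x5b310933082) (nat_lit 2561))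
 (.leaf (nat_lit 0x5b34901500f) (nat_lit 4096))
)) (.node (nat_lit 0x5b34f12210a) (.node (nat_lit 0x5b34e15d806) (.leaf (nat_lit 0x5b34912384a) (nat_lit 3072))
 (.leaf (nat_lit 0x5b34e15d806) (nat_lit 3073))
) (.node (nat_lit 0x5c202860891) (.leaf (nat_lit 0x5b34f12210a) (nat_lit 2561))
 (.leaf (nat_lit 0x5c202860891) (nat_lit 1794))
))) (.node (nat_lit 0x5c235e490ce) (.node (nat_lit 0x5c22cab5091) (.node (nat_lit 0x5c2086b5091) (.leaf (nat_lit 0x5c2028ae00d) (nat_lit 2561))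
 (.leaf (nat_lit 0x5c2086b5091) (nat_lit 3072))
) (.node (nat_lit 0x5c22f5330ce) (.leaf (nat_lit 0x5c22cab5091) (nat_lit 3072))
 (.leaf (nat_lit 0x5c22f5330ce) (nat_lit 2816))
)) (.node (nat_lit 0x5c2ac923192) (.node (nat_lit 0x5c2ac899053) (.leaf (nat_lit 0x5c235e490ce) (nat_lit 2562))
 (.leaf (nat_lit 0x5c2ac899053) (nat_lit 2562))
) (.node (nat_lit 0x5c2c0582853) (.leaf (nat_lit 0x5c2ac923192) (nat_lit 1537))
 (.node (nat_lit 0x5c2d5cc433b) (.leaf (nat_lit 0x5c2c0582853) (nat_lit 3329))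
 (.leaf (nat_lit 0x5c2d5cc433b) (nat_lit 2048))
))))) (.node (nat_lit 0x5c3490c40ce) (.node (nat_lit 0x5c30f48310f) (.node (nat_lit 0x5c30c460079) (.node (nat_lit 0x5c30a0ae192) (.leaf (nat_lit 0x5c2e5083044) (nat_lit 3074))
 (.leaf (nat_lit 0x5c30a0ae192) (nat_lit 2304))
) (.node (nat_lit 0x5c30f40a044) (.leaf (nat_lit 0x5c30c460079) (nat_lit 3073))
 (.leaf (nat_lit 0x5c30f40a044) (nat_lit 2817))
)) (.node (nat_lit 0x5c313519044) (.node (nat_lit 0x5c310872192) (.leaf (nat_lit 0x5c30f48310f) (nat_lit 2816))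
 (.leaf (nat_lit 0x5c310872192) (nat_lit 2817))
) (.node (nat_lit 0x5c3136039b3) (.leaf (nat_lit 0x5c313519044) (nat_lit 2561))
 (.leaf (nat_lit 0x5c3136039b3) (nat_lit 1792))
))) (.node (nat_lit 0x5ca038ac00c) (.node (nat_lit 0x5c34f060053) (.node (nat_lit 0x5c349127096) (.leaf (nat_lit 0x5c3490c40ce) (nat_lit 2049))
 (.leaf (nat_lit 0x5c349127096) (nat_lit 2305))
) (.node (nat_lit 0x5ca03861892) (.leaf (nat_lit 0x5c34f060053) (nat_lit 3073))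
 (.leaf (nat_lit 0x5ca03861892) (nat_lit 1538))
)) (.node (nat_lit 0x5ca2c6b6892) (.node (nat_lit 0x5ca08ab6892) (.leaf (nat_lit 0x5ca038ac00c) (nat_lit 2817))
 (.leaf (nat_lit 0x5ca08ab6892) (nat_lit 3328))
) (.node (nat_lit 0x5ca2f9340cd) (.leaf (nat_lit 0x5ca2c6b6892) (nat_lit 3328))
 (.node (nat_lit 0x5ca36a498cd) (.leaf (nat_lit 0x5ca2f9340cd) (nat_lit 2817))
 (.leaf (nat_lit 0x5ca36a498cd) (nat_lit 2561))
)))))) (.node (nat_lit 0x5e059cae023) (.node (nat_lit 0x5cb0f082910) (.node (nat_lit 0x5cae5482843) (.node (nat_lit 0x5cac0d82054) (.node (nat_lit 0x5caac523986) (.leaf (nat_lit 0x5caac498054) (nat_lit 2818))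
 (.leaf (nat_lit 0x5caac523986) (nat_lit 1793))
) (.node (nat_lit 0x5cad58c3b3a) (.leaf (nat_lit 0x5cac0d82054) (nat_lit 3329))
 (.leaf (nat_lit 0x5cad58c3b3a) (nat_lit 1792))
)) (.node (nat_lit 0x5cb0c86107a) (.node (nat_lit 0x5cb0a4ac186) (.leaf (nat_lit 0x5cae5482843) (nat_lit 2818))
 (.leaf (nat_lit 0x5cb0a4ac186) (nat_lit 2560))
) (.node (nat_lit 0x5cb0f009843) (.leaf (nat_lit 0x5cb0c86107a) (nat_lit 3329))
 (.leaf (nat_lit 0x5cb0f009843) (nat_lit 3073))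
))) (.node (nat_lit 0x5cb494c38cd) (.node (nat_lit 0x5cb13119843) (.node (nat_lit 0x5cb10c6e986) (.leaf (nat_lit 0x5cb0f082910) (nat_lit 2817))
 (.leaf (nat_lit 0x5cb10c6e986) (nat_lit 2561))
) (.node (nat_lit 0x5cb132031b2) (.leaf (nat_lit 0x5cb13119843) (nat_lit 2817))
 (.leaf (nat_lit 0x5cb132031b2) (nat_lit 1536))
)) (.node (nat_lit 0x5cb4f461054) (.node (nat_lit 0x5cb49526094) (.leaf (nat_lit 0x5cb494c38cd) (nat_lit 2305))
 (.leaf (nat_lit 0x5cb49526094) (nat_lit 2049))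
) (.node (nat_lit 0x5e00d93307e) (.leaf (nat_lit 0x5cb4f461054) (nat_lit 2817))
 (.node (nat_lit 0x5e025090023) (.leaf (nat_lit 0x5e00d93307e) (nat_lit 2816))
 (.leaf (nat_lit 0x5e025090023) (nat_lit 3330))
))))) (.node (nat_lit 0x5e082d3633b) (.node (nat_lit 0x5e071923986) (.node (nat_lit 0x5e06f85daec) (.node (nat_lit 0x5e059d31023) (.leaf (nat_lit 0x5e059cae023) (nat_lit 3073))
 (.leaf (nat_lit 0x5e059d31023) (nat_lit 3329))
) (.node (nat_lit 0x5e06fa031b2) (.leaf (nat_lit 0x5e06f85daec) (nat_lit 3072))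
 (.leaf (nat_lit 0x5e06fa031b2) (nat_lit 2049))
)) (.node (nat_lit 0x5e07712288d) (.node (nat_lit 0x5e071923995) (.leaf (nat_lit 0x5e071923986) (nat_lit 2816))
 (.leaf (nat_lit 0x5e071923995) (nat_lit 1537))
) (.node (nat_lit 0x5e0820860ec) (.leaf (nat_lit 0x5e07712288d) (nat_lit 2305))
 (.node (nat_lit 0x5e082c610ec) (.leaf (nat_lit 0x5e0820860ec) (nat_lit 3073))
 (.leaf (nat_lit 0x5e082c610ec) (nat_lit 2816))
)))) (.node (nat_lit 0x5e0f74ae12a) (.node (nat_lit 0x5e0eb01408d) (.node (nat_lit 0x5e0e812f1b2) (.leaf (nat_lit 0x5e082d3633b) (nat_lit 2561))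
 (.leaf (nat_lit 0x5e0e812f1b2) (nat_lit 2050))
) (.node (nat_lit 0x5e0eb122909) (.leaf (nat_lit 0x5e0eb01408d) (nat_lit 2304))
 (.leaf (nat_lit 0x5e0eb122909) (nat_lit 2562))
)) (.node (nat_lit 0x5e10dc5708d) (.node (nat_lit 0x5e0fb519195) (.leaf (nat_lit 0x5e0f74ae12a) (nat_lit 2305))
 (.leaf (nat_lit 0x5e0fb519195) (nat_lit 2818))
) (.node (nat_lit 0x5e113e031b2) (.leaf (nat_lit 0x5e10dc5708d) (nat_lit 3074))
 (.node (nat_lit 0x5e12f0c3995) (.leaf (nat_lit 0x5e113e031b2) (nat_lit 1537))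
 (.leaf (nat_lit 0x5e12f0c3995) (nat_lit 2818))
))))))) (.node (nat_lit 0x5f4fc42001a) (.node (nat_lit 0x5e2fb119994) (.node (nat_lit 0x5e271d23194) (.node (nat_lit 0x5e259130024) (.node (nat_lit 0x5e22588f824) (.node (nat_lit 0x5e20dd3407f) (.leaf (nat_lit 0x5e14ed360ec) (nat_lit 3074))
 (.leaf (nat_lit 0x5e20dd3407f) (nat_lit 2560))
) (.node (nat_lit 0x5e2590ac024) (.leaf (nat_lit 0x5e22588f824) (nat_lit 3074))
 (.leaf (nat_lit 0x5e2590ac024) (nat_lit 3073))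
)) (.node (nat_lit 0x5e270a039b3) (.node (nat_lit 0x5e27085d2ed) (.leaf (nat_lit 0x5e259130024) (nat_lit 3073))
 (.leaf (nat_lit 0x5e27085d2ed) (nat_lit 2816))
) (.node (nat_lit 0x5e271d23192) (.leaf (nat_lit 0x5e270a039b3) (nat_lit 2305))
 (.leaf (nat_lit 0x5e271d23192) (nat_lit 2560))
))) (.node (nat_lit 0x5e282936b3a) (.node (nat_lit 0x5e2824870e7) (.node (nat_lit 0x5e27692208b) (.leaf (nat_lit 0x5e271d23194) (nat_lit 1793))
 (.leaf (nat_lit 0x5e27692208b) (nat_lit 2561))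
) (.node (nat_lit 0x5e2828600e7) (.leaf (nat_lit 0x5e2824870e7) (nat_lit 2817))
 (.leaf (nat_lit 0x5e2828600e7) (nat_lit 3072))
)) (.node (nat_lit 0x5e2eac1308b) (.node (nat_lit 0x5e2e852f9b3) (.leaf (nat_lit 0x5e282936b3a) (nat_lit 2560))
 (.leaf (nat_lit 0x5e2e852f9b3) (nat_lit 1794))
) (.node (nat_lit 0x5e2ead2210a) (.leaf (nat_lit 0x5e2eac1308b) (nat_lit 2560))
 (.node (nat_lit 0x5e2f6cac12b) (.leaf (nat_lit 0x5e2ead2210a) (nat_lit 2306))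
 (.leaf (nat_lit 0x5e2f6cac12b) (nat_lit 2561))
))))) (.node (nat_lit 0x5f41709487f) (.node (nat_lit 0x5e34e9368e7) (.node (nat_lit 0x5e313a039b3) (.node (nat_lit 0x5e30d85608b) (.leaf (nat_lit 0x5e2fb119994) (nat_lit 2562))
 (.leaf (nat_lit 0x5e30d85608b) (nat_lit 3074))
) (.node (nat_lit 0x5e32f4c4194) (.leaf (nat_lit 0x5e313a039b3) (nat_lit 1793))
 (.leaf (nat_lit 0x5e32f4c4194) (nat_lit 2562))
)) (.node (nat_lit 0x5f40288a094) (.node (nat_lit 0x5f40282302e) (.leaf (nat_lit 0x5e34e9368e7) (nat_lit 3330))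
 (.leaf (nat_lit 0x5f40282302e) (nat_lit 2304))
) (.node (nat_lit 0x5f41702c04a) (.leaf (nat_lit 0x5f40288a094) (nat_lit 2816))
 (.leaf (nat_lit 0x5f41702c04a) (nat_lit 2818))
))) (.node (nat_lit 0x5f45358e109) (.node (nat_lit 0x5f42c80b894) (.node (nat_lit 0x5f41ad0807f) (.leaf (nat_lit 0x5f41709487f) (nat_lit 2817))
 (.leaf (nat_lit 0x5f41ad0807f) (nat_lit 2817))
) (.node (nat_lit 0x5f44f40b87f) (.leaf (nat_lit 0x5f42c80b894) (nat_lit 1794))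
 (.leaf (nat_lit 0x5f44f40b87f) (nat_lit 3074))
)) (.node (nat_lit 0x5f4c0c0b8d8) (.node (nat_lit 0x5f47148a005) (.leaf (nat_lit 0x5f45358e109) (nat_lit 2306))
 (.leaf (nat_lit 0x5f47148a005) (nat_lit 2817))
) (.node (nat_lit 0x5f4c0d08005) (.leaf (nat_lit 0x5f4c0c0b8d8) (nat_lit 2817))
 (.node (nat_lit 0x5f4de42001a) (.leaf (nat_lit 0x5f4c0d08005) (nat_lit 2817))
 (.leaf (nat_lit 0x5f4de42001a) (nat_lit 2305))
)))))) (.node (nat_lit 0x5f66fc8a806) (.node (nat_lit 0x5f54f094805) (.node (nat_lit 0x5f50f121043) (.node (nat_lit 0x5f50a08a0d8) (.node (nat_lit 0x5f4fc65410f) (.leaf (nat_lit 0x5f4fc42001a) (nat_lit 3073))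
 (.leaf (nat_lit 0x5f4fc65410f) (nat_lit 1538))
) (.node (nat_lit 0x5f50c4948d8) (.leaf (nat_lit 0x5f50a08a0d8) (nat_lit 2816))
 (.leaf (nat_lit 0x5f50c4948d8) (nat_lit 2817))
)) (.node (nat_lit 0x5f510c7a08b) (.node (nat_lit 0x5f510c2001a) (.leaf (nat_lit 0x5f50f121043) (nat_lit 2818))
 (.leaf (nat_lit 0x5f510c2001a) (nat_lit 2561))
) (.node (nat_lit 0x5f549508094) (.leaf (nat_lit 0x5f510c7a08b) (nat_lit 1794))
 (.leaf (nat_lit 0x5f549508094) (nat_lit 2818))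
))) (.node (nat_lit 0x5f616c9407e) (.node (nat_lit 0x5f60388a896) (.node (nat_lit 0x5f60382402d) (.leaf (nat_lit 0x5f54f094805) (nat_lit 1793))
 (.leaf (nat_lit 0x5f60382402d) (nat_lit 2048))
) (.node (nat_lit 0x5f616c2b049) (.leaf (nat_lit 0x5f60388a896) (nat_lit 2560))
 (.leaf (nat_lit 0x5f616c2b049) (nat_lit 2562))
)) (.node (nat_lit 0x5f62c40a896) (.node (nat_lit 0x5f61b10787e) (.leaf (nat_lit 0x5f616c9407e) (nat_lit 3073))
 (.leaf (nat_lit 0x5f61b10787e) (nat_lit 2561))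
) (.node (nat_lit 0x5f64f00a87e) (.leaf (nat_lit 0x5f62c40a896) (nat_lit 2050))
 (.node (nat_lit 0x5f65318f10a) (.leaf (nat_lit 0x5f64f00a87e) (nat_lit 3074))
 (.leaf (nat_lit 0x5f65318f10a) (nat_lit 2050))
))))) (.node (nat_lit 0x5f71081f81c) (.node (nat_lit 0x5f6fc01f81c) (.node (nat_lit 0x5f6c0507806) (.node (nat_lit 0x5f6c040a8d9) (.leaf (nat_lit 0x5f66fc8a806) (nat_lit 2817))
 (.leaf (nat_lit 0x5f6c040a8d9) (nat_lit 3073))
) (.node (nat_lit 0x5f6de01f81c) (.leaf (nat_lit 0x5f6c0507806) (nat_lit 3073))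
 (.leaf (nat_lit 0x5f6de01f81c) (nat_lit 2049))
)) (.node (nat_lit 0x5f70a48a8d9) (.node (nat_lit 0x5f6fc253110) (.leaf (nat_lit 0x5f6fc01f81c) (nat_lit 2817))
 (.leaf (nat_lit 0x5f6fc253110) (nat_lit 1794))
) (.node (nat_lit 0x5f70c8940d9) (.leaf (nat_lit 0x5f70a48a8d9) (nat_lit 3072))
 (.node (nat_lit 0x5f70f521844) (.leaf (nat_lit 0x5f70c8940d9) (nat_lit 2561))
 (.leaf (nat_lit 0x5f70f521844) (nat_lit 2562))
)))) (.node (nat_lit 0x614ac6b6a6a) (.node (nat_lit 0x5f749107896) (.node (nat_lit 0x5f71087a88d) (.leaf (nat_lit 0x5f71081f81c) (nat_lit 2817))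
 (.leaf (nat_lit 0x5f71087a88d) (nat_lit 1538))
) (.node (nat_lit 0x5f74f494006) (.leaf (nat_lit 0x5f749107896) (nat_lit 3074))
 (.leaf (nat_lit 0x5f74f494006) (nat_lit 1537))
)) (.node (nat_lit 0x61802a4d46f) (.node (nat_lit 0x6180289007e) (.leaf (nat_lit 0x614ac6b6a6a) (nat_lit 2049))
 (.leaf (nat_lit 0x6180289007e) (nat_lit 2817))
) (.node (nat_lit 0x6180896502d) (.leaf (nat_lit 0x61802a4d46f) (nat_lit 2816))
 (.node (nat_lit 0x61808ab6892) (.leaf (nat_lit 0x6180896502d) (nat_lit 2816))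
 (.leaf (nat_lit 0x61808ab6892) (nat_lit 2048))
))))))))) (.node (nat_lit 0x81c170828ce) (.node (nat_lit 0x62c71e54081) (.node (nat_lit 0x61ad780a04d) (.node (nat_lit 0x61a0388f87f) (.node (nat_lit 0x6187a46033a) (.node (nat_lit 0x618530600e7) (.node (nat_lit 0x6182c8d546f) (.node (nat_lit 0x61823d3346f) (.leaf (nat_lit 0x6181ae4982d) (nat_lit 2562))
 (.leaf (nat_lit 0x61823d3346f) (nat_lit 2304))
) (.node (nat_lit 0x6184f52702d) (.leaf (nat_lit 0x6182c8d546f) (nat_lit 2817))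
 (.leaf (nat_lit 0x6184f52702d) (nat_lit 3584))
)) (.node (nat_lit 0x6186fc09838) (.node (nat_lit 0x61853136b3a) (.leaf (nat_lit 0x618530600e7) (nat_lit 2817))
 (.leaf (nat_lit 0x61853136b3a) (nat_lit 2818))
) (.node (nat_lit 0x6186fe0a09b) (.leaf (nat_lit 0x6186fc09838) (nat_lit 1794))
 (.leaf (nat_lit 0x6186fe0a09b) (nat_lit 2050))
))) (.node (nat_lit 0x618d5a4990f) (.node (nat_lit 0x618c0486038) (.node (nat_lit 0x618ac65d838) (.leaf (nat_lit 0x6187a46033a) (nat_lit 1281))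
 (.leaf (nat_lit 0x618ac65d838) (nat_lit 2817))
) (.node (nat_lit 0x618d58c3b3a) (.leaf (nat_lit 0x618c0486038) (nat_lit 2817))
 (.leaf (nat_lit 0x618d58c3b3a) (nat_lit 3329))
)) (.node (nat_lit 0x6190a20b09b) (.node (nat_lit 0x618d7c0984e) (.leaf (nat_lit 0x618d5a4990f) (nat_lit 2817))
 (.leaf (nat_lit 0x618d7c0984e) (nat_lit 2561))
) (.node (nat_lit 0x619108d5074) (.leaf (nat_lit 0x6190a20b09b) (nat_lit 2561))
 (.node (nat_lit 0x6191320b09b) (.leaf (nat_lit 0x619108d5074) (nat_lit 1793))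
 (.leaf (nat_lit 0x6191320b09b) (nat_lit 3072))
))))) (.node (nat_lit 0x61a534610ec) (.node (nat_lit 0x61a1b24902e) (.node (nat_lit 0x61a0856482e) (.node (nat_lit 0x61a03a4dc6e) (.leaf (nat_lit 0x61a0388f87f) (nat_lit 2561))
 (.leaf (nat_lit 0x61a03a4dc6e) (nat_lit 2560))
) (.node (nat_lit 0x61a086b5091) (.leaf (nat_lit 0x61a0856482e) (nat_lit 2560))
 (.leaf (nat_lit 0x61a086b5091) (nat_lit 2304))
)) (.node (nat_lit 0x61a2c4d5c6e) (.node (nat_lit 0x61a2393446e) (.leaf (nat_lit 0x61a1b24902e) (nat_lit 2818))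
 (.leaf (nat_lit 0x61a2393446e) (nat_lit 2048))
) (.node (nat_lit 0x61a4f12602e) (.leaf (nat_lit 0x61a2c4d5c6e) (nat_lit 3073))
 (.leaf (nat_lit 0x61a4f12602e) (nat_lit 3328))
))) (.node (nat_lit 0x61a7b46133b) (.node (nat_lit 0x61a7140a034) (.node (nat_lit 0x61a5353633b) (.leaf (nat_lit 0x61a534610ec) (nat_lit 2561))
 (.leaf (nat_lit 0x61a5353633b) (nat_lit 3074))
) (.node (nat_lit 0x61a7160a899) (.leaf (nat_lit 0x61a7140a034) (nat_lit 2050))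
 (.leaf (nat_lit 0x61a7160a899) (nat_lit 1794))
)) (.node (nat_lit 0x61ac0c87034) (.node (nat_lit 0x61aaca5c834) (.leaf (nat_lit 0x61a7b46133b) (nat_lit 1537))
 (.leaf (nat_lit 0x61aaca5c834) (nat_lit 2816))
) (.node (nat_lit 0x61ad5cc433b) (.leaf (nat_lit 0x61ac0c87034) (nat_lit 2561))
 (.node (nat_lit 0x61ad5e49110) (.leaf (nat_lit 0x61ad5cc433b) (nat_lit 3073))
 (.leaf (nat_lit 0x61ad5e49110) (nat_lit 3073))
)))))) (.node (nat_lit 0x62884c1f81c) (.node (nat_lit 0x6280d98a87e) (.node (nat_lit 0x61f0d9820f6) (.node (nat_lit 0x61b10cd5871) (.node (nat_lit 0x61b0a60b899) (.leaf (nat_lit 0x61ad780a04d) (nat_lit 2305))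
 (.leaf (nat_lit 0x61b0a60b899) (nat_lit 2817))
) (.node (nat_lit 0x61b1360b899) (.leaf (nat_lit 0x61b10cd5871) (nat_lit 1537))
 (.leaf (nat_lit 0x61b1360b899) (nat_lit 2816))
)) (.node (nat_lit 0x622acab526b) (.node (nat_lit 0x6210dd828f3) (.leaf (nat_lit 0x61f0d9820f6) (nat_lit 1793))
 (.leaf (nat_lit 0x6210dd828f3) (nat_lit 1537))
) (.node (nat_lit 0x6280d80a87e) (.leaf (nat_lit 0x622acab526b) (nat_lit 2305))
 (.leaf (nat_lit 0x6280d80a87e) (nat_lit 2050))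
))) (.node (nat_lit 0x62871a53082) (.node (nat_lit 0x62859d8f023) (.node (nat_lit 0x6281d50787e) (.leaf (nat_lit 0x6280d98a87e) (nat_lit 3073))
 (.leaf (nat_lit 0x6281d50787e) (nat_lit 3073))
) (.node (nat_lit 0x6286f82b038) (.leaf (nat_lit 0x62859d8f023) (nat_lit 2562))
 (.leaf (nat_lit 0x6286f82b038) (nat_lit 2562))
)) (.node (nat_lit 0x6288201f81c) (.node (nat_lit 0x6287bd8a8d9) (.leaf (nat_lit 0x62871a53082) (nat_lit 1282))
 (.leaf (nat_lit 0x6287bd8a8d9) (nat_lit 3074))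
) (.node (nat_lit 0x6288218a806) (.leaf (nat_lit 0x6288201f81c) (nat_lit 2049))
 (.node (nat_lit 0x62882d2184d) (.leaf (nat_lit 0x6288218a806) (nat_lit 2562))
 (.leaf (nat_lit 0x62882d2184d) (nat_lit 2816))
))))) (.node (nat_lit 0x6290fc0a934) (.node (nat_lit 0x628e808a934) (.node (nat_lit 0x628e3c7a92b) (.node (nat_lit 0x628a9c8a806) (.leaf (nat_lit 0x62884c1f81c) (nat_lit 3073))
 (.leaf (nat_lit 0x628a9c8a806) (nat_lit 2049))
) (.node (nat_lit 0x628e808a8d9) (.leaf (nat_lit 0x628e3c7a92b) (nat_lit 2050))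
 (.leaf (nat_lit 0x628e808a8d9) (nat_lit 2561))
)) (.node (nat_lit 0x6290dc0a8d9) (.node (nat_lit 0x628eb0240b9) (.leaf (nat_lit 0x628e808a934) (nat_lit 3072))
 (.leaf (nat_lit 0x628eb0240b9) (nat_lit 2305))
) (.node (nat_lit 0x6290dd07806) (.leaf (nat_lit 0x6290dc0a8d9) (nat_lit 2818))
 (.leaf (nat_lit 0x6290dd07806) (nat_lit 2305))
))) (.node (nat_lit 0x62c0dc0b87f) (.node (nat_lit 0x6292f107934) (.node (nat_lit 0x6292f01f81c) (.leaf (nat_lit 0x6290fc0a934) (nat_lit 2560))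
 (.leaf (nat_lit 0x6292f01f81c) (nat_lit 2816))
) (.node (nat_lit 0x62b13cc896d) (.leaf (nat_lit 0x6292f107934) (nat_lit 2560))
 (.leaf (nat_lit 0x62b13cc896d) (nat_lit 2817))
)) (.node (nat_lit 0x62c1d90807f) (.node (nat_lit 0x62c0dd8b87f) (.leaf (nat_lit 0x62c0dc0b87f) (nat_lit 2306))
 (.leaf (nat_lit 0x62c0dd8b87f) (nat_lit 2817))
) (.node (nat_lit 0x62c5918e024) (.leaf (nat_lit 0x62c1d90807f) (nat_lit 2817))
 (.node (nat_lit 0x62c7082c034) (.leaf (nat_lit 0x62c5918e024) (nat_lit 2306))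
 (.leaf (nat_lit 0x62c7082c034) (nat_lit 2561))
))))))) (.node (nat_lit 0x7f68b4828d0) (.node (nat_lit 0x638d584b939) (.node (nat_lit 0x62ce848a0d8) (.node (nat_lit 0x62c8292104e) (.node (nat_lit 0x62c8242001a) (.node (nat_lit 0x62c7b98b8d8) (.leaf (nat_lit 0x62c71e54081) (nat_lit 1538))
 (.leaf (nat_lit 0x62c7b98b8d8) (nat_lit 2818))
) (.node (nat_lit 0x62c8258b805) (.leaf (nat_lit 0x62c8242001a) (nat_lit 1793))
 (.leaf (nat_lit 0x62c8258b805) (nat_lit 2561))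
)) (.node (nat_lit 0x62ca988a005) (.node (nat_lit 0x62c8542001a) (.leaf (nat_lit 0x62c8292104e) (nat_lit 3072))
 (.leaf (nat_lit 0x62c8542001a) (nat_lit 3073))
) (.node (nat_lit 0x62ce387a12a) (.leaf (nat_lit 0x62ca988a005) (nat_lit 1793))
 (.leaf (nat_lit 0x62ce387a12a) (nat_lit 1794))
))) (.node (nat_lit 0x62d0d908005) (.node (nat_lit 0x62ceac230bc) (.node (nat_lit 0x62ce848a133) (.leaf (nat_lit 0x62ce848a0d8) (nat_lit 2817))
 (.leaf (nat_lit 0x62ce848a133) (nat_lit 2816))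
) (.node (nat_lit 0x62d0d80b8d8) (.leaf (nat_lit 0x62ceac230bc) (nat_lit 2561))
 (.leaf (nat_lit 0x62d0d80b8d8) (nat_lit 2562))
)) (.node (nat_lit 0x62d2f42001a) (.node (nat_lit 0x62d0f80b933) (.leaf (nat_lit 0x62d0d908005) (nat_lit 2561))
 (.leaf (nat_lit 0x62d0f80b933) (nat_lit 2304))
) (.node (nat_lit 0x62d2f508133) (.leaf (nat_lit 0x62d2f42001a) (nat_lit 3072))
 (.node (nat_lit 0x62f138c796c) (.leaf (nat_lit 0x62d2f508133) (nat_lit 2816))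
 (.leaf (nat_lit 0x62f138c796c) (nat_lit 2817))
))))) (.node (nat_lit 0x7f60d816010) (.node (nat_lit 0x79a088d5020) (.node (nat_lit 0x640e8119197) (.node (nat_lit 0x63cd5c4c138) (.leaf (nat_lit 0x638d584b939) (nat_lit 2049))
 (.leaf (nat_lit 0x63cd5c4c138) (nat_lit 2305))
) (.node (nat_lit 0x642e8519996) (.leaf (nat_lit 0x640e8119197) (nat_lit 2816))
 (.leaf (nat_lit 0x642e8519996) (nat_lit 2817))
)) (.node (nat_lit 0x7ec8b24d331) (.node (nat_lit 0x79e084d581f) (.leaf (nat_lit 0x79a088d5020) (nat_lit 2305))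
 (.leaf (nat_lit 0x79e084d581f) (nat_lit 2561))
) (.node (nat_lit 0x7f08b64db30) (.leaf (nat_lit 0x7ec8b24d331) (nat_lit 1793))
 (.leaf (nat_lit 0x7f08b64db30) (nat_lit 2049))
))) (.node (nat_lit 0x7f67088f8ec) (.node (nat_lit 0x7f659c60023) (.node (nat_lit 0x7f63256d823) (.leaf (nat_lit 0x7f60d816010) (nat_lit 2305))
 (.leaf (nat_lit 0x7f63256d823) (nat_lit 2561))
) (.node (nat_lit 0x7f659d22023) (.leaf (nat_lit 0x7f659c60023) (nat_lit 2561))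
 (.leaf (nat_lit 0x7f659d22023) (nat_lit 2561))
)) (.node (nat_lit 0x7f6828239b2) (.node (nat_lit 0x7f6770ac08d) (.leaf (nat_lit 0x7f67088f8ec) (nat_lit 2561))
 (.leaf (nat_lit 0x7f6770ac08d) (nat_lit 2561))
) (.node (nat_lit 0x7f6856490d0) (.leaf (nat_lit 0x7f6828239b2) (nat_lit 1026))
 (.node (nat_lit 0x7f68b460034) (.leaf (nat_lit 0x7f6856490d0) (nat_lit 2049))
 (.leaf (nat_lit 0x7f68b460034) (nat_lit 3072))
)))))) (.node (nat_lit 0x7f8768ae08b) (.node (nat_lit 0x7f70f9820d0) (.node (nat_lit 0x7f6eec860ec) (.node (nat_lit 0x7f6a9e031b2) (.node (nat_lit 0x7f6a9c0a006) (.leaf (nat_lit 0x7f68b4828d0) (nat_lit 2306))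
 (.leaf (nat_lit 0x7f6a9c0a006) (nat_lit 1538))
) (.node (nat_lit 0x7f6e82031b2) (.leaf (nat_lit 0x7f6a9e031b2) (nat_lit 3073))
 (.leaf (nat_lit 0x7f6e82031b2) (nat_lit 2561))
)) (.node (nat_lit 0x7f70d982054) (.node (nat_lit 0x7f6f764d90f) (.leaf (nat_lit 0x7f6eec860ec) (nat_lit 2049))
 (.leaf (nat_lit 0x7f6f764d90f) (nat_lit 2306))
) (.node (nat_lit 0x7f70da5d8ec) (.leaf (nat_lit 0x7f70d982054) (nat_lit 2305))
 (.leaf (nat_lit 0x7f70da5d8ec) (nat_lit 2305))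
))) (.node (nat_lit 0x7f80dc1500f) (.node (nat_lit 0x7f74e88f8c4) (.node (nat_lit 0x7f74d41408d) (.leaf (nat_lit 0x7f70f9820d0) (nat_lit 2818))
 (.leaf (nat_lit 0x7f74d41408d) (nat_lit 2050))
) (.node (nat_lit 0x7f74ea4d88d) (.leaf (nat_lit 0x7f74e88f8c4) (nat_lit 2818))
 (.leaf (nat_lit 0x7f74ea4d88d) (nat_lit 2817))
)) (.node (nat_lit 0x7f859061024) (.node (nat_lit 0x7f83296e824) (.leaf (nat_lit 0x7f80dc1500f) (nat_lit 2561))
 (.leaf (nat_lit 0x7f83296e824) (nat_lit 2817))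
) (.node (nat_lit 0x7f859122824) (.leaf (nat_lit 0x7f859061024) (nat_lit 2817))
 (.node (nat_lit 0x7f86f8900e7) (.leaf (nat_lit 0x7f859122824) (nat_lit 2305))
 (.leaf (nat_lit 0x7f86f8900e7) (nat_lit 2817))
))))) (.node (nat_lit 0x7f8f6e4d110) (.node (nat_lit 0x7f88b0830cf) (.node (nat_lit 0x7f884e498cf) (.node (nat_lit 0x7f882c229b3) (.leaf (nat_lit 0x7f8768ae08b) (nat_lit 2305))
 (.leaf (nat_lit 0x7f882c229b3) (nat_lit 770))
) (.node (nat_lit 0x7f88b061038) (.leaf (nat_lit 0x7f884e498cf) (nat_lit 1793))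
 (.leaf (nat_lit 0x7f88b061038) (nat_lit 2816))
)) (.node (nat_lit 0x7f8a9a039b3) (.node (nat_lit 0x7f8a9809805) (.leaf (nat_lit 0x7f88b0830cf) (nat_lit 2562))
 (.leaf (nat_lit 0x7f8a9809805) (nat_lit 1794))
) (.node (nat_lit 0x7f8e86039b3) (.leaf (nat_lit 0x7f8a9a039b3) (nat_lit 2817))
 (.node (nat_lit 0x7f8ee0870e7) (.leaf (nat_lit 0x7f8e86039b3) (nat_lit 2817))
 (.leaf (nat_lit 0x7f8ee0870e7) (nat_lit 2305))
)))) (.node (nat_lit 0x7f94d01308b) (.node (nat_lit 0x7f90de5c8e7) (.node (nat_lit 0x7f90dd82853) (.leaf (nat_lit 0x7f8f6e4d110) (nat_lit 2562))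
 (.leaf (nat_lit 0x7f90dd82853) (nat_lit 2561))
) (.node (nat_lit 0x7f90fd828cf) (.leaf (nat_lit 0x7f90de5c8e7) (nat_lit 2049))
 (.leaf (nat_lit 0x7f90fd828cf) (nat_lit 3074))
)) (.node (nat_lit 0x7f94ee4d08b) (.node (nat_lit 0x7f94ec900bf) (.leaf (nat_lit 0x7f94d01308b) (nat_lit 2306))
 (.leaf (nat_lit 0x7f94ec900bf) (nat_lit 2562))
) (.node (nat_lit 0x81c07d31023) (.leaf (nat_lit 0x7f94ee4d08b) (nat_lit 2816))
 (.node (nat_lit 0x81c0889900c) (.leaf (nat_lit 0x81c07d31023) (nat_lit 2817))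
 (.leaf (nat_lit 0x81c0889900c) (nat_lit 2818))
)))))))) (.node (nat_lit 0x8367b95d8b9) (.node (nat_lit 0x81f1347505a) (.node (nat_lit 0x81d4e13410f) (.node (nat_lit 0x81cc0c5612a) (.node (nat_lit 0x81c534ae12a) (.node (nat_lit 0x81c2c41500f) (.node (nat_lit 0x81c238c407f) (.leaf (nat_lit 0x81c170828ce) (nat_lit 2560))
 (.leaf (nat_lit 0x81c238c407f) (nat_lit 2562))
) (.node (nat_lit 0x81c5064990f) (.leaf (nat_lit 0x81c2c41500f) (nat_lit 2817))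
 (.leaf (nat_lit 0x81c5064990f) (nat_lit 3072))
)) (.node (nat_lit 0x81c6fc828b4) (.node (nat_lit 0x81c5353112a) (.leaf (nat_lit 0x81c534ae12a) (nat_lit 2305))
 (.leaf (nat_lit 0x81c5353112a) (nat_lit 2049))
) (.node (nat_lit 0x81cac899033) (.leaf (nat_lit 0x81c6fc828b4) (nat_lit 2817))
 (.leaf (nat_lit 0x81cac899033) (nat_lit 2818))
))) (.node (nat_lit 0x81d109648b4) (.node (nat_lit 0x81d0c56e833) (.node (nat_lit 0x81d0c48f833) (.leaf (nat_lit 0x81cc0c5612a) (nat_lit 3072))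
 (.leaf (nat_lit 0x81d0c48f833) (nat_lit 1792))
) (.node (nat_lit 0x81d109580b4) (.leaf (nat_lit 0x81d0c56e833) (nat_lit 2049))
 (.leaf (nat_lit 0x81d109580b4) (nat_lit 1794))
)) (.node (nat_lit 0x81d13131859) (.node (nat_lit 0x81d13074059) (.leaf (nat_lit 0x81d109648b4) (nat_lit 3073))
 (.leaf (nat_lit 0x81d13074059) (nat_lit 2817))
) (.node (nat_lit 0x81d4912702d) (.leaf (nat_lit 0x81d13131859) (nat_lit 2050))
 (.node (nat_lit 0x81d4e12710f) (.leaf (nat_lit 0x81d4912702d) (nat_lit 3073))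
 (.leaf (nat_lit 0x81d4e12710f) (nat_lit 2560))
))))) (.node (nat_lit 0x81e530ac12b) (.node (nat_lit 0x81e16c830cd) (.node (nat_lit 0x81e08130024) (.node (nat_lit 0x81d4f474059) (.leaf (nat_lit 0x81d4e13410f) (nat_lit 2561))
 (.leaf (nat_lit 0x81d4f474059) (nat_lit 2817))
) (.node (nat_lit 0x81e0849800d) (.leaf (nat_lit 0x81e08130024) (nat_lit 2561))
 (.leaf (nat_lit 0x81e0849800d) (nat_lit 2562))
)) (.node (nat_lit 0x81e2c816010) (.node (nat_lit 0x81e23cc387e) (.leaf (nat_lit 0x81e16c830cd) (nat_lit 2816))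
 (.leaf (nat_lit 0x81e23cc387e) (nat_lit 2818))
) (.node (nat_lit 0x81e52e49110) (.leaf (nat_lit 0x81e2c816010) (nat_lit 2817))
 (.leaf (nat_lit 0x81e52e49110) (nat_lit 2816))
))) (.node (nat_lit 0x81ec045712b) (.node (nat_lit 0x81e714830b3) (.node (nat_lit 0x81e5313012b) (.leaf (nat_lit 0x81e530ac12b) (nat_lit 2049))
 (.leaf (nat_lit 0x81e5313012b) (nat_lit 1793))
) (.node (nat_lit 0x81eac498035) (.leaf (nat_lit 0x81e714830b3) (nat_lit 3073))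
 (.leaf (nat_lit 0x81eac498035) (nat_lit 2562))
)) (.node (nat_lit 0x81f0c96d835) (.node (nat_lit 0x81f0c890035) (.leaf (nat_lit 0x81ec045712b) (nat_lit 3328))
 (.leaf (nat_lit 0x81f0c890035) (nat_lit 2048))
) (.node (nat_lit 0x81f10d5d8b3) (.leaf (nat_lit 0x81f0c96d835) (nat_lit 2305))
 (.node (nat_lit 0x81f10d650b3) (.leaf (nat_lit 0x81f10d5d8b3) (nat_lit 2050))
 (.leaf (nat_lit 0x81f10d650b3) (nat_lit 3329))
)))))) (.node (nat_lit 0x834e801412b) (.node (nat_lit 0x83409136967) (.node (nat_lit 0x81f4e533110) (.node (nat_lit 0x81f4952602e) (.node (nat_lit 0x81f1353085a) (.leaf (nat_lit 0x81f1347505a) (nat_lit 2561))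
 (.leaf (nat_lit 0x81f1353085a) (nat_lit 2306))
) (.node (nat_lit 0x81f4e526110) (.leaf (nat_lit 0x81f4952602e) (nat_lit 3329))
 (.leaf (nat_lit 0x81f4e526110) (nat_lit 2561))
)) (.node (nat_lit 0x83404028167) (.node (nat_lit 0x81f4f07505a) (.leaf (nat_lit 0x81f4e533110) (nat_lit 2560))
 (.leaf (nat_lit 0x81f4f07505a) (nat_lit 2561))
) (.node (nat_lit 0x83409119167) (.leaf (nat_lit 0x83404028167) (nat_lit 1792))
 (.leaf (nat_lit 0x83409119167) (nat_lit 2561))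
))) (.node (nat_lit 0x8347189912b) (.node (nat_lit 0x8347096d835) (.node (nat_lit 0x8341d8560ca) (.leaf (nat_lit 0x83409136967) (nat_lit 2561))
 (.leaf (nat_lit 0x8341d8560ca) (nat_lit 3072))
) (.node (nat_lit 0x83471828137) (.leaf (nat_lit 0x8347096d835) (nat_lit 2560))
 (.leaf (nat_lit 0x83471828137) (nat_lit 2561))
)) (.node (nat_lit 0x8347bd580bc) (.node (nat_lit 0x8347bc2885a) (.leaf (nat_lit 0x8347189912b) (nat_lit 3073))
 (.leaf (nat_lit 0x8347bc2885a) (nat_lit 1282))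
) (.node (nat_lit 0x834825650b3) (.leaf (nat_lit 0x8347bd580bc) (nat_lit 3074))
 (.node (nat_lit 0x83482574134) (.leaf (nat_lit 0x834825650b3) (nat_lit 3072))
 (.leaf (nat_lit 0x83482574134) (nat_lit 2305))
))))) (.node (nat_lit 0x8354d47505a) (.node (nat_lit 0x834fb531035) (.node (nat_lit 0x834ec4378b3) (.node (nat_lit 0x834eac7505a) (.leaf (nat_lit 0x834e801412b) (nat_lit 2560))
 (.leaf (nat_lit 0x834eac7505a) (nat_lit 2816))
) (.node (nat_lit 0x834f74c6194) (.leaf (nat_lit 0x834ec4378b3) (nat_lit 3073))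
 (.leaf (nat_lit 0x834f74c6194) (nat_lit 3330))
)) (.node (nat_lit 0x8351385daec) (.node (nat_lit 0x8350f8560b3) (.leaf (nat_lit 0x834fb531035) (nat_lit 2560))
 (.leaf (nat_lit 0x8350f8560b3) (nat_lit 3074))
) (.node (nat_lit 0x835138c6035) (.leaf (nat_lit 0x8351385daec) (nat_lit 2816))
 (.node (nat_lit 0x8352f15812b) (.leaf (nat_lit 0x835138c6035) (nat_lit 2560))
 (.leaf (nat_lit 0x8352f15812b) (nat_lit 2816))
)))) (.node (nat_lit 0x8361d4570c9) (.node (nat_lit 0x83608d19964) (.node (nat_lit 0x83603c29164) (.leaf (nat_lit 0x8354d47505a) (nat_lit 2305))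
 (.leaf (nat_lit 0x83603c29164) (nat_lit 1536))
) (.node (nat_lit 0x83608d36164) (.leaf (nat_lit 0x83608d19964) (nat_lit 2305))
 (.leaf (nat_lit 0x83608d36164) (nat_lit 2817))
)) (.node (nat_lit 0x83671c29136) (.node (nat_lit 0x8366f96e833) (.leaf (nat_lit 0x8361d4570c9) (nat_lit 2816))
 (.leaf (nat_lit 0x8366f96e833) (nat_lit 2816))
) (.node (nat_lit 0x83671c9812a) (.leaf (nat_lit 0x83671c29136) (nat_lit 2817))
 (.node (nat_lit 0x8367b827859) (.leaf (nat_lit 0x83671c9812a) (nat_lit 2817))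
 (.leaf (nat_lit 0x8367b827859) (nat_lit 1538))
))))))) (.node (nat_lit 0x8c20900a167) (.node (nat_lit 0x8c070809853) (.node (nat_lit 0x8370fc570b4) (.node (nat_lit 0x836eb074059) (.node (nat_lit 0x83682175133) (.node (nat_lit 0x836821648b4) (.leaf (nat_lit 0x8367b95d8b9) (nat_lit 3074))
 (.leaf (nat_lit 0x836821648b4) (nat_lit 3328))
) (.node (nat_lit 0x836e841312a) (.leaf (nat_lit 0x83682175133) (nat_lit 2306))
 (.leaf (nat_lit 0x836e841312a) (nat_lit 2561))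
)) (.node (nat_lit 0x836f6cc5195) (.node (nat_lit 0x836ecc368b4) (.leaf (nat_lit 0x836eb074059) (nat_lit 2560))
 (.leaf (nat_lit 0x836ecc368b4) (nat_lit 3074))
) (.node (nat_lit 0x836fb130033) (.leaf (nat_lit 0x836f6cc5195) (nat_lit 3074))
 (.leaf (nat_lit 0x836fb130033) (nat_lit 2816))
))) (.node (nat_lit 0x8374d074059) (.node (nat_lit 0x83713cc5033) (.node (nat_lit 0x83713c5d2ed) (.leaf (nat_lit 0x8370fc570b4) (nat_lit 2818))
 (.leaf (nat_lit 0x83713c5d2ed) (nat_lit 2817))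
) (.node (nat_lit 0x8372f55d92a) (.leaf (nat_lit 0x83713cc5033) (nat_lit 2304))
 (.leaf (nat_lit 0x8372f55d92a) (nat_lit 2560))
)) (.node (nat_lit 0x8c00dab5091) (.node (nat_lit 0x8c008c09964) (.leaf (nat_lit 0x8374d074059) (nat_lit 2561))
 (.leaf (nat_lit 0x8c008c09964) (nat_lit 2818))
) (.node (nat_lit 0x8c01d485891) (.leaf (nat_lit 0x8c00dab5091) (nat_lit 2817))
 (.node (nat_lit 0x8c01d6b5091) (.leaf (nat_lit 0x8c01d485891) (nat_lit 1794))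
 (.leaf (nat_lit 0x8c01d6b5091) (nat_lit 2305))
))))) (.node (nat_lit 0x8c0cf98208b) (.node (nat_lit 0x8c076836992) (.node (nat_lit 0x8c071982044) (.node (nat_lit 0x8c0718d58b9) (.leaf (nat_lit 0x8c070809853) (nat_lit 2306))
 (.leaf (nat_lit 0x8c0718d58b9) (nat_lit 2305))
) (.node (nat_lit 0x8c076814053) (.leaf (nat_lit 0x8c071982044) (nat_lit 2561))
 (.leaf (nat_lit 0x8c076814053) (nat_lit 2818))
)) (.node (nat_lit 0x8c085487034) (.node (nat_lit 0x8c07b8870b9) (.leaf (nat_lit 0x8c076836992) (nat_lit 2818))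
 (.leaf (nat_lit 0x8c07b8870b9) (nat_lit 2562))
) (.node (nat_lit 0x8c08b0c5044) (.leaf (nat_lit 0x8c085487034) (nat_lit 3328))
 (.leaf (nat_lit 0x8c08b0c5044) (nat_lit 2818))
))) (.node (nat_lit 0x8c10d872192) (.node (nat_lit 0x8c0eae4d0d9) (.node (nat_lit 0x8c0e805daec) (.leaf (nat_lit 0x8c0cf98208b) (nat_lit 3072))
 (.leaf (nat_lit 0x8c0e805daec) (nat_lit 3073))
) (.node (nat_lit 0x8c0fb461192) (.leaf (nat_lit 0x8c0eae4d0d9) (nat_lit 2305))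
 (.leaf (nat_lit 0x8c0fb461192) (nat_lit 2817))
)) (.node (nat_lit 0x8c14d0ac053) (.node (nat_lit 0x8c10d9650b9) (.leaf (nat_lit 0x8c10d872192) (nat_lit 2048))
 (.leaf (nat_lit 0x8c10d9650b9) (nat_lit 2561))
) (.node (nat_lit 0x8c14d119044) (.leaf (nat_lit 0x8c14d0ac053) (nat_lit 2817))
 (.node (nat_lit 0x8c14ec36874) (.leaf (nat_lit 0x8c14d119044) (nat_lit 2305))
 (.leaf (nat_lit 0x8c14ec36874) (nat_lit 2561))
)))))) (.node (nat_lit 0x8c30dd648bc) (.node (nat_lit 0x8c277037986) (.node (nat_lit 0x8c26f80a054) (.node (nat_lit 0x8c21d886892) (.node (nat_lit 0x8c20deb6892) (.leaf (nat_lit 0x8c20900a167) (nat_lit 2562))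
 (.leaf (nat_lit 0x8c20deb6892) (nat_lit 3073))
) (.node (nat_lit 0x8c21dab6892) (.leaf (nat_lit 0x8c21d886892) (nat_lit 2050))
 (.leaf (nat_lit 0x8c21dab6892) (nat_lit 2561))
)) (.node (nat_lit 0x8c271d82843) (.node (nat_lit 0x8c271cd50bc) (.leaf (nat_lit 0x8c26f80a054) (nat_lit 2050))
 (.leaf (nat_lit 0x8c271cd50bc) (nat_lit 2561))
) (.node (nat_lit 0x8c277013054) (.leaf (nat_lit 0x8c271d82843) (nat_lit 2305))
 (.leaf (nat_lit 0x8c277013054) (nat_lit 2562))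
))) (.node (nat_lit 0x8c2cf18288d) (.node (nat_lit 0x8c284c86038) (.node (nat_lit 0x8c27bc860bc) (.leaf (nat_lit 0x8c277037986) (nat_lit 2817))
 (.leaf (nat_lit 0x8c27bc860bc) (nat_lit 2818))
) (.node (nat_lit 0x8c28b4c6043) (.leaf (nat_lit 0x8c284c86038) (nat_lit 3072))
 (.leaf (nat_lit 0x8c28b4c6043) (nat_lit 3074))
)) (.node (nat_lit 0x8c2eb24d8d8) (.node (nat_lit 0x8c2e845d2ed) (.leaf (nat_lit 0x8c2cf18288d) (nat_lit 2816))
 (.leaf (nat_lit 0x8c2e845d2ed) (nat_lit 3073))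
) (.node (nat_lit 0x8c2fb060186) (.leaf (nat_lit 0x8c2eb24d8d8) (nat_lit 2561))
 (.node (nat_lit 0x8c30dc6e986) (.leaf (nat_lit 0x8c2fb060186) (nat_lit 2561))
 (.leaf (nat_lit 0x8c30dc6e986) (nat_lit 2304))
))))) (.node (nat_lit 0x8c877083081) (.node (nat_lit 0x8c80d816010) (.node (nat_lit 0x8c34d519843) (.node (nat_lit 0x8c34d4ae054) (.leaf (nat_lit 0x8c30dd648bc) (nat_lit 2305))
 (.leaf (nat_lit 0x8c34d4ae054) (nat_lit 3073))
) (.node (nat_lit 0x8c34e837871) (.leaf (nat_lit 0x8c34d519843) (nat_lit 2049))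
 (.leaf (nat_lit 0x8c34e837871) (nat_lit 2817))
)) (.node (nat_lit 0x8c81d416010) (.node (nat_lit 0x8c80d9fa010) (.leaf (nat_lit 0x8c80d816010) (nat_lit 2305))
 (.leaf (nat_lit 0x8c80d9fa010) (nat_lit 3072))
) (.node (nat_lit 0x8c859d22023) (.leaf (nat_lit 0x8c81d416010) (nat_lit 2304))
 (.node (nat_lit 0x8c877061074) (.leaf (nat_lit 0x8c859d22023) (nat_lit 2561))
 (.leaf (nat_lit 0x8c877061074) (nat_lit 2818))
)))) (.node (nat_lit 0x8c885523879) (.node (nat_lit 0x8c882a4d881) (.node (nat_lit 0x8c88288f909) (.leaf (nat_lit 0x8c877083081) (nat_lit 1794))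
 (.leaf (nat_lit 0x8c88288f909) (nat_lit 2561))
) (.node (nat_lit 0x8c8854d5074) (.leaf (nat_lit 0x8c882a4d881) (nat_lit 2305))
 (.leaf (nat_lit 0x8c8854d5074) (nat_lit 2561))
)) (.node (nat_lit 0x8c88b4ae0d8) (.node (nat_lit 0x8c887533110) (.leaf (nat_lit 0x8c885523879) (nat_lit 2817))
 (.leaf (nat_lit 0x8c887533110) (nat_lit 2560))
) (.node (nat_lit 0x8c8a9e0b09b) (.leaf (nat_lit 0x8c88b4ae0d8) (nat_lit 3073))
 (.node (nat_lit 0x8c8eb130109) (.leaf (nat_lit 0x8c8a9e0b09b) (nat_lit 2561))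
 (.leaf (nat_lit 0x8c8eb130109) (nat_lit 3072))
)))))))))) (.node (nat_lit 0x9747180b986) (.node (nat_lit 0x94f4d5220bf) (.node (nat_lit 0x8f30f20b88a) (.node (nat_lit 0x8ee2c523096) (.node (nat_lit 0x8ca8853410f) (.node (nat_lit 0x8ca0ddfa80f) (.node (nat_lit 0x8c90d9272de) (.node (nat_lit 0x8c8eed33109) (.node (nat_lit 0x8c8eec6e879) (.leaf (nat_lit 0x8c8ecd22081) (nat_lit 2817))
 (.leaf (nat_lit 0x8c8eec6e879) (nat_lit 3330))
) (.node (nat_lit 0x8c8fb036874) (.leaf (nat_lit 0x8c8eed33109) (nat_lit 2306))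
 (.leaf (nat_lit 0x8c8fb036874) (nat_lit 2818))
)) (.node (nat_lit 0x8c94e861192) (.node (nat_lit 0x8c92f527079) (.leaf (nat_lit 0x8c90d9272de) (nat_lit 2562))
 (.leaf (nat_lit 0x8c92f527079) (nat_lit 2560))
) (.node (nat_lit 0x8ca0dc1500f) (.leaf (nat_lit 0x8c94e861192) (nat_lit 3074))
 (.leaf (nat_lit 0x8ca0dc1500f) (nat_lit 2049))
))) (.node (nat_lit 0x8ca76882882) (.node (nat_lit 0x8ca59122824) (.node (nat_lit 0x8ca1d81500f) (.leaf (nat_lit 0x8ca0ddfa80f) (nat_lit 2816))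
 (.leaf (nat_lit 0x8ca1d81500f) (nat_lit 2048))
) (.node (nat_lit 0x8ca76860071) (.leaf (nat_lit 0x8ca59122824) (nat_lit 2817))
 (.leaf (nat_lit 0x8ca76860071) (nat_lit 2818))
)) (.node (nat_lit 0x8ca82e4d082) (.node (nat_lit 0x8ca82c9010a) (.leaf (nat_lit 0x8ca76882882) (nat_lit 2050))
 (.leaf (nat_lit 0x8ca82c9010a) (nat_lit 2817))
) (.node (nat_lit 0x8ca84cd5871) (.leaf (nat_lit 0x8ca82e4d082) (nat_lit 2561))
 (.node (nat_lit 0x8ca84d2307a) (.leaf (nat_lit 0x8ca84cd5871) (nat_lit 2817))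
 (.leaf (nat_lit 0x8ca84d2307a) (nat_lit 3073))
))))) (.node (nat_lit 0x8cb0dd262df) (.node (nat_lit 0x8caec522882) (.node (nat_lit 0x8caa9a0b899) (.node (nat_lit 0x8ca8b0ac0d9) (.leaf (nat_lit 0x8ca8853410f) (nat_lit 2816))
 (.leaf (nat_lit 0x8ca8b0ac0d9) (nat_lit 3329))
) (.node (nat_lit 0x8caead3110a) (.leaf (nat_lit 0x8caa9a0b899) (nat_lit 2817))
 (.leaf (nat_lit 0x8caead3110a) (nat_lit 2816))
)) (.node (nat_lit 0x8caee13410a) (.node (nat_lit 0x8caee07207a) (.leaf (nat_lit 0x8caec522882) (nat_lit 2561))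
 (.leaf (nat_lit 0x8caee07207a) (nat_lit 3074))
) (.node (nat_lit 0x8cafb437871) (.leaf (nat_lit 0x8caee13410a) (nat_lit 2562))
 (.leaf (nat_lit 0x8cafb437871) (nat_lit 3074))
))) (.node (nat_lit 0x8ee0857446f) (.node (nat_lit 0x8cb4ec60186) (.node (nat_lit 0x8cb2f12607a) (.leaf (nat_lit 0x8cb0dd262df) (nat_lit 2818))
 (.leaf (nat_lit 0x8cb2f12607a) (nat_lit 2304))
) (.node (nat_lit 0x8ee0393002d) (.leaf (nat_lit 0x8cb4ec60186) (nat_lit 3072))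
 (.leaf (nat_lit 0x8ee0393002d) (nat_lit 2562))
)) (.node (nat_lit 0x8ee1b1340cd) (.node (nat_lit 0x8ee16d3646f) (.leaf (nat_lit 0x8ee0857446f) (nat_lit 2816))
 (.leaf (nat_lit 0x8ee16d3646f) (nat_lit 2816))
) (.node (nat_lit 0x8ee1b24946f) (.leaf (nat_lit 0x8ee1b1340cd) (nat_lit 3072))
 (.node (nat_lit 0x8ee2c4d582d) (.leaf (nat_lit 0x8ee1b24946f) (nat_lit 1792))
 (.leaf (nat_lit 0x8ee2c4d582d) (nat_lit 2049))
)))))) (.node (nat_lit 0x8f2084c3a3b) (.node (nat_lit 0x8eefc0c3b3a) (.node (nat_lit 0x8ee73e0b09b) (.node (nat_lit 0x8ee6fd1933a) (.node (nat_lit 0x8ee35d2702d) (.leaf (nat_lit 0x8ee2c523096) (nat_lit 2560))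
 (.leaf (nat_lit 0x8ee35d2702d) (nat_lit 3072))
) (.node (nat_lit 0x8ee6fd22136) (.leaf (nat_lit 0x8ee6fd1933a) (nat_lit 2817))
 (.leaf (nat_lit 0x8ee6fd22136) (nat_lit 2048))
)) (.node (nat_lit 0x8eec0429136) (.node (nat_lit 0x8eeac558136) (.leaf (nat_lit 0x8ee73e0b09b) (nat_lit 2048))
 (.leaf (nat_lit 0x8eeac558136) (nat_lit 2817))
) (.node (nat_lit 0x8eed7d30109) (.leaf (nat_lit 0x8eec0429136) (nat_lit 2817))
 (.leaf (nat_lit 0x8eed7d30109) (nat_lit 3073))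
))) (.node (nat_lit 0x8ef0f60b09b) (.node (nat_lit 0x8ef0c936194) (.node (nat_lit 0x8ef0c89889b) (.leaf (nat_lit 0x8eefc0c3b3a) (nat_lit 2560))
 (.leaf (nat_lit 0x8ef0c89889b) (nat_lit 2562))
) (.node (nat_lit 0x8ef0f474059) (.leaf (nat_lit 0x8ef0c936194) (nat_lit 2817))
 (.leaf (nat_lit 0x8ef0f474059) (nat_lit 3585))
)) (.node (nat_lit 0x8ef4e13433a) (.node (nat_lit 0x8ef109582df) (.leaf (nat_lit 0x8ef0f60b09b) (nat_lit 3072))
 (.leaf (nat_lit 0x8ef109582df) (nat_lit 2561))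
) (.node (nat_lit 0x8f20286023b) (.leaf (nat_lit 0x8ef4e13433a) (nat_lit 2560))
 (.node (nat_lit 0x8f20292223b) (.leaf (nat_lit 0x8f20286023b) (nat_lit 3074))
 (.leaf (nat_lit 0x8f20292223b) (nat_lit 2817))
))))) (.node (nat_lit 0x8f22f97423b) (.node (nat_lit 0x8f21b25ca3b) (.node (nat_lit 0x8f216c6023b) (.node (nat_lit 0x8f212c1616a) (.leaf (nat_lit 0x8f2084c3a3b) (nat_lit 2305))
 (.leaf (nat_lit 0x8f212c1616a) (nat_lit 2817))
) (.node (nat_lit 0x8f21b123a3b) (.leaf (nat_lit 0x8f216c6023b) (nat_lit 2304))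
 (.leaf (nat_lit 0x8f21b123a3b) (nat_lit 2049))
)) (.node (nat_lit 0x8f22c923a3b) (.node (nat_lit 0x8f223c6ea3b) (.leaf (nat_lit 0x8f21b25ca3b) (nat_lit 3073))
 (.leaf (nat_lit 0x8f223c6ea3b) (nat_lit 2818))
) (.node (nat_lit 0x8f22f88723b) (.leaf (nat_lit 0x8f22c923a3b) (nat_lit 2560))
 (.leaf (nat_lit 0x8f22f88723b) (nat_lit 2560))
))) (.node (nat_lit 0x8f24f182a3b) (.node (nat_lit 0x8f2368d5a3b) (.node (nat_lit 0x8f23686ea3b) (.leaf (nat_lit 0x8f22f97423b) (nat_lit 2049))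
 (.leaf (nat_lit 0x8f23686ea3b) (nat_lit 1794))
) (.node (nat_lit 0x8f24f08723b) (.leaf (nat_lit 0x8f2368d5a3b) (nat_lit 2818))
 (.leaf (nat_lit 0x8f24f08723b) (nat_lit 2305))
)) (.node (nat_lit 0x8f2d7e03a36) (.node (nat_lit 0x8f2d5eb6a38) (.leaf (nat_lit 0x8f24f182a3b) (nat_lit 2818))
 (.leaf (nat_lit 0x8f2d5eb6a38) (nat_lit 1793))
) (.node (nat_lit 0x8f2fc2b5889) (.leaf (nat_lit 0x8f2d7e03a36) (nat_lit 1537))
 (.node (nat_lit 0x8f30a05d880) (.leaf (nat_lit 0x8f2fc2b5889) (nat_lit 2304))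
 (.leaf (nat_lit 0x8f30a05d880) (nat_lit 2049))
))))))) (.node (nat_lit 0x8f6ac95d937) (.node (nat_lit 0x8f4d5ab5239) (.node (nat_lit 0x8f41ae5da3a) (.node (nat_lit 0x8f4088c423a) (.node (nat_lit 0x8f40386123a) (.node (nat_lit 0x8f34965ca3b) (.leaf (nat_lit 0x8f30f20b88a) (nat_lit 2049))
 (.leaf (nat_lit 0x8f34965ca3b) (nat_lit 1794))
) (.node (nat_lit 0x8f403922a3a) (.leaf (nat_lit 0x8f40386123a) (nat_lit 2818))
 (.leaf (nat_lit 0x8f403922a3a) (nat_lit 2561))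
)) (.node (nat_lit 0x8f41706123a) (.node (nat_lit 0x8f413015165) (.leaf (nat_lit 0x8f4088c423a) (nat_lit 2049))
 (.leaf (nat_lit 0x8f413015165) (nat_lit 2561))
) (.node (nat_lit 0x8f41ad2323a) (.leaf (nat_lit 0x8f41706123a) (nat_lit 2560))
 (.leaf (nat_lit 0x8f41ad2323a) (nat_lit 1793))
))) (.node (nat_lit 0x8f42f57523a) (.node (nat_lit 0x8f42c52323a) (.node (nat_lit 0x8f42387223a) (.leaf (nat_lit 0x8f41ae5da3a) (nat_lit 3329))
 (.leaf (nat_lit 0x8f42387223a) (nat_lit 2562))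
) (.node (nat_lit 0x8f42f48623a) (.leaf (nat_lit 0x8f42c52323a) (nat_lit 2304))
 (.leaf (nat_lit 0x8f42f48623a) (nat_lit 2816))
)) (.node (nat_lit 0x8f435cd523a) (.node (nat_lit 0x8f435c7223a) (.leaf (nat_lit 0x8f42f57523a) (nat_lit 2305))
 (.leaf (nat_lit 0x8f435c7223a) (nat_lit 2050))
) (.node (nat_lit 0x8f44f48623a) (.leaf (nat_lit 0x8f435cd523a) (nat_lit 2562))
 (.node (nat_lit 0x8f44f58223a) (.leaf (nat_lit 0x8f44f48623a) (nat_lit 2561))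
 (.leaf (nat_lit 0x8f44f58223a) (nat_lit 2562))
))))) (.node (nat_lit 0x8f617136c6e) (.node (nat_lit 0x8f50f60b08c) (.node (nat_lit 0x8f4fc6b6090) (.node (nat_lit 0x8f4d7a03237) (.leaf (nat_lit 0x8f4d5ab5239) (nat_lit 1537))
 (.leaf (nat_lit 0x8f4d7a03237) (nat_lit 1281))
) (.node (nat_lit 0x8f50a45d07d) (.leaf (nat_lit 0x8f4fc6b6090) (nat_lit 2048))
 (.leaf (nat_lit 0x8f50a45d07d) (nat_lit 2305))
)) (.node (nat_lit 0x8f60293102e) (.node (nat_lit 0x8f54925da3a) (.leaf (nat_lit 0x8f50f60b08c) (nat_lit 2305))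
 (.leaf (nat_lit 0x8f54925da3a) (nat_lit 1538))
) (.node (nat_lit 0x8f60897546e) (.leaf (nat_lit 0x8f60293102e) (nat_lit 2306))
 (.leaf (nat_lit 0x8f60897546e) (nat_lit 2817))
))) (.node (nat_lit 0x8f62c923894) (.node (nat_lit 0x8f61ae49c6e) (.node (nat_lit 0x8f61ad330ce) (.leaf (nat_lit 0x8f617136c6e) (nat_lit 2560))
 (.leaf (nat_lit 0x8f61ad330ce) (nat_lit 3072))
) (.node (nat_lit 0x8f62c8d502e) (.leaf (nat_lit 0x8f61ae49c6e) (nat_lit 1536))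
 (.leaf (nat_lit 0x8f62c8d502e) (nat_lit 2305))
)) (.node (nat_lit 0x8f671519b3b) (.node (nat_lit 0x8f63692602e) (.leaf (nat_lit 0x8f62c923894) (nat_lit 2816))
 (.leaf (nat_lit 0x8f63692602e) (nat_lit 3073))
) (.node (nat_lit 0x8f671522937) (.leaf (nat_lit 0x8f671519b3b) (nat_lit 2816))
 (.node (nat_lit 0x8f673a0b899) (.leaf (nat_lit 0x8f671522937) (nat_lit 1792))
 (.leaf (nat_lit 0x8f673a0b899) (nat_lit 2304))
)))))) (.node (nat_lit 0x94e08d36164) (.node (nat_lit 0x8f710d5dade) (.node (nat_lit 0x8f70c497899) (.node (nat_lit 0x8f6d793110a) (.node (nat_lit 0x8f6c0c28137) (.leaf (nat_lit 0x8f6ac95d937) (nat_lit 2561))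
 (.leaf (nat_lit 0x8f6c0c28137) (nat_lit 3073))
) (.node (nat_lit 0x8f6fc4c433b) (.leaf (nat_lit 0x8f6d793110a) (nat_lit 2817))
 (.leaf (nat_lit 0x8f6fc4c433b) (nat_lit 2816))
)) (.node (nat_lit 0x8f70f07505a) (.node (nat_lit 0x8f70c536995) (.leaf (nat_lit 0x8f70c497899) (nat_lit 2306))
 (.leaf (nat_lit 0x8f70c536995) (nat_lit 3073))
) (.node (nat_lit 0x8f70f20b899) (.leaf (nat_lit 0x8f70f07505a) (nat_lit 3329))
 (.leaf (nat_lit 0x8f70f20b899) (nat_lit 2816))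
))) (.node (nat_lit 0x92b10c980f6) (.node (nat_lit 0x9040d92701f) (.node (nat_lit 0x8f74e53333b) (.leaf (nat_lit 0x8f710d5dade) (nat_lit 2817))
 (.leaf (nat_lit 0x8f74e53333b) (nat_lit 2562))
) (.node (nat_lit 0x9060dd26020) (.leaf (nat_lit 0x9040d92701f) (nat_lit 2560))
 (.leaf (nat_lit 0x9060dd26020) (nat_lit 2304))
)) (.node (nat_lit 0x94217036820) (.node (nat_lit 0x92d108990f3) (.leaf (nat_lit 0x92b10c980f6) (nat_lit 1281))
 (.leaf (nat_lit 0x92d108990f3) (nat_lit 1537))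
) (.node (nat_lit 0x94616c3781f) (.leaf (nat_lit 0x94217036820) (nat_lit 2306))
 (.node (nat_lit 0x94c71c4c331) (.leaf (nat_lit 0x94616c3781f) (nat_lit 2562))
 (.leaf (nat_lit 0x94c71c4c331) (nat_lit 1793))
))))) (.node (nat_lit 0x94ea98c504d) (.node (nat_lit 0x94e6f80a04d) (.node (nat_lit 0x94e1d523049) (.node (nat_lit 0x94e0d828049) (.leaf (nat_lit 0x94e08d36164) (nat_lit 2048))
 (.leaf (nat_lit 0x94e0d828049) (nat_lit 2818))
) (.node (nat_lit 0x94e1d65d849) (.leaf (nat_lit 0x94e1d523049) (nat_lit 3072))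
 (.leaf (nat_lit 0x94e1d65d849) (nat_lit 2562))
)) (.node (nat_lit 0x94e824d504d) (.node (nat_lit 0x94e6f8900bf) (.leaf (nat_lit 0x94e6f80a04d) (nat_lit 2562))
 (.leaf (nat_lit 0x94e6f8900bf) (nat_lit 1794))
) (.node (nat_lit 0x94e82654aed) (.leaf (nat_lit 0x94e824d504d) (nat_lit 2304))
 (.node (nat_lit 0x94e82814006) (.leaf (nat_lit 0x94e82654aed) (nat_lit 3329))
 (.leaf (nat_lit 0x94e82814006) (nat_lit 3585))
)))) (.node (nat_lit 0x94ef54870e7) (.node (nat_lit 0x94eee0870bf) (.node (nat_lit 0x94eead362de) (.leaf (nat_lit 0x94ea98c504d) (nat_lit 2306))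
 (.leaf (nat_lit 0x94eead362de) (nat_lit 2562))
) (.node (nat_lit 0x94eee15dade) (.leaf (nat_lit 0x94eee0870bf) (nat_lit 2818))
 (.leaf (nat_lit 0x94eee15dade) (nat_lit 3074))
)) (.node (nat_lit 0x94f0dc28109) (.node (nat_lit 0x94efb60b899) (.leaf (nat_lit 0x94ef54870e7) (nat_lit 1536))
 (.leaf (nat_lit 0x94efb60b899) (nat_lit 2305))
) (.node (nat_lit 0x94f0f8d50bc) (.leaf (nat_lit 0x94f0dc28109) (nat_lit 2561))
 (.node (nat_lit 0x94f13c5d2ed) (.leaf (nat_lit 0x94f0f8d50bc) (nat_lit 2305))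
 (.leaf (nat_lit 0x94f13c5d2ed) (nat_lit 3329))
)))))))) (.node (nat_lit 0x96c0289407e) (.node (nat_lit 0x958c04c384d) (.node (nat_lit 0x956f50860ec) (.node (nat_lit 0x9567080984e) (.node (nat_lit 0x95609136967) (.node (nat_lit 0x94f4e85d2ed) (.node (nat_lit 0x94f4e837ade) (.leaf (nat_lit 0x94f4d5220bf) (nat_lit 3073))
 (.leaf (nat_lit 0x94f4e837ade) (nat_lit 3074))
) (.node (nat_lit 0x9507184bb30) (.leaf (nat_lit 0x94f4e85d2ed) (nat_lit 3329))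
 (.leaf (nat_lit 0x9507184bb30) (nat_lit 2049))
)) (.node (nat_lit 0x9561d92384a) (.node (nat_lit 0x9560dc2904a) (.leaf (nat_lit 0x95609136967) (nat_lit 2304))
 (.leaf (nat_lit 0x9560dc2904a) (nat_lit 2816))
) (.node (nat_lit 0x9561da5c84a) (.leaf (nat_lit 0x9561d92384a) (nat_lit 2816))
 (.leaf (nat_lit 0x9561da5c84a) (nat_lit 2562))
))) (.node (nat_lit 0x95682c13005) (.node (nat_lit 0x956820d584e) (.node (nat_lit 0x9567088f8c4) (.leaf (nat_lit 0x9567080984e) (nat_lit 2306))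
 (.leaf (nat_lit 0x9567088f8c4) (nat_lit 1538))
) (.node (nat_lit 0x956822552ec) (.leaf (nat_lit 0x956820d584e) (nat_lit 2560))
 (.leaf (nat_lit 0x956822552ec) (nat_lit 3330))
)) (.node (nat_lit 0x956eb136adf) (.node (nat_lit 0x956a9cc604e) (.leaf (nat_lit 0x95682c13005) (nat_lit 3329))
 (.leaf (nat_lit 0x956a9cc604e) (nat_lit 2050))
) (.node (nat_lit 0x956eec860c4) (.leaf (nat_lit 0x956eb136adf) (nat_lit 2306))
 (.node (nat_lit 0x956eed582df) (.leaf (nat_lit 0x956eec860c4) (nat_lit 2816))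
 (.leaf (nat_lit 0x956eed582df) (nat_lit 2818))
))))) (.node (nat_lit 0x9580396e80c) (.node (nat_lit 0x9571385daec) (.node (nat_lit 0x9570d82910a) (.node (nat_lit 0x956fb20b09b) (.leaf (nat_lit 0x956f50860ec) (nat_lit 1792))
 (.leaf (nat_lit 0x956fb20b09b) (nat_lit 2049))
) (.node (nat_lit 0x9570fcd58b9) (.leaf (nat_lit 0x9570d82910a) (nat_lit 2817))
 (.leaf (nat_lit 0x9570fcd58b9) (nat_lit 2561))
)) (.node (nat_lit 0x9574ec36adf) (.node (nat_lit 0x9574d1228c4) (.leaf (nat_lit 0x9571385daec) (nat_lit 3073))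
 (.leaf (nat_lit 0x9574d1228c4) (nat_lit 3073))
) (.node (nat_lit 0x9574ec5daec) (.leaf (nat_lit 0x9574ec36adf) (nat_lit 2818))
 (.leaf (nat_lit 0x9574ec5daec) (nat_lit 3585))
))) (.node (nat_lit 0x9584f072049) (.node (nat_lit 0x95823c86049) (.node (nat_lit 0x95816cc6049) (.leaf (nat_lit 0x9580396e80c) (nat_lit 3073))
 (.leaf (nat_lit 0x95816cc6049) (nat_lit 1538))
) (.node (nat_lit 0x9582f49900c) (.leaf (nat_lit 0x95823c86049) (nat_lit 2817))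
 (.leaf (nat_lit 0x9582f49900c) (nat_lit 2306))
)) (.node (nat_lit 0x95852e5c84d) (.node (nat_lit 0x9584f16507e) (.leaf (nat_lit 0x9584f072049) (nat_lit 2817))
 (.leaf (nat_lit 0x9584f16507e) (nat_lit 3073))
) (.node (nat_lit 0x9585305d2ed) (.leaf (nat_lit 0x95852e5c84d) (nat_lit 2817))
 (.node (nat_lit 0x958532039b3) (.leaf (nat_lit 0x9585305d2ed) (nat_lit 3329))
 (.leaf (nat_lit 0x958532039b3) (nat_lit 1792))
)))))) (.node (nat_lit 0x95a4f56487f) (.node (nat_lit 0x9594905700c) (.node (nat_lit 0x9590a56e833) (.node (nat_lit 0x958d5d820bf) (.node (nat_lit 0x958cbc5d2ed) (.leaf (nat_lit 0x958c04c384d) (nat_lit 3330))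
 (.leaf (nat_lit 0x958cbc5d2ed) (nat_lit 2817))
) (.node (nat_lit 0x958fc25c834) (.leaf (nat_lit 0x958d5d820bf) (nat_lit 2050))
 (.leaf (nat_lit 0x958fc25c834) (nat_lit 2305))
)) (.node (nat_lit 0x959108290bf) (.node (nat_lit 0x9590a6742ed) (.leaf (nat_lit 0x9590a56e833) (nat_lit 2048))
 (.leaf (nat_lit 0x9590a6742ed) (nat_lit 2818))
) (.node (nat_lit 0x959130c6043) (.leaf (nat_lit 0x959108290bf) (nat_lit 2818))
 (.leaf (nat_lit 0x959130c6043) (nat_lit 2561))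
))) (.node (nat_lit 0x95a0296d80d) (.node (nat_lit 0x9594f40a04d) (.node (nat_lit 0x959491820ca) (.leaf (nat_lit 0x9594905700c) (nat_lit 2817))
 (.leaf (nat_lit 0x959491820ca) (nat_lit 2306))
) (.node (nat_lit 0x9594f4900bf) (.leaf (nat_lit 0x9594f40a04d) (nat_lit 2562))
 (.leaf (nat_lit 0x9594f4900bf) (nat_lit 3585))
)) (.node (nat_lit 0x95a2388704a) (.node (nat_lit 0x95a170c504a) (.leaf (nat_lit 0x95a0296d80d) (nat_lit 2817))
 (.leaf (nat_lit 0x95a170c504a) (nat_lit 1794))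
) (.node (nat_lit 0x95a2f89800d) (.leaf (nat_lit 0x95a2388704a) (nat_lit 3073))
 (.node (nat_lit 0x95a4f46e84a) (.leaf (nat_lit 0x95a2f89800d) (nat_lit 2562))
 (.leaf (nat_lit 0x95a4f46e84a) (nat_lit 2817))
))))) (.node (nat_lit 0x95b0a2732ec) (.node (nat_lit 0x95ac0cc404e) (.node (nat_lit 0x95a5345daec) (.node (nat_lit 0x95a5065d84e) (.leaf (nat_lit 0x95a4f56487f) (nat_lit 3073))
 (.leaf (nat_lit 0x95a5065d84e) (nat_lit 3073))
) (.node (nat_lit 0x95a536031b2) (.leaf (nat_lit 0x95a5345daec) (nat_lit 3329))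
 (.leaf (nat_lit 0x95a536031b2) (nat_lit 2048))
)) (.node (nat_lit 0x95ad59828c4) (.node (nat_lit 0x95acb85daec) (.leaf (nat_lit 0x95ac0cc404e) (nat_lit 3074))
 (.leaf (nat_lit 0x95acb85daec) (nat_lit 2561))
) (.node (nat_lit 0x95afc65d838) (.leaf (nat_lit 0x95ad59828c4) (nat_lit 2306))
 (.node (nat_lit 0x95b0a16d835) (.leaf (nat_lit 0x95afc65d838) (nat_lit 2561))
 (.leaf (nat_lit 0x95b0a16d835) (nat_lit 2304))
)))) (.node (nat_lit 0x95b495828c9) (.node (nat_lit 0x95b134c5044) (.node (nat_lit 0x95b10c280c4) (.leaf (nat_lit 0x95b0a2732ec) (nat_lit 2562))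
 (.leaf (nat_lit 0x95b10c280c4) (nat_lit 3074))
) (.node (nat_lit 0x95b4945600d) (.leaf (nat_lit 0x95b134c5044) (nat_lit 2817))
 (.leaf (nat_lit 0x95b4945600d) (nat_lit 3073))
)) (.node (nat_lit 0x95b4f08f8c4) (.node (nat_lit 0x95b4f00984e) (.leaf (nat_lit 0x95b495828c9) (nat_lit 2562))
 (.leaf (nat_lit 0x95b4f00984e) (nat_lit 2818))
) (.node (nat_lit 0x96082029138) (.leaf (nat_lit 0x95b4f08f8c4) (nat_lit 3329))
 (.node (nat_lit 0x96482428139) (.leaf (nat_lit 0x96082029138) (nat_lit 2049))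
 (.leaf (nat_lit 0x96482428139) (nat_lit 2305))
))))))) (.node (nat_lit 0x96ed7c94805) (.node (nat_lit 0x96d0c48a934) (.node (nat_lit 0x96c53121b3a) (.node (nat_lit 0x96c1b18a87e) (.node (nat_lit 0x96c0847a8c9) (.node (nat_lit 0x96c0840a87e) (.leaf (nat_lit 0x96c0289407e) (nat_lit 2562))
 (.leaf (nat_lit 0x96c0840a87e) (nat_lit 3329))
) (.node (nat_lit 0x96c1708a896) (.leaf (nat_lit 0x96c0847a8c9) (nat_lit 3330))
 (.leaf (nat_lit 0x96c1708a896) (nat_lit 2561))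
)) (.node (nat_lit 0x96c2f6530ce) (.node (nat_lit 0x96c2f40a896) (.leaf (nat_lit 0x96c1b18a87e) (nat_lit 3072))
 (.leaf (nat_lit 0x96c2f40a896) (nat_lit 2816))
) (.node (nat_lit 0x96c5041f81c) (.leaf (nat_lit 0x96c2f6530ce) (nat_lit 2306))
 (.leaf (nat_lit 0x96c5041f81c) (nat_lit 3329))
))) (.node (nat_lit 0x96cc058a806) (.node (nat_lit 0x96cac81f81c) (.node (nat_lit 0x96c6600a934) (.leaf (nat_lit 0x96c53121b3a) (nat_lit 2305))
 (.leaf (nat_lit 0x96c6600a934) (nat_lit 2561))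
) (.node (nat_lit 0x96cc041f81c) (.leaf (nat_lit 0x96cac81f81c) (nat_lit 2816))
 (.leaf (nat_lit 0x96cc041f81c) (nat_lit 2817))
)) (.node (nat_lit 0x96d0a0240b3) (.node (nat_lit 0x96cd7894006) (.leaf (nat_lit 0x96cc058a806) (nat_lit 3074))
 (.leaf (nat_lit 0x96cd7894006) (nat_lit 2818))
) (.node (nat_lit 0x96d0a094134) (.leaf (nat_lit 0x96d0a0240b3) (nat_lit 2562))
 (.node (nat_lit 0x96d0c42b0ec) (.leaf (nat_lit 0x96d0a094134) (nat_lit 3073))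
 (.leaf (nat_lit 0x96d0c42b0ec) (nat_lit 2050))
))))) (.node (nat_lit 0x96e1ad8b87f) (.node (nat_lit 0x96e0389487f) (.node (nat_lit 0x96d1348a806) (.node (nat_lit 0x96d0f58f0bf) (.leaf (nat_lit 0x96d0c48a934) (nat_lit 3074))
 (.leaf (nat_lit 0x96d0f58f0bf) (nat_lit 2818))
) (.node (nat_lit 0x96d4918a896) (.leaf (nat_lit 0x96d1348a806) (nat_lit 3329))
 (.leaf (nat_lit 0x96d4918a896) (nat_lit 2561))
)) (.node (nat_lit 0x96e0887a0ca) (.node (nat_lit 0x96e0880b87f) (.leaf (nat_lit 0x96e0389487f) (nat_lit 2818))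
 (.leaf (nat_lit 0x96e0880b87f) (nat_lit 3073))
) (.node (nat_lit 0x96e16c8a094) (.leaf (nat_lit 0x96e0887a0ca) (nat_lit 3328))
 (.leaf (nat_lit 0x96e16c8a094) (nat_lit 2305))
))) (.node (nat_lit 0x96e5352133b) (.node (nat_lit 0x96e2fa540cd) (.node (nat_lit 0x96e2f80b894) (.leaf (nat_lit 0x96e1ad8b87f) (nat_lit 2816))
 (.leaf (nat_lit 0x96e2f80b894) (nat_lit 2560))
) (.node (nat_lit 0x96e52c2001a) (.leaf (nat_lit 0x96e2fa540cd) (nat_lit 2050))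
 (.leaf (nat_lit 0x96e52c2001a) (nat_lit 3073))
)) (.node (nat_lit 0x96eac42001a) (.node (nat_lit 0x96e6640b933) (.leaf (nat_lit 0x96e5352133b) (nat_lit 2049))
 (.leaf (nat_lit 0x96e6640b933) (nat_lit 2817))
) (.node (nat_lit 0x96ec0c2001a) (.leaf (nat_lit 0x96eac42001a) (nat_lit 3072))
 (.node (nat_lit 0x96ec0d8b805) (.leaf (nat_lit 0x96ec0c2001a) (nat_lit 2561))
 (.leaf (nat_lit 0x96ec0d8b805) (nat_lit 2818))
)))))) (.node (nat_lit 0x9707bd8a844) (.node (nat_lit 0x9700dd078ce) (.node (nat_lit 0x96f0c88a133) (.node (nat_lit 0x96f0a494933) (.node (nat_lit 0x96f0a4230b4) (.leaf (nat_lit 0x96ed7c94805) (nat_lit 3074))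
 (.leaf (nat_lit 0x96f0a4230b4) (nat_lit 2818))
) (.node (nat_lit 0x96f0c82c0e7) (.leaf (nat_lit 0x96f0a494933) (nat_lit 2817))
 (.leaf (nat_lit 0x96f0c82c0e7) (nat_lit 1794))
)) (.node (nat_lit 0x96f1308a005) (.node (nat_lit 0x96f0f18e0c4) (.leaf (nat_lit 0x96f0c88a133) (nat_lit 3330))
 (.leaf (nat_lit 0x96f0f18e0c4) (nat_lit 3074))
) (.node (nat_lit 0x96f4958b894) (.leaf (nat_lit 0x96f1308a005) (nat_lit 3073))
 (.leaf (nat_lit 0x96f4958b894) (nat_lit 2817))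
))) (.node (nat_lit 0x9706f82b192) (.node (nat_lit 0x9701da530ce) (.node (nat_lit 0x9700de530ce) (.leaf (nat_lit 0x9700dd078ce) (nat_lit 2818))
 (.leaf (nat_lit 0x9700de530ce) (nat_lit 2305))
) (.node (nat_lit 0x97059024024) (.leaf (nat_lit 0x9701da530ce) (nat_lit 1794))
 (.leaf (nat_lit 0x97059024024) (nat_lit 2305))
)) (.node (nat_lit 0x97071c0a992) (.node (nat_lit 0x9706f8940b9) (.leaf (nat_lit 0x9706f82b192) (nat_lit 1537))
 (.leaf (nat_lit 0x9706f8940b9) (nat_lit 2306))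
) (.node (nat_lit 0x97077121844) (.leaf (nat_lit 0x97071c0a992) (nat_lit 2304))
 (.node (nat_lit 0x9707bc7a853) (.leaf (nat_lit 0x97077121844) (nat_lit 2561))
 (.leaf (nat_lit 0x9707bc7a853) (nat_lit 3073))
))))) (.node (nat_lit 0x97113d21909) (.node (nat_lit 0x970eec1f81c) (.node (nat_lit 0x9708b48a853) (.node (nat_lit 0x9708b42b192) (.leaf (nat_lit 0x9707bd8a844) (nat_lit 2816))
 (.leaf (nat_lit 0x9708b42b192) (nat_lit 3072))
) (.node (nat_lit 0x970ddc2b033) (.leaf (nat_lit 0x9708b48a853) (nat_lit 2817))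
 (.leaf (nat_lit 0x970ddc2b033) (nat_lit 2816))
)) (.node (nat_lit 0x970fb121844) (.node (nat_lit 0x970fb0240b9) (.leaf (nat_lit 0x970eec1f81c) (nat_lit 3072))
 (.leaf (nat_lit 0x970fb0240b9) (nat_lit 3072))
) (.node (nat_lit 0x9710dc7a853) (.leaf (nat_lit 0x970fb121844) (nat_lit 2561))
 (.node (nat_lit 0x9710fa530c4) (.leaf (nat_lit 0x9710dc7a853) (nat_lit 3072))
 (.leaf (nat_lit 0x9710fa530c4) (nat_lit 2817))
)))) (.node (nat_lit 0x9740da540cd) (.node (nat_lit 0x9714d4240b9) (.node (nat_lit 0x9712f07a937) (.leaf (nat_lit 0x97113d21909) (nat_lit 2050))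
 (.leaf (nat_lit 0x9712f07a937) (nat_lit 2049))
) (.node (nat_lit 0x9740d9080cd) (.leaf (nat_lit 0x9714d4240b9) (nat_lit 2816))
 (.leaf (nat_lit 0x9740d9080cd) (nat_lit 2562))
)) (.node (nat_lit 0x97459c23023) (.node (nat_lit 0x9741d6540cd) (.leaf (nat_lit 0x9740da540cd) (nat_lit 2049))
 (.leaf (nat_lit 0x9741d6540cd) (nat_lit 2050))
) (.node (nat_lit 0x9747082c186) (.leaf (nat_lit 0x97459c23023) (nat_lit 2561))
 (.node (nat_lit 0x974708948bc) (.leaf (nat_lit 0x9747082c186) (nat_lit 1281))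
 (.leaf (nat_lit 0x974708948bc) (nat_lit 2562))
))))))))) (.node (nat_lit 0x9db13d31194) (.node (nat_lit 0x9b4a9d3604e) (.node (nat_lit 0x9a14f1222df) (.node (nat_lit 0x9a0274378c4) (.node (nat_lit 0x974fb4230bc) (.node (nat_lit 0x9748b02c186) (.node (nat_lit 0x9747b87a054) (.node (nat_lit 0x97476921043) (.leaf (nat_lit 0x9747180b986) (nat_lit 2560))
 (.leaf (nat_lit 0x97476921043) (nat_lit 2305))
) (.node (nat_lit 0x9747b98b843) (.leaf (nat_lit 0x9747b87a054) (nat_lit 2817))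
 (.leaf (nat_lit 0x9747b98b843) (nat_lit 2560))
)) (.node (nat_lit 0x974dcc2c035) (.node (nat_lit 0x9748b08a054) (.leaf (nat_lit 0x9748b02c186) (nat_lit 3073))
 (.leaf (nat_lit 0x9748b08a054) (nat_lit 3073))
) (.node (nat_lit 0x974ee02001a) (.leaf (nat_lit 0x974dcc2c035) (nat_lit 2818))
 (.leaf (nat_lit 0x974ee02001a) (nat_lit 3328))
))) (.node (nat_lit 0x9751392110a) (.node (nat_lit 0x9750d87a054) (.node (nat_lit 0x974fb521043) (.leaf (nat_lit 0x974fb4230bc) (nat_lit 2816))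
 (.leaf (nat_lit 0x974fb521043) (nat_lit 2305))
) (.node (nat_lit 0x9750fe540bf) (.leaf (nat_lit 0x9750d87a054) (nat_lit 3074))
 (.leaf (nat_lit 0x9750fe540bf) (nat_lit 2561))
)) (.node (nat_lit 0x9754d0230bc) (.node (nat_lit 0x9752f47a136) (.leaf (nat_lit 0x9751392110a) (nat_lit 2306))
 (.leaf (nat_lit 0x9752f47a136) (nat_lit 2305))
) (.node (nat_lit 0x9a016cae00d) (.leaf (nat_lit 0x9754d0230bc) (nat_lit 3072))
 (.node (nat_lit 0x9a016d19894) (.leaf (nat_lit 0x9a016cae00d) (nat_lit 2561))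
 (.leaf (nat_lit 0x9a016d19894) (nat_lit 2562))
))))) (.node (nat_lit 0x9a0d785daec) (.node (nat_lit 0x9a03698200d) (.node (nat_lit 0x9a02f41500f) (.node (nat_lit 0x9a02c48704a) (.leaf (nat_lit 0x9a0274378c4) (nat_lit 2049))
 (.leaf (nat_lit 0x9a02c48704a) (nat_lit 3072))
) (.node (nat_lit 0x9a02f52384a) (.leaf (nat_lit 0x9a02f41500f) (nat_lit 3328))
 (.leaf (nat_lit 0x9a02f52384a) (nat_lit 3074))
)) (.node (nat_lit 0x9a0505582df) (.node (nat_lit 0x9a04f07200d) (.leaf (nat_lit 0x9a03698200d) (nat_lit 1792))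
 (.leaf (nat_lit 0x9a04f07200d) (nat_lit 2818))
) (.node (nat_lit 0x9a0c0d262df) (.leaf (nat_lit 0x9a0505582df) (nat_lit 3073))
 (.leaf (nat_lit 0x9a0c0d262df) (nat_lit 3329))
))) (.node (nat_lit 0x9a10f16e8c4) (.node (nat_lit 0x9a10c85daec) (.node (nat_lit 0x9a0fc472192) (.leaf (nat_lit 0x9a0d785daec) (nat_lit 2816))
 (.leaf (nat_lit 0x9a0fc472192) (nat_lit 2818))
) (.node (nat_lit 0x9a10f0378b3) (.leaf (nat_lit 0x9a10c85daec) (nat_lit 3329))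
 (.leaf (nat_lit 0x9a10f0378b3) (nat_lit 2562))
)) (.node (nat_lit 0x9a14905704a) (.node (nat_lit 0x9a113522136) (.leaf (nat_lit 0x9a10f16e8c4) (nat_lit 3074))
 (.leaf (nat_lit 0x9a113522136) (nat_lit 2049))
) (.node (nat_lit 0x9a14e0280c4) (.leaf (nat_lit 0x9a14905704a) (nat_lit 3074))
 (.node (nat_lit 0x9a14e05708d) (.leaf (nat_lit 0x9a14e0280c4) (nat_lit 3073))
 (.leaf (nat_lit 0x9a14e05708d) (nat_lit 2560))
)))))) (.node (nat_lit 0x9a313122937) (.node (nat_lit 0x9a235d8280c) (.node (nat_lit 0x9a2278368bf) (.node (nat_lit 0x9a2170ac00c) (.node (nat_lit 0x9a14f174aec) (.leaf (nat_lit 0x9a14f1222df) (nat_lit 2560))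
 (.leaf (nat_lit 0x9a14f174aec) (nat_lit 2049))
) (.node (nat_lit 0x9a217119096) (.leaf (nat_lit 0x9a2170ac00c) (nat_lit 2817))
 (.leaf (nat_lit 0x9a217119096) (nat_lit 2818))
)) (.node (nat_lit 0x9a22f816010) (.node (nat_lit 0x9a22c886049) (.leaf (nat_lit 0x9a2278368bf) (nat_lit 2305))
 (.leaf (nat_lit 0x9a22c886049) (nat_lit 2816))
) (.node (nat_lit 0x9a22f923049) (.leaf (nat_lit 0x9a22f816010) (nat_lit 3329))
 (.leaf (nat_lit 0x9a22f923049) (nat_lit 3072))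
))) (.node (nat_lit 0x9a2d7c5d2ed) (.node (nat_lit 0x9a252d5dade) (.node (nat_lit 0x9a24f46e80c) (.leaf (nat_lit 0x9a235d8280c) (nat_lit 1536))
 (.leaf (nat_lit 0x9a24f46e80c) (nat_lit 2562))
) (.node (nat_lit 0x9a2c05272de) (.leaf (nat_lit 0x9a252d5dade) (nat_lit 3329))
 (.leaf (nat_lit 0x9a2c05272de) (nat_lit 3330))
)) (.node (nat_lit 0x9a30c45d2ed) (.node (nat_lit 0x9a2fc06e986) (.leaf (nat_lit 0x9a2d7c5d2ed) (nat_lit 3072))
 (.leaf (nat_lit 0x9a2fc06e986) (nat_lit 2562))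
) (.node (nat_lit 0x9a30f4368b4) (.leaf (nat_lit 0x9a30c45d2ed) (nat_lit 3329))
 (.node (nat_lit 0x9a30f56d8bf) (.leaf (nat_lit 0x9a30f4368b4) (nat_lit 2306))
 (.leaf (nat_lit 0x9a30f56d8bf) (nat_lit 3073))
))))) (.node (nat_lit 0x9b40b80a167) (.node (nat_lit 0x9a34f522ade) (.node (nat_lit 0x9a34e4290bf) (.node (nat_lit 0x9a349456049) (.leaf (nat_lit 0x9a313122937) (nat_lit 2305))
 (.leaf (nat_lit 0x9a349456049) (nat_lit 3330))
) (.node (nat_lit 0x9a34e45608b) (.leaf (nat_lit 0x9a34e4290bf) (nat_lit 2817))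
 (.leaf (nat_lit 0x9a34e45608b) (nat_lit 2304))
)) (.node (nat_lit 0x9b409013167) (.node (nat_lit 0x9a34f575aed) (.leaf (nat_lit 0x9a34f522ade) (nat_lit 2816))
 (.leaf (nat_lit 0x9a34f575aed) (nat_lit 2305))
) (.node (nat_lit 0x9b4090c5167) (.leaf (nat_lit 0x9b409013167) (nat_lit 1792))
 (.leaf (nat_lit 0x9b4090c5167) (nat_lit 3329))
))) (.node (nat_lit 0x9b47687505a) (.node (nat_lit 0x9b46f813054) (.node (nat_lit 0x9b41da49c6e) (.leaf (nat_lit 0x9b40b80a167) (nat_lit 3074))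
 (.leaf (nat_lit 0x9b41da49c6e) (nat_lit 1793))
) (.node (nat_lit 0x9b46f8ac12b) (.leaf (nat_lit 0x9b46f813054) (nat_lit 2816))
 (.leaf (nat_lit 0x9b46f8ac12b) (nat_lit 3074))
)) (.node (nat_lit 0x9b47b829035) (.node (nat_lit 0x9b47688f909) (.leaf (nat_lit 0x9b47687505a) (nat_lit 2816))
 (.leaf (nat_lit 0x9b47688f909) (nat_lit 1538))
) (.node (nat_lit 0x9b48288f910) (.leaf (nat_lit 0x9b47b829035) (nat_lit 3074))
 (.node (nat_lit 0x9b48b131035) (.leaf (nat_lit 0x9b48288f910) (nat_lit 3074))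
 (.leaf (nat_lit 0x9b48b131035) (nat_lit 3073))
))))))) (.node (nat_lit 0x9d659d6d823) (.node (nat_lit 0x9b67709010a) (.node (nat_lit 0x9b52f4d58d9) (.node (nat_lit 0x9b4eed33110) (.node (nat_lit 0x9b4e813612b) (.node (nat_lit 0x9b4a9e4d110) (.leaf (nat_lit 0x9b4a9d3604e) (nat_lit 2560))
 (.leaf (nat_lit 0x9b4a9e4d110) (nat_lit 3072))
) (.node (nat_lit 0x9b4eac8c85a) (.leaf (nat_lit 0x9b4e813612b) (nat_lit 2818))
 (.leaf (nat_lit 0x9b4eac8c85a) (nat_lit 2818))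
)) (.node (nat_lit 0x9b50dc9912b) (.node (nat_lit 0x9b4f76039b3) (.leaf (nat_lit 0x9b4eed33110) (nat_lit 3073))
 (.leaf (nat_lit 0x9b4f76039b3) (nat_lit 2305))
) (.node (nat_lit 0x9b513c7505a) (.leaf (nat_lit 0x9b50dc9912b) (nat_lit 2817))
 (.leaf (nat_lit 0x9b513c7505a) (nat_lit 3073))
))) (.node (nat_lit 0x9b60b409964) (.node (nat_lit 0x9b608c14164) (.node (nat_lit 0x9b52f649835) (.leaf (nat_lit 0x9b52f4d58d9) (nat_lit 3073))
 (.leaf (nat_lit 0x9b52f649835) (nat_lit 2304))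
) (.node (nat_lit 0x9b608cc6164) (.leaf (nat_lit 0x9b608c14164) (nat_lit 2048))
 (.leaf (nat_lit 0x9b608cc6164) (nat_lit 3329))
)) (.node (nat_lit 0x9b670814053) (.node (nat_lit 0x9b61d64946f) (.leaf (nat_lit 0x9b60b409964) (nat_lit 2818))
 (.leaf (nat_lit 0x9b61d64946f) (nat_lit 1537))
) (.node (nat_lit 0x9b6708ae12a) (.leaf (nat_lit 0x9b670814053) (nat_lit 2560))
 (.node (nat_lit 0x9b677074059) (.leaf (nat_lit 0x9b6708ae12a) (nat_lit 2818))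
 (.leaf (nat_lit 0x9b677074059) (nat_lit 3072))
))))) (.node (nat_lit 0x9b6ee13410f) (.node (nat_lit 0x9b6a993684d) (.node (nat_lit 0x9b682c9010f) (.node (nat_lit 0x9b67bc28033) (.leaf (nat_lit 0x9b67709010a) (nat_lit 1282))
 (.leaf (nat_lit 0x9b67bc28033) (nat_lit 2818))
) (.node (nat_lit 0x9b68b530033) (.leaf (nat_lit 0x9b682c9010f) (nat_lit 3330))
 (.leaf (nat_lit 0x9b68b530033) (nat_lit 3072))
)) (.node (nat_lit 0x9b6e853692a) (.node (nat_lit 0x9b6a9a4d90f) (.leaf (nat_lit 0x9b6a993684d) (nat_lit 2304))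
 (.leaf (nat_lit 0x9b6a9a4d90f) (nat_lit 3073))
) (.node (nat_lit 0x9b6eb08f059) (.leaf (nat_lit 0x9b6e853692a) (nat_lit 2562))
 (.leaf (nat_lit 0x9b6eb08f059) (nat_lit 2818))
))) (.node (nat_lit 0x9b72f0d50d8) (.node (nat_lit 0x9b70d89812a) (.node (nat_lit 0x9b6f6e031b2) (.leaf (nat_lit 0x9b6ee13410f) (nat_lit 2817))
 (.leaf (nat_lit 0x9b6f6e031b2) (nat_lit 2049))
) (.node (nat_lit 0x9b713874059) (.leaf (nat_lit 0x9b70d89812a) (nat_lit 2561))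
 (.leaf (nat_lit 0x9b713874059) (nat_lit 2817))
)) (.node (nat_lit 0x9d60da498cd) (.node (nat_lit 0x9b72f249033) (.leaf (nat_lit 0x9b72f0d50d8) (nat_lit 3329))
 (.leaf (nat_lit 0x9b72f249033) (nat_lit 2560))
) (.node (nat_lit 0x9d6244c4023) (.leaf (nat_lit 0x9d60da498cd) (nat_lit 2818))
 (.node (nat_lit 0x9d659c90023) (.leaf (nat_lit 0x9d6244c4023) (nat_lit 2050))
 (.leaf (nat_lit 0x9d659c90023) (nat_lit 2818))
)))))) (.node (nat_lit 0x9d72f65c879) (.node (nat_lit 0x9d6ee0c404e) (.node (nat_lit 0x9d682a031b2) (.node (nat_lit 0x9d67ba5c8d0) (.node (nat_lit 0x9d6708610ec) (.leaf (nat_lit 0x9d659d6d823) (nat_lit 3073))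
 (.leaf (nat_lit 0x9d6708610ec) (nat_lit 2817))
) (.node (nat_lit 0x9d6822498ec) (.leaf (nat_lit 0x9d67ba5c8d0) (nat_lit 2562))
 (.leaf (nat_lit 0x9d6822498ec) (nat_lit 2817))
)) (.node (nat_lit 0x9d6a98828d0) (.node (nat_lit 0x9d68b2031b2) (.leaf (nat_lit 0x9d682a031b2) (nat_lit 2561))
 (.leaf (nat_lit 0x9d68b2031b2) (nat_lit 2049))
) (.node (nat_lit 0x9d6ec536995) (.leaf (nat_lit 0x9d6a98828d0) (nat_lit 2306))
 (.leaf (nat_lit 0x9d6ec536995) (nat_lit 2817))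
))) (.node (nat_lit 0x9d70fc99134) (.node (nat_lit 0x9d6f7530033) (.node (nat_lit 0x9d6ee1740d0) (.leaf (nat_lit 0x9d6ee0c404e) (nat_lit 2560))
 (.leaf (nat_lit 0x9d6ee1740d0) (nat_lit 2818))
) (.node (nat_lit 0x9d6fb4c5195) (.leaf (nat_lit 0x9d6f7530033) (nat_lit 2561))
 (.leaf (nat_lit 0x9d6fb4c5195) (nat_lit 2562))
)) (.node (nat_lit 0x9d713930195) (.node (nat_lit 0x9d70fd230ec) (.leaf (nat_lit 0x9d70fc99134) (nat_lit 2562))
 (.leaf (nat_lit 0x9d70fd230ec) (nat_lit 3074))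
) (.node (nat_lit 0x9d713a0b899) (.leaf (nat_lit 0x9d713930195) (nat_lit 2561))
 (.node (nat_lit 0x9d72f5269b2) (.leaf (nat_lit 0x9d713a0b899) (nat_lit 2561))
 (.leaf (nat_lit 0x9d72f5269b2) (nat_lit 1538))
))))) (.node (nat_lit 0x9da8b6039b3) (.node (nat_lit 0x9da5916e824) (.node (nat_lit 0x9da248c3824) (.node (nat_lit 0x9da0de490ce) (.leaf (nat_lit 0x9d72f65c879) (nat_lit 2304))
 (.leaf (nat_lit 0x9da0de490ce) (nat_lit 2562))
) (.node (nat_lit 0x9da5908f824) (.leaf (nat_lit 0x9da248c3824) (nat_lit 1794))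
 (.leaf (nat_lit 0x9da5908f824) (nat_lit 3074))
)) (.node (nat_lit 0x9da7be5d8cf) (.node (nat_lit 0x9da6f8600e7) (.leaf (nat_lit 0x9da5916e824) (nat_lit 2817))
 (.leaf (nat_lit 0x9da6f8600e7) (nat_lit 2561))
) (.node (nat_lit 0x9da826490e7) (.leaf (nat_lit 0x9da7be5d8cf) (nat_lit 2306))
 (.node (nat_lit 0x9da82e039b3) (.leaf (nat_lit 0x9da826490e7) (nat_lit 2561))
 (.leaf (nat_lit 0x9da82e039b3) (nat_lit 2305))
)))) (.node (nat_lit 0x9daeed750cf) (.node (nat_lit 0x9daecd36194) (.node (nat_lit 0x9daa9c830cf) (.leaf (nat_lit 0x9da8b6039b3) (nat_lit 2305))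
 (.leaf (nat_lit 0x9daa9c830cf) (nat_lit 2050))
) (.node (nat_lit 0x9daeecc384d) (.leaf (nat_lit 0x9daecd36194) (nat_lit 2561))
 (.leaf (nat_lit 0x9daeecc384d) (nat_lit 2562))
)) (.node (nat_lit 0x9dafb0c6194) (.node (nat_lit 0x9daf6d31035) (.leaf (nat_lit 0x9daeed750cf) (nat_lit 2818))
 (.leaf (nat_lit 0x9daf6d31035) (nat_lit 2305))
) (.node (nat_lit 0x9db0f898133) (.leaf (nat_lit 0x9dafb0c6194) (nat_lit 2818))
 (.node (nat_lit 0x9db0f9238e7) (.leaf (nat_lit 0x9db0f898133) (nat_lit 2306))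
 (.leaf (nat_lit 0x9db0f9238e7) (nat_lit 3072))
)))))))) (.node (nat_lit 0xa8e089820ca) (.node (nat_lit 0xa12c06490d0) (.node (nat_lit 0xa10d7e039b3) (.node (nat_lit 0xa104f2b5091) (.node (nat_lit 0xa10028140c9) (.node (nat_lit 0x9db2f1279b3) (.node (nat_lit 0x9db13e0b09b) (.leaf (nat_lit 0x9db13d31194) (nat_lit 2817))
 (.leaf (nat_lit 0x9db13e0b09b) (nat_lit 2561))
) (.node (nat_lit 0x9db2f25d87a) (.leaf (nat_lit 0x9db2f1279b3) (nat_lit 1282))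
 (.leaf (nat_lit 0x9db2f25d87a) (nat_lit 2560))
)) (.node (nat_lit 0xa102f97446f) (.node (nat_lit 0xa101b086049) (.leaf (nat_lit 0xa10028140c9) (nat_lit 2818))
 (.leaf (nat_lit 0xa101b086049) (nat_lit 2818))
) (.node (nat_lit 0xa1036828094) (.leaf (nat_lit 0xa102f97446f) (nat_lit 2816))
 (.leaf (nat_lit 0xa1036828094) (nat_lit 2562))
))) (.node (nat_lit 0xa10ac85608b) (.node (nat_lit 0xa106fe039b3) (.node (nat_lit 0xa1050574194) (.leaf (nat_lit 0xa104f2b5091) (nat_lit 2817))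
 (.leaf (nat_lit 0xa1050574194) (nat_lit 2305))
) (.node (nat_lit 0xa108ecc5167) (.leaf (nat_lit 0xa106fe039b3) (nat_lit 2817))
 (.leaf (nat_lit 0xa108ecc5167) (nat_lit 2561))
)) (.node (nat_lit 0xa10d5c8608b) (.node (nat_lit 0xa10c0e498cf) (.leaf (nat_lit 0xa10ac85608b) (nat_lit 2818))
 (.leaf (nat_lit 0xa10c0e498cf) (nat_lit 3073))
) (.node (nat_lit 0xa10d5d8208b) (.leaf (nat_lit 0xa10d5c8608b) (nat_lit 2048))
 (.node (nat_lit 0xa10d7c381b3) (.leaf (nat_lit 0xa10d5d8208b) (nat_lit 3073))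
 (.leaf (nat_lit 0xa10d7c381b3) (nat_lit 1794))
))))) (.node (nat_lit 0xa12038130ca) (.node (nat_lit 0xa110a136194) (.node (nat_lit 0xa10fc25c8e7) (.node (nat_lit 0xa10fc1238e7) (.leaf (nat_lit 0xa10d7e039b3) (nat_lit 2305))
 (.leaf (nat_lit 0xa10fc1238e7) (nat_lit 3073))
) (.node (nat_lit 0xa110a119994) (.leaf (nat_lit 0xa10fc25c8e7) (nat_lit 2561))
 (.leaf (nat_lit 0xa110a119994) (nat_lit 2305))
)) (.node (nat_lit 0xa110f24d8cf) (.node (nat_lit 0xa110f0c50cf) (.leaf (nat_lit 0xa110a136194) (nat_lit 2817))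
 (.leaf (nat_lit 0xa110f0c50cf) (nat_lit 2304))
) (.node (nat_lit 0xa114f4140e7) (.leaf (nat_lit 0xa110f24d8cf) (nat_lit 2817))
 (.leaf (nat_lit 0xa114f4140e7) (nat_lit 2560))
))) (.node (nat_lit 0xa124f6b6892) (.node (nat_lit 0xa122f57546e) (.node (nat_lit 0xa121ac8704a) (.leaf (nat_lit 0xa12038130ca) (nat_lit 3074))
 (.leaf (nat_lit 0xa121ac8704a) (nat_lit 3074))
) (.node (nat_lit 0xa1235c29096) (.leaf (nat_lit 0xa122f57546e) (nat_lit 2817))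
 (.leaf (nat_lit 0xa1235c29096) (nat_lit 2306))
)) (.node (nat_lit 0xa12716031b2) (.node (nat_lit 0xa1252d75195) (.leaf (nat_lit 0xa124f6b6892) (nat_lit 2561))
 (.leaf (nat_lit 0xa1252d75195) (nat_lit 2561))
) (.node (nat_lit 0xa128e8c6164) (.leaf (nat_lit 0xa12716031b2) (nat_lit 2561))
 (.node (nat_lit 0xa12ac45708d) (.leaf (nat_lit 0xa128e8c6164) (nat_lit 2305))
 (.leaf (nat_lit 0xa12ac45708d) (nat_lit 2562))
)))))) (.node (nat_lit 0xa8c1b0280c9) (.node (nat_lit 0xa130a536995) (.node (nat_lit 0xa12d7a031b2) (.node (nat_lit 0xa12d598288d) (.node (nat_lit 0xa12d588708d) (.leaf (nat_lit 0xa12c06490d0) (nat_lit 2817))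
 (.leaf (nat_lit 0xa12d588708d) (nat_lit 2304))
) (.node (nat_lit 0xa12d78371b2) (.leaf (nat_lit 0xa12d598288d) (nat_lit 3072))
 (.leaf (nat_lit 0xa12d78371b2) (nat_lit 1538))
)) (.node (nat_lit 0xa12fc65d8ec) (.node (nat_lit 0xa12fc5230ec) (.leaf (nat_lit 0xa12d7a031b2) (nat_lit 2561))
 (.leaf (nat_lit 0xa12fc5230ec) (nat_lit 3074))
) (.node (nat_lit 0xa130a519195) (.leaf (nat_lit 0xa12fc65d8ec) (nat_lit 2305))
 (.leaf (nat_lit 0xa130a519195) (nat_lit 2049))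
))) (.node (nat_lit 0xa1423964820) (.node (nat_lit 0xa130f64d0d0) (.node (nat_lit 0xa130f4c60d0) (.leaf (nat_lit 0xa130a536995) (nat_lit 2561))
 (.leaf (nat_lit 0xa130f4c60d0) (nat_lit 2560))
) (.node (nat_lit 0xa134f0130ec) (.leaf (nat_lit 0xa130f64d0d0) (nat_lit 2817))
 (.leaf (nat_lit 0xa134f0130ec) (nat_lit 2304))
)) (.node (nat_lit 0xa8c085828c9) (.node (nat_lit 0xa1623d6501f) (.leaf (nat_lit 0xa1423964820) (nat_lit 2561))
 (.leaf (nat_lit 0xa1623d6501f) (nat_lit 2561))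
) (.node (nat_lit 0xa8c170c480f) (.leaf (nat_lit 0xa8c085828c9) (nat_lit 2560))
 (.node (nat_lit 0xa8c1724dc6e) (.leaf (nat_lit 0xa8c170c480f) (nat_lit 2817))
 (.leaf (nat_lit 0xa8c1724dc6e) (nat_lit 2306))
))))) (.node (nat_lit 0xa8c71436882) (.node (nat_lit 0xa8c4f41500f) (.node (nat_lit 0xa8c23c570c9) (.node (nat_lit 0xa8c1b08607e) (.leaf (nat_lit 0xa8c1b0280c9) (nat_lit 3073))
 (.leaf (nat_lit 0xa8c1b08607e) (nat_lit 3330))
) (.node (nat_lit 0xa8c2f41500f) (.leaf (nat_lit 0xa8c23c570c9) (nat_lit 3073))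
 (.leaf (nat_lit 0xa8c2f41500f) (nat_lit 3073))
)) (.node (nat_lit 0xa8c50574082) (.node (nat_lit 0xa8c50565071) (.leaf (nat_lit 0xa8c4f41500f) (nat_lit 3329))
 (.leaf (nat_lit 0xa8c50565071) (nat_lit 2560))
) (.node (nat_lit 0xa8c5301308b) (.leaf (nat_lit 0xa8c50574082) (nat_lit 3073))
 (.node (nat_lit 0xa8c5312210a) (.leaf (nat_lit 0xa8c5301308b) (nat_lit 2048))
 (.leaf (nat_lit 0xa8c5312210a) (nat_lit 2306))
)))) (.node (nat_lit 0xa8cfc0d5871) (.node (nat_lit 0xa8cd7874059) (.node (nat_lit 0xa8cc0533082) (.leaf (nat_lit 0xa8c71436882) (nat_lit 2305))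
 (.leaf (nat_lit 0xa8cc0533082) (nat_lit 3073))
) (.node (nat_lit 0xa8cd789010a) (.leaf (nat_lit 0xa8cd7874059) (nat_lit 2816))
 (.leaf (nat_lit 0xa8cd789010a) (nat_lit 2561))
)) (.node (nat_lit 0xa8d0c64d871) (.node (nat_lit 0xa8d0a0368bc) (.leaf (nat_lit 0xa8cfc0d5871) (nat_lit 2561))
 (.leaf (nat_lit 0xa8d0a0368bc) (nat_lit 3329))
) (.node (nat_lit 0xa8d4481310a) (.leaf (nat_lit 0xa8d0c64d871) (nat_lit 2562))
 (.node (nat_lit 0xa8d4e0280c4) (.leaf (nat_lit 0xa8d4481310a) (nat_lit 3073))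
 (.leaf (nat_lit 0xa8d4e0280c4) (nat_lit 3072))
))))))) (.node (nat_lit 0xac684d34081) (.node (nat_lit 0xa8f0a4378b9) (.node (nat_lit 0xa8e52d64874) (.node (nat_lit 0xa8e1ac8707f) (.node (nat_lit 0xa8e16e4d46f) (.node (nat_lit 0xa8e16cc5810) (.leaf (nat_lit 0xa8e089820ca) (nat_lit 2816))
 (.leaf (nat_lit 0xa8e16cc5810) (nat_lit 2561))
) (.node (nat_lit 0xa8e1ac290ca) (.leaf (nat_lit 0xa8e16e4d46f) (nat_lit 2562))
 (.leaf (nat_lit 0xa8e1ac290ca) (nat_lit 3329))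
)) (.node (nat_lit 0xa8e2f816010) (.node (nat_lit 0xa8e238560ca) (.leaf (nat_lit 0xa8e1ac8707f) (nat_lit 3074))
 (.leaf (nat_lit 0xa8e238560ca) (nat_lit 2817))
) (.node (nat_lit 0xa8e4f016010) (.leaf (nat_lit 0xa8e2f816010) (nat_lit 3329))
 (.leaf (nat_lit 0xa8e4f016010) (nat_lit 3585))
))) (.node (nat_lit 0xa8e6fc37881) (.node (nat_lit 0xa8e5341408d) (.node (nat_lit 0xa8e52d75081) (.leaf (nat_lit 0xa8e52d64874) (nat_lit 2816))
 (.leaf (nat_lit 0xa8e52d75081) (nat_lit 3329))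
) (.node (nat_lit 0xa8e53522909) (.leaf (nat_lit 0xa8e5341408d) (nat_lit 2304))
 (.leaf (nat_lit 0xa8e53522909) (nat_lit 2562))
)) (.node (nat_lit 0xa8ed7c7505a) (.node (nat_lit 0xa8ec0d34081) (.leaf (nat_lit 0xa8e6fc37881) (nat_lit 2561))
 (.leaf (nat_lit 0xa8ec0d34081) (nat_lit 2817))
) (.node (nat_lit 0xa8ed7c8f909) (.leaf (nat_lit 0xa8ed7c7505a) (nat_lit 3072))
 (.node (nat_lit 0xa8efc4d5074) (.leaf (nat_lit 0xa8ed7c8f909) (nat_lit 2817))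
 (.leaf (nat_lit 0xa8efc4d5074) (nat_lit 2305))
))))) (.node (nat_lit 0xac44f25ca3b) (.node (nat_lit 0xa982f86ea3b) (.node (nat_lit 0xa8f44c14109) (.node (nat_lit 0xa8f0ca4d074) (.leaf (nat_lit 0xa8f0a4378b9) (nat_lit 3073))
 (.leaf (nat_lit 0xa8f0ca4d074) (nat_lit 2818))
) (.node (nat_lit 0xa8f4e4290bf) (.leaf (nat_lit 0xa8f44c14109) (nat_lit 2817))
 (.leaf (nat_lit 0xa8f4e4290bf) (nat_lit 2816))
)) (.node (nat_lit 0xabd4f05dc70) (.node (nat_lit 0xa9c2f47223a) (.leaf (nat_lit 0xa982f86ea3b) (nat_lit 1793))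
 (.leaf (nat_lit 0xa9c2f47223a) (nat_lit 1537))
) (.node (nat_lit 0xac14f45d471) (.leaf (nat_lit 0xabd4f05dc70) (nat_lit 3584))
 (.leaf (nat_lit 0xac14f45d471) (nat_lit 3328))
))) (.node (nat_lit 0xac633536967) (.node (nat_lit 0xac609036967) (.node (nat_lit 0xac60900a167) (.leaf (nat_lit 0xac44f25ca3b) (nat_lit 2049))
 (.leaf (nat_lit 0xac60900a167) (nat_lit 2304))
) (.node (nat_lit 0xac61dab6892) (.leaf (nat_lit 0xac609036967) (nat_lit 1793))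
 (.leaf (nat_lit 0xac61dab6892) (nat_lit 3073))
)) (.node (nat_lit 0xac67724d110) (.node (nat_lit 0xac671d270b3) (.leaf (nat_lit 0xac633536967) (nat_lit 2817))
 (.leaf (nat_lit 0xac671d270b3) (nat_lit 2562))
) (.node (nat_lit 0xac68213412b) (.leaf (nat_lit 0xac67724d110) (nat_lit 2562))
 (.node (nat_lit 0xac682882910) (.leaf (nat_lit 0xac68213412b) (nat_lit 2561))
 (.leaf (nat_lit 0xac682882910) (nat_lit 1794))
)))))) (.node (nat_lit 0xaca33936164) (.node (nat_lit 0xac6f74ae08b) (.node (nat_lit 0xac6e8522006) (.node (nat_lit 0xac6a987505a) (.node (nat_lit 0xac684d5d8b3) (.leaf (nat_lit 0xac684d34081) (nat_lit 2306))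
 (.leaf (nat_lit 0xac684d5d8b3) (nat_lit 2818))
) (.node (nat_lit 0xac6e847505a) (.leaf (nat_lit 0xac6a987505a) (nat_lit 2048))
 (.leaf (nat_lit 0xac6e847505a) (nat_lit 1537))
)) (.node (nat_lit 0xac6eb036adf) (.node (nat_lit 0xac6eb01412b) (.leaf (nat_lit 0xac6e8522006) (nat_lit 3330))
 (.leaf (nat_lit 0xac6eb01412b) (nat_lit 2050))
) (.node (nat_lit 0xac6ec5198b3) (.leaf (nat_lit 0xac6eb036adf) (nat_lit 2048))
 (.leaf (nat_lit 0xac6ec5198b3) (nat_lit 2562))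
))) (.node (nat_lit 0xac74e919b3b) (.node (nat_lit 0xac74d58e85a) (.node (nat_lit 0xac70dc5712b) (.leaf (nat_lit 0xac6f74ae08b) (nat_lit 2305))
 (.leaf (nat_lit 0xac70dc5712b) (nat_lit 2049))
) (.node (nat_lit 0xac74e8ae110) (.leaf (nat_lit 0xac74d58e85a) (nat_lit 2562))
 (.leaf (nat_lit 0xac74e8ae110) (nat_lit 3073))
)) (.node (nat_lit 0xaca08c09964) (.node (nat_lit 0xac84f65da3a) (.leaf (nat_lit 0xac74e919b3b) (nat_lit 2049))
 (.leaf (nat_lit 0xac84f65da3a) (nat_lit 1793))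
) (.node (nat_lit 0xaca08c37964) (.leaf (nat_lit 0xaca08c09964) (nat_lit 2560))
 (.node (nat_lit 0xaca1d6b5091) (.leaf (nat_lit 0xaca08c37964) (nat_lit 2049))
 (.leaf (nat_lit 0xaca1d6b5091) (nat_lit 2817))
))))) (.node (nat_lit 0xacae8122805) (.node (nat_lit 0xaca82c8310f) (.node (nat_lit 0xaca76a4d90f) (.node (nat_lit 0xaca719260b4) (.leaf (nat_lit 0xaca33936164) (nat_lit 3073))
 (.leaf (nat_lit 0xaca719260b4) (nat_lit 2818))
) (.node (nat_lit 0xaca8253312a) (.leaf (nat_lit 0xaca76a4d90f) (nat_lit 2818))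
 (.leaf (nat_lit 0xaca8253312a) (nat_lit 2817))
)) (.node (nat_lit 0xaca855580b4) (.node (nat_lit 0xaca85533082) (.leaf (nat_lit 0xaca82c8310f) (nat_lit 1538))
 (.leaf (nat_lit 0xaca85533082) (nat_lit 2050))
) (.node (nat_lit 0xacaa9c74059) (.leaf (nat_lit 0xaca855580b4) (nat_lit 3074))
 (.node (nat_lit 0xacae8074059) (.leaf (nat_lit 0xacaa9c74059) (nat_lit 1792))
 (.leaf (nat_lit 0xacae8074059) (nat_lit 1793))
)))) (.node (nat_lit 0xacaf6cac08d) (.node (nat_lit 0xacaeac37ade) (.node (nat_lit 0xacaeac1312a) (.leaf (nat_lit 0xacae8122805) (nat_lit 3330))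
 (.leaf (nat_lit 0xacaeac1312a) (nat_lit 1794))
) (.node (nat_lit 0xacaecd190b4) (.leaf (nat_lit 0xacaeac37ade) (nat_lit 2304))
 (.leaf (nat_lit 0xacaecd190b4) (nat_lit 2818))
)) (.node (nat_lit 0xacb4d18f859) (.node (nat_lit 0xacb0d85612a) (.leaf (nat_lit 0xacaf6cac08d) (nat_lit 2049))
 (.leaf (nat_lit 0xacb0d85612a) (nat_lit 2305))
) (.node (nat_lit 0xacb4ecac10f) (.leaf (nat_lit 0xacb4d18f859) (nat_lit 2818))
 (.node (nat_lit 0xacb4ed1933a) (.leaf (nat_lit 0xacb4ecac10f) (nat_lit 3329))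
 (.leaf (nat_lit 0xacb4ed1933a) (nat_lit 1793))
))))))))))))

theorem Z_ok : orbOK A [(nat_lit 0x91f80e03f), (nat_lit 0xe82b003800), (nat_lit 0x12f13800019)] (nat_lit 0x12f13800019) Z_t (nat_lit 2200) = true := by decide +kernel

/-- A listed subgroup. -/
noncomputable def T_t : ST :=
(.node (nat_lit 0x57859d880a8) (.node (nat_lit 0x30022e8eb50) (.node (nat_lit 0x1427156e937) (.node (nat_lit 0xd69c90ea57) (.node (nat_lit 0x6e9fdbe55c) (.node (nat_lit 0x4ae1548854) (.node (nat_lit 0x129c5a751c) (.node (nat_lit 0x40e80d913) (.node (nat_lit 0x29a425cba) (.node (nat_lit 0x28d025cba) (.node (nat_lit 0x20e5d147b) (.leaf (nat_lit 0x20e40c800) (nat_lit 0))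
 (.leaf (nat_lit 0x20e5d147b) (nat_lit 1283))
) (.node (nat_lit 0x28d19b91a) (.leaf (nat_lit 0x28d025cba) (nat_lit 1025))
 (.leaf (nat_lit 0x28d19b91a) (nat_lit 1281))
)) (.node (nat_lit 0x2b540c800) (.node (nat_lit 0x29a5d147b) (.leaf (nat_lit 0x29a425cba) (nat_lit 1539))
 (.leaf (nat_lit 0x29a5d147b) (nat_lit 1794))
) (.node (nat_lit 0x2b559b91a) (.leaf (nat_lit 0x2b540c800) (nat_lit 1537))
 (.leaf (nat_lit 0x2b559b91a) (nat_lit 1280))
))) (.node (nat_lit 0x499c264b8) (.node (nat_lit 0x48d4264b8) (.node (nat_lit 0x40e9d1c77) (.leaf (nat_lit 0x40e80d913) (nat_lit 1024))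
 (.leaf (nat_lit 0x40e9d1c77) (nat_lit 1282))
) (.node (nat_lit 0x48d59b121) (.leaf (nat_lit 0x48d4264b8) (nat_lit 1027))
 (.leaf (nat_lit 0x48d59b121) (nat_lit 1282))
)) (.node (nat_lit 0x4b500d913) (.node (nat_lit 0x499dd1c77) (.leaf (nat_lit 0x499c264b8) (nat_lit 515))
 (.leaf (nat_lit 0x499dd1c77) (nat_lit 1282))
) (.node (nat_lit 0x4b519b121) (.leaf (nat_lit 0x4b500d913) (nat_lit 513))
 (.leaf (nat_lit 0x4b519b121) (nat_lit 1281))
)))) (.node (nat_lit 0x169c9a851d) (.node (nat_lit 0x12ff2a94d2) (.node (nat_lit 0x12dfda751c) (.node (nat_lit 0x129c6b3158) (.leaf (nat_lit 0x129c5a751c) (nat_lit 1538))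
 (.leaf (nat_lit 0x129c6b3158) (nat_lit 1283))
) (.node (nat_lit 0x12dfe658ae) (.leaf (nat_lit 0x12dfda751c) (nat_lit 1538))
 (.leaf (nat_lit 0x12dfe658ae) (nat_lit 1281))
)) (.node (nat_lit 0x134fe658ae) (.node (nat_lit 0x12ff2b3158) (.leaf (nat_lit 0x12ff2a94d2) (nat_lit 1539))
 (.leaf (nat_lit 0x12ff2b3158) (nat_lit 1795))
) (.node (nat_lit 0x134fea94d2) (.leaf (nat_lit 0x134fe658ae) (nat_lit 1281))
 (.leaf (nat_lit 0x134fea94d2) (nat_lit 1537))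
))) (.node (nat_lit 0x16feea84d4) (.node (nat_lit 0x16e05a851d) (.node (nat_lit 0x169cab395c) (.leaf (nat_lit 0x169c9a851d) (nat_lit 1024))
 (.leaf (nat_lit 0x169cab395c) (nat_lit 1794))
) (.node (nat_lit 0x16e06668ac) (.leaf (nat_lit 0x16e05a851d) (nat_lit 1024))
 (.leaf (nat_lit 0x16e06668ac) (nat_lit 1282))
)) (.node (nat_lit 0x174fa668ac) (.node (nat_lit 0x16feeb395c) (.leaf (nat_lit 0x16feea84d4) (nat_lit 1536))
 (.leaf (nat_lit 0x16feeb395c) (nat_lit 1280))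
) (.node (nat_lit 0x174faa84d4) (.leaf (nat_lit 0x174fa668ac) (nat_lit 1792))
 (.leaf (nat_lit 0x174faa84d4) (nat_lit 1536))
))))) (.node (nat_lit 0x681763504f) (.node (nat_lit 0x4ee0d49053) (.node (nat_lit 0x4b2f68fbe0) (.node (nat_lit 0x4b1b58d408) (.node (nat_lit 0x4ae158d408) (.leaf (nat_lit 0x4ae1548854) (nat_lit 1536))
 (.leaf (nat_lit 0x4ae158d408) (nat_lit 1794))
) (.node (nat_lit 0x4b1b6bb0ca) (.leaf (nat_lit 0x4b1b58d408) (nat_lit 1795))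
 (.leaf (nat_lit 0x4b1b6bb0ca) (nat_lit 1537))
)) (.node (nat_lit 0x4b43948854) (.node (nat_lit 0x4b2f6bb0ca) (.leaf (nat_lit 0x4b2f68fbe0) (nat_lit 1794))
 (.leaf (nat_lit 0x4b2f6bb0ca) (nat_lit 1537))
) (.node (nat_lit 0x4b43a8fbe0) (.leaf (nat_lit 0x4b43948854) (nat_lit 1027))
 (.leaf (nat_lit 0x4b43a8fbe0) (nat_lit 1795))
))) (.node (nat_lit 0x4f2f291be2) (.node (nat_lit 0x4f1a18dc09) (.node (nat_lit 0x4ee0d8dc09) (.leaf (nat_lit 0x4ee0d49053) (nat_lit 1539))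
 (.leaf (nat_lit 0x4ee0d8dc09) (nat_lit 1283))
) (.node (nat_lit 0x4f1a2bb8c9) (.leaf (nat_lit 0x4f1a18dc09) (nat_lit 1280))
 (.leaf (nat_lit 0x4f1a2bb8c9) (nat_lit 1538))
)) (.node (nat_lit 0x4f43d49053) (.node (nat_lit 0x4f2f2bb8c9) (.leaf (nat_lit 0x4f2f291be2) (nat_lit 1283))
 (.leaf (nat_lit 0x4f2f2bb8c9) (nat_lit 1539))
) (.node (nat_lit 0x4f43e91be2) (.leaf (nat_lit 0x4f43d49053) (nat_lit 1539))
 (.leaf (nat_lit 0x4f43e91be2) (nat_lit 1793))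
)))) (.node (nat_lit 0x6c9e9c555d) (.node (nat_lit 0x68d209f31f) (.node (nat_lit 0x68b049f31f) (.node (nat_lit 0x681767cb22) (.leaf (nat_lit 0x681763504f) (nat_lit 1281))
 (.leaf (nat_lit 0x681767cb22) (nat_lit 1539))
) (.node (nat_lit 0x68b067cb22) (.leaf (nat_lit 0x68b049f31f) (nat_lit 1282))
 (.leaf (nat_lit 0x68b067cb22) (nat_lit 1539))
)) (.node (nat_lit 0x69585c5d68) (.node (nat_lit 0x68d21c5d68) (.leaf (nat_lit 0x68d209f31f) (nat_lit 1283))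
 (.leaf (nat_lit 0x68d21c5d68) (nat_lit 1539))
) (.node (nat_lit 0x695863504f) (.leaf (nat_lit 0x69585c5d68) (nat_lit 1026))
 (.leaf (nat_lit 0x695863504f) (nat_lit 1282))
))) (.node (nat_lit 0x6d430a92cc) (.node (nat_lit 0x6cbc4f40c2) (.node (nat_lit 0x6c9ea28cbb) (.leaf (nat_lit 0x6c9e9c555d) (nat_lit 1539))
 (.leaf (nat_lit 0x6c9ea28cbb) (nat_lit 1283))
) (.node (nat_lit 0x6cbc5c555d) (.leaf (nat_lit 0x6cbc4f40c2) (nat_lit 1794))
 (.leaf (nat_lit 0x6cbc5c555d) (nat_lit 2051))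
)) (.node (nat_lit 0x6d554a92cc) (.node (nat_lit 0x6d43228cbb) (.leaf (nat_lit 0x6d430a92cc) (nat_lit 1026))
 (.leaf (nat_lit 0x6d43228cbb) (nat_lit 1281))
) (.node (nat_lit 0x6d554f40c2) (.leaf (nat_lit 0x6d554a92cc) (nat_lit 1538))
 (.leaf (nat_lit 0x6d554f40c2) (nat_lit 1283))
)))))) (.node (nat_lit 0xba0d0ad93b) (.node (nat_lit 0x720047585b) (.node (nat_lit 0x7017a34851) (.node (nat_lit 0x6f434a82d0) (.node (nat_lit 0x6ebc0f50c0) (.node (nat_lit 0x6e9fe284b9) (.leaf (nat_lit 0x6e9fdbe55c) (nat_lit 1538))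
 (.leaf (nat_lit 0x6e9fe284b9) (nat_lit 1794))
) (.node (nat_lit 0x6ebc1be55c) (.leaf (nat_lit 0x6ebc0f50c0) (nat_lit 1795))
 (.leaf (nat_lit 0x6ebc1be55c) (nat_lit 2050))
)) (.node (nat_lit 0x6f550a82d0) (.node (nat_lit 0x6f436284b9) (.leaf (nat_lit 0x6f434a82d0) (nat_lit 1537))
 (.leaf (nat_lit 0x6f436284b9) (nat_lit 1795))
) (.node (nat_lit 0x6f550f50c0) (.leaf (nat_lit 0x6f550a82d0) (nat_lit 1539))
 (.leaf (nat_lit 0x6f550f50c0) (nat_lit 1795))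
))) (.node (nat_lit 0x70d24a131d) (.node (nat_lit 0x70acca131d) (.node (nat_lit 0x7017a7c323) (.leaf (nat_lit 0x7017a34851) (nat_lit 770))
 (.leaf (nat_lit 0x7017a7c323) (nat_lit 1027))
) (.node (nat_lit 0x70ace7c323) (.leaf (nat_lit 0x70acca131d) (nat_lit 1281))
 (.leaf (nat_lit 0x70ace7c323) (nat_lit 1025))
)) (.node (nat_lit 0x7157dc6569) (.node (nat_lit 0x70d25c6569) (.leaf (nat_lit 0x70d24a131d) (nat_lit 1282))
 (.leaf (nat_lit 0x70d25c6569) (nat_lit 1537))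
) (.node (nat_lit 0x7157e34851) (.leaf (nat_lit 0x7157dc6569) (nat_lit 1537))
 (.leaf (nat_lit 0x7157e34851) (nat_lit 1795))
)))) (.node (nat_lit 0x740087485c) (.node (nat_lit 0x724fd439be) (.node (nat_lit 0x722f07585b) (.node (nat_lit 0x720058414d) (.leaf (nat_lit 0x720047585b) (nat_lit 1792))
 (.leaf (nat_lit 0x720058414d) (nat_lit 2048))
) (.node (nat_lit 0x722f1439be) (.leaf (nat_lit 0x722f07585b) (nat_lit 1794))
 (.leaf (nat_lit 0x722f1439be) (nat_lit 2049))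
)) (.node (nat_lit 0x732298414d) (.node (nat_lit 0x724fd8e024) (.leaf (nat_lit 0x724fd439be) (nat_lit 1537))
 (.leaf (nat_lit 0x724fd8e024) (nat_lit 1795))
) (.node (nat_lit 0x732298e024) (.leaf (nat_lit 0x732298414d) (nat_lit 1538))
 (.leaf (nat_lit 0x732298e024) (nat_lit 1793))
))) (.node (nat_lit 0x74515431c2) (.node (nat_lit 0x742e47485c) (.node (nat_lit 0x740098594c) (.leaf (nat_lit 0x740087485c) (nat_lit 1792))
 (.leaf (nat_lit 0x740098594c) (nat_lit 2051))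
) (.node (nat_lit 0x742e5431c2) (.leaf (nat_lit 0x742e47485c) (nat_lit 1795))
 (.leaf (nat_lit 0x742e5431c2) (nat_lit 1538))
)) (.node (nat_lit 0x7522d8594c) (.node (nat_lit 0x745158f023) (.leaf (nat_lit 0x74515431c2) (nat_lit 1538))
 (.leaf (nat_lit 0x745158f023) (nat_lit 1792))
) (.node (nat_lit 0x7522d8f023) (.leaf (nat_lit 0x7522d8594c) (nat_lit 2051))
 (.leaf (nat_lit 0x7522d8f023) (nat_lit 1795))
))))) (.node (nat_lit 0xca7688f909) (.node (nat_lit 0xbc0e0ad13a) (.node (nat_lit 0xba39cad93b) (.node (nat_lit 0xba29e5dc51) (.node (nat_lit 0xba0d1901d9) (.leaf (nat_lit 0xba0d0ad93b) (nat_lit 1538))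
 (.leaf (nat_lit 0xba0d1901d9) (nat_lit 1792))
) (.node (nat_lit 0xba29e97444) (.leaf (nat_lit 0xba29e5dc51) (nat_lit 1537))
 (.leaf (nat_lit 0xba29e97444) (nat_lit 1793))
)) (.node (nat_lit 0xba52d901d9) (.node (nat_lit 0xba39e97444) (.leaf (nat_lit 0xba39cad93b) (nat_lit 1536))
 (.leaf (nat_lit 0xba39e97444) (nat_lit 1281))
) (.node (nat_lit 0xba52e5dc51) (.leaf (nat_lit 0xba52d901d9) (nat_lit 1282))
 (.leaf (nat_lit 0xba52e5dc51) (nat_lit 1537))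
))) (.node (nat_lit 0xbc3b0ad13a) (.node (nat_lit 0xbc2a65cc50) (.node (nat_lit 0xbc0e1909d8) (.leaf (nat_lit 0xbc0e0ad13a) (nat_lit 1539))
 (.leaf (nat_lit 0xbc0e1909d8) (nat_lit 1282))
) (.node (nat_lit 0xbc2a697c45) (.leaf (nat_lit 0xbc2a65cc50) (nat_lit 1538))
 (.leaf (nat_lit 0xbc2a697c45) (nat_lit 769))
)) (.node (nat_lit 0xbc505909d8) (.node (nat_lit 0xbc3b297c45) (.leaf (nat_lit 0xbc3b0ad13a) (nat_lit 1536))
 (.leaf (nat_lit 0xbc3b297c45) (nat_lit 1281))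
) (.node (nat_lit 0xbc5065cc50) (.leaf (nat_lit 0xbc505909d8) (nat_lit 1283))
 (.leaf (nat_lit 0xbc5065cc50) (nat_lit 1538))
)))) (.node (nat_lit 0xd47709010a) (.node (nat_lit 0xcb0d48f909) (.node (nat_lit 0xca8b131035) (.node (nat_lit 0xca76a79143) (.leaf (nat_lit 0xca7688f909) (nat_lit 1026))
 (.leaf (nat_lit 0xca76a79143) (nat_lit 1283))
) (.node (nat_lit 0xca8b20b899) (.leaf (nat_lit 0xca8b131035) (nat_lit 1026))
 (.leaf (nat_lit 0xca8b20b899) (nat_lit 1283))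
)) (.node (nat_lit 0xcb56531035) (.node (nat_lit 0xcb0d60b899) (.leaf (nat_lit 0xcb0d48f909) (nat_lit 1025))
 (.leaf (nat_lit 0xcb0d60b899) (nat_lit 1793))
) (.node (nat_lit 0xcb56679143) (.leaf (nat_lit 0xcb56531035) (nat_lit 1025))
 (.leaf (nat_lit 0xcb56679143) (nat_lit 1281))
))) (.node (nat_lit 0xd50ac9010a) (.node (nat_lit 0xd48b530033) (.node (nat_lit 0xd477279944) (.leaf (nat_lit 0xd47709010a) (nat_lit 1027))
 (.leaf (nat_lit 0xd477279944) (nat_lit 1793))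
) (.node (nat_lit 0xd48b60b09b) (.leaf (nat_lit 0xd48b530033) (nat_lit 1537))
 (.leaf (nat_lit 0xd48b60b09b) (nat_lit 1280))
)) (.node (nat_lit 0xd556130033) (.node (nat_lit 0xd50ae0b09b) (.leaf (nat_lit 0xd50ac9010a) (nat_lit 514))
 (.leaf (nat_lit 0xd50ae0b09b) (nat_lit 1794))
) (.node (nat_lit 0xd556279944) (.leaf (nat_lit 0xd556130033) (nat_lit 1536))
 (.leaf (nat_lit 0xd556279944) (nat_lit 1795))
))))))) (.node (nat_lit 0x116601944d1) (.node (nat_lit 0xea3700d040) (.node (nat_lit 0xe425c11b1e) (.node (nat_lit 0xd89c510a56) (.node (nat_lit 0xd6fedbd0f7) (.node (nat_lit 0xd6e050ea57) (.node (nat_lit 0xd69cab395c) (.leaf (nat_lit 0xd69c90ea57) (nat_lit 1024))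
 (.leaf (nat_lit 0xd69cab395c) (nat_lit 1281))
) (.node (nat_lit 0xd6e06668ac) (.leaf (nat_lit 0xd6e050ea57) (nat_lit 1026))
 (.leaf (nat_lit 0xd6e06668ac) (nat_lit 1281))
)) (.node (nat_lit 0xd74f9bd0f7) (.node (nat_lit 0xd6feeb395c) (.leaf (nat_lit 0xd6fedbd0f7) (nat_lit 1536))
 (.leaf (nat_lit 0xd6feeb395c) (nat_lit 1280))
) (.node (nat_lit 0xd74fa668ac) (.leaf (nat_lit 0xd74f9bd0f7) (nat_lit 1536))
 (.leaf (nat_lit 0xd74fa668ac) (nat_lit 1280))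
))) (.node (nat_lit 0xd8ff1bd8fb) (.node (nat_lit 0xd8dfd10a56) (.node (nat_lit 0xd89c6b3158) (.leaf (nat_lit 0xd89c510a56) (nat_lit 1536))
 (.leaf (nat_lit 0xd89c6b3158) (nat_lit 769))
) (.node (nat_lit 0xd8dfe658ae) (.leaf (nat_lit 0xd8dfd10a56) (nat_lit 1026))
 (.leaf (nat_lit 0xd8dfe658ae) (nat_lit 1283))
)) (.node (nat_lit 0xd94fdbd8fb) (.node (nat_lit 0xd8ff2b3158) (.leaf (nat_lit 0xd8ff1bd8fb) (nat_lit 1025))
 (.leaf (nat_lit 0xd8ff2b3158) (nat_lit 1792))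
) (.node (nat_lit 0xd94fe658ae) (.leaf (nat_lit 0xd94fdbd8fb) (nat_lit 1536))
 (.leaf (nat_lit 0xd94fe658ae) (nat_lit 1281))
)))) (.node (nat_lit 0xe62601231c) (.node (nat_lit 0xe493811b1e) (.node (nat_lit 0xe46140e03f) (.node (nat_lit 0xe425cdf287) (.leaf (nat_lit 0xe425c11b1e) (nat_lit 1537))
 (.leaf (nat_lit 0xe425cdf287) (nat_lit 1281))
) (.node (nat_lit 0xe4614a6b08) (.leaf (nat_lit 0xe46140e03f) (nat_lit 1539))
 (.leaf (nat_lit 0xe4614a6b08) (nat_lit 1793))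
)) (.node (nat_lit 0xe54240e03f) (.node (nat_lit 0xe4938a6b08) (.leaf (nat_lit 0xe493811b1e) (nat_lit 512))
 (.leaf (nat_lit 0xe4938a6b08) (nat_lit 1281))
) (.node (nat_lit 0xe5424df287) (.leaf (nat_lit 0xe54240e03f) (nat_lit 1539))
 (.leaf (nat_lit 0xe5424df287) (nat_lit 1281))
))) (.node (nat_lit 0xe69301231c) (.node (nat_lit 0xe66100d040) (.node (nat_lit 0xe6260e1286) (.leaf (nat_lit 0xe62601231c) (nat_lit 1024))
 (.leaf (nat_lit 0xe6260e1286) (nat_lit 769))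
) (.node (nat_lit 0xe6610a630b) (.leaf (nat_lit 0xe66100d040) (nat_lit 1027))
 (.leaf (nat_lit 0xe6610a630b) (nat_lit 1283))
)) (.node (nat_lit 0xe74200d040) (.node (nat_lit 0xe6930a630b) (.leaf (nat_lit 0xe69301231c) (nat_lit 1536))
 (.leaf (nat_lit 0xe6930a630b) (nat_lit 1793))
) (.node (nat_lit 0xe7420e1286) (.leaf (nat_lit 0xe74200d040) (nat_lit 1537))
 (.leaf (nat_lit 0xe7420e1286) (nat_lit 1282))
))))) (.node (nat_lit 0x106eb869186) (.node (nat_lit 0xec3840e03f) (.node (nat_lit 0xea6209c850) (.node (nat_lit 0xea4189c850) (.node (nat_lit 0xea371e4c1c) (.leaf (nat_lit 0xea3700d040) (nat_lit 1539))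
 (.leaf (nat_lit 0xea371e4c1c) (nat_lit 1283))
) (.node (nat_lit 0xea419e4c1c) (.leaf (nat_lit 0xea4189c850) (nat_lit 1537))
 (.leaf (nat_lit 0xea419e4c1c) (nat_lit 768))
)) (.node (nat_lit 0xeb1800d040) (.node (nat_lit 0xea620a630b) (.leaf (nat_lit 0xea6209c850) (nat_lit 1536))
 (.leaf (nat_lit 0xea620a630b) (nat_lit 1283))
) (.node (nat_lit 0xeb180a630b) (.leaf (nat_lit 0xeb1800d040) (nat_lit 1537))
 (.leaf (nat_lit 0xeb180a630b) (nat_lit 1283))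
))) (.node (nat_lit 0xec61c9c052) (.node (nat_lit 0xec4149c052) (.node (nat_lit 0xec385e441d) (.leaf (nat_lit 0xec3840e03f) (nat_lit 1024))
 (.leaf (nat_lit 0xec385e441d) (nat_lit 1281))
) (.node (nat_lit 0xec415e441d) (.leaf (nat_lit 0xec4149c052) (nat_lit 1027))
 (.leaf (nat_lit 0xec415e441d) (nat_lit 1281))
)) (.node (nat_lit 0xed1840e03f) (.node (nat_lit 0xec61ca6b08) (.leaf (nat_lit 0xec61c9c052) (nat_lit 1025))
 (.leaf (nat_lit 0xec61ca6b08) (nat_lit 1281))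
) (.node (nat_lit 0xed184a6b08) (.leaf (nat_lit 0xed1840e03f) (nat_lit 1538))
 (.leaf (nat_lit 0xed184a6b08) (nat_lit 1794))
)))) (.node (nat_lit 0x108ebc6b192) (.node (nat_lit 0x1070bdb484a) (.node (nat_lit 0x106ee191cf8) (.node (nat_lit 0x106eb991cf8) (.leaf (nat_lit 0x106eb869186) (nat_lit 1537))
 (.leaf (nat_lit 0x106eb991cf8) (nat_lit 1280))
) (.node (nat_lit 0x106ee1b484a) (.leaf (nat_lit 0x106ee191cf8) (nat_lit 1793))
 (.leaf (nat_lit 0x106ee1b484a) (nat_lit 1539))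
)) (.node (nat_lit 0x10717469186) (.node (nat_lit 0x1070be9653c) (.leaf (nat_lit 0x1070bdb484a) (nat_lit 1536))
 (.leaf (nat_lit 0x1070be9653c) (nat_lit 1793))
) (.node (nat_lit 0x1071769653c) (.leaf (nat_lit 0x10717469186) (nat_lit 1538))
 (.leaf (nat_lit 0x1071769653c) (nat_lit 1794))
))) (.node (nat_lit 0x1090c1b4049) (.node (nat_lit 0x108eed914f9) (.node (nat_lit 0x108ebd914f9) (.leaf (nat_lit 0x108ebc6b192) (nat_lit 1538))
 (.leaf (nat_lit 0x108ebd914f9) (nat_lit 1282))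
) (.node (nat_lit 0x108eedb4049) (.leaf (nat_lit 0x108eed914f9) (nat_lit 1795))
 (.leaf (nat_lit 0x108eedb4049) (nat_lit 1536))
)) (.node (nat_lit 0x1091606b192) (.node (nat_lit 0x1090c296d3d) (.leaf (nat_lit 0x1090c1b4049) (nat_lit 1024))
 (.leaf (nat_lit 0x1090c296d3d) (nat_lit 1792))
) (.node (nat_lit 0x10916296d3d) (.leaf (nat_lit 0x1091606b192) (nat_lit 1537))
 (.leaf (nat_lit 0x10916296d3d) (nat_lit 1793))
)))))) (.node (nat_lit 0x12e1c860a6b) (.node (nat_lit 0x11c3840e03f) (.node (nat_lit 0x11a60593cd0) (.node (nat_lit 0x116dbd944d1) (.node (nat_lit 0x116b19f1523) (.node (nat_lit 0x11660265415) (.leaf (nat_lit 0x116601944d1) (nat_lit 1536))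
 (.leaf (nat_lit 0x11660265415) (nat_lit 1795))
) (.node (nat_lit 0x116b1a65415) (.leaf (nat_lit 0x116b19f1523) (nat_lit 1537))
 (.leaf (nat_lit 0x116b1a65415) (nat_lit 1281))
)) (.node (nat_lit 0x1172b9f1523) (.node (nat_lit 0x116dbe948af) (.leaf (nat_lit 0x116dbd944d1) (nat_lit 1536))
 (.leaf (nat_lit 0x116dbe948af) (nat_lit 1281))
) (.node (nat_lit 0x1172ba948af) (.leaf (nat_lit 0x1172b9f1523) (nat_lit 1536))
 (.leaf (nat_lit 0x1172ba948af) (nat_lit 1281))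
))) (.node (nat_lit 0x11adb993cd0) (.node (nat_lit 0x11ab1df051f) (.node (nat_lit 0x11a60666414) (.leaf (nat_lit 0x11a60593cd0) (nat_lit 1538))
 (.leaf (nat_lit 0x11a60666414) (nat_lit 1792))
) (.node (nat_lit 0x11ab1e66414) (.leaf (nat_lit 0x11ab1df051f) (nat_lit 1536))
 (.leaf (nat_lit 0x11ab1e66414) (nat_lit 1793))
)) (.node (nat_lit 0x11b2bdf051f) (.node (nat_lit 0x11adba940b0) (.leaf (nat_lit 0x11adb993cd0) (nat_lit 1536))
 (.leaf (nat_lit 0x11adba940b0) (nat_lit 1280))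
) (.node (nat_lit 0x11b2be940b0) (.leaf (nat_lit 0x11b2bdf051f) (nat_lit 1536))
 (.leaf (nat_lit 0x11b2be940b0) (nat_lit 1282))
)))) (.node (nat_lit 0x11e3700d040) (.node (nat_lit 0x11c61c9c052) (.node (nat_lit 0x11c4145530f) (.node (nat_lit 0x11c3845530f) (.leaf (nat_lit 0x11c3840e03f) (nat_lit 1537))
 (.leaf (nat_lit 0x11c3845530f) (nat_lit 1281))
) (.node (nat_lit 0x11c4149c052) (.leaf (nat_lit 0x11c4145530f) (nat_lit 769))
 (.leaf (nat_lit 0x11c4149c052) (nat_lit 1539))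
)) (.node (nat_lit 0x11d1840e03f) (.node (nat_lit 0x11c61cdf287) (.leaf (nat_lit 0x11c61c9c052) (nat_lit 1537))
 (.leaf (nat_lit 0x11c61cdf287) (nat_lit 1282))
) (.node (nat_lit 0x11d184df287) (.leaf (nat_lit 0x11d1840e03f) (nat_lit 1024))
 (.leaf (nat_lit 0x11d184df287) (nat_lit 769))
))) (.node (nat_lit 0x11e6209c850) (.node (nat_lit 0x11e41854310) (.node (nat_lit 0x11e37054310) (.leaf (nat_lit 0x11e3700d040) (nat_lit 1539))
 (.leaf (nat_lit 0x11e37054310) (nat_lit 257))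
) (.node (nat_lit 0x11e4189c850) (.leaf (nat_lit 0x11e41854310) (nat_lit 770))
 (.leaf (nat_lit 0x11e4189c850) (nat_lit 1536))
)) (.node (nat_lit 0x11f1800d040) (.node (nat_lit 0x11e620e1286) (.leaf (nat_lit 0x11e6209c850) (nat_lit 1537))
 (.leaf (nat_lit 0x11e620e1286) (nat_lit 1281))
) (.node (nat_lit 0x11f180e1286) (.leaf (nat_lit 0x11f1800d040) (nat_lit 1536))
 (.leaf (nat_lit 0x11f180e1286) (nat_lit 1283))
))))) (.node (nat_lit 0x13e9e44cc17) (.node (nat_lit 0x1301cc61a6a) (.node (nat_lit 0x12f03000019) (.node (nat_lit 0x12e4f460a6b) (.node (nat_lit 0x12e1c9b8afc) (.leaf (nat_lit 0x12e1c860a6b) (nat_lit 1792))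
 (.leaf (nat_lit 0x12e1c9b8afc) (nat_lit 1538))
) (.node (nat_lit 0x12e4f4bd1fc) (.leaf (nat_lit 0x12e4f460a6b) (nat_lit 1793))
 (.leaf (nat_lit 0x12e4f4bd1fc) (nat_lit 1538))
)) (.node (nat_lit 0x12f13800019) (.node (nat_lit 0x12f031b8afc) (.leaf (nat_lit 0x12f03000019) (nat_lit 1793))
 (.leaf (nat_lit 0x12f031b8afc) (nat_lit 2051))
) (.node (nat_lit 0x12f138bd1fc) (.leaf (nat_lit 0x12f13800019) (nat_lit 1792))
 (.leaf (nat_lit 0x12f138bd1fc) (nat_lit 1538))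
))) (.node (nat_lit 0x1310288981b) (.node (nat_lit 0x1304f061a6a) (.node (nat_lit 0x1301cdb82fe) (.leaf (nat_lit 0x1301cc61a6a) (nat_lit 1792))
 (.leaf (nat_lit 0x1301cdb82fe) (nat_lit 1536))
) (.node (nat_lit 0x1304f0ba1fd) (.leaf (nat_lit 0x1304f061a6a) (nat_lit 1280))
 (.leaf (nat_lit 0x1304f0ba1fd) (nat_lit 2049))
)) (.node (nat_lit 0x13113c8981b) (.node (nat_lit 0x131029b82fe) (.leaf (nat_lit 0x1310288981b) (nat_lit 1792))
 (.leaf (nat_lit 0x131029b82fe) (nat_lit 2051))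
) (.node (nat_lit 0x13113cba1fd) (.leaf (nat_lit 0x13113c8981b) (nat_lit 1795))
 (.leaf (nat_lit 0x13113cba1fd) (nat_lit 1536))
)))) (.node (nat_lit 0x1409e04dc16) (.node (nat_lit 0x13f3a885120) (.node (nat_lit 0x13eb8c4cc17) (.node (nat_lit 0x13e9e485120) (.leaf (nat_lit 0x13e9e44cc17) (nat_lit 2050))
 (.leaf (nat_lit 0x13e9e485120) (nat_lit 1792))
) (.node (nat_lit 0x13eb8c62245) (.leaf (nat_lit 0x13eb8c4cc17) (nat_lit 1539))
 (.leaf (nat_lit 0x13eb8c62245) (nat_lit 1795))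
)) (.node (nat_lit 0x13f4a862245) (.node (nat_lit 0x13f3a8a1cf2) (.leaf (nat_lit 0x13f3a885120) (nat_lit 1280))
 (.leaf (nat_lit 0x13f3a8a1cf2) (nat_lit 1537))
) (.node (nat_lit 0x13f4a8a1cf2) (.leaf (nat_lit 0x13f4a862245) (nat_lit 1793))
 (.leaf (nat_lit 0x13f4a8a1cf2) (nat_lit 1536))
))) (.node (nat_lit 0x1413b08491f) (.node (nat_lit 0x140b904dc16) (.node (nat_lit 0x1409e08491f) (.leaf (nat_lit 0x1409e04dc16) (nat_lit 1537))
 (.leaf (nat_lit 0x1409e08491f) (nat_lit 1794))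
) (.node (nat_lit 0x140b905fa44) (.leaf (nat_lit 0x140b904dc16) (nat_lit 2049))
 (.leaf (nat_lit 0x140b905fa44) (nat_lit 1280))
)) (.node (nat_lit 0x1414ac5fa44) (.node (nat_lit 0x1413b0a24f3) (.leaf (nat_lit 0x1413b08491f) (nat_lit 1793))
 (.leaf (nat_lit 0x1413b0a24f3) (nat_lit 1538))
) (.node (nat_lit 0x1414aca24f3) (.leaf (nat_lit 0x1414ac5fa44) (nat_lit 1283))
 (.leaf (nat_lit 0x1414aca24f3) (nat_lit 2048))
)))))))) (.node (nat_lit 0x20a1d890b36) (.node (nat_lit 0x1b81d48d337) (.node (nat_lit 0x1720e80d913) (.node (nat_lit 0x14e17425369) (.node (nat_lit 0x1446fd6d936) (.node (nat_lit 0x142fb531035) (.node (nat_lit 0x142d7cacc6c) (.node (nat_lit 0x1427160b899) (.leaf (nat_lit 0x1427156e937) (nat_lit 1027))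
 (.leaf (nat_lit 0x1427160b899) (nat_lit 1793))
) (.node (nat_lit 0x142d7d31035) (.leaf (nat_lit 0x142d7cacc6c) (nat_lit 1793))
 (.leaf (nat_lit 0x142d7d31035) (nat_lit 1536))
)) (.node (nat_lit 0x1434d4acc6c) (.node (nat_lit 0x142fb60b899) (.leaf (nat_lit 0x142fb531035) (nat_lit 1027))
 (.leaf (nat_lit 0x142fb60b899) (nat_lit 1283))
) (.node (nat_lit 0x1434d56e937) (.leaf (nat_lit 0x1434d4acc6c) (nat_lit 770))
 (.leaf (nat_lit 0x1434d56e937) (nat_lit 1027))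
))) (.node (nat_lit 0x144fb130033) (.node (nat_lit 0x144d78abc6b) (.node (nat_lit 0x1446fe0b09b) (.leaf (nat_lit 0x1446fd6d936) (nat_lit 1538))
 (.leaf (nat_lit 0x1446fe0b09b) (nat_lit 1282))
) (.node (nat_lit 0x144d7930033) (.leaf (nat_lit 0x144d78abc6b) (nat_lit 1281))
 (.leaf (nat_lit 0x144d7930033) (nat_lit 1026))
)) (.node (nat_lit 0x1454d0abc6b) (.node (nat_lit 0x144fb20b09b) (.leaf (nat_lit 0x144fb130033) (nat_lit 1539))
 (.leaf (nat_lit 0x144fb20b09b) (nat_lit 1792))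
) (.node (nat_lit 0x1454d16d936) (.leaf (nat_lit 0x1454d0abc6b) (nat_lit 1281))
 (.leaf (nat_lit 0x1454d16d936) (nat_lit 1537))
)))) (.node (nat_lit 0x15217824b68) (.node (nat_lit 0x14ed20a9ad2) (.node (nat_lit 0x14eb04c30d2) (.node (nat_lit 0x14e1769ed2d) (.leaf (nat_lit 0x14e17425369) (nat_lit 1283))
 (.leaf (nat_lit 0x14e1769ed2d) (nat_lit 1537))
) (.node (nat_lit 0x14eb069ed2d) (.leaf (nat_lit 0x14eb04c30d2) (nat_lit 1283))
 (.leaf (nat_lit 0x14eb069ed2d) (nat_lit 1537))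
)) (.node (nat_lit 0x14f58425369) (.node (nat_lit 0x14ed20c30d2) (.leaf (nat_lit 0x14ed20a9ad2) (nat_lit 1537))
 (.leaf (nat_lit 0x14ed20c30d2) (nat_lit 1282))
) (.node (nat_lit 0x14f584a9ad2) (.leaf (nat_lit 0x14f58425369) (nat_lit 1283))
 (.leaf (nat_lit 0x14f584a9ad2) (nat_lit 1027))
))) (.node (nat_lit 0x152d24a8ad1) (.node (nat_lit 0x152accc90d6) (.node (nat_lit 0x15217a9e52c) (.leaf (nat_lit 0x15217824b68) (nat_lit 771))
 (.leaf (nat_lit 0x15217a9e52c) (nat_lit 1539))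
) (.node (nat_lit 0x152ace9e52c) (.leaf (nat_lit 0x152accc90d6) (nat_lit 1795))
 (.leaf (nat_lit 0x152ace9e52c) (nat_lit 1025))
)) (.node (nat_lit 0x15357c24b68) (.node (nat_lit 0x152d24c90d6) (.leaf (nat_lit 0x152d24a8ad1) (nat_lit 1539))
 (.leaf (nat_lit 0x152d24c90d6) (nat_lit 1281))
) (.node (nat_lit 0x15357ca8ad1) (.leaf (nat_lit 0x15357c24b68) (nat_lit 1792))
 (.leaf (nat_lit 0x15357ca8ad1) (nat_lit 1537))
))))) (.node (nat_lit 0x18a9e8ec321) (.node (nat_lit 0x1780e40c800) (.node (nat_lit 0x17299c264b8) (.node (nat_lit 0x1728d4264b8) (.node (nat_lit 0x1720e97e371) (.leaf (nat_lit 0x1720e80d913) (nat_lit 1537))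
 (.leaf (nat_lit 0x1720e97e371) (nat_lit 1792))
) (.node (nat_lit 0x1728d4fe17a) (.leaf (nat_lit 0x1728d4264b8) (nat_lit 1537))
 (.leaf (nat_lit 0x1728d4fe17a) (nat_lit 1280))
)) (.node (nat_lit 0x172b500d913) (.node (nat_lit 0x17299d7e371) (.leaf (nat_lit 0x17299c264b8) (nat_lit 1538))
 (.leaf (nat_lit 0x17299d7e371) (nat_lit 1795))
) (.node (nat_lit 0x172b50fe17a) (.leaf (nat_lit 0x172b500d913) (nat_lit 1538))
 (.leaf (nat_lit 0x172b50fe17a) (nat_lit 768))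
))) (.node (nat_lit 0x1789a425cba) (.node (nat_lit 0x1788d025cba) (.node (nat_lit 0x1780e57f370) (.leaf (nat_lit 0x1780e40c800) (nat_lit 1536))
 (.leaf (nat_lit 0x1780e57f370) (nat_lit 1282))
) (.node (nat_lit 0x1788d0fe974) (.leaf (nat_lit 0x1788d025cba) (nat_lit 1538))
 (.leaf (nat_lit 0x1788d0fe974) (nat_lit 1280))
)) (.node (nat_lit 0x178b540c800) (.node (nat_lit 0x1789a57f370) (.leaf (nat_lit 0x1789a425cba) (nat_lit 1027))
 (.leaf (nat_lit 0x1789a57f370) (nat_lit 1282))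
) (.node (nat_lit 0x178b54fe974) (.leaf (nat_lit 0x178b540c800) (nat_lit 1539))
 (.leaf (nat_lit 0x178b54fe974) (nat_lit 1283))
)))) (.node (nat_lit 0x18c9fcecb20) (.node (nat_lit 0x18b43222d2f) (.node (nat_lit 0x18abc4ec321) (.node (nat_lit 0x18a9ea28cbb) (.leaf (nat_lit 0x18a9e8ec321) (nat_lit 1539))
 (.leaf (nat_lit 0x18a9ea28cbb) (nat_lit 1282))
) (.node (nat_lit 0x18abc4f40c2) (.leaf (nat_lit 0x18abc4ec321) (nat_lit 1539))
 (.leaf (nat_lit 0x18abc4f40c2) (nat_lit 1793))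
)) (.node (nat_lit 0x18b554f40c2) (.node (nat_lit 0x18b43228cbb) (.leaf (nat_lit 0x18b43222d2f) (nat_lit 1536))
 (.leaf (nat_lit 0x18b43228cbb) (nat_lit 1793))
) (.node (nat_lit 0x18b55622d2f) (.leaf (nat_lit 0x18b554f40c2) (nat_lit 1795))
 (.leaf (nat_lit 0x18b55622d2f) (nat_lit 1537))
))) (.node (nat_lit 0x18d4362252e) (.node (nat_lit 0x18cbc0ecb20) (.node (nat_lit 0x18c9fe284b9) (.leaf (nat_lit 0x18c9fcecb20) (nat_lit 1539))
 (.leaf (nat_lit 0x18c9fe284b9) (nat_lit 1793))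
) (.node (nat_lit 0x18cbc0f50c0) (.leaf (nat_lit 0x18cbc0ecb20) (nat_lit 1539))
 (.leaf (nat_lit 0x18cbc0f50c0) (nat_lit 1794))
)) (.node (nat_lit 0x18d550f50c0) (.node (nat_lit 0x18d436284b9) (.leaf (nat_lit 0x18d4362252e) (nat_lit 1539))
 (.leaf (nat_lit 0x18d436284b9) (nat_lit 1795))
) (.node (nat_lit 0x18d5522252e) (.leaf (nat_lit 0x18d550f50c0) (nat_lit 1282))
 (.leaf (nat_lit 0x18d5522252e) (nat_lit 1539))
)))))) (.node (nat_lit 0x1c21d890b36) (.node (nat_lit 0x1bee0d2ec29) (.node (nat_lit 0x1ba6827a822) (.node (nat_lit 0x1b88bc61a6a) (.node (nat_lit 0x1b823cba1fd) (.node (nat_lit 0x1b81d6b5091) (.leaf (nat_lit 0x1b81d48d337) (nat_lit 1539))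
 (.leaf (nat_lit 0x1b81d6b5091) (nat_lit 1794))
) (.node (nat_lit 0x1b823eb5091) (.leaf (nat_lit 0x1b823cba1fd) (nat_lit 1536))
 (.leaf (nat_lit 0x1b823eb5091) (nat_lit 1795))
)) (.node (nat_lit 0x1b8cf461a6a) (.node (nat_lit 0x1b88bcba1fd) (.leaf (nat_lit 0x1b88bc61a6a) (nat_lit 1792))
 (.leaf (nat_lit 0x1b88bcba1fd) (nat_lit 2050))
) (.node (nat_lit 0x1b8cf48d337) (.leaf (nat_lit 0x1b8cf461a6a) (nat_lit 1793))
 (.leaf (nat_lit 0x1b8cf48d337) (nat_lit 2050))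
))) (.node (nat_lit 0x1ba925909d8) (.node (nat_lit 0x1ba87cad13a) (.node (nat_lit 0x1ba682aeb8a) (.leaf (nat_lit 0x1ba6827a822) (nat_lit 1537))
 (.leaf (nat_lit 0x1ba682aeb8a) (nat_lit 1792))
) (.node (nat_lit 0x1ba87d909d8) (.leaf (nat_lit 0x1ba87cad13a) (nat_lit 1536))
 (.leaf (nat_lit 0x1ba87d909d8) (nat_lit 1280))
)) (.node (nat_lit 0x1baa98ad13a) (.node (nat_lit 0x1ba9267a822) (.leaf (nat_lit 0x1ba925909d8) (nat_lit 1280))
 (.leaf (nat_lit 0x1ba9267a822) (nat_lit 1536))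
) (.node (nat_lit 0x1baa9aaeb8a) (.leaf (nat_lit 0x1baa98ad13a) (nat_lit 1536))
 (.leaf (nat_lit 0x1baa9aaeb8a) (nat_lit 1280))
)))) (.node (nat_lit 0x1c0e152e428) (.node (nat_lit 0x1bf2f058528) (.node (nat_lit 0x1bf1a058528) (.node (nat_lit 0x1bee0e0a4cc) (.leaf (nat_lit 0x1bee0d2ec29) (nat_lit 1793))
 (.leaf (nat_lit 0x1bee0e0a4cc) (nat_lit 2049))
) (.node (nat_lit 0x1bf1a12ec29) (.leaf (nat_lit 0x1bf1a058528) (nat_lit 1539))
 (.leaf (nat_lit 0x1bf1a12ec29) (nat_lit 1795))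
)) (.node (nat_lit 0x1bf43e0a4cc) (.node (nat_lit 0x1bf2f268b28) (.leaf (nat_lit 0x1bf2f058528) (nat_lit 2049))
 (.leaf (nat_lit 0x1bf2f268b28) (nat_lit 1281))
) (.node (nat_lit 0x1bf43e68b28) (.leaf (nat_lit 0x1bf43e0a4cc) (nat_lit 2049))
 (.leaf (nat_lit 0x1bf43e68b28) (nat_lit 1283))
))) (.node (nat_lit 0x1c12f457d29) (.node (nat_lit 0x1c11b457d29) (.node (nat_lit 0x1c0e160acca) (.leaf (nat_lit 0x1c0e152e428) (nat_lit 1792))
 (.leaf (nat_lit 0x1c0e160acca) (nat_lit 1537))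
) (.node (nat_lit 0x1c11b52e428) (.leaf (nat_lit 0x1c11b457d29) (nat_lit 1537))
 (.leaf (nat_lit 0x1c11b52e428) (nat_lit 1793))
)) (.node (nat_lit 0x1c143a0acca) (.node (nat_lit 0x1c12f668327) (.leaf (nat_lit 0x1c12f457d29) (nat_lit 2049))
 (.leaf (nat_lit 0x1c12f668327) (nat_lit 1795))
) (.node (nat_lit 0x1c143a68327) (.leaf (nat_lit 0x1c143a0acca) (nat_lit 1537))
 (.leaf (nat_lit 0x1c143a68327) (nat_lit 1795))
))))) (.node (nat_lit 0x1ce1763504f) (.node (nat_lit 0x1c86867a021) (.node (nat_lit 0x1c28c460a6b) (.node (nat_lit 0x1c2238bd1fc) (.node (nat_lit 0x1c21dab6892) (.leaf (nat_lit 0x1c21d890b36) (nat_lit 1538))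
 (.leaf (nat_lit 0x1c21dab6892) (nat_lit 1792))
) (.node (nat_lit 0x1c223ab6892) (.leaf (nat_lit 0x1c2238bd1fc) (nat_lit 2048))
 (.leaf (nat_lit 0x1c223ab6892) (nat_lit 1795))
)) (.node (nat_lit 0x1c2cfc60a6b) (.node (nat_lit 0x1c28c4bd1fc) (.leaf (nat_lit 0x1c28c460a6b) (nat_lit 1793))
 (.leaf (nat_lit 0x1c28c4bd1fc) (nat_lit 2049))
) (.node (nat_lit 0x1c2cfc90b36) (.leaf (nat_lit 0x1c2cfc60a6b) (nat_lit 1795))
 (.leaf (nat_lit 0x1c2cfc90b36) (nat_lit 1539))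
))) (.node (nat_lit 0x1c892d901d9) (.node (nat_lit 0x1c8880ad93b) (.node (nat_lit 0x1c8686ae37c) (.leaf (nat_lit 0x1c86867a021) (nat_lit 1538))
 (.leaf (nat_lit 0x1c8686ae37c) (nat_lit 1792))
) (.node (nat_lit 0x1c8881901d9) (.leaf (nat_lit 0x1c8880ad93b) (nat_lit 1024))
 (.leaf (nat_lit 0x1c8881901d9) (nat_lit 1792))
)) (.node (nat_lit 0x1c8a9cad93b) (.node (nat_lit 0x1c892e7a021) (.leaf (nat_lit 0x1c892d901d9) (nat_lit 1281))
 (.leaf (nat_lit 0x1c892e7a021) (nat_lit 1536))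
) (.node (nat_lit 0x1c8a9eae37c) (.leaf (nat_lit 0x1c8a9cad93b) (nat_lit 1539))
 (.leaf (nat_lit 0x1c8a9eae37c) (nat_lit 1794))
)))) (.node (nat_lit 0x1d817a34851) (.node (nat_lit 0x1ced209f31f) (.node (nat_lit 0x1ceb049f31f) (.node (nat_lit 0x1ce1769ed2d) (.leaf (nat_lit 0x1ce1763504f) (nat_lit 1795))
 (.leaf (nat_lit 0x1ce1769ed2d) (nat_lit 1539))
) (.node (nat_lit 0x1ceb069ed2d) (.leaf (nat_lit 0x1ceb049f31f) (nat_lit 1794))
 (.leaf (nat_lit 0x1ceb069ed2d) (nat_lit 1536))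
)) (.node (nat_lit 0x1cf584a9ad2) (.node (nat_lit 0x1ced20a9ad2) (.leaf (nat_lit 0x1ced209f31f) (nat_lit 1795))
 (.leaf (nat_lit 0x1ced20a9ad2) (nat_lit 1539))
) (.node (nat_lit 0x1cf5863504f) (.leaf (nat_lit 0x1cf584a9ad2) (nat_lit 1538))
 (.leaf (nat_lit 0x1cf5863504f) (nat_lit 1793))
))) (.node (nat_lit 0x1d8d24a131d) (.node (nat_lit 0x1d8acca131d) (.node (nat_lit 0x1d817a9e52c) (.leaf (nat_lit 0x1d817a34851) (nat_lit 1794))
 (.leaf (nat_lit 0x1d817a9e52c) (nat_lit 1537))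
) (.node (nat_lit 0x1d8ace9e52c) (.leaf (nat_lit 0x1d8acca131d) (nat_lit 1794))
 (.leaf (nat_lit 0x1d8ace9e52c) (nat_lit 2051))
)) (.node (nat_lit 0x1d957ca8ad1) (.node (nat_lit 0x1d8d24a8ad1) (.leaf (nat_lit 0x1d8d24a131d) (nat_lit 1795))
 (.leaf (nat_lit 0x1d8d24a8ad1) (nat_lit 1539))
) (.node (nat_lit 0x1d957e34851) (.leaf (nat_lit 0x1d957ca8ad1) (nat_lit 1539))
 (.leaf (nat_lit 0x1d957e34851) (nat_lit 1283))
))))))) (.node (nat_lit 0x2782601231c) (.node (nat_lit 0x25460214a5d) (.node (nat_lit 0x244ebd8e942) (.node (nat_lit 0x20c1d48d337) (.node (nat_lit 0x20a8c400019) (.node (nat_lit 0x20a238bd1fc) (.node (nat_lit 0x20a1da5d04b) (.leaf (nat_lit 0x20a1d890b36) (nat_lit 1537))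
 (.leaf (nat_lit 0x20a1da5d04b) (nat_lit 1795))
) (.node (nat_lit 0x20a23a5d04b) (.leaf (nat_lit 0x20a238bd1fc) (nat_lit 2048))
 (.leaf (nat_lit 0x20a23a5d04b) (nat_lit 1793))
)) (.node (nat_lit 0x20acfc00019) (.node (nat_lit 0x20a8c4bd1fc) (.leaf (nat_lit 0x20a8c400019) (nat_lit 1795))
 (.leaf (nat_lit 0x20a8c4bd1fc) (nat_lit 1026))
) (.node (nat_lit 0x20acfc90b36) (.leaf (nat_lit 0x20acfc00019) (nat_lit 1281))
 (.leaf (nat_lit 0x20acfc90b36) (nat_lit 2050))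
))) (.node (nat_lit 0x20c8bc8981b) (.node (nat_lit 0x20c23cba1fd) (.node (nat_lit 0x20c1d65c04c) (.leaf (nat_lit 0x20c1d48d337) (nat_lit 1538))
 (.leaf (nat_lit 0x20c1d65c04c) (nat_lit 1795))
) (.node (nat_lit 0x20c23e5c04c) (.leaf (nat_lit 0x20c23cba1fd) (nat_lit 1539))
 (.leaf (nat_lit 0x20c23e5c04c) (nat_lit 1282))
)) (.node (nat_lit 0x20ccf48981b) (.node (nat_lit 0x20c8bcba1fd) (.leaf (nat_lit 0x20c8bc8981b) (nat_lit 1280))
 (.leaf (nat_lit 0x20c8bcba1fd) (nat_lit 1537))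
) (.node (nat_lit 0x20ccf48d337) (.leaf (nat_lit 0x20ccf48981b) (nat_lit 1792))
 (.leaf (nat_lit 0x20ccf48d337) (nat_lit 1536))
)))) (.node (nat_lit 0x246eb98f93e) (.node (nat_lit 0x2450c028c69) (.node (nat_lit 0x244eec28c69) (.node (nat_lit 0x244ebd914f9) (.leaf (nat_lit 0x244ebd8e942) (nat_lit 1025))
 (.leaf (nat_lit 0x244ebd914f9) (nat_lit 768))
) (.node (nat_lit 0x244eed914f9) (.leaf (nat_lit 0x244eec28c69) (nat_lit 1026))
 (.leaf (nat_lit 0x244eed914f9) (nat_lit 1280))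
)) (.node (nat_lit 0x2451618e942) (.node (nat_lit 0x2450c296d3d) (.leaf (nat_lit 0x2450c028c69) (nat_lit 1537))
 (.leaf (nat_lit 0x2450c296d3d) (nat_lit 768))
) (.node (nat_lit 0x24516296d3d) (.leaf (nat_lit 0x2451618e942) (nat_lit 1536))
 (.leaf (nat_lit 0x24516296d3d) (nat_lit 1280))
))) (.node (nat_lit 0x2470bc27c6a) (.node (nat_lit 0x246ee027c6a) (.node (nat_lit 0x246eb991cf8) (.leaf (nat_lit 0x246eb98f93e) (nat_lit 1537))
 (.leaf (nat_lit 0x246eb991cf8) (nat_lit 1792))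
) (.node (nat_lit 0x246ee191cf8) (.leaf (nat_lit 0x246ee027c6a) (nat_lit 1536))
 (.leaf (nat_lit 0x246ee191cf8) (nat_lit 1283))
)) (.node (nat_lit 0x2471758f93e) (.node (nat_lit 0x2470be9653c) (.leaf (nat_lit 0x2470bc27c6a) (nat_lit 1538))
 (.leaf (nat_lit 0x2470be9653c) (nat_lit 1792))
) (.node (nat_lit 0x2471769653c) (.leaf (nat_lit 0x2471758f93e) (nat_lit 1539))
 (.leaf (nat_lit 0x2471769653c) (nat_lit 256))
))))) (.node (nat_lit 0x260d2c7db7b) (.node (nat_lit 0x2566061425c) (.node (nat_lit 0x254dbe14a5d) (.node (nat_lit 0x254b1a04b1b) (.node (nat_lit 0x25460265415) (.leaf (nat_lit 0x25460214a5d) (nat_lit 1025))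
 (.leaf (nat_lit 0x25460265415) (nat_lit 1282))
) (.node (nat_lit 0x254b1a65415) (.leaf (nat_lit 0x254b1a04b1b) (nat_lit 1537))
 (.leaf (nat_lit 0x254b1a65415) (nat_lit 768))
)) (.node (nat_lit 0x2552ba04b1b) (.node (nat_lit 0x254dbe948af) (.leaf (nat_lit 0x254dbe14a5d) (nat_lit 1025))
 (.leaf (nat_lit 0x254dbe948af) (nat_lit 1280))
) (.node (nat_lit 0x2552ba948af) (.leaf (nat_lit 0x2552ba04b1b) (nat_lit 1538))
 (.leaf (nat_lit 0x2552ba948af) (nat_lit 1281))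
))) (.node (nat_lit 0x256dba1425c) (.node (nat_lit 0x256b1e0431a) (.node (nat_lit 0x25660666414) (.leaf (nat_lit 0x2566061425c) (nat_lit 1537))
 (.leaf (nat_lit 0x25660666414) (nat_lit 1283))
) (.node (nat_lit 0x256b1e66414) (.leaf (nat_lit 0x256b1e0431a) (nat_lit 1537))
 (.leaf (nat_lit 0x256b1e66414) (nat_lit 1280))
)) (.node (nat_lit 0x2572be0431a) (.node (nat_lit 0x256dba940b0) (.leaf (nat_lit 0x256dba1425c) (nat_lit 1026))
 (.leaf (nat_lit 0x256dba940b0) (nat_lit 1280))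
) (.node (nat_lit 0x2572be940b0) (.leaf (nat_lit 0x2572be0431a) (nat_lit 1538))
 (.leaf (nat_lit 0x2572be940b0) (nat_lit 1283))
)))) (.node (nat_lit 0x264d287bb7a) (.node (nat_lit 0x260ec47db7b) (.node (nat_lit 0x260e3669552) (.node (nat_lit 0x260d2eba0b1) (.leaf (nat_lit 0x260d2c7db7b) (nat_lit 1283))
 (.leaf (nat_lit 0x260d2eba0b1) (nat_lit 1538))
) (.node (nat_lit 0x260e36ba0b1) (.leaf (nat_lit 0x260e3669552) (nat_lit 1793))
 (.leaf (nat_lit 0x260e36ba0b1) (nat_lit 1539))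
)) (.node (nat_lit 0x260f19480c8) (.node (nat_lit 0x260ec5480c8) (.leaf (nat_lit 0x260ec47db7b) (nat_lit 1283))
 (.leaf (nat_lit 0x260ec5480c8) (nat_lit 1537))
) (.node (nat_lit 0x260f1a69552) (.leaf (nat_lit 0x260f19480c8) (nat_lit 1538))
 (.leaf (nat_lit 0x260f1a69552) (nat_lit 1795))
))) (.node (nat_lit 0x264ecc7bb7a) (.node (nat_lit 0x264df66a550) (.node (nat_lit 0x264d2aba8b2) (.leaf (nat_lit 0x264d287bb7a) (nat_lit 1792))
 (.leaf (nat_lit 0x264d2aba8b2) (nat_lit 2048))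
) (.node (nat_lit 0x264df6ba8b2) (.leaf (nat_lit 0x264df66a550) (nat_lit 1283))
 (.leaf (nat_lit 0x264df6ba8b2) (nat_lit 1539))
)) (.node (nat_lit 0x264f15460cb) (.node (nat_lit 0x264ecd460cb) (.leaf (nat_lit 0x264ecc7bb7a) (nat_lit 1792))
 (.leaf (nat_lit 0x264ecd460cb) (nat_lit 1539))
) (.node (nat_lit 0x264f166a550) (.leaf (nat_lit 0x264f15460cb) (nat_lit 1537))
 (.leaf (nat_lit 0x264f166a550) (nat_lit 1795))
)))))) (.node (nat_lit 0x28a0e9350c3) (.node (nat_lit 0x27e0e5358c1) (.node (nat_lit 0x27a25c11b1e) (.node (nat_lit 0x2789301231c) (.node (nat_lit 0x2786100d040) (.node (nat_lit 0x27826054310) (.leaf (nat_lit 0x2782601231c) (nat_lit 1538))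
 (.leaf (nat_lit 0x27826054310) (nat_lit 1283))
) (.node (nat_lit 0x278611e4c1c) (.leaf (nat_lit 0x2786100d040) (nat_lit 1539))
 (.leaf (nat_lit 0x278611e4c1c) (nat_lit 1282))
)) (.node (nat_lit 0x2794200d040) (.node (nat_lit 0x278931e4c1c) (.leaf (nat_lit 0x2789301231c) (nat_lit 1025))
 (.leaf (nat_lit 0x278931e4c1c) (nat_lit 771))
) (.node (nat_lit 0x27942054310) (.leaf (nat_lit 0x2794200d040) (nat_lit 1538))
 (.leaf (nat_lit 0x27942054310) (nat_lit 769))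
))) (.node (nat_lit 0x27a93811b1e) (.node (nat_lit 0x27a6140e03f) (.node (nat_lit 0x27a25c5530f) (.leaf (nat_lit 0x27a25c11b1e) (nat_lit 1026))
 (.leaf (nat_lit 0x27a25c5530f) (nat_lit 259))
) (.node (nat_lit 0x27a615e441d) (.leaf (nat_lit 0x27a6140e03f) (nat_lit 1537))
 (.leaf (nat_lit 0x27a615e441d) (nat_lit 1281))
)) (.node (nat_lit 0x27b4240e03f) (.node (nat_lit 0x27a939e441d) (.leaf (nat_lit 0x27a93811b1e) (nat_lit 1538))
 (.leaf (nat_lit 0x27a939e441d) (nat_lit 1282))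
) (.node (nat_lit 0x27b4245530f) (.leaf (nat_lit 0x27b4240e03f) (nat_lit 1539))
 (.leaf (nat_lit 0x27b4245530f) (nat_lit 1282))
)))) (.node (nat_lit 0x28217824b68) (.node (nat_lit 0x27e9a44956d) (.node (nat_lit 0x27e8d04956d) (.node (nat_lit 0x27e0e57f370) (.leaf (nat_lit 0x27e0e5358c1) (nat_lit 1537))
 (.leaf (nat_lit 0x27e0e57f370) (nat_lit 1283))
) (.node (nat_lit 0x27e8d0fe974) (.leaf (nat_lit 0x27e8d04956d) (nat_lit 1026))
 (.leaf (nat_lit 0x27e8d0fe974) (nat_lit 1793))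
)) (.node (nat_lit 0x27eb54fe974) (.node (nat_lit 0x27e9a57f370) (.leaf (nat_lit 0x27e9a44956d) (nat_lit 1025))
 (.leaf (nat_lit 0x27e9a57f370) (nat_lit 1792))
) (.node (nat_lit 0x27eb55358c1) (.leaf (nat_lit 0x27eb54fe974) (nat_lit 1282))
 (.leaf (nat_lit 0x27eb55358c1) (nat_lit 1027))
))) (.node (nat_lit 0x282d24c90d6) (.node (nat_lit 0x282accc90d6) (.node (nat_lit 0x28217a7c323) (.leaf (nat_lit 0x28217824b68) (nat_lit 1795))
 (.leaf (nat_lit 0x28217a7c323) (nat_lit 1539))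
) (.node (nat_lit 0x282ace7c323) (.leaf (nat_lit 0x282accc90d6) (nat_lit 1795))
 (.leaf (nat_lit 0x282ace7c323) (nat_lit 2050))
)) (.node (nat_lit 0x28357c24b68) (.node (nat_lit 0x282d25c6569) (.leaf (nat_lit 0x282d24c90d6) (nat_lit 1795))
 (.leaf (nat_lit 0x282d25c6569) (nat_lit 1539))
) (.node (nat_lit 0x28357dc6569) (.leaf (nat_lit 0x28357c24b68) (nat_lit 1282))
 (.leaf (nat_lit 0x28357dc6569) (nat_lit 1539))
))))) (.node (nat_lit 0x2c8a740c800) (.node (nat_lit 0x29617425369) (.node (nat_lit 0x28a99c48d6a) (.node (nat_lit 0x28a8d448d6a) (.node (nat_lit 0x28a0e97e371) (.leaf (nat_lit 0x28a0e9350c3) (nat_lit 1536))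
 (.leaf (nat_lit 0x28a0e97e371) (nat_lit 1793))
) (.node (nat_lit 0x28a8d4fe17a) (.leaf (nat_lit 0x28a8d448d6a) (nat_lit 514))
 (.leaf (nat_lit 0x28a8d4fe17a) (nat_lit 1795))
)) (.node (nat_lit 0x28ab50fe17a) (.node (nat_lit 0x28a99d7e371) (.leaf (nat_lit 0x28a99c48d6a) (nat_lit 1539))
 (.leaf (nat_lit 0x28a99d7e371) (nat_lit 1795))
) (.node (nat_lit 0x28ab51350c3) (.leaf (nat_lit 0x28ab50fe17a) (nat_lit 1281))
 (.leaf (nat_lit 0x28ab51350c3) (nat_lit 1024))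
))) (.node (nat_lit 0x296d20c30d2) (.node (nat_lit 0x296b04c30d2) (.node (nat_lit 0x2961767cb22) (.leaf (nat_lit 0x29617425369) (nat_lit 1794))
 (.leaf (nat_lit 0x2961767cb22) (nat_lit 1538))
) (.node (nat_lit 0x296b067cb22) (.leaf (nat_lit 0x296b04c30d2) (nat_lit 1795))
 (.leaf (nat_lit 0x296b067cb22) (nat_lit 1536))
)) (.node (nat_lit 0x29758425369) (.node (nat_lit 0x296d21c5d68) (.leaf (nat_lit 0x296d20c30d2) (nat_lit 1794))
 (.leaf (nat_lit 0x296d21c5d68) (nat_lit 1538))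
) (.node (nat_lit 0x297585c5d68) (.leaf (nat_lit 0x29758425369) (nat_lit 1793))
 (.leaf (nat_lit 0x297585c5d68) (nat_lit 1539))
)))) (.node (nat_lit 0x2cea600d913) (.node (nat_lit 0x2c8c59358c1) (.node (nat_lit 0x2c8ae4fe974) (.node (nat_lit 0x2c8a74fe974) (.leaf (nat_lit 0x2c8a740c800) (nat_lit 1539))
 (.leaf (nat_lit 0x2c8a74fe974) (nat_lit 1283))
) (.node (nat_lit 0x2c8ae5358c1) (.leaf (nat_lit 0x2c8ae4fe974) (nat_lit 1793))
 (.leaf (nat_lit 0x2c8ae5358c1) (nat_lit 1539))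
)) (.node (nat_lit 0x2c92c80c800) (.node (nat_lit 0x2c8c599b91a) (.leaf (nat_lit 0x2c8c59358c1) (nat_lit 1538))
 (.leaf (nat_lit 0x2c8c599b91a) (nat_lit 1793))
) (.node (nat_lit 0x2c92c99b91a) (.leaf (nat_lit 0x2c92c80c800) (nat_lit 1539))
 (.leaf (nat_lit 0x2c92c99b91a) (nat_lit 1794))
))) (.node (nat_lit 0x2cec51350c3) (.node (nat_lit 0x2ceaf0fe17a) (.node (nat_lit 0x2cea60fe17a) (.leaf (nat_lit 0x2cea600d913) (nat_lit 1537))
 (.leaf (nat_lit 0x2cea60fe17a) (nat_lit 1283))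
) (.node (nat_lit 0x2ceaf1350c3) (.leaf (nat_lit 0x2ceaf0fe17a) (nat_lit 1281))
 (.leaf (nat_lit 0x2ceaf1350c3) (nat_lit 1027))
)) (.node (nat_lit 0x2cf2c00d913) (.node (nat_lit 0x2cec519b121) (.leaf (nat_lit 0x2cec51350c3) (nat_lit 1027))
 (.leaf (nat_lit 0x2cec519b121) (nat_lit 1280))
) (.node (nat_lit 0x2cf2c19b121) (.leaf (nat_lit 0x2cf2c00d913) (nat_lit 1025))
 (.leaf (nat_lit 0x2cf2c19b121) (nat_lit 1282))
))))))))) (.node (nat_lit 0x46800428139) (.node (nat_lit 0x3e49c459575) (.node (nat_lit 0x37e288438e5) (.node (nat_lit 0x30e1da3bba3) (.node (nat_lit 0x3081ce3dba2) (.node (nat_lit 0x3022368e34e) (.node (nat_lit 0x3007bcac566) (.node (nat_lit 0x3004aa6a550) (.node (nat_lit 0x30022eba8b2) (.leaf (nat_lit 0x30022e8eb50) (nat_lit 1281))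
 (.leaf (nat_lit 0x30022eba8b2) (nat_lit 1539))
) (.node (nat_lit 0x3004aaba8b2) (.leaf (nat_lit 0x3004aa6a550) (nat_lit 1283))
 (.leaf (nat_lit 0x3004aaba8b2) (nat_lit 1539))
)) (.node (nat_lit 0x300d48ac566) (.node (nat_lit 0x3007be8eb50) (.leaf (nat_lit 0x3007bcac566) (nat_lit 1026))
 (.leaf (nat_lit 0x3007be8eb50) (nat_lit 1283))
) (.node (nat_lit 0x300d4a6a550) (.leaf (nat_lit 0x300d48ac566) (nat_lit 1539))
 (.leaf (nat_lit 0x300d4a6a550) (nat_lit 1282))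
))) (.node (nat_lit 0x3027b8ae567) (.node (nat_lit 0x3024ae69552) (.node (nat_lit 0x302236ba0b1) (.leaf (nat_lit 0x3022368e34e) (nat_lit 1794))
 (.leaf (nat_lit 0x302236ba0b1) (nat_lit 1538))
) (.node (nat_lit 0x3024aeba0b1) (.leaf (nat_lit 0x3024ae69552) (nat_lit 1793))
 (.leaf (nat_lit 0x3024aeba0b1) (nat_lit 1538))
)) (.node (nat_lit 0x302d4cae567) (.node (nat_lit 0x3027ba8e34e) (.leaf (nat_lit 0x3027b8ae567) (nat_lit 1537))
 (.leaf (nat_lit 0x3027ba8e34e) (nat_lit 1792))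
) (.node (nat_lit 0x302d4e69552) (.leaf (nat_lit 0x302d4cae567) (nat_lit 1536))
 (.leaf (nat_lit 0x302d4e69552) (nat_lit 1281))
)))) (.node (nat_lit 0x30a1ca3bba3) (.node (nat_lit 0x30902a3dba2) (.node (nat_lit 0x3084f08d337) (.node (nat_lit 0x3081ceb5091) (.leaf (nat_lit 0x3081ce3dba2) (nat_lit 1537))
 (.leaf (nat_lit 0x3081ceb5091) (nat_lit 1792))
) (.node (nat_lit 0x3084f2b5091) (.leaf (nat_lit 0x3084f08d337) (nat_lit 1536))
 (.leaf (nat_lit 0x3084f2b5091) (nat_lit 1794))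
)) (.node (nat_lit 0x30913c8d337) (.node (nat_lit 0x30902a5c04c) (.leaf (nat_lit 0x30902a3dba2) (nat_lit 1538))
 (.leaf (nat_lit 0x30902a5c04c) (nat_lit 1792))
) (.node (nat_lit 0x30913e5c04c) (.leaf (nat_lit 0x30913c8d337) (nat_lit 1537))
 (.leaf (nat_lit 0x30913e5c04c) (nat_lit 1795))
))) (.node (nat_lit 0x30b0323bba3) (.node (nat_lit 0x30a4f490b36) (.node (nat_lit 0x30a1cab6892) (.leaf (nat_lit 0x30a1ca3bba3) (nat_lit 1024))
 (.leaf (nat_lit 0x30a1cab6892) (nat_lit 1795))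
) (.node (nat_lit 0x30a4f6b6892) (.leaf (nat_lit 0x30a4f490b36) (nat_lit 2051))
 (.leaf (nat_lit 0x30a4f6b6892) (nat_lit 1792))
)) (.node (nat_lit 0x30b13890b36) (.node (nat_lit 0x30b0325d04b) (.leaf (nat_lit 0x30b0323bba3) (nat_lit 2049))
 (.leaf (nat_lit 0x30b0325d04b) (nat_lit 1280))
) (.node (nat_lit 0x30b13a5d04b) (.leaf (nat_lit 0x30b13890b36) (nat_lit 1539))
 (.leaf (nat_lit 0x30b13a5d04b) (nat_lit 1794))
))))) (.node (nat_lit 0x340374a131d) (.node (nat_lit 0x3101d63dba2) (.node (nat_lit 0x30e8c400019) (.node (nat_lit 0x30e239b8afc) (.node (nat_lit 0x30e1da5d04b) (.leaf (nat_lit 0x30e1da3bba3) (nat_lit 1538))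
 (.leaf (nat_lit 0x30e1da5d04b) (nat_lit 1792))
) (.node (nat_lit 0x30e23a5d04b) (.leaf (nat_lit 0x30e239b8afc) (nat_lit 1538))
 (.leaf (nat_lit 0x30e23a5d04b) (nat_lit 1793))
)) (.node (nat_lit 0x30ecfc00019) (.node (nat_lit 0x30e8c5b8afc) (.leaf (nat_lit 0x30e8c400019) (nat_lit 1793))
 (.leaf (nat_lit 0x30e8c5b8afc) (nat_lit 2048))
) (.node (nat_lit 0x30ecfe3bba3) (.leaf (nat_lit 0x30ecfc00019) (nat_lit 1794))
 (.leaf (nat_lit 0x30ecfe3bba3) (nat_lit 2048))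
))) (.node (nat_lit 0x3108bc8981b) (.node (nat_lit 0x31023db82fe) (.node (nat_lit 0x3101d65c04c) (.leaf (nat_lit 0x3101d63dba2) (nat_lit 2051))
 (.leaf (nat_lit 0x3101d65c04c) (nat_lit 1280))
) (.node (nat_lit 0x31023e5c04c) (.leaf (nat_lit 0x31023db82fe) (nat_lit 1536))
 (.leaf (nat_lit 0x31023e5c04c) (nat_lit 1280))
)) (.node (nat_lit 0x310cf48981b) (.node (nat_lit 0x3108bdb82fe) (.leaf (nat_lit 0x3108bc8981b) (nat_lit 1795))
 (.leaf (nat_lit 0x3108bdb82fe) (nat_lit 1537))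
) (.node (nat_lit 0x310cf63dba2) (.leaf (nat_lit 0x310cf48981b) (nat_lit 1795))
 (.leaf (nat_lit 0x310cf63dba2) (nat_lit 2048))
)))) (.node (nat_lit 0x3423909f31f) (.node (nat_lit 0x340c24a8ad1) (.node (nat_lit 0x34091ca131d) (.node (nat_lit 0x340375c6569) (.leaf (nat_lit 0x340374a131d) (nat_lit 1282))
 (.leaf (nat_lit 0x340375c6569) (nat_lit 1539))
) (.node (nat_lit 0x34091ca8ad1) (.leaf (nat_lit 0x34091ca131d) (nat_lit 1792))
 (.leaf (nat_lit 0x34091ca8ad1) (nat_lit 1537))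
)) (.node (nat_lit 0x340c34c90d6) (.node (nat_lit 0x340c24c90d6) (.leaf (nat_lit 0x340c24a8ad1) (nat_lit 2049))
 (.leaf (nat_lit 0x340c24c90d6) (nat_lit 1283))
) (.node (nat_lit 0x340c35c6569) (.leaf (nat_lit 0x340c34c90d6) (nat_lit 1792))
 (.leaf (nat_lit 0x340c35c6569) (nat_lit 1027))
))) (.node (nat_lit 0x342c30c30d2) (.node (nat_lit 0x3429189f31f) (.node (nat_lit 0x342391c5d68) (.leaf (nat_lit 0x3423909f31f) (nat_lit 1281))
 (.leaf (nat_lit 0x342391c5d68) (nat_lit 1539))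
) (.node (nat_lit 0x342918a9ad2) (.leaf (nat_lit 0x3429189f31f) (nat_lit 1795))
 (.leaf (nat_lit 0x342918a9ad2) (nat_lit 1538))
)) (.node (nat_lit 0x342c38a9ad2) (.node (nat_lit 0x342c31c5d68) (.leaf (nat_lit 0x342c30c30d2) (nat_lit 1794))
 (.leaf (nat_lit 0x342c31c5d68) (nat_lit 1539))
) (.node (nat_lit 0x342c38c30d2) (.leaf (nat_lit 0x342c38a9ad2) (nat_lit 1539))
 (.leaf (nat_lit 0x342c38c30d2) (nat_lit 1281))
)))))) (.node (nat_lit 0x3c08081aa62) (.node (nat_lit 0x3b419477086) (.node (nat_lit 0x38a284440e6) (.node (nat_lit 0x37f2ac4856c) (.node (nat_lit 0x37f06c438e5) (.node (nat_lit 0x37e2884856c) (.leaf (nat_lit 0x37e288438e5) (nat_lit 1281))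
 (.leaf (nat_lit 0x37e2884856c) (nat_lit 2051))
) (.node (nat_lit 0x37f06cf5c39) (.leaf (nat_lit 0x37f06c438e5) (nat_lit 1283))
 (.leaf (nat_lit 0x37f06cf5c39) (nat_lit 1537))
)) (.node (nat_lit 0x37f518f5c39) (.node (nat_lit 0x37f2ad1c90b) (.leaf (nat_lit 0x37f2ac4856c) (nat_lit 2048))
 (.leaf (nat_lit 0x37f2ad1c90b) (nat_lit 1795))
) (.node (nat_lit 0x37f5191c90b) (.leaf (nat_lit 0x37f518f5c39) (nat_lit 1536))
 (.leaf (nat_lit 0x37f5191c90b) (nat_lit 1280))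
))) (.node (nat_lit 0x38b29c44d6b) (.node (nat_lit 0x38b068440e6) (.node (nat_lit 0x38a28444d6b) (.leaf (nat_lit 0x38a284440e6) (nat_lit 1282))
 (.leaf (nat_lit 0x38a28444d6b) (nat_lit 2049))
) (.node (nat_lit 0x38b068f643a) (.leaf (nat_lit 0x38b068440e6) (nat_lit 1792))
 (.leaf (nat_lit 0x38b068f643a) (nat_lit 1536))
)) (.node (nat_lit 0x38b51cf643a) (.node (nat_lit 0x38b29d1c10d) (.leaf (nat_lit 0x38b29c44d6b) (nat_lit 1536))
 (.leaf (nat_lit 0x38b29d1c10d) (nat_lit 1793))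
) (.node (nat_lit 0x38b51d1c10d) (.leaf (nat_lit 0x38b51cf643a) (nat_lit 2051))
 (.leaf (nat_lit 0x38b51d1c10d) (nat_lit 1792))
)))) (.node (nat_lit 0x3b81a876885) (.node (nat_lit 0x3b53684d03d) (.node (nat_lit 0x3b4964f643a) (.node (nat_lit 0x3b4194f643a) (.leaf (nat_lit 0x3b419477086) (nat_lit 1793))
 (.leaf (nat_lit 0x3b4194f643a) (nat_lit 1536))
) (.node (nat_lit 0x3b49651c10d) (.leaf (nat_lit 0x3b4964f643a) (nat_lit 2049))
 (.leaf (nat_lit 0x3b49651c10d) (nat_lit 1792))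
)) (.node (nat_lit 0x3b53904d03d) (.node (nat_lit 0x3b536877086) (.leaf (nat_lit 0x3b53684d03d) (nat_lit 1539))
 (.leaf (nat_lit 0x3b536877086) (nat_lit 1280))
) (.node (nat_lit 0x3b53911c10d) (.leaf (nat_lit 0x3b53904d03d) (nat_lit 1539))
 (.leaf (nat_lit 0x3b53911c10d) (nat_lit 1792))
))) (.node (nat_lit 0x3b936c4e03e) (.node (nat_lit 0x3b8968f5c39) (.node (nat_lit 0x3b81a8f5c39) (.leaf (nat_lit 0x3b81a876885) (nat_lit 1793))
 (.leaf (nat_lit 0x3b81a8f5c39) (nat_lit 1536))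
) (.node (nat_lit 0x3b89691c90b) (.leaf (nat_lit 0x3b8968f5c39) (nat_lit 1539))
 (.leaf (nat_lit 0x3b89691c90b) (nat_lit 1792))
)) (.node (nat_lit 0x3b93944e03e) (.node (nat_lit 0x3b936c76885) (.leaf (nat_lit 0x3b936c4e03e) (nat_lit 1538))
 (.leaf (nat_lit 0x3b936c76885) (nat_lit 1281))
) (.node (nat_lit 0x3b93951c90b) (.leaf (nat_lit 0x3b93944e03e) (nat_lit 2050))
 (.leaf (nat_lit 0x3b93951c90b) (nat_lit 1795))
))))) (.node (nat_lit 0x3dc60429a92) (.node (nat_lit 0x3c280019a60) (.node (nat_lit 0x3c0a381aa62) (.node (nat_lit 0x3c0a208491f) (.node (nat_lit 0x3c08082c8e8) (.leaf (nat_lit 0x3c08081aa62) (nat_lit 1794))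
 (.leaf (nat_lit 0x3c08082c8e8) (nat_lit 1537))
) (.node (nat_lit 0x3c0a20a24f3) (.leaf (nat_lit 0x3c0a208491f) (nat_lit 1792))
 (.leaf (nat_lit 0x3c0a20a24f3) (nat_lit 1536))
)) (.node (nat_lit 0x3c134c2c8e8) (.node (nat_lit 0x3c0a38a24f3) (.leaf (nat_lit 0x3c0a381aa62) (nat_lit 1795))
 (.leaf (nat_lit 0x3c0a38a24f3) (nat_lit 1536))
) (.node (nat_lit 0x3c134c8491f) (.leaf (nat_lit 0x3c134c2c8e8) (nat_lit 2048))
 (.leaf (nat_lit 0x3c134c8491f) (nat_lit 1280))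
))) (.node (nat_lit 0x3c2a3c19a60) (.node (nat_lit 0x3c29f485120) (.node (nat_lit 0x3c28002d0ea) (.leaf (nat_lit 0x3c280019a60) (nat_lit 1794))
 (.leaf (nat_lit 0x3c28002d0ea) (nat_lit 1539))
) (.node (nat_lit 0x3c29f4a1cf2) (.leaf (nat_lit 0x3c29f485120) (nat_lit 1794))
 (.leaf (nat_lit 0x3c29f4a1cf2) (nat_lit 2051))
)) (.node (nat_lit 0x3c335c2d0ea) (.node (nat_lit 0x3c2a3ca1cf2) (.leaf (nat_lit 0x3c2a3c19a60) (nat_lit 1793))
 (.leaf (nat_lit 0x3c2a3ca1cf2) (nat_lit 1539))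
) (.node (nat_lit 0x3c335c85120) (.leaf (nat_lit 0x3c335c2d0ea) (nat_lit 1024))
 (.leaf (nat_lit 0x3c335c85120) (nat_lit 2304))
)))) (.node (nat_lit 0x3de6002a291) (.node (nat_lit 0x3dcdb864d77) (.node (nat_lit 0x3dcb1c29a92) (.node (nat_lit 0x3dc60593cd0) (.leaf (nat_lit 0x3dc60429a92) (nat_lit 1282))
 (.leaf (nat_lit 0x3dc60593cd0) (nat_lit 1026))
) (.node (nat_lit 0x3dcb1df051f) (.leaf (nat_lit 0x3dcb1c29a92) (nat_lit 1793))
 (.leaf (nat_lit 0x3dcb1df051f) (nat_lit 1025))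
)) (.node (nat_lit 0x3dd2bc64d77) (.node (nat_lit 0x3dcdb993cd0) (.leaf (nat_lit 0x3dcdb864d77) (nat_lit 1280))
 (.leaf (nat_lit 0x3dcdb993cd0) (nat_lit 1537))
) (.node (nat_lit 0x3dd2bdf051f) (.leaf (nat_lit 0x3dd2bc64d77) (nat_lit 768))
 (.leaf (nat_lit 0x3dd2bdf051f) (nat_lit 1026))
))) (.node (nat_lit 0x3dedbc65576) (.node (nat_lit 0x3deb182a291) (.node (nat_lit 0x3de601944d1) (.leaf (nat_lit 0x3de6002a291) (nat_lit 1283))
 (.leaf (nat_lit 0x3de601944d1) (nat_lit 1536))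
) (.node (nat_lit 0x3deb19f1523) (.leaf (nat_lit 0x3deb182a291) (nat_lit 1280))
 (.leaf (nat_lit 0x3deb19f1523) (nat_lit 514))
)) (.node (nat_lit 0x3df2b865576) (.node (nat_lit 0x3dedbd944d1) (.leaf (nat_lit 0x3dedbc65576) (nat_lit 1280))
 (.leaf (nat_lit 0x3dedbd944d1) (nat_lit 1539))
) (.node (nat_lit 0x3df2b9f1523) (.leaf (nat_lit 0x3df2b865576) (nat_lit 1281))
 (.leaf (nat_lit 0x3df2b9f1523) (nat_lit 1537))
))))))) (.node (nat_lit 0x43e37634851) (.node (nat_lit 0x410a60264b8) (.node (nat_lit 0x4007841f09c) (.node (nat_lit 0x3ea9c858d74) (.node (nat_lit 0x3e4ff059575) (.node (nat_lit 0x3e4dfc65a8c) (.node (nat_lit 0x3e49c510a56) (.leaf (nat_lit 0x3e49c459575) (nat_lit 1282))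
 (.leaf (nat_lit 0x3e49c510a56) (nat_lit 1539))
) (.node (nat_lit 0x3e4dfd10a56) (.leaf (nat_lit 0x3e4dfc65a8c) (nat_lit 1280))
 (.leaf (nat_lit 0x3e4dfd10a56) (nat_lit 1536))
)) (.node (nat_lit 0x3e54fc65a8c) (.node (nat_lit 0x3e4ff1bd8fb) (.leaf (nat_lit 0x3e4ff059575) (nat_lit 1794))
 (.leaf (nat_lit 0x3e4ff1bd8fb) (nat_lit 1536))
) (.node (nat_lit 0x3e54fdbd8fb) (.leaf (nat_lit 0x3e54fc65a8c) (nat_lit 1282))
 (.leaf (nat_lit 0x3e54fdbd8fb) (nat_lit 1536))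
))) (.node (nat_lit 0x3eafec58d74) (.node (nat_lit 0x3eae0464290) (.node (nat_lit 0x3ea9c90ea57) (.leaf (nat_lit 0x3ea9c858d74) (nat_lit 1792))
 (.leaf (nat_lit 0x3ea9c90ea57) (nat_lit 1536))
) (.node (nat_lit 0x3eae050ea57) (.leaf (nat_lit 0x3eae0464290) (nat_lit 1793))
 (.leaf (nat_lit 0x3eae050ea57) (nat_lit 1539))
)) (.node (nat_lit 0x3eb4f864290) (.node (nat_lit 0x3eafedbd0f7) (.leaf (nat_lit 0x3eafec58d74) (nat_lit 1792))
 (.leaf (nat_lit 0x3eafedbd0f7) (nat_lit 1537))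
) (.node (nat_lit 0x3eb4f9bd0f7) (.leaf (nat_lit 0x3eb4f864290) (nat_lit 1792))
 (.leaf (nat_lit 0x3eb4f9bd0f7) (nat_lit 1537))
)))) (.node (nat_lit 0x4047801e89a) (.node (nat_lit 0x400f701f09c) (.node (nat_lit 0x400e7c73088) (.node (nat_lit 0x4007842b878) (.leaf (nat_lit 0x4007841f09c) (nat_lit 1283))
 (.leaf (nat_lit 0x4007842b878) (nat_lit 1536))
) (.node (nat_lit 0x400e7e73c53) (.leaf (nat_lit 0x400e7c73088) (nat_lit 1538))
 (.leaf (nat_lit 0x400e7e73c53) (nat_lit 1282))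
)) (.node (nat_lit 0x4010982b878) (.node (nat_lit 0x400f7073088) (.leaf (nat_lit 0x400f701f09c) (nat_lit 1281))
 (.leaf (nat_lit 0x400f7073088) (nat_lit 1539))
) (.node (nat_lit 0x40109a73c53) (.leaf (nat_lit 0x4010982b878) (nat_lit 1537))
 (.leaf (nat_lit 0x40109a73c53) (nat_lit 1283))
))) (.node (nat_lit 0x404f681e89a) (.node (nat_lit 0x404e6c72887) (.node (nat_lit 0x4047802a877) (.leaf (nat_lit 0x4047801e89a) (nat_lit 769))
 (.leaf (nat_lit 0x4047802a877) (nat_lit 1536))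
) (.node (nat_lit 0x404e6e74c52) (.leaf (nat_lit 0x404e6c72887) (nat_lit 1536))
 (.leaf (nat_lit 0x404e6e74c52) (nat_lit 1283))
)) (.node (nat_lit 0x40509c2a877) (.node (nat_lit 0x404f6872887) (.leaf (nat_lit 0x404f681e89a) (nat_lit 770))
 (.leaf (nat_lit 0x404f6872887) (nat_lit 1537))
) (.node (nat_lit 0x40509e74c52) (.leaf (nat_lit 0x40509c2a877) (nat_lit 1026))
 (.leaf (nat_lit 0x40509e74c52) (nat_lit 771))
))))) (.node (nat_lit 0x426a60264b8) (.node (nat_lit 0x412a7425cba) (.node (nat_lit 0x410c5048d6a) (.node (nat_lit 0x410af048d6a) (.node (nat_lit 0x410a60fe17a) (.leaf (nat_lit 0x410a60264b8) (nat_lit 1025))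
 (.leaf (nat_lit 0x410a60fe17a) (nat_lit 1792))
) (.node (nat_lit 0x410af0fe17a) (.leaf (nat_lit 0x410af048d6a) (nat_lit 1026))
 (.leaf (nat_lit 0x410af0fe17a) (nat_lit 1280))
)) (.node (nat_lit 0x4112c0264b8) (.node (nat_lit 0x410c519b121) (.leaf (nat_lit 0x410c5048d6a) (nat_lit 1026))
 (.leaf (nat_lit 0x410c519b121) (nat_lit 1281))
) (.node (nat_lit 0x4112c19b121) (.leaf (nat_lit 0x4112c0264b8) (nat_lit 1026))
 (.leaf (nat_lit 0x4112c19b121) (nat_lit 1283))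
))) (.node (nat_lit 0x412c584956d) (.node (nat_lit 0x412ae44956d) (.node (nat_lit 0x412a74fe974) (.leaf (nat_lit 0x412a7425cba) (nat_lit 1537))
 (.leaf (nat_lit 0x412a74fe974) (nat_lit 768))
) (.node (nat_lit 0x412ae4fe974) (.leaf (nat_lit 0x412ae44956d) (nat_lit 1537))
 (.leaf (nat_lit 0x412ae4fe974) (nat_lit 1280))
)) (.node (nat_lit 0x4132c825cba) (.node (nat_lit 0x412c599b91a) (.leaf (nat_lit 0x412c584956d) (nat_lit 1539))
 (.leaf (nat_lit 0x412c599b91a) (nat_lit 1280))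
) (.node (nat_lit 0x4132c99b91a) (.leaf (nat_lit 0x4132c825cba) (nat_lit 1537))
 (.leaf (nat_lit 0x4132c99b91a) (nat_lit 1795))
)))) (.node (nat_lit 0x42aa7425cba) (.node (nat_lit 0x426c5048d6a) (.node (nat_lit 0x426af048d6a) (.node (nat_lit 0x426a617e371) (.leaf (nat_lit 0x426a60264b8) (nat_lit 1026))
 (.leaf (nat_lit 0x426a617e371) (nat_lit 1281))
) (.node (nat_lit 0x426af17e371) (.leaf (nat_lit 0x426af048d6a) (nat_lit 1027))
 (.leaf (nat_lit 0x426af17e371) (nat_lit 1281))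
)) (.node (nat_lit 0x4272c0264b8) (.node (nat_lit 0x426c51d1c77) (.leaf (nat_lit 0x426c5048d6a) (nat_lit 1536))
 (.leaf (nat_lit 0x426c51d1c77) (nat_lit 1794))
) (.node (nat_lit 0x4272c1d1c77) (.leaf (nat_lit 0x4272c0264b8) (nat_lit 1027))
 (.leaf (nat_lit 0x4272c1d1c77) (nat_lit 1281))
))) (.node (nat_lit 0x42ac584956d) (.node (nat_lit 0x42aae44956d) (.node (nat_lit 0x42aa757f370) (.leaf (nat_lit 0x42aa7425cba) (nat_lit 515))
 (.leaf (nat_lit 0x42aa757f370) (nat_lit 1283))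
) (.node (nat_lit 0x42aae57f370) (.leaf (nat_lit 0x42aae44956d) (nat_lit 1538))
 (.leaf (nat_lit 0x42aae57f370) (nat_lit 1280))
)) (.node (nat_lit 0x42b2c825cba) (.node (nat_lit 0x42ac59d147b) (.leaf (nat_lit 0x42ac584956d) (nat_lit 1536))
 (.leaf (nat_lit 0x42ac59d147b) (nat_lit 1793))
) (.node (nat_lit 0x42b2c9d147b) (.leaf (nat_lit 0x42b2c825cba) (nat_lit 1539))
 (.leaf (nat_lit 0x42b2c9d147b) (nat_lit 1282))
)))))) (.node (nat_lit 0x4581943c057) (.node (nat_lit 0x44a9e01aa62) (.node (nat_lit 0x4403923504f) (.node (nat_lit 0x43ec2424b68) (.node (nat_lit 0x43e91e34851) (.node (nat_lit 0x43e3767c323) (.leaf (nat_lit 0x43e37634851) (nat_lit 1283))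
 (.leaf (nat_lit 0x43e3767c323) (nat_lit 1539))
) (.node (nat_lit 0x43e91e9e52c) (.leaf (nat_lit 0x43e91e34851) (nat_lit 1795))
 (.leaf (nat_lit 0x43e91e9e52c) (nat_lit 1536))
)) (.node (nat_lit 0x43ec3424b68) (.node (nat_lit 0x43ec269e52c) (.leaf (nat_lit 0x43ec2424b68) (nat_lit 1282))
 (.leaf (nat_lit 0x43ec269e52c) (nat_lit 1538))
) (.node (nat_lit 0x43ec367c323) (.leaf (nat_lit 0x43ec3424b68) (nat_lit 1283))
 (.leaf (nat_lit 0x43ec367c323) (nat_lit 1537))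
))) (.node (nat_lit 0x440c3025369) (.node (nat_lit 0x44091a3504f) (.node (nat_lit 0x4403927cb22) (.leaf (nat_lit 0x4403923504f) (nat_lit 1795))
 (.leaf (nat_lit 0x4403927cb22) (nat_lit 2051))
) (.node (nat_lit 0x44091a9ed2d) (.leaf (nat_lit 0x44091a3504f) (nat_lit 1792))
 (.leaf (nat_lit 0x44091a9ed2d) (nat_lit 1539))
)) (.node (nat_lit 0x440c3825369) (.node (nat_lit 0x440c327cb22) (.leaf (nat_lit 0x440c3025369) (nat_lit 1795))
 (.leaf (nat_lit 0x440c327cb22) (nat_lit 1538))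
) (.node (nat_lit 0x440c3a9ed2d) (.leaf (nat_lit 0x440c3825369) (nat_lit 1793))
 (.leaf (nat_lit 0x440c3a9ed2d) (nat_lit 1536))
)))) (.node (nat_lit 0x4549e419a60) (.node (nat_lit 0x44b3b01aa62) (.node (nat_lit 0x44ab904dc16) (.node (nat_lit 0x44a9e04dc16) (.leaf (nat_lit 0x44a9e01aa62) (nat_lit 1281))
 (.leaf (nat_lit 0x44a9e04dc16) (nat_lit 1537))
) (.node (nat_lit 0x44ab909badd) (.leaf (nat_lit 0x44ab904dc16) (nat_lit 2049))
 (.leaf (nat_lit 0x44ab909badd) (nat_lit 1795))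
)) (.node (nat_lit 0x44b4ac9badd) (.node (nat_lit 0x44b3b0a24f3) (.leaf (nat_lit 0x44b3b01aa62) (nat_lit 1793))
 (.leaf (nat_lit 0x44b3b0a24f3) (nat_lit 1537))
) (.node (nat_lit 0x44b4aca24f3) (.leaf (nat_lit 0x44b4ac9badd) (nat_lit 1792))
 (.leaf (nat_lit 0x44b4aca24f3) (nat_lit 1537))
))) (.node (nat_lit 0x4553a819a60) (.node (nat_lit 0x454b8c4cc17) (.node (nat_lit 0x4549e44cc17) (.leaf (nat_lit 0x4549e419a60) (nat_lit 1282))
 (.leaf (nat_lit 0x4549e44cc17) (nat_lit 1539))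
) (.node (nat_lit 0x454b8c9b2db) (.leaf (nat_lit 0x454b8c4cc17) (nat_lit 1025))
 (.leaf (nat_lit 0x454b8c9b2db) (nat_lit 1795))
)) (.node (nat_lit 0x4554a89b2db) (.node (nat_lit 0x4553a8a1cf2) (.leaf (nat_lit 0x4553a819a60) (nat_lit 1795))
 (.leaf (nat_lit 0x4553a8a1cf2) (nat_lit 1537))
) (.node (nat_lit 0x4554a8a1cf2) (.leaf (nat_lit 0x4554a89b2db) (nat_lit 1793))
 (.leaf (nat_lit 0x4554a8a1cf2) (nat_lit 2050))
))))) (.node (nat_lit 0x45e3701231c) (.node (nat_lit 0x45a1a83b855) (.node (nat_lit 0x4593683c057) (.node (nat_lit 0x458964440e6) (.node (nat_lit 0x45819444d6b) (.leaf (nat_lit 0x4581943c057) (nat_lit 1280))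
 (.leaf (nat_lit 0x45819444d6b) (nat_lit 1536))
) (.node (nat_lit 0x45896444d6b) (.leaf (nat_lit 0x458964440e6) (nat_lit 1792))
 (.leaf (nat_lit 0x45896444d6b) (nat_lit 2051))
)) (.node (nat_lit 0x459390440e6) (.node (nat_lit 0x45936a294e9) (.leaf (nat_lit 0x4593683c057) (nat_lit 1280))
 (.leaf (nat_lit 0x45936a294e9) (nat_lit 1536))
) (.node (nat_lit 0x459392294e9) (.leaf (nat_lit 0x459390440e6) (nat_lit 1280))
 (.leaf (nat_lit 0x459392294e9) (nat_lit 1024))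
))) (.node (nat_lit 0x45b36c3b855) (.node (nat_lit 0x45a968438e5) (.node (nat_lit 0x45a1a84856c) (.leaf (nat_lit 0x45a1a83b855) (nat_lit 1795))
 (.leaf (nat_lit 0x45a1a84856c) (nat_lit 1536))
) (.node (nat_lit 0x45a9684856c) (.leaf (nat_lit 0x45a968438e5) (nat_lit 768))
 (.leaf (nat_lit 0x45a9684856c) (nat_lit 1536))
)) (.node (nat_lit 0x45b394438e5) (.node (nat_lit 0x45b36e29ce7) (.leaf (nat_lit 0x45b36c3b855) (nat_lit 1280))
 (.leaf (nat_lit 0x45b36e29ce7) (nat_lit 1536))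
) (.node (nat_lit 0x45b39629ce7) (.leaf (nat_lit 0x45b394438e5) (nat_lit 1793))
 (.leaf (nat_lit 0x45b39629ce7) (nat_lit 2048))
)))) (.node (nat_lit 0x46238411b1e) (.node (nat_lit 0x45e6202d8eb) (.node (nat_lit 0x45e4182d8eb) (.node (nat_lit 0x45e37054310) (.leaf (nat_lit 0x45e3701231c) (nat_lit 1538))
 (.leaf (nat_lit 0x45e37054310) (nat_lit 1795))
) (.node (nat_lit 0x45e41854310) (.leaf (nat_lit 0x45e4182d8eb) (nat_lit 1537))
 (.leaf (nat_lit 0x45e41854310) (nat_lit 1283))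
)) (.node (nat_lit 0x45f1801231c) (.node (nat_lit 0x45e620e1286) (.leaf (nat_lit 0x45e6202d8eb) (nat_lit 1538))
 (.leaf (nat_lit 0x45e620e1286) (nat_lit 1283))
) (.node (nat_lit 0x45f180e1286) (.leaf (nat_lit 0x45f1801231c) (nat_lit 1539))
 (.leaf (nat_lit 0x45f180e1286) (nat_lit 1281))
))) (.node (nat_lit 0x46261c2e0e9) (.node (nat_lit 0x4624142e0e9) (.node (nat_lit 0x4623845530f) (.leaf (nat_lit 0x46238411b1e) (nat_lit 1536))
 (.leaf (nat_lit 0x4623845530f) (nat_lit 771))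
) (.node (nat_lit 0x4624145530f) (.leaf (nat_lit 0x4624142e0e9) (nat_lit 1025))
 (.leaf (nat_lit 0x4624145530f) (nat_lit 1283))
)) (.node (nat_lit 0x46318411b1e) (.node (nat_lit 0x46261cdf287) (.leaf (nat_lit 0x46261c2e0e9) (nat_lit 1027))
 (.leaf (nat_lit 0x46261cdf287) (nat_lit 1283))
) (.node (nat_lit 0x463184df287) (.leaf (nat_lit 0x46318411b1e) (nat_lit 1538))
 (.leaf (nat_lit 0x463184df287) (nat_lit 1282))
)))))))) (.node (nat_lit 0x4f0280428ed) (.node (nat_lit 0x4b2769220bf) (.node (nat_lit 0x492374a131d) (.node (nat_lit 0x48c68568150) (.node (nat_lit 0x46a00829138) (.node (nat_lit 0x4684fc2001a) (.node (nat_lit 0x4682f028139) (.node (nat_lit 0x4680060ebc8) (.leaf (nat_lit 0x46800428139) (nat_lit 1792))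
 (.leaf (nat_lit 0x4680060ebc8) (nat_lit 2048))
) (.node (nat_lit 0x4682f1878aa) (.leaf (nat_lit 0x4682f028139) (nat_lit 1283))
 (.leaf (nat_lit 0x4682f1878aa) (nat_lit 2048))
)) (.node (nat_lit 0x4692282001a) (.node (nat_lit 0x4684fd878aa) (.leaf (nat_lit 0x4684fc2001a) (nat_lit 1792))
 (.leaf (nat_lit 0x4684fd878aa) (nat_lit 1539))
) (.node (nat_lit 0x46922a0ebc8) (.leaf (nat_lit 0x4692282001a) (nat_lit 1792))
 (.leaf (nat_lit 0x46922a0ebc8) (nat_lit 1537))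
))) (.node (nat_lit 0x46a5141f81c) (.node (nat_lit 0x46a2e429138) (.node (nat_lit 0x46a00a0e3c9) (.leaf (nat_lit 0x46a00829138) (nat_lit 1795))
 (.leaf (nat_lit 0x46a00a0e3c9) (nat_lit 1539))
) (.node (nat_lit 0x46a2e5880a8) (.leaf (nat_lit 0x46a2e429138) (nat_lit 1795))
 (.leaf (nat_lit 0x46a2e5880a8) (nat_lit 1536))
)) (.node (nat_lit 0x46b22c1f81c) (.node (nat_lit 0x46a515880a8) (.leaf (nat_lit 0x46a5141f81c) (nat_lit 1792))
 (.leaf (nat_lit 0x46a515880a8) (nat_lit 1538))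
) (.node (nat_lit 0x46b22e0e3c9) (.leaf (nat_lit 0x46b22c1f81c) (nat_lit 1795))
 (.leaf (nat_lit 0x46b22e0e3c9) (nat_lit 2049))
)))) (.node (nat_lit 0x48e68166152) (.node (nat_lit 0x48c92e7a021) (.node (nat_lit 0x48c880ad93b) (.node (nat_lit 0x48c6867a021) (.leaf (nat_lit 0x48c68568150) (nat_lit 1281))
 (.leaf (nat_lit 0x48c6867a021) (nat_lit 1536))
) (.node (nat_lit 0x48c88297444) (.leaf (nat_lit 0x48c880ad93b) (nat_lit 1536))
 (.leaf (nat_lit 0x48c88297444) (nat_lit 769))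
)) (.node (nat_lit 0x48ca9cad93b) (.node (nat_lit 0x48c92e97444) (.leaf (nat_lit 0x48c92e7a021) (nat_lit 1536))
 (.leaf (nat_lit 0x48c92e97444) (nat_lit 1281))
) (.node (nat_lit 0x48ca9d68150) (.leaf (nat_lit 0x48ca9cad93b) (nat_lit 1538))
 (.leaf (nat_lit 0x48ca9d68150) (nat_lit 1282))
))) (.node (nat_lit 0x48e9267a822) (.node (nat_lit 0x48e87cad13a) (.node (nat_lit 0x48e6827a822) (.leaf (nat_lit 0x48e68166152) (nat_lit 1280))
 (.leaf (nat_lit 0x48e6827a822) (nat_lit 1536))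
) (.node (nat_lit 0x48e87e97c45) (.leaf (nat_lit 0x48e87cad13a) (nat_lit 1024))
 (.leaf (nat_lit 0x48e87e97c45) (nat_lit 770))
)) (.node (nat_lit 0x48ea98ad13a) (.node (nat_lit 0x48e92697c45) (.leaf (nat_lit 0x48e9267a822) (nat_lit 1026))
 (.leaf (nat_lit 0x48e92697c45) (nat_lit 1281))
) (.node (nat_lit 0x48ea9966152) (.leaf (nat_lit 0x48ea98ad13a) (nat_lit 1537))
 (.leaf (nat_lit 0x48ea9966152) (nat_lit 1281))
))))) (.node (nat_lit 0x4981cc61a6a) (.node (nat_lit 0x4963909f31f) (.node (nat_lit 0x492c24c90d6) (.node (nat_lit 0x49291ca131d) (.node (nat_lit 0x4923767c323) (.leaf (nat_lit 0x492374a131d) (nat_lit 1793))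
 (.leaf (nat_lit 0x4923767c323) (nat_lit 1537))
) (.node (nat_lit 0x49291e9e52c) (.leaf (nat_lit 0x49291ca131d) (nat_lit 1282))
 (.leaf (nat_lit 0x49291e9e52c) (nat_lit 1539))
)) (.node (nat_lit 0x492c34c90d6) (.node (nat_lit 0x492c269e52c) (.leaf (nat_lit 0x492c24c90d6) (nat_lit 1795))
 (.leaf (nat_lit 0x492c269e52c) (nat_lit 1537))
) (.node (nat_lit 0x492c367c323) (.leaf (nat_lit 0x492c34c90d6) (nat_lit 1283))
 (.leaf (nat_lit 0x492c367c323) (nat_lit 1538))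
))) (.node (nat_lit 0x496c30c30d2) (.node (nat_lit 0x4969189f31f) (.node (nat_lit 0x4963927cb22) (.leaf (nat_lit 0x4963909f31f) (nat_lit 1794))
 (.leaf (nat_lit 0x4963927cb22) (nat_lit 1027))
) (.node (nat_lit 0x49691a9ed2d) (.leaf (nat_lit 0x4969189f31f) (nat_lit 1795))
 (.leaf (nat_lit 0x49691a9ed2d) (nat_lit 1538))
)) (.node (nat_lit 0x496c38c30d2) (.node (nat_lit 0x496c327cb22) (.leaf (nat_lit 0x496c30c30d2) (nat_lit 1283))
 (.leaf (nat_lit 0x496c327cb22) (nat_lit 1539))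
) (.node (nat_lit 0x496c3a9ed2d) (.leaf (nat_lit 0x496c38c30d2) (nat_lit 1792))
 (.leaf (nat_lit 0x496c3a9ed2d) (nat_lit 1026))
)))) (.node (nat_lit 0x49c1c860a6b) (.node (nat_lit 0x4990288981b) (.node (nat_lit 0x4984f061a6a) (.node (nat_lit 0x4981ce3dba2) (.leaf (nat_lit 0x4981cc61a6a) (nat_lit 1282))
 (.leaf (nat_lit 0x4981ce3dba2) (nat_lit 1539))
) (.node (nat_lit 0x4984f08d337) (.leaf (nat_lit 0x4984f061a6a) (nat_lit 1795))
 (.leaf (nat_lit 0x4984f08d337) (nat_lit 2048))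
)) (.node (nat_lit 0x49913c8981b) (.node (nat_lit 0x49902a3dba2) (.leaf (nat_lit 0x4990288981b) (nat_lit 1283))
 (.leaf (nat_lit 0x49902a3dba2) (nat_lit 1539))
) (.node (nat_lit 0x49913c8d337) (.leaf (nat_lit 0x49913c8981b) (nat_lit 1794))
 (.leaf (nat_lit 0x49913c8d337) (nat_lit 1536))
))) (.node (nat_lit 0x49d03000019) (.node (nat_lit 0x49c4f460a6b) (.node (nat_lit 0x49c1ca3bba3) (.leaf (nat_lit 0x49c1c860a6b) (nat_lit 1792))
 (.leaf (nat_lit 0x49c1ca3bba3) (nat_lit 2049))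
) (.node (nat_lit 0x49c4f490b36) (.leaf (nat_lit 0x49c4f460a6b) (nat_lit 1793))
 (.leaf (nat_lit 0x49c4f490b36) (nat_lit 1538))
)) (.node (nat_lit 0x49d13800019) (.node (nat_lit 0x49d0323bba3) (.leaf (nat_lit 0x49d03000019) (nat_lit 1795))
 (.leaf (nat_lit 0x49d0323bba3) (nat_lit 2049))
) (.node (nat_lit 0x49d13890b36) (.leaf (nat_lit 0x49d13800019) (nat_lit 1280))
 (.leaf (nat_lit 0x49d13890b36) (nat_lit 1539))
)))))) (.node (nat_lit 0x4ce00829138) (.node (nat_lit 0x4c2ebc6b192) (.node (nat_lit 0x4b4771228c4) (.node (nat_lit 0x4b30d5220bf) (.node (nat_lit 0x4b28b16e937) (.node (nat_lit 0x4b276a79143) (.leaf (nat_lit 0x4b2769220bf) (nat_lit 1027))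
 (.leaf (nat_lit 0x4b276a79143) (nat_lit 1282))
) (.node (nat_lit 0x4b28b20b899) (.leaf (nat_lit 0x4b28b16e937) (nat_lit 1536))
 (.leaf (nat_lit 0x4b28b20b899) (nat_lit 1283))
)) (.node (nat_lit 0x4b35656e937) (.node (nat_lit 0x4b30d60b899) (.leaf (nat_lit 0x4b30d5220bf) (nat_lit 1027))
 (.leaf (nat_lit 0x4b30d60b899) (nat_lit 1280))
) (.node (nat_lit 0x4b356679143) (.leaf (nat_lit 0x4b35656e937) (nat_lit 1538))
 (.leaf (nat_lit 0x4b356679143) (nat_lit 1282))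
))) (.node (nat_lit 0x4b50ad228c4) (.node (nat_lit 0x4b48b56d936) (.node (nat_lit 0x4b477279944) (.leaf (nat_lit 0x4b4771228c4) (nat_lit 1026))
 (.leaf (nat_lit 0x4b477279944) (nat_lit 1280))
) (.node (nat_lit 0x4b48b60b09b) (.leaf (nat_lit 0x4b48b56d936) (nat_lit 1536))
 (.leaf (nat_lit 0x4b48b60b09b) (nat_lit 1280))
)) (.node (nat_lit 0x4b55616d936) (.node (nat_lit 0x4b50ae0b09b) (.leaf (nat_lit 0x4b50ad228c4) (nat_lit 1536))
 (.leaf (nat_lit 0x4b50ae0b09b) (nat_lit 1280))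
) (.node (nat_lit 0x4b556279944) (.leaf (nat_lit 0x4b55616d936) (nat_lit 1538))
 (.leaf (nat_lit 0x4b556279944) (nat_lit 1280))
)))) (.node (nat_lit 0x4c6eb869186) (.node (nat_lit 0x4c30c169153) (.node (nat_lit 0x4c2eedb4049) (.node (nat_lit 0x4c2ebeb438b) (.leaf (nat_lit 0x4c2ebc6b192) (nat_lit 1025))
 (.leaf (nat_lit 0x4c2ebeb438b) (nat_lit 1792))
) (.node (nat_lit 0x4c2eeeb438b) (.leaf (nat_lit 0x4c2eedb4049) (nat_lit 1537))
 (.leaf (nat_lit 0x4c2eeeb438b) (nat_lit 770))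
)) (.node (nat_lit 0x4c31606b192) (.node (nat_lit 0x4c30c1b4049) (.leaf (nat_lit 0x4c30c169153) (nat_lit 1281))
 (.leaf (nat_lit 0x4c30c1b4049) (nat_lit 1536))
) (.node (nat_lit 0x4c316169153) (.leaf (nat_lit 0x4c31606b192) (nat_lit 1537))
 (.leaf (nat_lit 0x4c316169153) (nat_lit 1792))
))) (.node (nat_lit 0x4c70bd68951) (.node (nat_lit 0x4c6ee1b484a) (.node (nat_lit 0x4c6ebab4b8c) (.leaf (nat_lit 0x4c6eb869186) (nat_lit 1026))
 (.leaf (nat_lit 0x4c6ebab4b8c) (nat_lit 1280))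
) (.node (nat_lit 0x4c6ee2b4b8c) (.leaf (nat_lit 0x4c6ee1b484a) (nat_lit 1537))
 (.leaf (nat_lit 0x4c6ee2b4b8c) (nat_lit 1282))
)) (.node (nat_lit 0x4c717469186) (.node (nat_lit 0x4c70bdb484a) (.leaf (nat_lit 0x4c70bd68951) (nat_lit 1280))
 (.leaf (nat_lit 0x4c70bdb484a) (nat_lit 1536))
) (.node (nat_lit 0x4c717568951) (.leaf (nat_lit 0x4c717469186) (nat_lit 1536))
 (.leaf (nat_lit 0x4c717568951) (nat_lit 1792))
))))) (.node (nat_lit 0x4e202549053) (.node (nat_lit 0x4d200428139) (.node (nat_lit 0x4ce5141f81c) (.node (nat_lit 0x4ce2e429138) (.node (nat_lit 0x4ce0098594c) (.leaf (nat_lit 0x4ce00829138) (nat_lit 1795))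
 (.leaf (nat_lit 0x4ce0098594c) (nat_lit 1536))
) (.node (nat_lit 0x4ce2e5431c2) (.leaf (nat_lit 0x4ce2e429138) (nat_lit 1793))
 (.leaf (nat_lit 0x4ce2e5431c2) (nat_lit 2050))
)) (.node (nat_lit 0x4cf22c1f81c) (.node (nat_lit 0x4ce515431c2) (.leaf (nat_lit 0x4ce5141f81c) (nat_lit 1280))
 (.leaf (nat_lit 0x4ce515431c2) (nat_lit 1024))
) (.node (nat_lit 0x4cf22d8594c) (.leaf (nat_lit 0x4cf22c1f81c) (nat_lit 1280))
 (.leaf (nat_lit 0x4cf22d8594c) (nat_lit 1536))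
))) (.node (nat_lit 0x4d24fc2001a) (.node (nat_lit 0x4d22f028139) (.node (nat_lit 0x4d20058414d) (.leaf (nat_lit 0x4d200428139) (nat_lit 1794))
 (.leaf (nat_lit 0x4d20058414d) (nat_lit 1536))
) (.node (nat_lit 0x4d22f1439be) (.leaf (nat_lit 0x4d22f028139) (nat_lit 1280))
 (.leaf (nat_lit 0x4d22f1439be) (nat_lit 1536))
)) (.node (nat_lit 0x4d32282001a) (.node (nat_lit 0x4d24fd439be) (.leaf (nat_lit 0x4d24fc2001a) (nat_lit 1794))
 (.leaf (nat_lit 0x4d24fd439be) (nat_lit 1536))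
) (.node (nat_lit 0x4d32298414d) (.leaf (nat_lit 0x4d32282001a) (nat_lit 1793))
 (.leaf (nat_lit 0x4d32298414d) (nat_lit 1536))
)))) (.node (nat_lit 0x4e402d48854) (.node (nat_lit 0x4e27ca0a4cc) (.node (nat_lit 0x4e21b149053) (.node (nat_lit 0x4e202668b28) (.leaf (nat_lit 0x4e202549053) (nat_lit 1537))
 (.leaf (nat_lit 0x4e202668b28) (nat_lit 1281))
) (.node (nat_lit 0x4e21b291be2) (.leaf (nat_lit 0x4e21b149053) (nat_lit 1539))
 (.leaf (nat_lit 0x4e21b291be2) (nat_lit 1794))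
)) (.node (nat_lit 0x4e2e9a0a4cc) (.node (nat_lit 0x4e27ca91be2) (.leaf (nat_lit 0x4e27ca0a4cc) (nat_lit 1539))
 (.leaf (nat_lit 0x4e27ca91be2) (nat_lit 1280))
) (.node (nat_lit 0x4e2e9a68b28) (.leaf (nat_lit 0x4e2e9a0a4cc) (nat_lit 1538))
 (.leaf (nat_lit 0x4e2e9a68b28) (nat_lit 1795))
))) (.node (nat_lit 0x4e47d60acca) (.node (nat_lit 0x4e41ad48854) (.node (nat_lit 0x4e402e68327) (.leaf (nat_lit 0x4e402d48854) (nat_lit 2049))
 (.leaf (nat_lit 0x4e402e68327) (nat_lit 1282))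
) (.node (nat_lit 0x4e41ae8fbe0) (.leaf (nat_lit 0x4e41ad48854) (nat_lit 1537))
 (.leaf (nat_lit 0x4e41ae8fbe0) (nat_lit 1793))
)) (.node (nat_lit 0x4e4e9e0acca) (.node (nat_lit 0x4e47d68fbe0) (.leaf (nat_lit 0x4e47d60acca) (nat_lit 2048))
 (.leaf (nat_lit 0x4e47d68fbe0) (nat_lit 1283))
) (.node (nat_lit 0x4e4e9e68327) (.leaf (nat_lit 0x4e4e9e0acca) (nat_lit 1539))
 (.leaf (nat_lit 0x4e4e9e68327) (nat_lit 1795))
))))))) (.node (nat_lit 0x53059c7485c) (.node (nat_lit 0x4fe0ddb484a) (.node (nat_lit 0x4f40d9b4049) (.node (nat_lit 0x4f227c430ee) (.node (nat_lit 0x4f0db4428ed) (.node (nat_lit 0x4f08942a877) (.node (nat_lit 0x4f0282b5889) (.leaf (nat_lit 0x4f0280428ed) (nat_lit 1024))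
 (.leaf (nat_lit 0x4f0282b5889) (nat_lit 1282))
) (.node (nat_lit 0x4f0896b5889) (.leaf (nat_lit 0x4f08942a877) (nat_lit 1536))
 (.leaf (nat_lit 0x4f0896b5889) (nat_lit 769))
)) (.node (nat_lit 0x4f0e642a877) (.node (nat_lit 0x4f0db674c52) (.leaf (nat_lit 0x4f0db4428ed) (nat_lit 1024))
 (.leaf (nat_lit 0x4f0db674c52) (nat_lit 1282))
) (.node (nat_lit 0x4f0e6674c52) (.leaf (nat_lit 0x4f0e642a877) (nat_lit 1027))
 (.leaf (nat_lit 0x4f0e6674c52) (nat_lit 1280))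
))) (.node (nat_lit 0x4f2db0430ee) (.node (nat_lit 0x4f28a82b878) (.node (nat_lit 0x4f227eb6090) (.leaf (nat_lit 0x4f227c430ee) (nat_lit 1536))
 (.leaf (nat_lit 0x4f227eb6090) (nat_lit 770))
) (.node (nat_lit 0x4f28aab6090) (.leaf (nat_lit 0x4f28a82b878) (nat_lit 1536))
 (.leaf (nat_lit 0x4f28aab6090) (nat_lit 1281))
)) (.node (nat_lit 0x4f2e602b878) (.node (nat_lit 0x4f2db273c53) (.leaf (nat_lit 0x4f2db0430ee) (nat_lit 1539))
 (.leaf (nat_lit 0x4f2db273c53) (nat_lit 1281))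
) (.node (nat_lit 0x4f2e6273c53) (.leaf (nat_lit 0x4f2e602b878) (nat_lit 1539))
 (.leaf (nat_lit 0x4f2e6273c53) (nat_lit 1281))
)))) (.node (nat_lit 0x4fa784430ee) (.node (nat_lit 0x4f4bfc28c69) (.node (nat_lit 0x4f4315914f9) (.node (nat_lit 0x4f40dab438b) (.leaf (nat_lit 0x4f40d9b4049) (nat_lit 1539))
 (.leaf (nat_lit 0x4f40dab438b) (nat_lit 1283))
) (.node (nat_lit 0x4f4315b4049) (.leaf (nat_lit 0x4f4315914f9) (nat_lit 1283))
 (.leaf (nat_lit 0x4f4315b4049) (nat_lit 1025))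
)) (.node (nat_lit 0x4f4ce028c69) (.node (nat_lit 0x4f4bfeb438b) (.leaf (nat_lit 0x4f4bfc28c69) (nat_lit 1539))
 (.leaf (nat_lit 0x4f4bfeb438b) (nat_lit 1283))
) (.node (nat_lit 0x4f4ce1914f9) (.leaf (nat_lit 0x4f4ce028c69) (nat_lit 1536))
 (.leaf (nat_lit 0x4f4ce1914f9) (nat_lit 1282))
))) (.node (nat_lit 0x4faf7086a38) (.node (nat_lit 0x4fae7c86a38) (.node (nat_lit 0x4fa7861c9eb) (.leaf (nat_lit 0x4fa784430ee) (nat_lit 1536))
 (.leaf (nat_lit 0x4fa7861c9eb) (nat_lit 771))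
) (.node (nat_lit 0x4fae7eb6090) (.leaf (nat_lit 0x4fae7c86a38) (nat_lit 1025))
 (.leaf (nat_lit 0x4fae7eb6090) (nat_lit 1281))
)) (.node (nat_lit 0x4fb098430ee) (.node (nat_lit 0x4faf721c9eb) (.leaf (nat_lit 0x4faf7086a38) (nat_lit 1538))
 (.leaf (nat_lit 0x4faf721c9eb) (nat_lit 1281))
) (.node (nat_lit 0x4fb09ab6090) (.leaf (nat_lit 0x4fb098430ee) (nat_lit 1539))
 (.leaf (nat_lit 0x4fb09ab6090) (nat_lit 1282))
))))) (.node (nat_lit 0x51c7802a877) (.node (nat_lit 0x510780428ed) (.node (nat_lit 0x4febf427c6a) (.node (nat_lit 0x4fe31991cf8) (.node (nat_lit 0x4fe0deb4b8c) (.leaf (nat_lit 0x4fe0ddb484a) (nat_lit 1537))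
 (.leaf (nat_lit 0x4fe0deb4b8c) (nat_lit 1281))
) (.node (nat_lit 0x4fe319b484a) (.leaf (nat_lit 0x4fe31991cf8) (nat_lit 1792))
 (.leaf (nat_lit 0x4fe319b484a) (nat_lit 1024))
)) (.node (nat_lit 0x4fece427c6a) (.node (nat_lit 0x4febf6b4b8c) (.leaf (nat_lit 0x4febf427c6a) (nat_lit 1539))
 (.leaf (nat_lit 0x4febf6b4b8c) (nat_lit 1794))
) (.node (nat_lit 0x4fece591cf8) (.leaf (nat_lit 0x4fece427c6a) (nat_lit 1537))
 (.leaf (nat_lit 0x4fece591cf8) (nat_lit 771))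
))) (.node (nat_lit 0x510f6885a39) (.node (nat_lit 0x510e6c85a39) (.node (nat_lit 0x5107821d1ec) (.leaf (nat_lit 0x510780428ed) (nat_lit 1026))
 (.leaf (nat_lit 0x5107821d1ec) (nat_lit 1281))
) (.node (nat_lit 0x510e6eb5889) (.leaf (nat_lit 0x510e6c85a39) (nat_lit 1539))
 (.leaf (nat_lit 0x510e6eb5889) (nat_lit 1281))
)) (.node (nat_lit 0x51109c428ed) (.node (nat_lit 0x510f6a1d1ec) (.leaf (nat_lit 0x510f6885a39) (nat_lit 1537))
 (.leaf (nat_lit 0x510f6a1d1ec) (nat_lit 1283))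
) (.node (nat_lit 0x51109eb5889) (.leaf (nat_lit 0x51109c428ed) (nat_lit 1539))
 (.leaf (nat_lit 0x51109eb5889) (nat_lit 1280))
)))) (.node (nat_lit 0x51e7842b878) (.node (nat_lit 0x51cf6872887) (.node (nat_lit 0x51ce6c72887) (.node (nat_lit 0x51c7821d1ec) (.leaf (nat_lit 0x51c7802a877) (nat_lit 1538))
 (.leaf (nat_lit 0x51c7821d1ec) (nat_lit 770))
) (.node (nat_lit 0x51ce6eb5889) (.leaf (nat_lit 0x51ce6c72887) (nat_lit 1024))
 (.leaf (nat_lit 0x51ce6eb5889) (nat_lit 1281))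
)) (.node (nat_lit 0x51d09c2a877) (.node (nat_lit 0x51cf6a1d1ec) (.leaf (nat_lit 0x51cf6872887) (nat_lit 1537))
 (.leaf (nat_lit 0x51cf6a1d1ec) (nat_lit 1281))
) (.node (nat_lit 0x51d09eb5889) (.leaf (nat_lit 0x51d09c2a877) (nat_lit 1025))
 (.leaf (nat_lit 0x51d09eb5889) (nat_lit 1283))
))) (.node (nat_lit 0x51ef7073088) (.node (nat_lit 0x51ee7c73088) (.node (nat_lit 0x51e7861c9eb) (.leaf (nat_lit 0x51e7842b878) (nat_lit 1538))
 (.leaf (nat_lit 0x51e7861c9eb) (nat_lit 1282))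
) (.node (nat_lit 0x51ee7eb6090) (.leaf (nat_lit 0x51ee7c73088) (nat_lit 1537))
 (.leaf (nat_lit 0x51ee7eb6090) (nat_lit 1794))
)) (.node (nat_lit 0x51f0982b878) (.node (nat_lit 0x51ef721c9eb) (.leaf (nat_lit 0x51ef7073088) (nat_lit 1539))
 (.leaf (nat_lit 0x51ef721c9eb) (nat_lit 1282))
) (.node (nat_lit 0x51f09ab6090) (.leaf (nat_lit 0x51f0982b878) (nat_lit 1538))
 (.leaf (nat_lit 0x51f09ab6090) (nat_lit 1282))
)))))) (.node (nat_lit 0x55ce0d2ec29) (.node (nat_lit 0x54c375c6569) (.node (nat_lit 0x53a5907585b) (.node (nat_lit 0x53084c29138) (.node (nat_lit 0x53082029138) (.node (nat_lit 0x53059d880a8) (.leaf (nat_lit 0x53059c7485c) (nat_lit 1281))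
 (.leaf (nat_lit 0x53059d880a8) (nat_lit 2051))
) (.node (nat_lit 0x530821880a8) (.leaf (nat_lit 0x53082029138) (nat_lit 1795))
 (.leaf (nat_lit 0x530821880a8) (nat_lit 1537))
)) (.node (nat_lit 0x5311bc7485c) (.node (nat_lit 0x53084d431c2) (.leaf (nat_lit 0x53084c29138) (nat_lit 1792))
 (.leaf (nat_lit 0x53084d431c2) (nat_lit 1539))
) (.node (nat_lit 0x5311bd431c2) (.leaf (nat_lit 0x5311bc7485c) (nat_lit 1280))
 (.leaf (nat_lit 0x5311bd431c2) (nat_lit 1536))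
))) (.node (nat_lit 0x53a85428139) (.node (nat_lit 0x53a82428139) (.node (nat_lit 0x53a591878aa) (.leaf (nat_lit 0x53a5907585b) (nat_lit 1792))
 (.leaf (nat_lit 0x53a591878aa) (nat_lit 1537))
) (.node (nat_lit 0x53a825878aa) (.leaf (nat_lit 0x53a82428139) (nat_lit 1795))
 (.leaf (nat_lit 0x53a825878aa) (nat_lit 1538))
)) (.node (nat_lit 0x53b1b87585b) (.node (nat_lit 0x53a855439be) (.leaf (nat_lit 0x53a85428139) (nat_lit 1792))
 (.leaf (nat_lit 0x53a855439be) (nat_lit 2050))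
) (.node (nat_lit 0x53b1b9439be) (.leaf (nat_lit 0x53b1b87585b) (nat_lit 1795))
 (.leaf (nat_lit 0x53b1b9439be) (nat_lit 1537))
)))) (.node (nat_lit 0x54e391c5d68) (.node (nat_lit 0x54cc2424b68) (.node (nat_lit 0x54c91ca8ad1) (.node (nat_lit 0x54c37634851) (.leaf (nat_lit 0x54c375c6569) (nat_lit 1538))
 (.leaf (nat_lit 0x54c37634851) (nat_lit 1792))
) (.node (nat_lit 0x54c91e34851) (.leaf (nat_lit 0x54c91ca8ad1) (nat_lit 1027))
 (.leaf (nat_lit 0x54c91e34851) (nat_lit 1281))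
)) (.node (nat_lit 0x54cc3424b68) (.node (nat_lit 0x54cc24a8ad1) (.leaf (nat_lit 0x54cc2424b68) (nat_lit 1795))
 (.leaf (nat_lit 0x54cc24a8ad1) (nat_lit 1027))
) (.node (nat_lit 0x54cc35c6569) (.leaf (nat_lit 0x54cc3424b68) (nat_lit 1283))
 (.leaf (nat_lit 0x54cc35c6569) (nat_lit 1539))
))) (.node (nat_lit 0x54ec3025369) (.node (nat_lit 0x54e918a9ad2) (.node (nat_lit 0x54e3923504f) (.leaf (nat_lit 0x54e391c5d68) (nat_lit 1537))
 (.leaf (nat_lit 0x54e3923504f) (nat_lit 1795))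
) (.node (nat_lit 0x54e91a3504f) (.leaf (nat_lit 0x54e918a9ad2) (nat_lit 1539))
 (.leaf (nat_lit 0x54e91a3504f) (nat_lit 1795))
)) (.node (nat_lit 0x54ec3825369) (.node (nat_lit 0x54ec31c5d68) (.leaf (nat_lit 0x54ec3025369) (nat_lit 1792))
 (.leaf (nat_lit 0x54ec31c5d68) (nat_lit 1539))
) (.node (nat_lit 0x54ec38a9ad2) (.leaf (nat_lit 0x54ec3825369) (nat_lit 1794))
 (.leaf (nat_lit 0x54ec38a9ad2) (nat_lit 1538))
))))) (.node (nat_lit 0x5660e1909d8) (.node (nat_lit 0x55ee152e428) (.node (nat_lit 0x55d2f268b28) (.node (nat_lit 0x55d1a12ec29) (.node (nat_lit 0x55ce0d49053) (.leaf (nat_lit 0x55ce0d2ec29) (nat_lit 1792))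
 (.leaf (nat_lit 0x55ce0d49053) (nat_lit 1537))
) (.node (nat_lit 0x55d1a2bb8c9) (.leaf (nat_lit 0x55d1a12ec29) (nat_lit 1280))
 (.leaf (nat_lit 0x55d1a2bb8c9) (nat_lit 2049))
)) (.node (nat_lit 0x55d43d49053) (.node (nat_lit 0x55d2f2bb8c9) (.leaf (nat_lit 0x55d2f268b28) (nat_lit 1282))
 (.leaf (nat_lit 0x55d2f2bb8c9) (nat_lit 1027))
) (.node (nat_lit 0x55d43e68b28) (.leaf (nat_lit 0x55d43d49053) (nat_lit 1539))
 (.leaf (nat_lit 0x55d43e68b28) (nat_lit 1282))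
))) (.node (nat_lit 0x55f2f668327) (.node (nat_lit 0x55f1b52e428) (.node (nat_lit 0x55ee1548854) (.leaf (nat_lit 0x55ee152e428) (nat_lit 1795))
 (.leaf (nat_lit 0x55ee1548854) (nat_lit 1538))
) (.node (nat_lit 0x55f1b6bb0ca) (.leaf (nat_lit 0x55f1b52e428) (nat_lit 1281))
 (.leaf (nat_lit 0x55f1b6bb0ca) (nat_lit 1539))
)) (.node (nat_lit 0x55f43948854) (.node (nat_lit 0x55f2f6bb0ca) (.leaf (nat_lit 0x55f2f668327) (nat_lit 1793))
 (.leaf (nat_lit 0x55f2f6bb0ca) (nat_lit 1539))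
) (.node (nat_lit 0x55f43a68327) (.leaf (nat_lit 0x55f43948854) (nat_lit 1539))
 (.leaf (nat_lit 0x55f43a68327) (nat_lit 1795))
)))) (.node (nat_lit 0x572591878aa) (.node (nat_lit 0x5663b27a822) (.node (nat_lit 0x5662a4601ea) (.node (nat_lit 0x5660e27a822) (.leaf (nat_lit 0x5660e1909d8) (nat_lit 1282))
 (.leaf (nat_lit 0x5660e27a822) (nat_lit 1536))
) (.node (nat_lit 0x5662a697c45) (.leaf (nat_lit 0x5662a4601ea) (nat_lit 1025))
 (.leaf (nat_lit 0x5662a697c45) (nat_lit 1280))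
)) (.node (nat_lit 0x566504601ea) (.node (nat_lit 0x5663b297c45) (.leaf (nat_lit 0x5663b27a822) (nat_lit 1539))
 (.leaf (nat_lit 0x5663b297c45) (nat_lit 1793))
) (.node (nat_lit 0x566505909d8) (.leaf (nat_lit 0x566504601ea) (nat_lit 1537))
 (.leaf (nat_lit 0x566505909d8) (nat_lit 1792))
))) (.node (nat_lit 0x5728542001a) (.node (nat_lit 0x5728242001a) (.node (nat_lit 0x5725918e024) (.leaf (nat_lit 0x572591878aa) (nat_lit 2049))
 (.leaf (nat_lit 0x5725918e024) (nat_lit 1793))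
) (.node (nat_lit 0x572825878aa) (.leaf (nat_lit 0x5728242001a) (nat_lit 1792))
 (.leaf (nat_lit 0x572825878aa) (nat_lit 1539))
)) (.node (nat_lit 0x5731b9439be) (.node (nat_lit 0x572855439be) (.leaf (nat_lit 0x5728542001a) (nat_lit 1795))
 (.leaf (nat_lit 0x572855439be) (nat_lit 1537))
) (.node (nat_lit 0x5731b98e024) (.leaf (nat_lit 0x5731b9439be) (nat_lit 1537))
 (.leaf (nat_lit 0x5731b98e024) (nat_lit 1792))
)))))))))) (.node (nat_lit 0x8142602d8eb) (.node (nat_lit 0x6c0eb98f93e) (.node (nat_lit 0x61a680601ea) (.node (nat_lit 0x5e00dc69186) (.node (nat_lit 0x5a80087485c) (.node (nat_lit 0x58c22d2ba1d) (.node (nat_lit 0x5820d1901d9) (.node (nat_lit 0x57884c1f81c) (.node (nat_lit 0x5788201f81c) (.node (nat_lit 0x57859d8f023) (.leaf (nat_lit 0x57859d880a8) (nat_lit 1536))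
 (.leaf (nat_lit 0x57859d8f023) (nat_lit 1792))
) (.node (nat_lit 0x578821880a8) (.leaf (nat_lit 0x5788201f81c) (nat_lit 1794))
 (.leaf (nat_lit 0x578821880a8) (nat_lit 1536))
)) (.node (nat_lit 0x5791bd431c2) (.node (nat_lit 0x57884d431c2) (.leaf (nat_lit 0x57884c1f81c) (nat_lit 1792))
 (.leaf (nat_lit 0x57884d431c2) (nat_lit 1536))
) (.node (nat_lit 0x5791bd8f023) (.leaf (nat_lit 0x5791bd431c2) (nat_lit 1539))
 (.leaf (nat_lit 0x5791bd8f023) (nat_lit 1793))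
))) (.node (nat_lit 0x58239e7a021) (.node (nat_lit 0x58229c611e8) (.node (nat_lit 0x5820d27a021) (.leaf (nat_lit 0x5820d1901d9) (nat_lit 1794))
 (.leaf (nat_lit 0x5820d27a021) (nat_lit 1024))
) (.node (nat_lit 0x58229e97444) (.leaf (nat_lit 0x58229c611e8) (nat_lit 1536))
 (.leaf (nat_lit 0x58229e97444) (nat_lit 1280))
)) (.node (nat_lit 0x58252c611e8) (.node (nat_lit 0x58239e97444) (.leaf (nat_lit 0x58239e7a021) (nat_lit 1024))
 (.leaf (nat_lit 0x58239e97444) (nat_lit 1792))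
) (.node (nat_lit 0x58252d901d9) (.leaf (nat_lit 0x58252c611e8) (nat_lit 1536))
 (.leaf (nat_lit 0x58252d901d9) (nat_lit 1792))
)))) (.node (nat_lit 0x58e2352b221) (.node (nat_lit 0x58c7bcac566) (.node (nat_lit 0x58c4a87bb7a) (.node (nat_lit 0x58c22eba8b2) (.leaf (nat_lit 0x58c22d2ba1d) (nat_lit 1283))
 (.leaf (nat_lit 0x58c22eba8b2) (nat_lit 1027))
) (.node (nat_lit 0x58c4aaba8b2) (.leaf (nat_lit 0x58c4a87bb7a) (nat_lit 1280))
 (.leaf (nat_lit 0x58c4aaba8b2) (nat_lit 1538))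
)) (.node (nat_lit 0x58cd487bb7a) (.node (nat_lit 0x58c7bd2ba1d) (.leaf (nat_lit 0x58c7bcac566) (nat_lit 1536))
 (.leaf (nat_lit 0x58c7bd2ba1d) (nat_lit 1794))
) (.node (nat_lit 0x58cd48ac566) (.leaf (nat_lit 0x58cd487bb7a) (nat_lit 1795))
 (.leaf (nat_lit 0x58cd48ac566) (nat_lit 1536))
))) (.node (nat_lit 0x58e7b8ae567) (.node (nat_lit 0x58e4ac7db7b) (.node (nat_lit 0x58e236ba0b1) (.leaf (nat_lit 0x58e2352b221) (nat_lit 1795))
 (.leaf (nat_lit 0x58e236ba0b1) (nat_lit 1024))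
) (.node (nat_lit 0x58e4aeba0b1) (.leaf (nat_lit 0x58e4ac7db7b) (nat_lit 1793))
 (.leaf (nat_lit 0x58e4aeba0b1) (nat_lit 1537))
)) (.node (nat_lit 0x58ed4c7db7b) (.node (nat_lit 0x58e7b92b221) (.leaf (nat_lit 0x58e7b8ae567) (nat_lit 1539))
 (.leaf (nat_lit 0x58e7b92b221) (nat_lit 1795))
) (.node (nat_lit 0x58ed4cae567) (.leaf (nat_lit 0x58ed4c7db7b) (nat_lit 1794))
 (.leaf (nat_lit 0x58ed4cae567) (nat_lit 1536))
))))) (.node (nat_lit 0x5c627c86a38) (.node (nat_lit 0x5aa0047585b) (.node (nat_lit 0x5a8515880a8) (.node (nat_lit 0x5a82e47485c) (.node (nat_lit 0x5a800a0e3c9) (.leaf (nat_lit 0x5a80087485c) (nat_lit 1795))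
 (.leaf (nat_lit 0x5a800a0e3c9) (nat_lit 1536))
) (.node (nat_lit 0x5a82e5880a8) (.leaf (nat_lit 0x5a82e47485c) (nat_lit 1792))
 (.leaf (nat_lit 0x5a82e5880a8) (nat_lit 2050))
)) (.node (nat_lit 0x5a922d8f023) (.node (nat_lit 0x5a85158f023) (.leaf (nat_lit 0x5a8515880a8) (nat_lit 1024))
 (.leaf (nat_lit 0x5a85158f023) (nat_lit 1794))
) (.node (nat_lit 0x5a922e0e3c9) (.leaf (nat_lit 0x5a922d8f023) (nat_lit 1280))
 (.leaf (nat_lit 0x5a922e0e3c9) (nat_lit 1539))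
))) (.node (nat_lit 0x5aa4fd878aa) (.node (nat_lit 0x5aa2f07585b) (.node (nat_lit 0x5aa0060ebc8) (.leaf (nat_lit 0x5aa0047585b) (nat_lit 1795))
 (.leaf (nat_lit 0x5aa0060ebc8) (nat_lit 1536))
) (.node (nat_lit 0x5aa2f1878aa) (.leaf (nat_lit 0x5aa2f07585b) (nat_lit 1282))
 (.leaf (nat_lit 0x5aa2f1878aa) (nat_lit 1536))
)) (.node (nat_lit 0x5ab2298e024) (.node (nat_lit 0x5aa4fd8e024) (.leaf (nat_lit 0x5aa4fd878aa) (nat_lit 1536))
 (.leaf (nat_lit 0x5aa4fd8e024) (nat_lit 1792))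
) (.node (nat_lit 0x5ab22a0ebc8) (.leaf (nat_lit 0x5ab2298e024) (nat_lit 1792))
 (.leaf (nat_lit 0x5ab22a0ebc8) (nat_lit 1536))
)))) (.node (nat_lit 0x5c828085a39) (.node (nat_lit 0x5c6db086a38) (.node (nat_lit 0x5c68a873088) (.node (nat_lit 0x5c627eb6090) (.leaf (nat_lit 0x5c627c86a38) (nat_lit 1026))
 (.leaf (nat_lit 0x5c627eb6090) (nat_lit 1282))
) (.node (nat_lit 0x5c68aab6090) (.leaf (nat_lit 0x5c68a873088) (nat_lit 1539))
 (.leaf (nat_lit 0x5c68aab6090) (nat_lit 1792))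
)) (.node (nat_lit 0x5c6e6073088) (.node (nat_lit 0x5c6db273c53) (.leaf (nat_lit 0x5c6db086a38) (nat_lit 1027))
 (.leaf (nat_lit 0x5c6db273c53) (nat_lit 1281))
) (.node (nat_lit 0x5c6e6273c53) (.leaf (nat_lit 0x5c6e6073088) (nat_lit 1537))
 (.leaf (nat_lit 0x5c6e6273c53) (nat_lit 1283))
))) (.node (nat_lit 0x5c8db485a39) (.node (nat_lit 0x5c889472887) (.node (nat_lit 0x5c8282b5889) (.leaf (nat_lit 0x5c828085a39) (nat_lit 1537))
 (.leaf (nat_lit 0x5c8282b5889) (nat_lit 1793))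
) (.node (nat_lit 0x5c8896b5889) (.leaf (nat_lit 0x5c889472887) (nat_lit 1538))
 (.leaf (nat_lit 0x5c8896b5889) (nat_lit 1280))
)) (.node (nat_lit 0x5c8e6472887) (.node (nat_lit 0x5c8db674c52) (.leaf (nat_lit 0x5c8db485a39) (nat_lit 1538))
 (.leaf (nat_lit 0x5c8db674c52) (nat_lit 1280))
) (.node (nat_lit 0x5c8e6674c52) (.leaf (nat_lit 0x5c8e6472887) (nat_lit 1537))
 (.leaf (nat_lit 0x5c8e6674c52) (nat_lit 1280))
)))))) (.node (nat_lit 0x608d2d2b221) (.node (nat_lit 0x5fa9fc9d15a) (.node (nat_lit 0x5e20d86b192) (.node (nat_lit 0x5e0bf58f93e) (.node (nat_lit 0x5e031869186) (.node (nat_lit 0x5e00deb4b8c) (.leaf (nat_lit 0x5e00dc69186) (nat_lit 1537))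
 (.leaf (nat_lit 0x5e00deb4b8c) (nat_lit 1792))
) (.node (nat_lit 0x5e031991cf8) (.leaf (nat_lit 0x5e031869186) (nat_lit 1025))
 (.leaf (nat_lit 0x5e031991cf8) (nat_lit 768))
)) (.node (nat_lit 0x5e0ce58f93e) (.node (nat_lit 0x5e0bf6b4b8c) (.leaf (nat_lit 0x5e0bf58f93e) (nat_lit 1025))
 (.leaf (nat_lit 0x5e0bf6b4b8c) (nat_lit 1281))
) (.node (nat_lit 0x5e0ce591cf8) (.leaf (nat_lit 0x5e0ce58f93e) (nat_lit 1536))
 (.leaf (nat_lit 0x5e0ce591cf8) (nat_lit 1281))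
))) (.node (nat_lit 0x5e2bfd8e942) (.node (nat_lit 0x5e23146b192) (.node (nat_lit 0x5e20dab438b) (.leaf (nat_lit 0x5e20d86b192) (nat_lit 513))
 (.leaf (nat_lit 0x5e20dab438b) (nat_lit 1280))
) (.node (nat_lit 0x5e2315914f9) (.leaf (nat_lit 0x5e23146b192) (nat_lit 1026))
 (.leaf (nat_lit 0x5e2315914f9) (nat_lit 1280))
)) (.node (nat_lit 0x5e2ce18e942) (.node (nat_lit 0x5e2bfeb438b) (.leaf (nat_lit 0x5e2bfd8e942) (nat_lit 1538))
 (.leaf (nat_lit 0x5e2bfeb438b) (nat_lit 1282))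
) (.node (nat_lit 0x5e2ce1914f9) (.leaf (nat_lit 0x5e2ce18e942) (nat_lit 1538))
 (.leaf (nat_lit 0x5e2ce1914f9) (nat_lit 1280))
)))) (.node (nat_lit 0x5fe9e89d95b) (.node (nat_lit 0x5fb4349d15a) (.node (nat_lit 0x5fabc0114f5) (.node (nat_lit 0x5fa9fdbe55c) (.leaf (nat_lit 0x5fa9fc9d15a) (nat_lit 1283))
 (.leaf (nat_lit 0x5fa9fdbe55c) (nat_lit 1539))
) (.node (nat_lit 0x5fabc1be55c) (.leaf (nat_lit 0x5fabc0114f5) (nat_lit 1793))
 (.leaf (nat_lit 0x5fabc1be55c) (nat_lit 1536))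
)) (.node (nat_lit 0x5fb550114f5) (.node (nat_lit 0x5fb434a82d0) (.leaf (nat_lit 0x5fb4349d15a) (nat_lit 1795))
 (.leaf (nat_lit 0x5fb434a82d0) (nat_lit 1536))
) (.node (nat_lit 0x5fb550a82d0) (.leaf (nat_lit 0x5fb550114f5) (nat_lit 1794))
 (.leaf (nat_lit 0x5fb550a82d0) (nat_lit 1539))
))) (.node (nat_lit 0x5ff4309d95b) (.node (nat_lit 0x5febc410cf4) (.node (nat_lit 0x5fe9e9c555d) (.leaf (nat_lit 0x5fe9e89d95b) (nat_lit 1281))
 (.leaf (nat_lit 0x5fe9e9c555d) (nat_lit 1027))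
) (.node (nat_lit 0x5febc5c555d) (.leaf (nat_lit 0x5febc410cf4) (nat_lit 1795))
 (.leaf (nat_lit 0x5febc5c555d) (nat_lit 1025))
)) (.node (nat_lit 0x5ff55410cf4) (.node (nat_lit 0x5ff430a92cc) (.leaf (nat_lit 0x5ff4309d95b) (nat_lit 1282))
 (.leaf (nat_lit 0x5ff430a92cc) (nat_lit 1539))
) (.node (nat_lit 0x5ff554a92cc) (.leaf (nat_lit 0x5ff55410cf4) (nat_lit 1793))
 (.leaf (nat_lit 0x5ff554a92cc) (nat_lit 2050))
))))) (.node (nat_lit 0x612680601ea) (.node (nat_lit 0x60ad292ba1d) (.node (nat_lit 0x608ec52b221) (.node (nat_lit 0x608e368e34e) (.node (nat_lit 0x608d2eba0b1) (.leaf (nat_lit 0x608d2d2b221) (nat_lit 1793))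
 (.leaf (nat_lit 0x608d2eba0b1) (nat_lit 1536))
) (.node (nat_lit 0x608e36ba0b1) (.leaf (nat_lit 0x608e368e34e) (nat_lit 1793))
 (.leaf (nat_lit 0x608e36ba0b1) (nat_lit 1536))
)) (.node (nat_lit 0x608f19480c8) (.node (nat_lit 0x608ec5480c8) (.leaf (nat_lit 0x608ec52b221) (nat_lit 1281))
 (.leaf (nat_lit 0x608ec5480c8) (nat_lit 2051))
) (.node (nat_lit 0x608f1a8e34e) (.leaf (nat_lit 0x608f19480c8) (nat_lit 1539))
 (.leaf (nat_lit 0x608f1a8e34e) (nat_lit 1792))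
))) (.node (nat_lit 0x60aecd2ba1d) (.node (nat_lit 0x60adf68eb50) (.node (nat_lit 0x60ad2aba8b2) (.leaf (nat_lit 0x60ad292ba1d) (nat_lit 1795))
 (.leaf (nat_lit 0x60ad2aba8b2) (nat_lit 1539))
) (.node (nat_lit 0x60adf6ba8b2) (.leaf (nat_lit 0x60adf68eb50) (nat_lit 1794))
 (.leaf (nat_lit 0x60adf6ba8b2) (nat_lit 1027))
)) (.node (nat_lit 0x60af15460cb) (.node (nat_lit 0x60aecd460cb) (.leaf (nat_lit 0x60aecd2ba1d) (nat_lit 1281))
 (.leaf (nat_lit 0x60aecd460cb) (nat_lit 1539))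
) (.node (nat_lit 0x60af168eb50) (.leaf (nat_lit 0x60af15460cb) (nat_lit 1539))
 (.leaf (nat_lit 0x60af168eb50) (nat_lit 1795))
)))) (.node (nat_lit 0x618684611e8) (.node (nat_lit 0x612924601ea) (.node (nat_lit 0x61287e5cc50) (.node (nat_lit 0x61268166152) (.leaf (nat_lit 0x612680601ea) (nat_lit 1539))
 (.leaf (nat_lit 0x61268166152) (nat_lit 1282))
) (.node (nat_lit 0x61287e97c45) (.leaf (nat_lit 0x61287e5cc50) (nat_lit 1538))
 (.leaf (nat_lit 0x61287e97c45) (nat_lit 1281))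
)) (.node (nat_lit 0x612a9966152) (.node (nat_lit 0x61292697c45) (.leaf (nat_lit 0x612924601ea) (nat_lit 1027))
 (.leaf (nat_lit 0x61292697c45) (nat_lit 1280))
) (.node (nat_lit 0x612a9a5cc50) (.leaf (nat_lit 0x612a9966152) (nat_lit 1282))
 (.leaf (nat_lit 0x612a9a5cc50) (nat_lit 1024))
))) (.node (nat_lit 0x61892c611e8) (.node (nat_lit 0x618881901d9) (.node (nat_lit 0x618686ae37c) (.leaf (nat_lit 0x618684611e8) (nat_lit 1536))
 (.leaf (nat_lit 0x618686ae37c) (nat_lit 1282))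
) (.node (nat_lit 0x6188825dc51) (.leaf (nat_lit 0x618881901d9) (nat_lit 1282))
 (.leaf (nat_lit 0x6188825dc51) (nat_lit 1024))
)) (.node (nat_lit 0x618a9e5dc51) (.node (nat_lit 0x61892d901d9) (.leaf (nat_lit 0x61892c611e8) (nat_lit 1025))
 (.leaf (nat_lit 0x61892d901d9) (nat_lit 1792))
) (.node (nat_lit 0x618a9eae37c) (.leaf (nat_lit 0x618a9e5dc51) (nat_lit 512))
 (.leaf (nat_lit 0x618a9eae37c) (nat_lit 1792))
))))))) (.node (nat_lit 0x6900d27a021) (.node (nat_lit 0x6709e89d95b) (.node (nat_lit 0x62859d8f023) (.node (nat_lit 0x61c684611e8) (.node (nat_lit 0x61a924601ea) (.node (nat_lit 0x61a87d909d8) (.node (nat_lit 0x61a682aeb8a) (.leaf (nat_lit 0x61a680601ea) (nat_lit 1024))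
 (.leaf (nat_lit 0x61a682aeb8a) (nat_lit 1280))
) (.node (nat_lit 0x61a87e5cc50) (.leaf (nat_lit 0x61a87d909d8) (nat_lit 1795))
 (.leaf (nat_lit 0x61a87e5cc50) (nat_lit 1024))
)) (.node (nat_lit 0x61aa9a5cc50) (.node (nat_lit 0x61a925909d8) (.leaf (nat_lit 0x61a924601ea) (nat_lit 1025))
 (.leaf (nat_lit 0x61a925909d8) (nat_lit 1283))
) (.node (nat_lit 0x61aa9aaeb8a) (.leaf (nat_lit 0x61aa9a5cc50) (nat_lit 1536))
 (.leaf (nat_lit 0x61aa9aaeb8a) (nat_lit 1282))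
))) (.node (nat_lit 0x61c92c611e8) (.node (nat_lit 0x61c8825dc51) (.node (nat_lit 0x61c68568150) (.leaf (nat_lit 0x61c684611e8) (nat_lit 1539))
 (.leaf (nat_lit 0x61c68568150) (nat_lit 1792))
) (.node (nat_lit 0x61c88297444) (.leaf (nat_lit 0x61c8825dc51) (nat_lit 1539))
 (.leaf (nat_lit 0x61c88297444) (nat_lit 1795))
)) (.node (nat_lit 0x61ca9d68150) (.node (nat_lit 0x61c92e97444) (.leaf (nat_lit 0x61c92c611e8) (nat_lit 1536))
 (.leaf (nat_lit 0x61c92e97444) (nat_lit 1792))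
) (.node (nat_lit 0x61ca9e5dc51) (.leaf (nat_lit 0x61ca9d68150) (nat_lit 1795))
 (.leaf (nat_lit 0x61ca9e5dc51) (nat_lit 1538))
)))) (.node (nat_lit 0x62c5918e024) (.node (nat_lit 0x62884c1f81c) (.node (nat_lit 0x6288201f81c) (.node (nat_lit 0x62859e0e3c9) (.leaf (nat_lit 0x62859d8f023) (nat_lit 1792))
 (.leaf (nat_lit 0x62859e0e3c9) (nat_lit 2050))
) (.node (nat_lit 0x6288220e3c9) (.leaf (nat_lit 0x6288201f81c) (nat_lit 1793))
 (.leaf (nat_lit 0x6288220e3c9) (nat_lit 1536))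
)) (.node (nat_lit 0x6291bd8594c) (.node (nat_lit 0x62884d8594c) (.leaf (nat_lit 0x62884c1f81c) (nat_lit 1792))
 (.leaf (nat_lit 0x62884d8594c) (nat_lit 1538))
) (.node (nat_lit 0x6291bd8f023) (.leaf (nat_lit 0x6291bd8594c) (nat_lit 1536))
 (.leaf (nat_lit 0x6291bd8f023) (nat_lit 1795))
))) (.node (nat_lit 0x62c8542001a) (.node (nat_lit 0x62c8242001a) (.node (nat_lit 0x62c5920ebc8) (.leaf (nat_lit 0x62c5918e024) (nat_lit 1280))
 (.leaf (nat_lit 0x62c5920ebc8) (nat_lit 1539))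
) (.node (nat_lit 0x62c8260ebc8) (.leaf (nat_lit 0x62c8242001a) (nat_lit 1794))
 (.leaf (nat_lit 0x62c8260ebc8) (nat_lit 1536))
)) (.node (nat_lit 0x62d1b98414d) (.node (nat_lit 0x62c8558414d) (.leaf (nat_lit 0x62c8542001a) (nat_lit 1280))
 (.leaf (nat_lit 0x62c8558414d) (nat_lit 2051))
) (.node (nat_lit 0x62d1b98e024) (.leaf (nat_lit 0x62d1b98414d) (nat_lit 2048))
 (.leaf (nat_lit 0x62d1b98e024) (nat_lit 1283))
))))) (.node (nat_lit 0x67a3701231c) (.node (nat_lit 0x6729fc9d15a) (.node (nat_lit 0x6714309d95b) (.node (nat_lit 0x670bc410cf4) (.node (nat_lit 0x6709e8ec321) (.leaf (nat_lit 0x6709e89d95b) (nat_lit 1792))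
 (.leaf (nat_lit 0x6709e8ec321) (nat_lit 1539))
) (.node (nat_lit 0x670bc4ec321) (.leaf (nat_lit 0x670bc410cf4) (nat_lit 1794))
 (.leaf (nat_lit 0x670bc4ec321) (nat_lit 1537))
)) (.node (nat_lit 0x67155410cf4) (.node (nat_lit 0x67143222d2f) (.leaf (nat_lit 0x6714309d95b) (nat_lit 1283))
 (.leaf (nat_lit 0x67143222d2f) (nat_lit 1538))
) (.node (nat_lit 0x67155622d2f) (.leaf (nat_lit 0x67155410cf4) (nat_lit 1793))
 (.leaf (nat_lit 0x67155622d2f) (nat_lit 2050))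
))) (.node (nat_lit 0x6734349d15a) (.node (nat_lit 0x672bc0114f5) (.node (nat_lit 0x6729fcecb20) (.leaf (nat_lit 0x6729fc9d15a) (nat_lit 1283))
 (.leaf (nat_lit 0x6729fcecb20) (nat_lit 1539))
) (.node (nat_lit 0x672bc0ecb20) (.leaf (nat_lit 0x672bc0114f5) (nat_lit 1283))
 (.leaf (nat_lit 0x672bc0ecb20) (nat_lit 1536))
)) (.node (nat_lit 0x673550114f5) (.node (nat_lit 0x6734362252e) (.leaf (nat_lit 0x6734349d15a) (nat_lit 1283))
 (.leaf (nat_lit 0x6734362252e) (nat_lit 1539))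
) (.node (nat_lit 0x6735522252e) (.leaf (nat_lit 0x673550114f5) (nat_lit 1283))
 (.leaf (nat_lit 0x6735522252e) (nat_lit 1539))
)))) (.node (nat_lit 0x67e38411b1e) (.node (nat_lit 0x67a6202d8eb) (.node (nat_lit 0x67a4182d8eb) (.node (nat_lit 0x67a371e4c1c) (.leaf (nat_lit 0x67a3701231c) (nat_lit 1538))
 (.leaf (nat_lit 0x67a371e4c1c) (nat_lit 1283))
) (.node (nat_lit 0x67a419e4c1c) (.leaf (nat_lit 0x67a4182d8eb) (nat_lit 1538))
 (.leaf (nat_lit 0x67a419e4c1c) (nat_lit 1283))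
)) (.node (nat_lit 0x67b1801231c) (.node (nat_lit 0x67a620a630b) (.leaf (nat_lit 0x67a6202d8eb) (nat_lit 1539))
 (.leaf (nat_lit 0x67a620a630b) (nat_lit 1280))
) (.node (nat_lit 0x67b180a630b) (.leaf (nat_lit 0x67b1801231c) (nat_lit 1538))
 (.leaf (nat_lit 0x67b180a630b) (nat_lit 1281))
))) (.node (nat_lit 0x67e61c2e0e9) (.node (nat_lit 0x67e4142e0e9) (.node (nat_lit 0x67e385e441d) (.leaf (nat_lit 0x67e38411b1e) (nat_lit 1539))
 (.leaf (nat_lit 0x67e385e441d) (nat_lit 1793))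
) (.node (nat_lit 0x67e415e441d) (.leaf (nat_lit 0x67e4142e0e9) (nat_lit 1537))
 (.leaf (nat_lit 0x67e415e441d) (nat_lit 771))
)) (.node (nat_lit 0x67f18411b1e) (.node (nat_lit 0x67e61ca6b08) (.leaf (nat_lit 0x67e61c2e0e9) (nat_lit 1539))
 (.leaf (nat_lit 0x67e61ca6b08) (nat_lit 770))
) (.node (nat_lit 0x67f184a6b08) (.leaf (nat_lit 0x67f18411b1e) (nat_lit 1024))
 (.leaf (nat_lit 0x67f184a6b08) (nat_lit 1282))
)))))) (.node (nat_lit 0x6a46002a291) (.node (nat_lit 0x6944ca04b1b) (.node (nat_lit 0x6920e27a822) (.node (nat_lit 0x69039d68150) (.node (nat_lit 0x69029c611e8) (.node (nat_lit 0x6900d2ae37c) (.leaf (nat_lit 0x6900d27a021) (nat_lit 1536))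
 (.leaf (nat_lit 0x6900d2ae37c) (nat_lit 1280))
) (.node (nat_lit 0x69029d68150) (.leaf (nat_lit 0x69029c611e8) (nat_lit 1027))
 (.leaf (nat_lit 0x69029d68150) (nat_lit 1282))
)) (.node (nat_lit 0x69052c611e8) (.node (nat_lit 0x69039e7a021) (.leaf (nat_lit 0x69039d68150) (nat_lit 1792))
 (.leaf (nat_lit 0x69039e7a021) (nat_lit 2050))
) (.node (nat_lit 0x69052eae37c) (.leaf (nat_lit 0x69052c611e8) (nat_lit 1536))
 (.leaf (nat_lit 0x69052eae37c) (nat_lit 1281))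
))) (.node (nat_lit 0x6923b166152) (.node (nat_lit 0x6922a4601ea) (.node (nat_lit 0x6920e2aeb8a) (.leaf (nat_lit 0x6920e27a822) (nat_lit 1537))
 (.leaf (nat_lit 0x6920e2aeb8a) (nat_lit 1792))
) (.node (nat_lit 0x6922a566152) (.leaf (nat_lit 0x6922a4601ea) (nat_lit 1537))
 (.leaf (nat_lit 0x6922a566152) (nat_lit 1281))
)) (.node (nat_lit 0x692504601ea) (.node (nat_lit 0x6923b27a822) (.leaf (nat_lit 0x6923b166152) (nat_lit 768))
 (.leaf (nat_lit 0x6923b27a822) (nat_lit 1539))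
) (.node (nat_lit 0x692506aeb8a) (.leaf (nat_lit 0x692504601ea) (nat_lit 1536))
 (.leaf (nat_lit 0x692506aeb8a) (nat_lit 1792))
)))) (.node (nat_lit 0x6964c20431a) (.node (nat_lit 0x69558c2a291) (.node (nat_lit 0x694c15f1523) (.node (nat_lit 0x6944ca65415) (.leaf (nat_lit 0x6944ca04b1b) (nat_lit 1024))
 (.leaf (nat_lit 0x6944ca65415) (nat_lit 1282))
) (.node (nat_lit 0x694c1665415) (.leaf (nat_lit 0x694c15f1523) (nat_lit 1025))
 (.leaf (nat_lit 0x694c1665415) (nat_lit 1280))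
)) (.node (nat_lit 0x6955fc2a291) (.node (nat_lit 0x69558e04b1b) (.leaf (nat_lit 0x69558c2a291) (nat_lit 1281))
 (.leaf (nat_lit 0x69558e04b1b) (nat_lit 1538))
) (.node (nat_lit 0x6955fdf1523) (.leaf (nat_lit 0x6955fc2a291) (nat_lit 1280))
 (.leaf (nat_lit 0x6955fdf1523) (nat_lit 1026))
))) (.node (nat_lit 0x69759429a92) (.node (nat_lit 0x696c11f051f) (.node (nat_lit 0x6964c266414) (.leaf (nat_lit 0x6964c20431a) (nat_lit 1536))
 (.leaf (nat_lit 0x6964c266414) (nat_lit 1793))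
) (.node (nat_lit 0x696c1266414) (.leaf (nat_lit 0x696c11f051f) (nat_lit 1536))
 (.leaf (nat_lit 0x696c1266414) (nat_lit 1792))
)) (.node (nat_lit 0x6975f829a92) (.node (nat_lit 0x6975960431a) (.leaf (nat_lit 0x69759429a92) (nat_lit 1282))
 (.leaf (nat_lit 0x6975960431a) (nat_lit 1537))
) (.node (nat_lit 0x6975f9f051f) (.leaf (nat_lit 0x6975f829a92) (nat_lit 1792))
 (.leaf (nat_lit 0x6975f9f051f) (nat_lit 1537))
))))) (.node (nat_lit 0x6bc2883b855) (.node (nat_lit 0x6a660429a92) (.node (nat_lit 0x6a4dbc65576) (.node (nat_lit 0x6a4b182a291) (.node (nat_lit 0x6a460214a5d) (.leaf (nat_lit 0x6a46002a291) (nat_lit 1794))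
 (.leaf (nat_lit 0x6a460214a5d) (nat_lit 1536))
) (.node (nat_lit 0x6a4b1a04b1b) (.leaf (nat_lit 0x6a4b182a291) (nat_lit 1280))
 (.leaf (nat_lit 0x6a4b1a04b1b) (nat_lit 1537))
)) (.node (nat_lit 0x6a52b865576) (.node (nat_lit 0x6a4dbe14a5d) (.leaf (nat_lit 0x6a4dbc65576) (nat_lit 1283))
 (.leaf (nat_lit 0x6a4dbe14a5d) (nat_lit 1536))
) (.node (nat_lit 0x6a52ba04b1b) (.leaf (nat_lit 0x6a52b865576) (nat_lit 1280))
 (.leaf (nat_lit 0x6a52ba04b1b) (nat_lit 1026))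
))) (.node (nat_lit 0x6a6db864d77) (.node (nat_lit 0x6a6b1c29a92) (.node (nat_lit 0x6a66061425c) (.leaf (nat_lit 0x6a660429a92) (nat_lit 1792))
 (.leaf (nat_lit 0x6a66061425c) (nat_lit 1539))
) (.node (nat_lit 0x6a6b1e0431a) (.leaf (nat_lit 0x6a6b1c29a92) (nat_lit 1282))
 (.leaf (nat_lit 0x6a6b1e0431a) (nat_lit 1538))
)) (.node (nat_lit 0x6a72bc64d77) (.node (nat_lit 0x6a6dba1425c) (.leaf (nat_lit 0x6a6db864d77) (nat_lit 1282))
 (.leaf (nat_lit 0x6a6dba1425c) (nat_lit 1536))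
) (.node (nat_lit 0x6a72be0431a) (.leaf (nat_lit 0x6a72bc64d77) (nat_lit 1792))
 (.leaf (nat_lit 0x6a72be0431a) (nat_lit 1537))
)))) (.node (nat_lit 0x6be2843c057) (.node (nat_lit 0x6bd2ac76885) (.node (nat_lit 0x6bd06c3b855) (.node (nat_lit 0x6bc28a29ce7) (.leaf (nat_lit 0x6bc2883b855) (nat_lit 1280))
 (.leaf (nat_lit 0x6bc28a29ce7) (nat_lit 1539))
) (.node (nat_lit 0x6bd06c4e03e) (.leaf (nat_lit 0x6bd06c3b855) (nat_lit 1792))
 (.leaf (nat_lit 0x6bd06c4e03e) (nat_lit 1537))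
)) (.node (nat_lit 0x6bd5184e03e) (.node (nat_lit 0x6bd2ae29ce7) (.leaf (nat_lit 0x6bd2ac76885) (nat_lit 1793))
 (.leaf (nat_lit 0x6bd2ae29ce7) (nat_lit 1538))
) (.node (nat_lit 0x6bd51876885) (.leaf (nat_lit 0x6bd5184e03e) (nat_lit 2050))
 (.leaf (nat_lit 0x6bd51876885) (nat_lit 1792))
))) (.node (nat_lit 0x6bf29c77086) (.node (nat_lit 0x6bf0683c057) (.node (nat_lit 0x6be286294e9) (.leaf (nat_lit 0x6be2843c057) (nat_lit 1792))
 (.leaf (nat_lit 0x6be286294e9) (nat_lit 1539))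
) (.node (nat_lit 0x6bf0684d03d) (.leaf (nat_lit 0x6bf0683c057) (nat_lit 1795))
 (.leaf (nat_lit 0x6bf0684d03d) (nat_lit 1536))
)) (.node (nat_lit 0x6bf51c4d03d) (.node (nat_lit 0x6bf29e294e9) (.leaf (nat_lit 0x6bf29c77086) (nat_lit 1281))
 (.leaf (nat_lit 0x6bf29e294e9) (nat_lit 2051))
) (.node (nat_lit 0x6bf51c77086) (.leaf (nat_lit 0x6bf51c4d03d) (nat_lit 2049))
 (.leaf (nat_lit 0x6bf51c77086) (nat_lit 1793))
)))))))) (.node (nat_lit 0x74c9c459575) (.node (nat_lit 0x70202e68327) (.node (nat_lit 0x6dc235480c8) (.node (nat_lit 0x6d89e485120) (.node (nat_lit 0x6c2ebd8e942) (.node (nat_lit 0x6c10bc27c6a) (.node (nat_lit 0x6c0ee027c6a) (.node (nat_lit 0x6c0ebab4b8c) (.leaf (nat_lit 0x6c0eb98f93e) (nat_lit 1536))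
 (.leaf (nat_lit 0x6c0ebab4b8c) (nat_lit 1283))
) (.node (nat_lit 0x6c0ee2b4b8c) (.leaf (nat_lit 0x6c0ee027c6a) (nat_lit 1537))
 (.leaf (nat_lit 0x6c0ee2b4b8c) (nat_lit 1792))
)) (.node (nat_lit 0x6c117568951) (.node (nat_lit 0x6c10bd68951) (.leaf (nat_lit 0x6c10bc27c6a) (nat_lit 1536))
 (.leaf (nat_lit 0x6c10bd68951) (nat_lit 769))
) (.node (nat_lit 0x6c11758f93e) (.leaf (nat_lit 0x6c117568951) (nat_lit 1281))
 (.leaf (nat_lit 0x6c11758f93e) (nat_lit 1538))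
))) (.node (nat_lit 0x6c30c028c69) (.node (nat_lit 0x6c2eec28c69) (.node (nat_lit 0x6c2ebeb438b) (.leaf (nat_lit 0x6c2ebd8e942) (nat_lit 1538))
 (.leaf (nat_lit 0x6c2ebeb438b) (nat_lit 1794))
) (.node (nat_lit 0x6c2eeeb438b) (.leaf (nat_lit 0x6c2eec28c69) (nat_lit 1024))
 (.leaf (nat_lit 0x6c2eeeb438b) (nat_lit 1280))
)) (.node (nat_lit 0x6c316169153) (.node (nat_lit 0x6c30c169153) (.leaf (nat_lit 0x6c30c028c69) (nat_lit 1536))
 (.leaf (nat_lit 0x6c30c169153) (nat_lit 1280))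
) (.node (nat_lit 0x6c31618e942) (.leaf (nat_lit 0x6c316169153) (nat_lit 1280))
 (.leaf (nat_lit 0x6c31618e942) (nat_lit 1027))
)))) (.node (nat_lit 0x6da9e08491f) (.node (nat_lit 0x6d93a82d0ea) (.node (nat_lit 0x6d8b8c62245) (.node (nat_lit 0x6d89e636159) (.leaf (nat_lit 0x6d89e485120) (nat_lit 1282))
 (.leaf (nat_lit 0x6d89e636159) (nat_lit 1539))
) (.node (nat_lit 0x6d8b8e36159) (.leaf (nat_lit 0x6d8b8c62245) (nat_lit 1792))
 (.leaf (nat_lit 0x6d8b8e36159) (nat_lit 1538))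
)) (.node (nat_lit 0x6d94a82d0ea) (.node (nat_lit 0x6d93a885120) (.leaf (nat_lit 0x6d93a82d0ea) (nat_lit 1537))
 (.leaf (nat_lit 0x6d93a885120) (nat_lit 1793))
) (.node (nat_lit 0x6d94a862245) (.leaf (nat_lit 0x6d94a82d0ea) (nat_lit 1539))
 (.leaf (nat_lit 0x6d94a862245) (nat_lit 1795))
))) (.node (nat_lit 0x6db3b02c8e8) (.node (nat_lit 0x6dab905fa44) (.node (nat_lit 0x6da9e235957) (.leaf (nat_lit 0x6da9e08491f) (nat_lit 1792))
 (.leaf (nat_lit 0x6da9e235957) (nat_lit 1539))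
) (.node (nat_lit 0x6dab9235957) (.leaf (nat_lit 0x6dab905fa44) (nat_lit 1795))
 (.leaf (nat_lit 0x6dab9235957) (nat_lit 2048))
)) (.node (nat_lit 0x6db4ac2c8e8) (.node (nat_lit 0x6db3b08491f) (.leaf (nat_lit 0x6db3b02c8e8) (nat_lit 1536))
 (.leaf (nat_lit 0x6db3b08491f) (nat_lit 1793))
) (.node (nat_lit 0x6db4ac5fa44) (.leaf (nat_lit 0x6db4ac2c8e8) (nat_lit 1024))
 (.leaf (nat_lit 0x6db4ac5fa44) (nat_lit 1794))
))))) (.node (nat_lit 0x6fa4ca14a5d) (.node (nat_lit 0x6de22d460cb) (.node (nat_lit 0x6dc7b8564cd) (.node (nat_lit 0x6dc4ad480c8) (.node (nat_lit 0x6dc2368e34e) (.leaf (nat_lit 0x6dc235480c8) (nat_lit 1539))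
 (.leaf (nat_lit 0x6dc2368e34e) (nat_lit 1283))
) (.node (nat_lit 0x6dc4ae69552) (.leaf (nat_lit 0x6dc4ad480c8) (nat_lit 2049))
 (.leaf (nat_lit 0x6dc4ae69552) (nat_lit 1283))
)) (.node (nat_lit 0x6dcd4c564cd) (.node (nat_lit 0x6dc7ba8e34e) (.leaf (nat_lit 0x6dc7b8564cd) (nat_lit 2049))
 (.leaf (nat_lit 0x6dc7ba8e34e) (nat_lit 771))
) (.node (nat_lit 0x6dcd4e69552) (.leaf (nat_lit 0x6dcd4c564cd) (nat_lit 1536))
 (.leaf (nat_lit 0x6dcd4e69552) (nat_lit 1794))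
))) (.node (nat_lit 0x6de7bc574cb) (.node (nat_lit 0x6de4a9460cb) (.node (nat_lit 0x6de22e8eb50) (.leaf (nat_lit 0x6de22d460cb) (nat_lit 2051))
 (.leaf (nat_lit 0x6de22e8eb50) (nat_lit 1283))
) (.node (nat_lit 0x6de4aa6a550) (.leaf (nat_lit 0x6de4a9460cb) (nat_lit 1539))
 (.leaf (nat_lit 0x6de4aa6a550) (nat_lit 1283))
)) (.node (nat_lit 0x6ded48574cb) (.node (nat_lit 0x6de7be8eb50) (.leaf (nat_lit 0x6de7bc574cb) (nat_lit 1025))
 (.leaf (nat_lit 0x6de7be8eb50) (nat_lit 1795))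
) (.node (nat_lit 0x6ded4a6a550) (.leaf (nat_lit 0x6ded48574cb) (nat_lit 1537))
 (.leaf (nat_lit 0x6ded4a6a550) (nat_lit 1283))
)))) (.node (nat_lit 0x6fe02668b28) (.node (nat_lit 0x6fb58c2a291) (.node (nat_lit 0x6fac15944d1) (.node (nat_lit 0x6fa4ca65415) (.leaf (nat_lit 0x6fa4ca14a5d) (nat_lit 1537))
 (.leaf (nat_lit 0x6fa4ca65415) (nat_lit 1281))
) (.node (nat_lit 0x6fac1665415) (.leaf (nat_lit 0x6fac15944d1) (nat_lit 1027))
 (.leaf (nat_lit 0x6fac1665415) (nat_lit 1280))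
)) (.node (nat_lit 0x6fb5fc2a291) (.node (nat_lit 0x6fb58e14a5d) (.leaf (nat_lit 0x6fb58c2a291) (nat_lit 1280))
 (.leaf (nat_lit 0x6fb58e14a5d) (nat_lit 1536))
) (.node (nat_lit 0x6fb5fd944d1) (.leaf (nat_lit 0x6fb5fc2a291) (nat_lit 1793))
 (.leaf (nat_lit 0x6fb5fd944d1) (nat_lit 1536))
))) (.node (nat_lit 0x6fe7c858528) (.node (nat_lit 0x6fe1b291be2) (.node (nat_lit 0x6fe026bb8c9) (.leaf (nat_lit 0x6fe02668b28) (nat_lit 1794))
 (.leaf (nat_lit 0x6fe026bb8c9) (nat_lit 1538))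
) (.node (nat_lit 0x6fe1b2bb8c9) (.leaf (nat_lit 0x6fe1b291be2) (nat_lit 1793))
 (.leaf (nat_lit 0x6fe1b2bb8c9) (nat_lit 1539))
)) (.node (nat_lit 0x6fee9858528) (.node (nat_lit 0x6fe7ca91be2) (.leaf (nat_lit 0x6fe7c858528) (nat_lit 1539))
 (.leaf (nat_lit 0x6fe7ca91be2) (nat_lit 1795))
) (.node (nat_lit 0x6fee9a68b28) (.leaf (nat_lit 0x6fee9858528) (nat_lit 1538))
 (.leaf (nat_lit 0x6fee9a68b28) (nat_lit 1283))
)))))) (.node (nat_lit 0x7309e419a60) (.node (nat_lit 0x70a095bd0f7) (.node (nat_lit 0x70609dbd8fb) (.node (nat_lit 0x7027d457d29) (.node (nat_lit 0x7021ae8fbe0) (.node (nat_lit 0x70202ebb0ca) (.leaf (nat_lit 0x70202e68327) (nat_lit 1793))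
 (.leaf (nat_lit 0x70202ebb0ca) (nat_lit 1537))
) (.node (nat_lit 0x7021aebb0ca) (.leaf (nat_lit 0x7021ae8fbe0) (nat_lit 1794))
 (.leaf (nat_lit 0x7021aebb0ca) (nat_lit 2051))
)) (.node (nat_lit 0x702e9c57d29) (.node (nat_lit 0x7027d68fbe0) (.leaf (nat_lit 0x7027d457d29) (nat_lit 1027))
 (.leaf (nat_lit 0x7027d68fbe0) (nat_lit 1795))
) (.node (nat_lit 0x702e9e68327) (.leaf (nat_lit 0x702e9c57d29) (nat_lit 1536))
 (.leaf (nat_lit 0x702e9e68327) (nat_lit 1283))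
))) (.node (nat_lit 0x706abaa94d2) (.node (nat_lit 0x70637c59575) (.node (nat_lit 0x70609eb3158) (.leaf (nat_lit 0x70609dbd8fb) (nat_lit 1026))
 (.leaf (nat_lit 0x70609eb3158) (nat_lit 1792))
) (.node (nat_lit 0x70637ea94d2) (.leaf (nat_lit 0x70637c59575) (nat_lit 1793))
 (.leaf (nat_lit 0x70637ea94d2) (nat_lit 1537))
)) (.node (nat_lit 0x70715859575) (.node (nat_lit 0x706abab3158) (.leaf (nat_lit 0x706abaa94d2) (nat_lit 1537))
 (.leaf (nat_lit 0x706abab3158) (nat_lit 1792))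
) (.node (nat_lit 0x707159bd8fb) (.leaf (nat_lit 0x70715859575) (nat_lit 1281))
 (.leaf (nat_lit 0x707159bd8fb) (nat_lit 1536))
)))) (.node (nat_lit 0x71a4c21425c) (.node (nat_lit 0x70aabea84d4) (.node (nat_lit 0x70a38058d74) (.node (nat_lit 0x70a096b395c) (.leaf (nat_lit 0x70a095bd0f7) (nat_lit 1024))
 (.leaf (nat_lit 0x70a096b395c) (nat_lit 1280))
) (.node (nat_lit 0x70a382a84d4) (.leaf (nat_lit 0x70a38058d74) (nat_lit 1792))
 (.leaf (nat_lit 0x70a382a84d4) (nat_lit 1024))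
)) (.node (nat_lit 0x70b15058d74) (.node (nat_lit 0x70aabeb395c) (.leaf (nat_lit 0x70aabea84d4) (nat_lit 1024))
 (.leaf (nat_lit 0x70aabeb395c) (nat_lit 1283))
) (.node (nat_lit 0x70b151bd0f7) (.leaf (nat_lit 0x70b15058d74) (nat_lit 1282))
 (.leaf (nat_lit 0x70b151bd0f7) (nat_lit 1025))
))) (.node (nat_lit 0x71b59429a92) (.node (nat_lit 0x71ac1193cd0) (.node (nat_lit 0x71a4c266414) (.leaf (nat_lit 0x71a4c21425c) (nat_lit 1539))
 (.leaf (nat_lit 0x71a4c266414) (nat_lit 770))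
) (.node (nat_lit 0x71ac1266414) (.leaf (nat_lit 0x71ac1193cd0) (nat_lit 1024))
 (.leaf (nat_lit 0x71ac1266414) (nat_lit 1280))
)) (.node (nat_lit 0x71b5f829a92) (.node (nat_lit 0x71b5961425c) (.leaf (nat_lit 0x71b59429a92) (nat_lit 1793))
 (.leaf (nat_lit 0x71b5961425c) (nat_lit 1537))
) (.node (nat_lit 0x71b5f993cd0) (.leaf (nat_lit 0x71b5f829a92) (nat_lit 1280))
 (.leaf (nat_lit 0x71b5f993cd0) (nat_lit 1538))
))))) (.node (nat_lit 0x7368089badd) (.node (nat_lit 0x7329e01aa62) (.node (nat_lit 0x7313a819a60) (.node (nat_lit 0x730b8c9b2db) (.node (nat_lit 0x7309e636159) (.leaf (nat_lit 0x7309e419a60) (nat_lit 1795))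
 (.leaf (nat_lit 0x7309e636159) (nat_lit 1537))
) (.node (nat_lit 0x730b8e36159) (.leaf (nat_lit 0x730b8c9b2db) (nat_lit 1792))
 (.leaf (nat_lit 0x730b8e36159) (nat_lit 2051))
)) (.node (nat_lit 0x7314a82d0ea) (.node (nat_lit 0x7313a82d0ea) (.leaf (nat_lit 0x7313a819a60) (nat_lit 1792))
 (.leaf (nat_lit 0x7313a82d0ea) (nat_lit 1537))
) (.node (nat_lit 0x7314a89b2db) (.leaf (nat_lit 0x7314a82d0ea) (nat_lit 2049))
 (.leaf (nat_lit 0x7314a89b2db) (nat_lit 1795))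
))) (.node (nat_lit 0x7333b01aa62) (.node (nat_lit 0x732b909badd) (.node (nat_lit 0x7329e235957) (.leaf (nat_lit 0x7329e01aa62) (nat_lit 1795))
 (.leaf (nat_lit 0x7329e235957) (nat_lit 1536))
) (.node (nat_lit 0x732b9235957) (.leaf (nat_lit 0x732b909badd) (nat_lit 1792))
 (.leaf (nat_lit 0x732b9235957) (nat_lit 2049))
)) (.node (nat_lit 0x7334ac2c8e8) (.node (nat_lit 0x7333b02c8e8) (.leaf (nat_lit 0x7333b01aa62) (nat_lit 1793))
 (.leaf (nat_lit 0x7333b02c8e8) (nat_lit 2048))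
) (.node (nat_lit 0x7334ac9badd) (.leaf (nat_lit 0x7334ac2c8e8) (nat_lit 2048))
 (.leaf (nat_lit 0x7334ac9badd) (nat_lit 1280))
)))) (.node (nat_lit 0x73e8009b2db) (.node (nat_lit 0x736a384dc16) (.node (nat_lit 0x736a204dc16) (.node (nat_lit 0x73680a35957) (.leaf (nat_lit 0x7368089badd) (nat_lit 1280))
 (.leaf (nat_lit 0x73680a35957) (nat_lit 1538))
) (.node (nat_lit 0x736a205fa44) (.leaf (nat_lit 0x736a204dc16) (nat_lit 2051))
 (.leaf (nat_lit 0x736a205fa44) (nat_lit 1793))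
)) (.node (nat_lit 0x73734c5fa44) (.node (nat_lit 0x736a389badd) (.leaf (nat_lit 0x736a384dc16) (nat_lit 1538))
 (.leaf (nat_lit 0x736a389badd) (nat_lit 1795))
) (.node (nat_lit 0x73734e35957) (.leaf (nat_lit 0x73734c5fa44) (nat_lit 1794))
 (.leaf (nat_lit 0x73734e35957) (nat_lit 1538))
))) (.node (nat_lit 0x73ea3c4cc17) (.node (nat_lit 0x73e9f44cc17) (.node (nat_lit 0x73e80236159) (.leaf (nat_lit 0x73e8009b2db) (nat_lit 1280))
 (.leaf (nat_lit 0x73e80236159) (nat_lit 2050))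
) (.node (nat_lit 0x73e9f462245) (.leaf (nat_lit 0x73e9f44cc17) (nat_lit 1537))
 (.leaf (nat_lit 0x73e9f462245) (nat_lit 1795))
)) (.node (nat_lit 0x73f35c62245) (.node (nat_lit 0x73ea3c9b2db) (.leaf (nat_lit 0x73ea3c4cc17) (nat_lit 1537))
 (.leaf (nat_lit 0x73ea3c9b2db) (nat_lit 1792))
) (.node (nat_lit 0x73f35e36159) (.leaf (nat_lit 0x73f35c62245) (nat_lit 1793))
 (.leaf (nat_lit 0x73f35e36159) (nat_lit 1537))
))))))) (.node (nat_lit 0x78a4ca14a5d) (.node (nat_lit 0x7624c20431a) (.node (nat_lit 0x75c20cecb20) (.node (nat_lit 0x74e9c858d74) (.node (nat_lit 0x74cff059575) (.node (nat_lit 0x74cdfc65a8c) (.node (nat_lit 0x74c9c5a751c) (.leaf (nat_lit 0x74c9c459575) (nat_lit 1280))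
 (.leaf (nat_lit 0x74c9c5a751c) (nat_lit 1024))
) (.node (nat_lit 0x74cdfda751c) (.leaf (nat_lit 0x74cdfc65a8c) (nat_lit 1281))
 (.leaf (nat_lit 0x74cdfda751c) (nat_lit 1539))
)) (.node (nat_lit 0x74d4fc65a8c) (.node (nat_lit 0x74cff2a94d2) (.leaf (nat_lit 0x74cff059575) (nat_lit 1282))
 (.leaf (nat_lit 0x74cff2a94d2) (nat_lit 1024))
) (.node (nat_lit 0x74d4fea94d2) (.leaf (nat_lit 0x74d4fc65a8c) (nat_lit 1281))
 (.leaf (nat_lit 0x74d4fea94d2) (nat_lit 1024))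
))) (.node (nat_lit 0x74efec58d74) (.node (nat_lit 0x74ee0464290) (.node (nat_lit 0x74e9c9a851d) (.leaf (nat_lit 0x74e9c858d74) (nat_lit 1282))
 (.leaf (nat_lit 0x74e9c9a851d) (nat_lit 1536))
) (.node (nat_lit 0x74ee05a851d) (.leaf (nat_lit 0x74ee0464290) (nat_lit 1282))
 (.leaf (nat_lit 0x74ee05a851d) (nat_lit 1025))
)) (.node (nat_lit 0x74f4f864290) (.node (nat_lit 0x74efeea84d4) (.leaf (nat_lit 0x74efec58d74) (nat_lit 1792))
 (.leaf (nat_lit 0x74efeea84d4) (nat_lit 512))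
) (.node (nat_lit 0x74f4faa84d4) (.leaf (nat_lit 0x74f4f864290) (nat_lit 770))
 (.leaf (nat_lit 0x74f4faa84d4) (nat_lit 1537))
)))) (.node (nat_lit 0x75e210ec321) (.node (nat_lit 0x75c98cf50c0) (.node (nat_lit 0x75c48c114f5) (.node (nat_lit 0x75c20cf50c0) (.leaf (nat_lit 0x75c20cecb20) (nat_lit 1537))
 (.leaf (nat_lit 0x75c20cf50c0) (nat_lit 1794))
) (.node (nat_lit 0x75c48cecb20) (.leaf (nat_lit 0x75c48c114f5) (nat_lit 771))
 (.leaf (nat_lit 0x75c48cecb20) (nat_lit 2048))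
)) (.node (nat_lit 0x75cd80114f5) (.node (nat_lit 0x75c98dbe55c) (.leaf (nat_lit 0x75c98cf50c0) (nat_lit 1283))
 (.leaf (nat_lit 0x75c98dbe55c) (nat_lit 1539))
) (.node (nat_lit 0x75cd81be55c) (.leaf (nat_lit 0x75cd80114f5) (nat_lit 1792))
 (.leaf (nat_lit 0x75cd81be55c) (nat_lit 1027))
))) (.node (nat_lit 0x75e984f40c2) (.node (nat_lit 0x75e48810cf4) (.node (nat_lit 0x75e210f40c2) (.leaf (nat_lit 0x75e210ec321) (nat_lit 1539))
 (.leaf (nat_lit 0x75e210f40c2) (nat_lit 1283))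
) (.node (nat_lit 0x75e488ec321) (.leaf (nat_lit 0x75e48810cf4) (nat_lit 1283))
 (.leaf (nat_lit 0x75e488ec321) (nat_lit 1539))
)) (.node (nat_lit 0x75ed8410cf4) (.node (nat_lit 0x75e985c555d) (.leaf (nat_lit 0x75e984f40c2) (nat_lit 1280))
 (.leaf (nat_lit 0x75e985c555d) (nat_lit 1536))
) (.node (nat_lit 0x75ed85c555d) (.leaf (nat_lit 0x75ed8410cf4) (nat_lit 1283))
 (.leaf (nat_lit 0x75ed85c555d) (nat_lit 1536))
))))) (.node (nat_lit 0x77020cecb20) (.node (nat_lit 0x7664ca04b1b) (.node (nat_lit 0x76359464d77) (.node (nat_lit 0x762c11f051f) (.node (nat_lit 0x7624c2940b0) (.leaf (nat_lit 0x7624c20431a) (nat_lit 1536))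
 (.leaf (nat_lit 0x7624c2940b0) (nat_lit 1280))
) (.node (nat_lit 0x762c12940b0) (.leaf (nat_lit 0x762c11f051f) (nat_lit 1536))
 (.leaf (nat_lit 0x762c12940b0) (nat_lit 1280))
)) (.node (nat_lit 0x7635f864d77) (.node (nat_lit 0x7635960431a) (.leaf (nat_lit 0x76359464d77) (nat_lit 1280))
 (.leaf (nat_lit 0x7635960431a) (nat_lit 1537))
) (.node (nat_lit 0x7635f9f051f) (.leaf (nat_lit 0x7635f864d77) (nat_lit 1283))
 (.leaf (nat_lit 0x7635f9f051f) (nat_lit 1538))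
))) (.node (nat_lit 0x76758c65576) (.node (nat_lit 0x766c15f1523) (.node (nat_lit 0x7664ca948af) (.leaf (nat_lit 0x7664ca04b1b) (nat_lit 1537))
 (.leaf (nat_lit 0x7664ca948af) (nat_lit 1283))
) (.node (nat_lit 0x766c16948af) (.leaf (nat_lit 0x766c15f1523) (nat_lit 1027))
 (.leaf (nat_lit 0x766c16948af) (nat_lit 1283))
)) (.node (nat_lit 0x7675fc65576) (.node (nat_lit 0x76758e04b1b) (.leaf (nat_lit 0x76758c65576) (nat_lit 768))
 (.leaf (nat_lit 0x76758e04b1b) (nat_lit 1539))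
) (.node (nat_lit 0x7675fdf1523) (.leaf (nat_lit 0x7675fc65576) (nat_lit 768))
 (.leaf (nat_lit 0x7675fdf1523) (nat_lit 1536))
)))) (.node (nat_lit 0x776210ec321) (.node (nat_lit 0x77098dbe55c) (.node (nat_lit 0x77048c9d15a) (.node (nat_lit 0x77020e284b9) (.leaf (nat_lit 0x77020cecb20) (nat_lit 1536))
 (.leaf (nat_lit 0x77020e284b9) (nat_lit 1795))
) (.node (nat_lit 0x77048cecb20) (.leaf (nat_lit 0x77048c9d15a) (nat_lit 1281))
 (.leaf (nat_lit 0x77048cecb20) (nat_lit 1537))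
)) (.node (nat_lit 0x770d809d15a) (.node (nat_lit 0x77098e284b9) (.leaf (nat_lit 0x77098dbe55c) (nat_lit 2049))
 (.leaf (nat_lit 0x77098e284b9) (nat_lit 1792))
) (.node (nat_lit 0x770d81be55c) (.leaf (nat_lit 0x770d809d15a) (nat_lit 1282))
 (.leaf (nat_lit 0x770d81be55c) (nat_lit 2051))
))) (.node (nat_lit 0x776985c555d) (.node (nat_lit 0x7764889d95b) (.node (nat_lit 0x77621228cbb) (.leaf (nat_lit 0x776210ec321) (nat_lit 1539))
 (.leaf (nat_lit 0x77621228cbb) (nat_lit 1795))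
) (.node (nat_lit 0x776488ec321) (.leaf (nat_lit 0x7764889d95b) (nat_lit 1792))
 (.leaf (nat_lit 0x776488ec321) (nat_lit 1537))
)) (.node (nat_lit 0x776d849d95b) (.node (nat_lit 0x77698628cbb) (.leaf (nat_lit 0x776985c555d) (nat_lit 1539))
 (.leaf (nat_lit 0x77698628cbb) (nat_lit 1795))
) (.node (nat_lit 0x776d85c555d) (.leaf (nat_lit 0x776d849d95b) (nat_lit 1282))
 (.leaf (nat_lit 0x776d85c555d) (nat_lit 1539))
)))))) (.node (nat_lit 0x7d82883b855) (.node (nat_lit 0x7b48082c8e8) (.node (nat_lit 0x78c4c21425c) (.node (nat_lit 0x78b58c65576) (.node (nat_lit 0x78ac15944d1) (.node (nat_lit 0x78a4ca948af) (.leaf (nat_lit 0x78a4ca14a5d) (nat_lit 1538))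
 (.leaf (nat_lit 0x78a4ca948af) (nat_lit 1280))
) (.node (nat_lit 0x78ac16948af) (.leaf (nat_lit 0x78ac15944d1) (nat_lit 1536))
 (.leaf (nat_lit 0x78ac16948af) (nat_lit 769))
)) (.node (nat_lit 0x78b5fc65576) (.node (nat_lit 0x78b58e14a5d) (.leaf (nat_lit 0x78b58c65576) (nat_lit 1794))
 (.leaf (nat_lit 0x78b58e14a5d) (nat_lit 1537))
) (.node (nat_lit 0x78b5fd944d1) (.leaf (nat_lit 0x78b5fc65576) (nat_lit 1793))
 (.leaf (nat_lit 0x78b5fd944d1) (nat_lit 1026))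
))) (.node (nat_lit 0x78d59464d77) (.node (nat_lit 0x78cc1193cd0) (.node (nat_lit 0x78c4c2940b0) (.leaf (nat_lit 0x78c4c21425c) (nat_lit 1025))
 (.leaf (nat_lit 0x78c4c2940b0) (nat_lit 1281))
) (.node (nat_lit 0x78cc12940b0) (.leaf (nat_lit 0x78cc1193cd0) (nat_lit 1538))
 (.leaf (nat_lit 0x78cc12940b0) (nat_lit 1282))
)) (.node (nat_lit 0x78d5f864d77) (.node (nat_lit 0x78d5961425c) (.leaf (nat_lit 0x78d59464d77) (nat_lit 1795))
 (.leaf (nat_lit 0x78d5961425c) (nat_lit 1538))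
) (.node (nat_lit 0x78d5f993cd0) (.leaf (nat_lit 0x78d5f864d77) (nat_lit 1281))
 (.leaf (nat_lit 0x78d5f993cd0) (nat_lit 1538))
)))) (.node (nat_lit 0x7b88002d0ea) (.node (nat_lit 0x7b4a389badd) (.node (nat_lit 0x7b4a205fa44) (.node (nat_lit 0x7b48089badd) (.leaf (nat_lit 0x7b48082c8e8) (nat_lit 1536))
 (.leaf (nat_lit 0x7b48089badd) (nat_lit 1795))
) (.node (nat_lit 0x7b4a20a24f3) (.leaf (nat_lit 0x7b4a205fa44) (nat_lit 1795))
 (.leaf (nat_lit 0x7b4a20a24f3) (nat_lit 1536))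
)) (.node (nat_lit 0x7b534c2c8e8) (.node (nat_lit 0x7b4a38a24f3) (.leaf (nat_lit 0x7b4a389badd) (nat_lit 1795))
 (.leaf (nat_lit 0x7b4a38a24f3) (nat_lit 1539))
) (.node (nat_lit 0x7b534c5fa44) (.leaf (nat_lit 0x7b534c2c8e8) (nat_lit 1536))
 (.leaf (nat_lit 0x7b534c5fa44) (nat_lit 1281))
))) (.node (nat_lit 0x7b8a3c9b2db) (.node (nat_lit 0x7b89f462245) (.node (nat_lit 0x7b88009b2db) (.leaf (nat_lit 0x7b88002d0ea) (nat_lit 2049))
 (.leaf (nat_lit 0x7b88009b2db) (nat_lit 1793))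
) (.node (nat_lit 0x7b89f4a1cf2) (.leaf (nat_lit 0x7b89f462245) (nat_lit 1795))
 (.leaf (nat_lit 0x7b89f4a1cf2) (nat_lit 1538))
)) (.node (nat_lit 0x7b935c2d0ea) (.node (nat_lit 0x7b8a3ca1cf2) (.leaf (nat_lit 0x7b8a3c9b2db) (nat_lit 1792))
 (.leaf (nat_lit 0x7b8a3ca1cf2) (nat_lit 1539))
) (.node (nat_lit 0x7b935c62245) (.leaf (nat_lit 0x7b935c2d0ea) (nat_lit 2051))
 (.leaf (nat_lit 0x7b935c62245) (nat_lit 1794))
))))) (.node (nat_lit 0x7f602d2e428) (.node (nat_lit 0x7da2843c057) (.node (nat_lit 0x7d92ac4856c) (.node (nat_lit 0x7d906c3b855) (.node (nat_lit 0x7d82884856c) (.leaf (nat_lit 0x7d82883b855) (nat_lit 1795))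
 (.leaf (nat_lit 0x7d82884856c) (nat_lit 2048))
) (.node (nat_lit 0x7d906cf5c39) (.leaf (nat_lit 0x7d906c3b855) (nat_lit 1283))
 (.leaf (nat_lit 0x7d906cf5c39) (nat_lit 1538))
)) (.node (nat_lit 0x7d951876885) (.node (nat_lit 0x7d92ac76885) (.leaf (nat_lit 0x7d92ac4856c) (nat_lit 1536))
 (.leaf (nat_lit 0x7d92ac76885) (nat_lit 1792))
) (.node (nat_lit 0x7d9518f5c39) (.leaf (nat_lit 0x7d951876885) (nat_lit 1793))
 (.leaf (nat_lit 0x7d9518f5c39) (nat_lit 2048))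
))) (.node (nat_lit 0x7db29c44d6b) (.node (nat_lit 0x7db0683c057) (.node (nat_lit 0x7da28444d6b) (.leaf (nat_lit 0x7da2843c057) (nat_lit 1792))
 (.leaf (nat_lit 0x7da28444d6b) (nat_lit 1539))
) (.node (nat_lit 0x7db068f643a) (.leaf (nat_lit 0x7db0683c057) (nat_lit 1792))
 (.leaf (nat_lit 0x7db068f643a) (nat_lit 1536))
)) (.node (nat_lit 0x7db51c77086) (.node (nat_lit 0x7db29c77086) (.leaf (nat_lit 0x7db29c44d6b) (nat_lit 1537))
 (.leaf (nat_lit 0x7db29c77086) (nat_lit 1792))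
) (.node (nat_lit 0x7db51cf643a) (.leaf (nat_lit 0x7db51c77086) (nat_lit 1794))
 (.leaf (nat_lit 0x7db51cf643a) (nat_lit 1024))
)))) (.node (nat_lit 0x7f80252ec29) (.node (nat_lit 0x7f67d58d408) (.node (nat_lit 0x7f61ad48854) (.node (nat_lit 0x7f602d48854) (.leaf (nat_lit 0x7f602d2e428) (nat_lit 1283))
 (.leaf (nat_lit 0x7f602d48854) (nat_lit 1025))
) (.node (nat_lit 0x7f61ad8d408) (.leaf (nat_lit 0x7f61ad48854) (nat_lit 1539))
 (.leaf (nat_lit 0x7f61ad8d408) (nat_lit 1795))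
)) (.node (nat_lit 0x7f6e9d2e428) (.node (nat_lit 0x7f67d60acca) (.leaf (nat_lit 0x7f67d58d408) (nat_lit 1793))
 (.leaf (nat_lit 0x7f67d60acca) (nat_lit 1027))
) (.node (nat_lit 0x7f6e9e0acca) (.leaf (nat_lit 0x7f6e9d2e428) (nat_lit 1794))
 (.leaf (nat_lit 0x7f6e9e0acca) (nat_lit 1539))
))) (.node (nat_lit 0x7f87c98dc09) (.node (nat_lit 0x7f81b149053) (.node (nat_lit 0x7f802549053) (.leaf (nat_lit 0x7f80252ec29) (nat_lit 1792))
 (.leaf (nat_lit 0x7f802549053) (nat_lit 1539))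
) (.node (nat_lit 0x7f81b18dc09) (.leaf (nat_lit 0x7f81b149053) (nat_lit 1539))
 (.leaf (nat_lit 0x7f81b18dc09) (nat_lit 1283))
)) (.node (nat_lit 0x7f8e992ec29) (.node (nat_lit 0x7f87ca0a4cc) (.leaf (nat_lit 0x7f87c98dc09) (nat_lit 1795))
 (.leaf (nat_lit 0x7f87ca0a4cc) (nat_lit 1538))
) (.node (nat_lit 0x7f8e9a0a4cc) (.leaf (nat_lit 0x7f8e992ec29) (nat_lit 1282))
 (.leaf (nat_lit 0x7f8e9a0a4cc) (nat_lit 1537))
))))))))) (.node (nat_lit 0x9a67801e89a) (.node (nat_lit 0x8c01d63dba2) (.node (nat_lit 0x86021222d2f) (.node (nat_lit 0x84c80019a60) (.node (nat_lit 0x8347156e937) (.node (nat_lit 0x81825c2e0e9) (.node (nat_lit 0x8149302d8eb) (.node (nat_lit 0x8146109c850) (.node (nat_lit 0x814260e1286) (.leaf (nat_lit 0x8142602d8eb) (nat_lit 1025))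
 (.leaf (nat_lit 0x814260e1286) (nat_lit 1282))
) (.node (nat_lit 0x814610a630b) (.leaf (nat_lit 0x8146109c850) (nat_lit 1537))
 (.leaf (nat_lit 0x814610a630b) (nat_lit 771))
)) (.node (nat_lit 0x8154209c850) (.node (nat_lit 0x814930a630b) (.leaf (nat_lit 0x8149302d8eb) (nat_lit 1538))
 (.leaf (nat_lit 0x814930a630b) (nat_lit 770))
) (.node (nat_lit 0x815420e1286) (.leaf (nat_lit 0x8154209c850) (nat_lit 1536))
 (.leaf (nat_lit 0x815420e1286) (nat_lit 1280))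
))) (.node (nat_lit 0x8189382e0e9) (.node (nat_lit 0x8186149c052) (.node (nat_lit 0x81825cdf287) (.leaf (nat_lit 0x81825c2e0e9) (nat_lit 1024))
 (.leaf (nat_lit 0x81825cdf287) (nat_lit 1282))
) (.node (nat_lit 0x818614a6b08) (.leaf (nat_lit 0x8186149c052) (nat_lit 1538))
 (.leaf (nat_lit 0x818614a6b08) (nat_lit 1283))
)) (.node (nat_lit 0x8194249c052) (.node (nat_lit 0x818938a6b08) (.leaf (nat_lit 0x8189382e0e9) (nat_lit 1537))
 (.leaf (nat_lit 0x818938a6b08) (nat_lit 1282))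
) (.node (nat_lit 0x819424df287) (.leaf (nat_lit 0x8194249c052) (nat_lit 1537))
 (.leaf (nat_lit 0x819424df287) (nat_lit 1283))
)))) (.node (nat_lit 0x8366fd6d936) (.node (nat_lit 0x834fb531035) (.node (nat_lit 0x834d7c7505a) (.node (nat_lit 0x83471679143) (.leaf (nat_lit 0x8347156e937) (nat_lit 1025))
 (.leaf (nat_lit 0x83471679143) (nat_lit 1280))
) (.node (nat_lit 0x834d7d31035) (.leaf (nat_lit 0x834d7c7505a) (nat_lit 1282))
 (.leaf (nat_lit 0x834d7d31035) (nat_lit 1027))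
)) (.node (nat_lit 0x8354d47505a) (.node (nat_lit 0x834fb679143) (.leaf (nat_lit 0x834fb531035) (nat_lit 1537))
 (.leaf (nat_lit 0x834fb679143) (nat_lit 1281))
) (.node (nat_lit 0x8354d56e937) (.leaf (nat_lit 0x8354d47505a) (nat_lit 1280))
 (.leaf (nat_lit 0x8354d56e937) (nat_lit 1536))
))) (.node (nat_lit 0x836fb130033) (.node (nat_lit 0x836d7874059) (.node (nat_lit 0x8366fe79944) (.leaf (nat_lit 0x8366fd6d936) (nat_lit 1026))
 (.leaf (nat_lit 0x8366fe79944) (nat_lit 768))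
) (.node (nat_lit 0x836d7930033) (.leaf (nat_lit 0x836d7874059) (nat_lit 1282))
 (.leaf (nat_lit 0x836d7930033) (nat_lit 1539))
)) (.node (nat_lit 0x8374d074059) (.node (nat_lit 0x836fb279944) (.leaf (nat_lit 0x836fb130033) (nat_lit 1024))
 (.leaf (nat_lit 0x836fb279944) (nat_lit 1283))
) (.node (nat_lit 0x8374d16d936) (.leaf (nat_lit 0x8374d074059) (nat_lit 1795))
 (.leaf (nat_lit 0x8374d16d936) (nat_lit 1026))
))))) (.node (nat_lit 0x8561a84856c) (.node (nat_lit 0x84e8081aa62) (.node (nat_lit 0x84ca3c19a60) (.node (nat_lit 0x84c9f44cc17) (.node (nat_lit 0x84c80236159) (.leaf (nat_lit 0x84c80019a60) (nat_lit 1794))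
 (.leaf (nat_lit 0x84c80236159) (nat_lit 1536))
) (.node (nat_lit 0x84c9f485120) (.leaf (nat_lit 0x84c9f44cc17) (nat_lit 2048))
 (.leaf (nat_lit 0x84c9f485120) (nat_lit 1795))
)) (.node (nat_lit 0x84d35c85120) (.node (nat_lit 0x84ca3c4cc17) (.leaf (nat_lit 0x84ca3c19a60) (nat_lit 1794))
 (.leaf (nat_lit 0x84ca3c4cc17) (nat_lit 1539))
) (.node (nat_lit 0x84d35e36159) (.leaf (nat_lit 0x84d35c85120) (nat_lit 1793))
 (.leaf (nat_lit 0x84d35e36159) (nat_lit 1027))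
))) (.node (nat_lit 0x84ea381aa62) (.node (nat_lit 0x84ea204dc16) (.node (nat_lit 0x84e80a35957) (.leaf (nat_lit 0x84e8081aa62) (nat_lit 1283))
 (.leaf (nat_lit 0x84e80a35957) (nat_lit 1539))
) (.node (nat_lit 0x84ea208491f) (.leaf (nat_lit 0x84ea204dc16) (nat_lit 1539))
 (.leaf (nat_lit 0x84ea208491f) (nat_lit 1793))
)) (.node (nat_lit 0x84f34c8491f) (.node (nat_lit 0x84ea384dc16) (.leaf (nat_lit 0x84ea381aa62) (nat_lit 1793))
 (.leaf (nat_lit 0x84ea384dc16) (nat_lit 1539))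
) (.node (nat_lit 0x84f34e35957) (.leaf (nat_lit 0x84f34c8491f) (nat_lit 1793))
 (.leaf (nat_lit 0x84f34e35957) (nat_lit 1536))
)))) (.node (nat_lit 0x85e20e2252e) (.node (nat_lit 0x85736c76885) (.node (nat_lit 0x8569684856c) (.node (nat_lit 0x8561a876885) (.leaf (nat_lit 0x8561a84856c) (nat_lit 1539))
 (.leaf (nat_lit 0x8561a876885) (nat_lit 1794))
) (.node (nat_lit 0x8569691c90b) (.leaf (nat_lit 0x8569684856c) (nat_lit 2048))
 (.leaf (nat_lit 0x8569691c90b) (nat_lit 1794))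
)) (.node (nat_lit 0x8573951c90b) (.node (nat_lit 0x85736e29ce7) (.leaf (nat_lit 0x85736c76885) (nat_lit 1283))
 (.leaf (nat_lit 0x85736e29ce7) (nat_lit 2048))
) (.node (nat_lit 0x85739629ce7) (.leaf (nat_lit 0x8573951c90b) (nat_lit 1280))
 (.leaf (nat_lit 0x85739629ce7) (nat_lit 2048))
))) (.node (nat_lit 0x85e98ca82d0) (.node (nat_lit 0x85e48c9d15a) (.node (nat_lit 0x85e20e284b9) (.leaf (nat_lit 0x85e20e2252e) (nat_lit 1536))
 (.leaf (nat_lit 0x85e20e284b9) (nat_lit 1283))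
) (.node (nat_lit 0x85e48e2252e) (.leaf (nat_lit 0x85e48c9d15a) (nat_lit 1792))
 (.leaf (nat_lit 0x85e48e2252e) (nat_lit 1539))
)) (.node (nat_lit 0x85ed809d15a) (.node (nat_lit 0x85e98e284b9) (.leaf (nat_lit 0x85e98ca82d0) (nat_lit 1537))
 (.leaf (nat_lit 0x85e98e284b9) (nat_lit 1283))
) (.node (nat_lit 0x85ed80a82d0) (.leaf (nat_lit 0x85ed809d15a) (nat_lit 1795))
 (.leaf (nat_lit 0x85ed80a82d0) (nat_lit 1539))
)))))) (.node (nat_lit 0x8a8e158d408) (.node (nat_lit 0x89c25c2e0e9) (.node (nat_lit 0x86a19444d6b) (.node (nat_lit 0x860984a92cc) (.node (nat_lit 0x8604889d95b) (.node (nat_lit 0x86021228cbb) (.leaf (nat_lit 0x86021222d2f) (nat_lit 1027))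
 (.leaf (nat_lit 0x86021228cbb) (nat_lit 1795))
) (.node (nat_lit 0x86048a22d2f) (.leaf (nat_lit 0x8604889d95b) (nat_lit 1283))
 (.leaf (nat_lit 0x86048a22d2f) (nat_lit 1538))
)) (.node (nat_lit 0x860d849d95b) (.node (nat_lit 0x86098628cbb) (.leaf (nat_lit 0x860984a92cc) (nat_lit 1538))
 (.leaf (nat_lit 0x86098628cbb) (nat_lit 1280))
) (.node (nat_lit 0x860d84a92cc) (.leaf (nat_lit 0x860d849d95b) (nat_lit 1794))
 (.leaf (nat_lit 0x860d84a92cc) (nat_lit 1538))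
))) (.node (nat_lit 0x86b36877086) (.node (nat_lit 0x86a96444d6b) (.node (nat_lit 0x86a19477086) (.leaf (nat_lit 0x86a19444d6b) (nat_lit 1536))
 (.leaf (nat_lit 0x86a19477086) (nat_lit 1793))
) (.node (nat_lit 0x86a9651c10d) (.leaf (nat_lit 0x86a96444d6b) (nat_lit 1536))
 (.leaf (nat_lit 0x86a9651c10d) (nat_lit 1793))
)) (.node (nat_lit 0x86b3911c10d) (.node (nat_lit 0x86b36a294e9) (.leaf (nat_lit 0x86b36877086) (nat_lit 1792))
 (.leaf (nat_lit 0x86b36a294e9) (nat_lit 1536))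
) (.node (nat_lit 0x86b392294e9) (.leaf (nat_lit 0x86b3911c10d) (nat_lit 1794))
 (.leaf (nat_lit 0x86b392294e9) (nat_lit 2051))
)))) (.node (nat_lit 0x89e2602d8eb) (.node (nat_lit 0x89c9382e0e9) (.node (nat_lit 0x89c6149c052) (.node (nat_lit 0x89c25c5530f) (.leaf (nat_lit 0x89c25c2e0e9) (nat_lit 1539))
 (.leaf (nat_lit 0x89c25c5530f) (nat_lit 1795))
) (.node (nat_lit 0x89c615e441d) (.leaf (nat_lit 0x89c6149c052) (nat_lit 1539))
 (.leaf (nat_lit 0x89c615e441d) (nat_lit 1280))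
)) (.node (nat_lit 0x89d4245530f) (.node (nat_lit 0x89c939e441d) (.leaf (nat_lit 0x89c9382e0e9) (nat_lit 1537))
 (.leaf (nat_lit 0x89c939e441d) (nat_lit 1283))
) (.node (nat_lit 0x89d4249c052) (.leaf (nat_lit 0x89d4245530f) (nat_lit 1281))
 (.leaf (nat_lit 0x89d4249c052) (nat_lit 1538))
))) (.node (nat_lit 0x89e9302d8eb) (.node (nat_lit 0x89e6109c850) (.node (nat_lit 0x89e26054310) (.leaf (nat_lit 0x89e2602d8eb) (nat_lit 1536))
 (.leaf (nat_lit 0x89e26054310) (nat_lit 1282))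
) (.node (nat_lit 0x89e611e4c1c) (.leaf (nat_lit 0x89e6109c850) (nat_lit 1539))
 (.leaf (nat_lit 0x89e611e4c1c) (nat_lit 1280))
)) (.node (nat_lit 0x89f42054310) (.node (nat_lit 0x89e931e4c1c) (.leaf (nat_lit 0x89e9302d8eb) (nat_lit 1538))
 (.leaf (nat_lit 0x89e931e4c1c) (nat_lit 1282))
) (.node (nat_lit 0x89f4209c850) (.leaf (nat_lit 0x89f42054310) (nat_lit 1282))
 (.leaf (nat_lit 0x89f4209c850) (nat_lit 1026))
))))) (.node (nat_lit 0x8b0210f40c2) (.node (nat_lit 0x8ace0d8dc09) (.node (nat_lit 0x8a92f457d29) (.node (nat_lit 0x8a91b457d29) (.node (nat_lit 0x8a8e160acca) (.leaf (nat_lit 0x8a8e158d408) (nat_lit 1281))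
 (.leaf (nat_lit 0x8a8e160acca) (nat_lit 515))
) (.node (nat_lit 0x8a91b58d408) (.leaf (nat_lit 0x8a91b457d29) (nat_lit 1537))
 (.leaf (nat_lit 0x8a91b58d408) (nat_lit 1281))
)) (.node (nat_lit 0x8a943a0acca) (.node (nat_lit 0x8a92f68fbe0) (.leaf (nat_lit 0x8a92f457d29) (nat_lit 1025))
 (.leaf (nat_lit 0x8a92f68fbe0) (nat_lit 1281))
) (.node (nat_lit 0x8a943a8fbe0) (.leaf (nat_lit 0x8a943a0acca) (nat_lit 1538))
 (.leaf (nat_lit 0x8a943a8fbe0) (nat_lit 1793))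
))) (.node (nat_lit 0x8ad2f058528) (.node (nat_lit 0x8ad1a058528) (.node (nat_lit 0x8ace0e0a4cc) (.leaf (nat_lit 0x8ace0d8dc09) (nat_lit 1793))
 (.leaf (nat_lit 0x8ace0e0a4cc) (nat_lit 1539))
) (.node (nat_lit 0x8ad1a18dc09) (.leaf (nat_lit 0x8ad1a058528) (nat_lit 1027))
 (.leaf (nat_lit 0x8ad1a18dc09) (nat_lit 1281))
)) (.node (nat_lit 0x8ad43e0a4cc) (.node (nat_lit 0x8ad2f291be2) (.leaf (nat_lit 0x8ad2f058528) (nat_lit 1026))
 (.leaf (nat_lit 0x8ad2f291be2) (nat_lit 1283))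
) (.node (nat_lit 0x8ad43e91be2) (.leaf (nat_lit 0x8ad43e0a4cc) (nat_lit 1027))
 (.leaf (nat_lit 0x8ad43e91be2) (nat_lit 769))
)))) (.node (nat_lit 0x8ba20cf50c0) (.node (nat_lit 0x8b0984a92cc) (.node (nat_lit 0x8b048810cf4) (.node (nat_lit 0x8b021222d2f) (.leaf (nat_lit 0x8b0210f40c2) (nat_lit 1794))
 (.leaf (nat_lit 0x8b021222d2f) (nat_lit 1538))
) (.node (nat_lit 0x8b048a22d2f) (.leaf (nat_lit 0x8b048810cf4) (nat_lit 1795))
 (.leaf (nat_lit 0x8b048a22d2f) (nat_lit 1538))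
)) (.node (nat_lit 0x8b0d8410cf4) (.node (nat_lit 0x8b0984f40c2) (.leaf (nat_lit 0x8b0984a92cc) (nat_lit 1537))
 (.leaf (nat_lit 0x8b0984f40c2) (nat_lit 1282))
) (.node (nat_lit 0x8b0d84a92cc) (.leaf (nat_lit 0x8b0d8410cf4) (nat_lit 1793))
 (.leaf (nat_lit 0x8b0d84a92cc) (nat_lit 1539))
))) (.node (nat_lit 0x8ba98ca82d0) (.node (nat_lit 0x8ba48c114f5) (.node (nat_lit 0x8ba20e2252e) (.leaf (nat_lit 0x8ba20cf50c0) (nat_lit 1283))
 (.leaf (nat_lit 0x8ba20e2252e) (nat_lit 2048))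
) (.node (nat_lit 0x8ba48e2252e) (.leaf (nat_lit 0x8ba48c114f5) (nat_lit 1795))
 (.leaf (nat_lit 0x8ba48e2252e) (nat_lit 1537))
)) (.node (nat_lit 0x8bad80114f5) (.node (nat_lit 0x8ba98cf50c0) (.leaf (nat_lit 0x8ba98ca82d0) (nat_lit 1026))
 (.leaf (nat_lit 0x8ba98cf50c0) (nat_lit 1283))
) (.node (nat_lit 0x8bad80a82d0) (.leaf (nat_lit 0x8bad80114f5) (nat_lit 1795))
 (.leaf (nat_lit 0x8bad80a82d0) (nat_lit 1538))
))))))) (.node (nat_lit 0x94e715220bf) (.node (nat_lit 0x8dca740c800) (.node (nat_lit 0x8d009dbd8fb) (.node (nat_lit 0x8c21da3bba3) (.node (nat_lit 0x8c08bc61a6a) (.node (nat_lit 0x8c023db82fe) (.node (nat_lit 0x8c01d6b5091) (.leaf (nat_lit 0x8c01d63dba2) (nat_lit 1538))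
 (.leaf (nat_lit 0x8c01d6b5091) (nat_lit 1794))
) (.node (nat_lit 0x8c023eb5091) (.leaf (nat_lit 0x8c023db82fe) (nat_lit 2050))
 (.leaf (nat_lit 0x8c023eb5091) (nat_lit 1794))
)) (.node (nat_lit 0x8c0cf461a6a) (.node (nat_lit 0x8c08bdb82fe) (.leaf (nat_lit 0x8c08bc61a6a) (nat_lit 1792))
 (.leaf (nat_lit 0x8c08bdb82fe) (nat_lit 1536))
) (.node (nat_lit 0x8c0cf63dba2) (.leaf (nat_lit 0x8c0cf461a6a) (nat_lit 1793))
 (.leaf (nat_lit 0x8c0cf63dba2) (nat_lit 2051))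
))) (.node (nat_lit 0x8c28c460a6b) (.node (nat_lit 0x8c2239b8afc) (.node (nat_lit 0x8c21dab6892) (.leaf (nat_lit 0x8c21da3bba3) (nat_lit 1537))
 (.leaf (nat_lit 0x8c21dab6892) (nat_lit 1792))
) (.node (nat_lit 0x8c223ab6892) (.leaf (nat_lit 0x8c2239b8afc) (nat_lit 1539))
 (.leaf (nat_lit 0x8c223ab6892) (nat_lit 1793))
)) (.node (nat_lit 0x8c2cfc60a6b) (.node (nat_lit 0x8c28c5b8afc) (.leaf (nat_lit 0x8c28c460a6b) (nat_lit 1792))
 (.leaf (nat_lit 0x8c28c5b8afc) (nat_lit 1539))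
) (.node (nat_lit 0x8c2cfe3bba3) (.leaf (nat_lit 0x8c2cfc60a6b) (nat_lit 1281))
 (.leaf (nat_lit 0x8c2cfe3bba3) (nat_lit 1539))
)))) (.node (nat_lit 0x8da095bd0f7) (.node (nat_lit 0x8d0aba658ae) (.node (nat_lit 0x8d037c65a8c) (.node (nat_lit 0x8d009e658ae) (.leaf (nat_lit 0x8d009dbd8fb) (nat_lit 1536))
 (.leaf (nat_lit 0x8d009e658ae) (nat_lit 1280))
) (.node (nat_lit 0x8d037ea94d2) (.leaf (nat_lit 0x8d037c65a8c) (nat_lit 1282))
 (.leaf (nat_lit 0x8d037ea94d2) (nat_lit 1536))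
)) (.node (nat_lit 0x8d115865a8c) (.node (nat_lit 0x8d0abaa94d2) (.leaf (nat_lit 0x8d0aba658ae) (nat_lit 1793))
 (.leaf (nat_lit 0x8d0abaa94d2) (nat_lit 1539))
) (.node (nat_lit 0x8d1159bd8fb) (.leaf (nat_lit 0x8d115865a8c) (nat_lit 770))
 (.leaf (nat_lit 0x8d1159bd8fb) (nat_lit 1536))
))) (.node (nat_lit 0x8daabe668ac) (.node (nat_lit 0x8da38064290) (.node (nat_lit 0x8da096668ac) (.leaf (nat_lit 0x8da095bd0f7) (nat_lit 1538))
 (.leaf (nat_lit 0x8da096668ac) (nat_lit 1283))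
) (.node (nat_lit 0x8da382a84d4) (.leaf (nat_lit 0x8da38064290) (nat_lit 1282))
 (.leaf (nat_lit 0x8da382a84d4) (nat_lit 1536))
)) (.node (nat_lit 0x8db15064290) (.node (nat_lit 0x8daabea84d4) (.leaf (nat_lit 0x8daabe668ac) (nat_lit 1281))
 (.leaf (nat_lit 0x8daabea84d4) (nat_lit 1539))
) (.node (nat_lit 0x8db151bd0f7) (.leaf (nat_lit 0x8db15064290) (nat_lit 1281))
 (.leaf (nat_lit 0x8db151bd0f7) (nat_lit 1024))
))))) (.node (nat_lit 0x9140e5358c1) (.node (nat_lit 0x8dea600d913) (.node (nat_lit 0x8dcc59358c1) (.node (nat_lit 0x8dcae5358c1) (.node (nat_lit 0x8dca757f370) (.leaf (nat_lit 0x8dca740c800) (nat_lit 1025))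
 (.leaf (nat_lit 0x8dca757f370) (nat_lit 1282))
) (.node (nat_lit 0x8dcae57f370) (.leaf (nat_lit 0x8dcae5358c1) (nat_lit 1024))
 (.leaf (nat_lit 0x8dcae57f370) (nat_lit 771))
)) (.node (nat_lit 0x8dd2c80c800) (.node (nat_lit 0x8dcc59d147b) (.leaf (nat_lit 0x8dcc59358c1) (nat_lit 1026))
 (.leaf (nat_lit 0x8dcc59d147b) (nat_lit 1794))
) (.node (nat_lit 0x8dd2c9d147b) (.leaf (nat_lit 0x8dd2c80c800) (nat_lit 513))
 (.leaf (nat_lit 0x8dd2c9d147b) (nat_lit 1795))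
))) (.node (nat_lit 0x8dec51350c3) (.node (nat_lit 0x8deaf1350c3) (.node (nat_lit 0x8dea617e371) (.leaf (nat_lit 0x8dea600d913) (nat_lit 1025))
 (.leaf (nat_lit 0x8dea617e371) (nat_lit 1283))
) (.node (nat_lit 0x8deaf17e371) (.leaf (nat_lit 0x8deaf1350c3) (nat_lit 1024))
 (.leaf (nat_lit 0x8deaf17e371) (nat_lit 1280))
)) (.node (nat_lit 0x8df2c00d913) (.node (nat_lit 0x8dec51d1c77) (.leaf (nat_lit 0x8dec51350c3) (nat_lit 1025))
 (.leaf (nat_lit 0x8dec51d1c77) (nat_lit 1283))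
) (.node (nat_lit 0x8df2c1d1c77) (.leaf (nat_lit 0x8df2c00d913) (nat_lit 1537))
 (.leaf (nat_lit 0x8df2c1d1c77) (nat_lit 1794))
)))) (.node (nat_lit 0x9160e9350c3) (.node (nat_lit 0x9149a44956d) (.node (nat_lit 0x9148d04956d) (.node (nat_lit 0x9140e5d147b) (.leaf (nat_lit 0x9140e5358c1) (nat_lit 1538))
 (.leaf (nat_lit 0x9140e5d147b) (nat_lit 1280))
) (.node (nat_lit 0x9148d19b91a) (.leaf (nat_lit 0x9148d04956d) (nat_lit 1538))
 (.leaf (nat_lit 0x9148d19b91a) (nat_lit 1283))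
)) (.node (nat_lit 0x914b55358c1) (.node (nat_lit 0x9149a5d147b) (.leaf (nat_lit 0x9149a44956d) (nat_lit 1537))
 (.leaf (nat_lit 0x9149a5d147b) (nat_lit 1281))
) (.node (nat_lit 0x914b559b91a) (.leaf (nat_lit 0x914b55358c1) (nat_lit 1025))
 (.leaf (nat_lit 0x914b559b91a) (nat_lit 1283))
))) (.node (nat_lit 0x91699c48d6a) (.node (nat_lit 0x9168d448d6a) (.node (nat_lit 0x9160e9d1c77) (.leaf (nat_lit 0x9160e9350c3) (nat_lit 1026))
 (.leaf (nat_lit 0x9160e9d1c77) (nat_lit 1793))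
) (.node (nat_lit 0x9168d59b121) (.leaf (nat_lit 0x9168d448d6a) (nat_lit 1027))
 (.leaf (nat_lit 0x9168d59b121) (nat_lit 769))
)) (.node (nat_lit 0x916b51350c3) (.node (nat_lit 0x91699dd1c77) (.leaf (nat_lit 0x91699c48d6a) (nat_lit 1536))
 (.leaf (nat_lit 0x91699dd1c77) (nat_lit 1795))
) (.node (nat_lit 0x916b519b121) (.leaf (nat_lit 0x916b51350c3) (nat_lit 1026))
 (.leaf (nat_lit 0x916b519b121) (nat_lit 1280))
)))))) (.node (nat_lit 0x96059c7485c) (.node (nat_lit 0x95c22d2ba1d) (.node (nat_lit 0x9566fd228c4) (.node (nat_lit 0x94efb48f909) (.node (nat_lit 0x94ed7c8f909) (.node (nat_lit 0x94e7160b899) (.leaf (nat_lit 0x94e715220bf) (nat_lit 1027))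
 (.leaf (nat_lit 0x94e7160b899) (nat_lit 1280))
) (.node (nat_lit 0x94ed7cacc6c) (.leaf (nat_lit 0x94ed7c8f909) (nat_lit 514))
 (.leaf (nat_lit 0x94ed7cacc6c) (nat_lit 1282))
)) (.node (nat_lit 0x94f4d4acc6c) (.node (nat_lit 0x94efb60b899) (.leaf (nat_lit 0x94efb48f909) (nat_lit 513))
 (.leaf (nat_lit 0x94efb60b899) (nat_lit 1283))
) (.node (nat_lit 0x94f4d5220bf) (.leaf (nat_lit 0x94f4d4acc6c) (nat_lit 1793))
 (.leaf (nat_lit 0x94f4d5220bf) (nat_lit 1024))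
))) (.node (nat_lit 0x956fb09010a) (.node (nat_lit 0x956d789010a) (.node (nat_lit 0x9566fe0b09b) (.leaf (nat_lit 0x9566fd228c4) (nat_lit 1025))
 (.leaf (nat_lit 0x9566fe0b09b) (nat_lit 1281))
) (.node (nat_lit 0x956d78abc6b) (.leaf (nat_lit 0x956d789010a) (nat_lit 1025))
 (.leaf (nat_lit 0x956d78abc6b) (nat_lit 1280))
)) (.node (nat_lit 0x9574d0abc6b) (.node (nat_lit 0x956fb20b09b) (.leaf (nat_lit 0x956fb09010a) (nat_lit 1026))
 (.leaf (nat_lit 0x956fb20b09b) (nat_lit 1795))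
) (.node (nat_lit 0x9574d1228c4) (.leaf (nat_lit 0x9574d0abc6b) (nat_lit 1282))
 (.leaf (nat_lit 0x9574d1228c4) (nat_lit 1026))
)))) (.node (nat_lit 0x95e2352b221) (.node (nat_lit 0x95c7bc574cb) (.node (nat_lit 0x95c4a87bb7a) (.node (nat_lit 0x95c22d460cb) (.leaf (nat_lit 0x95c22d2ba1d) (nat_lit 1793))
 (.leaf (nat_lit 0x95c22d460cb) (nat_lit 1539))
) (.node (nat_lit 0x95c4a9460cb) (.leaf (nat_lit 0x95c4a87bb7a) (nat_lit 1795))
 (.leaf (nat_lit 0x95c4a9460cb) (nat_lit 1539))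
)) (.node (nat_lit 0x95cd48574cb) (.node (nat_lit 0x95c7bd2ba1d) (.leaf (nat_lit 0x95c7bc574cb) (nat_lit 1539))
 (.leaf (nat_lit 0x95c7bd2ba1d) (nat_lit 1281))
) (.node (nat_lit 0x95cd487bb7a) (.leaf (nat_lit 0x95cd48574cb) (nat_lit 2051))
 (.leaf (nat_lit 0x95cd487bb7a) (nat_lit 1792))
))) (.node (nat_lit 0x95e7b8564cd) (.node (nat_lit 0x95e4ac7db7b) (.node (nat_lit 0x95e235480c8) (.leaf (nat_lit 0x95e2352b221) (nat_lit 1283))
 (.leaf (nat_lit 0x95e235480c8) (nat_lit 2051))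
) (.node (nat_lit 0x95e4ad480c8) (.leaf (nat_lit 0x95e4ac7db7b) (nat_lit 1795))
 (.leaf (nat_lit 0x95e4ad480c8) (nat_lit 1539))
)) (.node (nat_lit 0x95ed4c564cd) (.node (nat_lit 0x95e7b92b221) (.leaf (nat_lit 0x95e7b8564cd) (nat_lit 1538))
 (.leaf (nat_lit 0x95e7b92b221) (nat_lit 1792))
) (.node (nat_lit 0x95ed4c7db7b) (.leaf (nat_lit 0x95ed4c564cd) (nat_lit 1536))
 (.leaf (nat_lit 0x95ed4c7db7b) (nat_lit 1793))
))))) (.node (nat_lit 0x97809d10a56) (.node (nat_lit 0x9645907585b) (.node (nat_lit 0x96084c29138) (.node (nat_lit 0x96082029138) (.node (nat_lit 0x96059e0e3c9) (.leaf (nat_lit 0x96059c7485c) (nat_lit 1794))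
 (.leaf (nat_lit 0x96059e0e3c9) (nat_lit 1539))
) (.node (nat_lit 0x9608220e3c9) (.leaf (nat_lit 0x96082029138) (nat_lit 1280))
 (.leaf (nat_lit 0x9608220e3c9) (nat_lit 1538))
)) (.node (nat_lit 0x9611bc7485c) (.node (nat_lit 0x96084d8594c) (.leaf (nat_lit 0x96084c29138) (nat_lit 1793))
 (.leaf (nat_lit 0x96084d8594c) (nat_lit 1536))
) (.node (nat_lit 0x9611bd8594c) (.leaf (nat_lit 0x9611bc7485c) (nat_lit 1795))
 (.leaf (nat_lit 0x9611bd8594c) (nat_lit 2048))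
))) (.node (nat_lit 0x96485428139) (.node (nat_lit 0x96482428139) (.node (nat_lit 0x9645920ebc8) (.leaf (nat_lit 0x9645907585b) (nat_lit 1795))
 (.leaf (nat_lit 0x9645920ebc8) (nat_lit 1536))
) (.node (nat_lit 0x9648260ebc8) (.leaf (nat_lit 0x96482428139) (nat_lit 1794))
 (.leaf (nat_lit 0x9648260ebc8) (nat_lit 2051))
)) (.node (nat_lit 0x9651b87585b) (.node (nat_lit 0x9648558414d) (.leaf (nat_lit 0x96485428139) (nat_lit 1282))
 (.leaf (nat_lit 0x9648558414d) (nat_lit 1536))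
) (.node (nat_lit 0x9651b98414d) (.leaf (nat_lit 0x9651b87585b) (nat_lit 1793))
 (.leaf (nat_lit 0x9651b98414d) (nat_lit 2051))
)))) (.node (nat_lit 0x97a0950ea57) (.node (nat_lit 0x978ab9a751c) (.node (nat_lit 0x97837c65a8c) (.node (nat_lit 0x97809e658ae) (.leaf (nat_lit 0x97809d10a56) (nat_lit 1538))
 (.leaf (nat_lit 0x97809e658ae) (nat_lit 1792))
) (.node (nat_lit 0x97837da751c) (.leaf (nat_lit 0x97837c65a8c) (nat_lit 1792))
 (.leaf (nat_lit 0x97837da751c) (nat_lit 1537))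
)) (.node (nat_lit 0x97915865a8c) (.node (nat_lit 0x978aba658ae) (.leaf (nat_lit 0x978ab9a751c) (nat_lit 1024))
 (.leaf (nat_lit 0x978aba658ae) (nat_lit 1281))
) (.node (nat_lit 0x97915910a56) (.leaf (nat_lit 0x97915865a8c) (nat_lit 1280))
 (.leaf (nat_lit 0x97915910a56) (nat_lit 1026))
))) (.node (nat_lit 0x97aabda851d) (.node (nat_lit 0x97a38064290) (.node (nat_lit 0x97a096668ac) (.leaf (nat_lit 0x97a0950ea57) (nat_lit 1536))
 (.leaf (nat_lit 0x97a096668ac) (nat_lit 1792))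
) (.node (nat_lit 0x97a381a851d) (.leaf (nat_lit 0x97a38064290) (nat_lit 1792))
 (.leaf (nat_lit 0x97a381a851d) (nat_lit 1538))
)) (.node (nat_lit 0x97b15064290) (.node (nat_lit 0x97aabe668ac) (.leaf (nat_lit 0x97aabda851d) (nat_lit 1536))
 (.leaf (nat_lit 0x97aabe668ac) (nat_lit 1280))
) (.node (nat_lit 0x97b1510ea57) (.leaf (nat_lit 0x97b15064290) (nat_lit 1792))
 (.leaf (nat_lit 0x97b1510ea57) (nat_lit 1536))
)))))))) (.node (nat_lit 0xa68288438e5) (.node (nat_lit 0xa101cdb82fe) (.node (nat_lit 0x9c87687505a) (.node (nat_lit 0x9b47687505a) (.node (nat_lit 0x9ae7841f09c) (.node (nat_lit 0x9a6f681e89a) (.node (nat_lit 0x9a6e6c85a39) (.node (nat_lit 0x9a6780428ed) (.leaf (nat_lit 0x9a67801e89a) (nat_lit 1283))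
 (.leaf (nat_lit 0x9a6780428ed) (nat_lit 1539))
) (.node (nat_lit 0x9a6e6e74c52) (.leaf (nat_lit 0x9a6e6c85a39) (nat_lit 1539))
 (.leaf (nat_lit 0x9a6e6e74c52) (nat_lit 768))
)) (.node (nat_lit 0x9a709c428ed) (.node (nat_lit 0x9a6f6885a39) (.leaf (nat_lit 0x9a6f681e89a) (nat_lit 1283))
 (.leaf (nat_lit 0x9a6f6885a39) (nat_lit 1537))
) (.node (nat_lit 0x9a709e74c52) (.leaf (nat_lit 0x9a709c428ed) (nat_lit 1539))
 (.leaf (nat_lit 0x9a709e74c52) (nat_lit 1281))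
))) (.node (nat_lit 0x9aef701f09c) (.node (nat_lit 0x9aee7c86a38) (.node (nat_lit 0x9ae784430ee) (.leaf (nat_lit 0x9ae7841f09c) (nat_lit 1795))
 (.leaf (nat_lit 0x9ae784430ee) (nat_lit 1538))
) (.node (nat_lit 0x9aee7e73c53) (.leaf (nat_lit 0x9aee7c86a38) (nat_lit 1539))
 (.leaf (nat_lit 0x9aee7e73c53) (nat_lit 1280))
)) (.node (nat_lit 0x9af098430ee) (.node (nat_lit 0x9aef7086a38) (.leaf (nat_lit 0x9aef701f09c) (nat_lit 1283))
 (.leaf (nat_lit 0x9aef7086a38) (nat_lit 1538))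
) (.node (nat_lit 0x9af09a73c53) (.leaf (nat_lit 0x9af098430ee) (nat_lit 1024))
 (.leaf (nat_lit 0x9af09a73c53) (nat_lit 1282))
)))) (.node (nat_lit 0x9b677074059) (.node (nat_lit 0x9b50d48f909) (.node (nat_lit 0x9b48b0acc6c) (.node (nat_lit 0x9b47688f909) (.leaf (nat_lit 0x9b47687505a) (nat_lit 1280))
 (.leaf (nat_lit 0x9b47688f909) (nat_lit 1538))
) (.node (nat_lit 0x9b48b131035) (.leaf (nat_lit 0x9b48b0acc6c) (nat_lit 1280))
 (.leaf (nat_lit 0x9b48b131035) (nat_lit 1025))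
)) (.node (nat_lit 0x9b55647505a) (.node (nat_lit 0x9b50d4acc6c) (.leaf (nat_lit 0x9b50d48f909) (nat_lit 1026))
 (.leaf (nat_lit 0x9b50d4acc6c) (nat_lit 1792))
) (.node (nat_lit 0x9b556531035) (.leaf (nat_lit 0x9b55647505a) (nat_lit 1282))
 (.leaf (nat_lit 0x9b556531035) (nat_lit 1538))
))) (.node (nat_lit 0x9b70ac9010a) (.node (nat_lit 0x9b68b4abc6b) (.node (nat_lit 0x9b67709010a) (.leaf (nat_lit 0x9b677074059) (nat_lit 1283))
 (.leaf (nat_lit 0x9b67709010a) (nat_lit 1539))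
) (.node (nat_lit 0x9b68b530033) (.leaf (nat_lit 0x9b68b4abc6b) (nat_lit 1794))
 (.leaf (nat_lit 0x9b68b530033) (nat_lit 1537))
)) (.node (nat_lit 0x9b756074059) (.node (nat_lit 0x9b70acabc6b) (.leaf (nat_lit 0x9b70ac9010a) (nat_lit 1537))
 (.leaf (nat_lit 0x9b70acabc6b) (nat_lit 1794))
) (.node (nat_lit 0x9b756130033) (.leaf (nat_lit 0x9b756074059) (nat_lit 1281))
 (.leaf (nat_lit 0x9b756130033) (nat_lit 1539))
))))) (.node (nat_lit 0x9d427c430ee) (.node (nat_lit 0x9ca77074059) (.node (nat_lit 0x9c90d4acc6c) (.node (nat_lit 0x9c88b0acc6c) (.node (nat_lit 0x9c8769220bf) (.leaf (nat_lit 0x9c87687505a) (nat_lit 1281))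
 (.leaf (nat_lit 0x9c8769220bf) (nat_lit 1026))
) (.node (nat_lit 0x9c88b16e937) (.leaf (nat_lit 0x9c88b0acc6c) (nat_lit 1282))
 (.leaf (nat_lit 0x9c88b16e937) (nat_lit 515))
)) (.node (nat_lit 0x9c95647505a) (.node (nat_lit 0x9c90d5220bf) (.leaf (nat_lit 0x9c90d4acc6c) (nat_lit 1793))
 (.leaf (nat_lit 0x9c90d5220bf) (nat_lit 1536))
) (.node (nat_lit 0x9c95656e937) (.leaf (nat_lit 0x9c95647505a) (nat_lit 1793))
 (.leaf (nat_lit 0x9c95656e937) (nat_lit 1026))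
))) (.node (nat_lit 0x9cb0acabc6b) (.node (nat_lit 0x9ca8b4abc6b) (.node (nat_lit 0x9ca771228c4) (.leaf (nat_lit 0x9ca77074059) (nat_lit 1280))
 (.leaf (nat_lit 0x9ca771228c4) (nat_lit 1025))
) (.node (nat_lit 0x9ca8b56d936) (.leaf (nat_lit 0x9ca8b4abc6b) (nat_lit 1281))
 (.leaf (nat_lit 0x9ca8b56d936) (nat_lit 1027))
)) (.node (nat_lit 0x9cb56074059) (.node (nat_lit 0x9cb0ad228c4) (.leaf (nat_lit 0x9cb0acabc6b) (nat_lit 1283))
 (.leaf (nat_lit 0x9cb0ad228c4) (nat_lit 1027))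
) (.node (nat_lit 0x9cb5616d936) (.leaf (nat_lit 0x9cb56074059) (nat_lit 1794))
 (.leaf (nat_lit 0x9cb5616d936) (nat_lit 1027))
)))) (.node (nat_lit 0x9d8280428ed) (.node (nat_lit 0x9d4db01f09c) (.node (nat_lit 0x9d48a82b878) (.node (nat_lit 0x9d427e1c9eb) (.leaf (nat_lit 0x9d427c430ee) (nat_lit 1538))
 (.leaf (nat_lit 0x9d427e1c9eb) (nat_lit 1283))
) (.node (nat_lit 0x9d48aa1c9eb) (.leaf (nat_lit 0x9d48a82b878) (nat_lit 1539))
 (.leaf (nat_lit 0x9d48aa1c9eb) (nat_lit 1280))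
)) (.node (nat_lit 0x9d4e601f09c) (.node (nat_lit 0x9d4db0430ee) (.leaf (nat_lit 0x9d4db01f09c) (nat_lit 1283))
 (.leaf (nat_lit 0x9d4db0430ee) (nat_lit 1026))
) (.node (nat_lit 0x9d4e602b878) (.leaf (nat_lit 0x9d4e601f09c) (nat_lit 1283))
 (.leaf (nat_lit 0x9d4e602b878) (nat_lit 1539))
))) (.node (nat_lit 0x9d8db41e89a) (.node (nat_lit 0x9d88942a877) (.node (nat_lit 0x9d82821d1ec) (.leaf (nat_lit 0x9d8280428ed) (nat_lit 1539))
 (.leaf (nat_lit 0x9d82821d1ec) (nat_lit 771))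
) (.node (nat_lit 0x9d88961d1ec) (.leaf (nat_lit 0x9d88942a877) (nat_lit 1539))
 (.leaf (nat_lit 0x9d88961d1ec) (nat_lit 771))
)) (.node (nat_lit 0x9d8e641e89a) (.node (nat_lit 0x9d8db4428ed) (.leaf (nat_lit 0x9d8db41e89a) (nat_lit 1280))
 (.leaf (nat_lit 0x9d8db4428ed) (nat_lit 1538))
) (.node (nat_lit 0x9d8e642a877) (.leaf (nat_lit 0x9d8e641e89a) (nat_lit 1281))
 (.leaf (nat_lit 0x9d8e642a877) (nat_lit 1024))
)))))) (.node (nat_lit 0xa1c0950ea57) (.node (nat_lit 0xa180d969153) (.node (nat_lit 0xa121c9b8afc) (.node (nat_lit 0xa11029b82fe) (.node (nat_lit 0xa104f0ba1fd) (.node (nat_lit 0xa101ceb5091) (.leaf (nat_lit 0xa101cdb82fe) (nat_lit 1539))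
 (.leaf (nat_lit 0xa101ceb5091) (nat_lit 1793))
) (.node (nat_lit 0xa104f2b5091) (.leaf (nat_lit 0xa104f0ba1fd) (nat_lit 2048))
 (.leaf (nat_lit 0xa104f2b5091) (nat_lit 1794))
)) (.node (nat_lit 0xa1113cba1fd) (.node (nat_lit 0xa1102a5c04c) (.leaf (nat_lit 0xa11029b82fe) (nat_lit 1536))
 (.leaf (nat_lit 0xa1102a5c04c) (nat_lit 1283))
) (.node (nat_lit 0xa1113e5c04c) (.leaf (nat_lit 0xa1113cba1fd) (nat_lit 2050))
 (.leaf (nat_lit 0xa1113e5c04c) (nat_lit 1794))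
))) (.node (nat_lit 0xa13031b8afc) (.node (nat_lit 0xa124f4bd1fc) (.node (nat_lit 0xa121cab6892) (.leaf (nat_lit 0xa121c9b8afc) (nat_lit 1536))
 (.leaf (nat_lit 0xa121cab6892) (nat_lit 1794))
) (.node (nat_lit 0xa124f6b6892) (.leaf (nat_lit 0xa124f4bd1fc) (nat_lit 2048))
 (.leaf (nat_lit 0xa124f6b6892) (nat_lit 1795))
)) (.node (nat_lit 0xa13138bd1fc) (.node (nat_lit 0xa130325d04b) (.leaf (nat_lit 0xa13031b8afc) (nat_lit 1537))
 (.leaf (nat_lit 0xa130325d04b) (nat_lit 1795))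
) (.node (nat_lit 0xa1313a5d04b) (.leaf (nat_lit 0xa13138bd1fc) (nat_lit 1539))
 (.leaf (nat_lit 0xa1313a5d04b) (nat_lit 1794))
)))) (.node (nat_lit 0xa1a0dd68951) (.node (nat_lit 0xa18bfc28c69) (.node (nat_lit 0xa18315b4049) (.node (nat_lit 0xa180d9b4049) (.leaf (nat_lit 0xa180d969153) (nat_lit 1280))
 (.leaf (nat_lit 0xa180d9b4049) (nat_lit 1539))
) (.node (nat_lit 0xa1831696d3d) (.leaf (nat_lit 0xa18315b4049) (nat_lit 1538))
 (.leaf (nat_lit 0xa1831696d3d) (nat_lit 1794))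
)) (.node (nat_lit 0xa18ce028c69) (.node (nat_lit 0xa18bfd69153) (.leaf (nat_lit 0xa18bfc28c69) (nat_lit 1539))
 (.leaf (nat_lit 0xa18bfd69153) (nat_lit 1282))
) (.node (nat_lit 0xa18ce296d3d) (.leaf (nat_lit 0xa18ce028c69) (nat_lit 1536))
 (.leaf (nat_lit 0xa18ce296d3d) (nat_lit 1280))
))) (.node (nat_lit 0xa1abf427c6a) (.node (nat_lit 0xa1a319b484a) (.node (nat_lit 0xa1a0ddb484a) (.leaf (nat_lit 0xa1a0dd68951) (nat_lit 1792))
 (.leaf (nat_lit 0xa1a0ddb484a) (nat_lit 1538))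
) (.node (nat_lit 0xa1a31a9653c) (.leaf (nat_lit 0xa1a319b484a) (nat_lit 1537))
 (.leaf (nat_lit 0xa1a31a9653c) (nat_lit 1283))
)) (.node (nat_lit 0xa1ace427c6a) (.node (nat_lit 0xa1abf568951) (.leaf (nat_lit 0xa1abf427c6a) (nat_lit 1538))
 (.leaf (nat_lit 0xa1abf568951) (nat_lit 1281))
) (.node (nat_lit 0xa1ace69653c) (.leaf (nat_lit 0xa1ace427c6a) (nat_lit 1026))
 (.leaf (nat_lit 0xa1ace69653c) (nat_lit 1795))
))))) (.node (nat_lit 0xa5427c86a38) (.node (nat_lit 0xa1e09d10a56) (.node (nat_lit 0xa1cabda851d) (.node (nat_lit 0xa1c38058d74) (.node (nat_lit 0xa1c096b395c) (.leaf (nat_lit 0xa1c0950ea57) (nat_lit 1536))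
 (.leaf (nat_lit 0xa1c096b395c) (nat_lit 1280))
) (.node (nat_lit 0xa1c381a851d) (.leaf (nat_lit 0xa1c38058d74) (nat_lit 1281))
 (.leaf (nat_lit 0xa1c381a851d) (nat_lit 1539))
)) (.node (nat_lit 0xa1d15058d74) (.node (nat_lit 0xa1cabeb395c) (.leaf (nat_lit 0xa1cabda851d) (nat_lit 1024))
 (.leaf (nat_lit 0xa1cabeb395c) (nat_lit 1282))
) (.node (nat_lit 0xa1d1510ea57) (.leaf (nat_lit 0xa1d15058d74) (nat_lit 1280))
 (.leaf (nat_lit 0xa1d1510ea57) (nat_lit 1537))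
))) (.node (nat_lit 0xa1eab9a751c) (.node (nat_lit 0xa1e37c59575) (.node (nat_lit 0xa1e09eb3158) (.leaf (nat_lit 0xa1e09d10a56) (nat_lit 1536))
 (.leaf (nat_lit 0xa1e09eb3158) (nat_lit 1281))
) (.node (nat_lit 0xa1e37da751c) (.leaf (nat_lit 0xa1e37c59575) (nat_lit 1283))
 (.leaf (nat_lit 0xa1e37da751c) (nat_lit 1537))
)) (.node (nat_lit 0xa1f15859575) (.node (nat_lit 0xa1eabab3158) (.leaf (nat_lit 0xa1eab9a751c) (nat_lit 1538))
 (.leaf (nat_lit 0xa1eabab3158) (nat_lit 1281))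
) (.node (nat_lit 0xa1f15910a56) (.leaf (nat_lit 0xa1f15859575) (nat_lit 1282))
 (.leaf (nat_lit 0xa1f15910a56) (nat_lit 1538))
)))) (.node (nat_lit 0xa5628085a39) (.node (nat_lit 0xa54db01f09c) (.node (nat_lit 0xa548a873088) (.node (nat_lit 0xa5427e1c9eb) (.leaf (nat_lit 0xa5427c86a38) (nat_lit 1539))
 (.leaf (nat_lit 0xa5427e1c9eb) (nat_lit 1282))
) (.node (nat_lit 0xa548aa1c9eb) (.leaf (nat_lit 0xa548a873088) (nat_lit 1024))
 (.leaf (nat_lit 0xa548aa1c9eb) (nat_lit 770))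
)) (.node (nat_lit 0xa54e601f09c) (.node (nat_lit 0xa54db086a38) (.leaf (nat_lit 0xa54db01f09c) (nat_lit 770))
 (.leaf (nat_lit 0xa54db086a38) (nat_lit 1536))
) (.node (nat_lit 0xa54e6073088) (.leaf (nat_lit 0xa54e601f09c) (nat_lit 769))
 (.leaf (nat_lit 0xa54e6073088) (nat_lit 1536))
))) (.node (nat_lit 0xa56db41e89a) (.node (nat_lit 0xa5689472887) (.node (nat_lit 0xa562821d1ec) (.leaf (nat_lit 0xa5628085a39) (nat_lit 1538))
 (.leaf (nat_lit 0xa562821d1ec) (nat_lit 1282))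
) (.node (nat_lit 0xa568961d1ec) (.leaf (nat_lit 0xa5689472887) (nat_lit 1537))
 (.leaf (nat_lit 0xa568961d1ec) (nat_lit 1281))
)) (.node (nat_lit 0xa56e641e89a) (.node (nat_lit 0xa56db485a39) (.leaf (nat_lit 0xa56db41e89a) (nat_lit 1281))
 (.leaf (nat_lit 0xa56db485a39) (nat_lit 1539))
) (.node (nat_lit 0xa56e6472887) (.leaf (nat_lit 0xa56e641e89a) (nat_lit 258))
 (.leaf (nat_lit 0xa56e6472887) (nat_lit 1538))
))))))) (.node (nat_lit 0xab01a83b855) (.node (nat_lit 0xa8c6fd228c4) (.node (nat_lit 0xa7c02d2e428) (.node (nat_lit 0xa6a284440e6) (.node (nat_lit 0xa692ad1c90b) (.node (nat_lit 0xa6906c438e5) (.node (nat_lit 0xa6828a29ce7) (.leaf (nat_lit 0xa68288438e5) (nat_lit 1793))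
 (.leaf (nat_lit 0xa6828a29ce7) (nat_lit 1536))
) (.node (nat_lit 0xa6906c4e03e) (.leaf (nat_lit 0xa6906c438e5) (nat_lit 1792))
 (.leaf (nat_lit 0xa6906c4e03e) (nat_lit 1538))
)) (.node (nat_lit 0xa695184e03e) (.node (nat_lit 0xa692ae29ce7) (.leaf (nat_lit 0xa692ad1c90b) (nat_lit 1792))
 (.leaf (nat_lit 0xa692ae29ce7) (nat_lit 2049))
) (.node (nat_lit 0xa695191c90b) (.leaf (nat_lit 0xa695184e03e) (nat_lit 1536))
 (.leaf (nat_lit 0xa695191c90b) (nat_lit 1795))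
))) (.node (nat_lit 0xa6b29d1c10d) (.node (nat_lit 0xa6b068440e6) (.node (nat_lit 0xa6a286294e9) (.leaf (nat_lit 0xa6a284440e6) (nat_lit 1795))
 (.leaf (nat_lit 0xa6a286294e9) (nat_lit 1537))
) (.node (nat_lit 0xa6b0684d03d) (.leaf (nat_lit 0xa6b068440e6) (nat_lit 1792))
 (.leaf (nat_lit 0xa6b0684d03d) (nat_lit 1539))
)) (.node (nat_lit 0xa6b51c4d03d) (.node (nat_lit 0xa6b29e294e9) (.leaf (nat_lit 0xa6b29d1c10d) (nat_lit 1795))
 (.leaf (nat_lit 0xa6b29e294e9) (nat_lit 1537))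
) (.node (nat_lit 0xa6b51d1c10d) (.leaf (nat_lit 0xa6b51c4d03d) (nat_lit 1536))
 (.leaf (nat_lit 0xa6b51d1c10d) (nat_lit 1792))
)))) (.node (nat_lit 0xa7e0252ec29) (.node (nat_lit 0xa7c7d457d29) (.node (nat_lit 0xa7c1ad8d408) (.node (nat_lit 0xa7c02ebb0ca) (.leaf (nat_lit 0xa7c02d2e428) (nat_lit 1795))
 (.leaf (nat_lit 0xa7c02ebb0ca) (nat_lit 2048))
) (.node (nat_lit 0xa7c1aebb0ca) (.leaf (nat_lit 0xa7c1ad8d408) (nat_lit 1283))
 (.leaf (nat_lit 0xa7c1aebb0ca) (nat_lit 1537))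
)) (.node (nat_lit 0xa7ce9c57d29) (.node (nat_lit 0xa7c7d58d408) (.leaf (nat_lit 0xa7c7d457d29) (nat_lit 1539))
 (.leaf (nat_lit 0xa7c7d58d408) (nat_lit 1793))
) (.node (nat_lit 0xa7ce9d2e428) (.leaf (nat_lit 0xa7ce9c57d29) (nat_lit 1027))
 (.leaf (nat_lit 0xa7ce9d2e428) (nat_lit 1280))
))) (.node (nat_lit 0xa7e7c858528) (.node (nat_lit 0xa7e1b18dc09) (.node (nat_lit 0xa7e026bb8c9) (.leaf (nat_lit 0xa7e0252ec29) (nat_lit 771))
 (.leaf (nat_lit 0xa7e026bb8c9) (nat_lit 1539))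
) (.node (nat_lit 0xa7e1b2bb8c9) (.leaf (nat_lit 0xa7e1b18dc09) (nat_lit 1282))
 (.leaf (nat_lit 0xa7e1b2bb8c9) (nat_lit 1538))
)) (.node (nat_lit 0xa7ee9858528) (.node (nat_lit 0xa7e7c98dc09) (.leaf (nat_lit 0xa7e7c858528) (nat_lit 1539))
 (.leaf (nat_lit 0xa7e7c98dc09) (nat_lit 1281))
) (.node (nat_lit 0xa7ee992ec29) (.leaf (nat_lit 0xa7ee9858528) (nat_lit 1539))
 (.leaf (nat_lit 0xa7ee992ec29) (nat_lit 1283))
))))) (.node (nat_lit 0xaa80dc69186) (.node (nat_lit 0xa8e715220bf) (.node (nat_lit 0xa8cfb09010a) (.node (nat_lit 0xa8cd7874059) (.node (nat_lit 0xa8c6fe79944) (.leaf (nat_lit 0xa8c6fd228c4) (nat_lit 1027))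
 (.leaf (nat_lit 0xa8c6fe79944) (nat_lit 1794))
) (.node (nat_lit 0xa8cd789010a) (.leaf (nat_lit 0xa8cd7874059) (nat_lit 1283))
 (.leaf (nat_lit 0xa8cd789010a) (nat_lit 1536))
)) (.node (nat_lit 0xa8d4d074059) (.node (nat_lit 0xa8cfb279944) (.leaf (nat_lit 0xa8cfb09010a) (nat_lit 1539))
 (.leaf (nat_lit 0xa8cfb279944) (nat_lit 1282))
) (.node (nat_lit 0xa8d4d1228c4) (.leaf (nat_lit 0xa8d4d074059) (nat_lit 1280))
 (.leaf (nat_lit 0xa8d4d1228c4) (nat_lit 1539))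
))) (.node (nat_lit 0xa8efb48f909) (.node (nat_lit 0xa8ed7c7505a) (.node (nat_lit 0xa8e71679143) (.leaf (nat_lit 0xa8e715220bf) (nat_lit 1025))
 (.leaf (nat_lit 0xa8e71679143) (nat_lit 1283))
) (.node (nat_lit 0xa8ed7c8f909) (.leaf (nat_lit 0xa8ed7c7505a) (nat_lit 1794))
 (.leaf (nat_lit 0xa8ed7c8f909) (nat_lit 1537))
)) (.node (nat_lit 0xa8f4d47505a) (.node (nat_lit 0xa8efb679143) (.leaf (nat_lit 0xa8efb48f909) (nat_lit 1539))
 (.leaf (nat_lit 0xa8efb679143) (nat_lit 1281))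
) (.node (nat_lit 0xa8f4d5220bf) (.leaf (nat_lit 0xa8f4d47505a) (nat_lit 1792))
 (.leaf (nat_lit 0xa8f4d5220bf) (nat_lit 1025))
)))) (.node (nat_lit 0xaaa0d86b192) (.node (nat_lit 0xaa8bf568951) (.node (nat_lit 0xaa831869186) (.node (nat_lit 0xaa80dd68951) (.leaf (nat_lit 0xaa80dc69186) (nat_lit 1024))
 (.leaf (nat_lit 0xaa80dd68951) (nat_lit 1280))
) (.node (nat_lit 0xaa831a9653c) (.leaf (nat_lit 0xaa831869186) (nat_lit 1536))
 (.leaf (nat_lit 0xaa831a9653c) (nat_lit 1280))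
)) (.node (nat_lit 0xaa8ce58f93e) (.node (nat_lit 0xaa8bf58f93e) (.leaf (nat_lit 0xaa8bf568951) (nat_lit 1280))
 (.leaf (nat_lit 0xaa8bf58f93e) (nat_lit 1538))
) (.node (nat_lit 0xaa8ce69653c) (.leaf (nat_lit 0xaa8ce58f93e) (nat_lit 1538))
 (.leaf (nat_lit 0xaa8ce69653c) (nat_lit 768))
))) (.node (nat_lit 0xaaabfd69153) (.node (nat_lit 0xaaa3146b192) (.node (nat_lit 0xaaa0d969153) (.leaf (nat_lit 0xaaa0d86b192) (nat_lit 1539))
 (.leaf (nat_lit 0xaaa0d969153) (nat_lit 1283))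
) (.node (nat_lit 0xaaa31696d3d) (.leaf (nat_lit 0xaaa3146b192) (nat_lit 1539))
 (.leaf (nat_lit 0xaaa31696d3d) (nat_lit 1280))
)) (.node (nat_lit 0xaaace18e942) (.node (nat_lit 0xaaabfd8e942) (.leaf (nat_lit 0xaaabfd69153) (nat_lit 1280))
 (.leaf (nat_lit 0xaaabfd8e942) (nat_lit 1026))
) (.node (nat_lit 0xaaace296d3d) (.leaf (nat_lit 0xaaace18e942) (nat_lit 1538))
 (.leaf (nat_lit 0xaaace296d3d) (nat_lit 1792))
)))))) (.node (nat_lit 0xac6d287bb7a) (.node (nat_lit 0xabe0e0ad13a) (.node (nat_lit 0xab21943c057) (.node (nat_lit 0xab136c3b855) (.node (nat_lit 0xab0968438e5) (.node (nat_lit 0xab01a8f5c39) (.leaf (nat_lit 0xab01a83b855) (nat_lit 1792))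
 (.leaf (nat_lit 0xab01a8f5c39) (nat_lit 1539))
) (.node (nat_lit 0xab0968f5c39) (.leaf (nat_lit 0xab0968438e5) (nat_lit 1792))
 (.leaf (nat_lit 0xab0968f5c39) (nat_lit 1538))
)) (.node (nat_lit 0xab1394438e5) (.node (nat_lit 0xab136c4e03e) (.leaf (nat_lit 0xab136c3b855) (nat_lit 1281))
 (.leaf (nat_lit 0xab136c4e03e) (nat_lit 2051))
) (.node (nat_lit 0xab13944e03e) (.leaf (nat_lit 0xab1394438e5) (nat_lit 1795))
 (.leaf (nat_lit 0xab13944e03e) (nat_lit 2050))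
))) (.node (nat_lit 0xab33683c057) (.node (nat_lit 0xab2964440e6) (.node (nat_lit 0xab2194f643a) (.leaf (nat_lit 0xab21943c057) (nat_lit 1792))
 (.leaf (nat_lit 0xab2194f643a) (nat_lit 1537))
) (.node (nat_lit 0xab2964f643a) (.leaf (nat_lit 0xab2964440e6) (nat_lit 1795))
 (.leaf (nat_lit 0xab2964f643a) (nat_lit 2049))
)) (.node (nat_lit 0xab3390440e6) (.node (nat_lit 0xab33684d03d) (.leaf (nat_lit 0xab33683c057) (nat_lit 1793))
 (.leaf (nat_lit 0xab33684d03d) (nat_lit 1536))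
) (.node (nat_lit 0xab33904d03d) (.leaf (nat_lit 0xab3390440e6) (nat_lit 1283))
 (.leaf (nat_lit 0xab33904d03d) (nat_lit 1536))
)))) (.node (nat_lit 0xac20d0ad93b) (.node (nat_lit 0xabe3b0ad13a) (.node (nat_lit 0xabe2a566152) (.node (nat_lit 0xabe0e2aeb8a) (.leaf (nat_lit 0xabe0e0ad13a) (nat_lit 1536))
 (.leaf (nat_lit 0xabe0e2aeb8a) (nat_lit 1795))
) (.node (nat_lit 0xabe2a65cc50) (.leaf (nat_lit 0xabe2a566152) (nat_lit 1280))
 (.leaf (nat_lit 0xabe2a65cc50) (nat_lit 512))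
)) (.node (nat_lit 0xabe5065cc50) (.node (nat_lit 0xabe3b166152) (.leaf (nat_lit 0xabe3b0ad13a) (nat_lit 1538))
 (.leaf (nat_lit 0xabe3b166152) (nat_lit 1793))
) (.node (nat_lit 0xabe506aeb8a) (.leaf (nat_lit 0xabe5065cc50) (nat_lit 1025))
 (.leaf (nat_lit 0xabe506aeb8a) (nat_lit 1794))
))) (.node (nat_lit 0xac239cad93b) (.node (nat_lit 0xac229d68150) (.node (nat_lit 0xac20d2ae37c) (.leaf (nat_lit 0xac20d0ad93b) (nat_lit 1537))
 (.leaf (nat_lit 0xac20d2ae37c) (nat_lit 1792))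
) (.node (nat_lit 0xac229e5dc51) (.leaf (nat_lit 0xac229d68150) (nat_lit 1281))
 (.leaf (nat_lit 0xac229e5dc51) (nat_lit 1536))
)) (.node (nat_lit 0xac252e5dc51) (.node (nat_lit 0xac239d68150) (.leaf (nat_lit 0xac239cad93b) (nat_lit 1024))
 (.leaf (nat_lit 0xac239d68150) (nat_lit 1280))
) (.node (nat_lit 0xac252eae37c) (.leaf (nat_lit 0xac252e5dc51) (nat_lit 1024))
 (.leaf (nat_lit 0xac252eae37c) (nat_lit 1792))
))))) (.node (nat_lit 0xafcd2cae567) (.node (nat_lit 0xacad2c7db7b) (.node (nat_lit 0xac6ecc574cb) (.node (nat_lit 0xac6df4ac566) (.node (nat_lit 0xac6d28ac566) (.leaf (nat_lit 0xac6d287bb7a) (nat_lit 1794))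
 (.leaf (nat_lit 0xac6d28ac566) (nat_lit 1027))
) (.node (nat_lit 0xac6df66a550) (.leaf (nat_lit 0xac6df4ac566) (nat_lit 1537))
 (.leaf (nat_lit 0xac6df66a550) (nat_lit 1793))
)) (.node (nat_lit 0xac6f14574cb) (.node (nat_lit 0xac6ecc7bb7a) (.leaf (nat_lit 0xac6ecc574cb) (nat_lit 1536))
 (.leaf (nat_lit 0xac6ecc7bb7a) (nat_lit 1794))
) (.node (nat_lit 0xac6f166a550) (.leaf (nat_lit 0xac6f14574cb) (nat_lit 1538))
 (.leaf (nat_lit 0xac6f166a550) (nat_lit 1281))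
))) (.node (nat_lit 0xacaec4564cd) (.node (nat_lit 0xacae34ae567) (.node (nat_lit 0xacad2cae567) (.leaf (nat_lit 0xacad2c7db7b) (nat_lit 1792))
 (.leaf (nat_lit 0xacad2cae567) (nat_lit 1536))
) (.node (nat_lit 0xacae3669552) (.leaf (nat_lit 0xacae34ae567) (nat_lit 1539))
 (.leaf (nat_lit 0xacae3669552) (nat_lit 1283))
)) (.node (nat_lit 0xacaf18564cd) (.node (nat_lit 0xacaec47db7b) (.leaf (nat_lit 0xacaec4564cd) (nat_lit 1539))
 (.leaf (nat_lit 0xacaec47db7b) (nat_lit 1795))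
) (.node (nat_lit 0xacaf1a69552) (.leaf (nat_lit 0xacaf18564cd) (nat_lit 1025))
 (.leaf (nat_lit 0xacaf1a69552) (nat_lit 1282))
)))) (.node (nat_lit 0xafed28ac566) (.node (nat_lit 0xafcec4564cd) (.node (nat_lit 0xafce34ae567) (.node (nat_lit 0xafcd2d2b221) (.leaf (nat_lit 0xafcd2cae567) (nat_lit 1539))
 (.leaf (nat_lit 0xafcd2d2b221) (nat_lit 1283))
) (.node (nat_lit 0xafce368e34e) (.leaf (nat_lit 0xafce34ae567) (nat_lit 1536))
 (.leaf (nat_lit 0xafce368e34e) (nat_lit 1795))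
)) (.node (nat_lit 0xafcf18564cd) (.node (nat_lit 0xafcec52b221) (.leaf (nat_lit 0xafcec4564cd) (nat_lit 1538))
 (.leaf (nat_lit 0xafcec52b221) (nat_lit 1795))
) (.node (nat_lit 0xafcf1a8e34e) (.leaf (nat_lit 0xafcf18564cd) (nat_lit 2049))
 (.leaf (nat_lit 0xafcf1a8e34e) (nat_lit 1283))
))) (.node (nat_lit 0xafeecc574cb) (.node (nat_lit 0xafedf4ac566) (.node (nat_lit 0xafed292ba1d) (.leaf (nat_lit 0xafed28ac566) (nat_lit 1537))
 (.leaf (nat_lit 0xafed292ba1d) (nat_lit 1795))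
) (.node (nat_lit 0xafedf68eb50) (.leaf (nat_lit 0xafedf4ac566) (nat_lit 1537))
 (.leaf (nat_lit 0xafedf68eb50) (nat_lit 771))
)) (.node (nat_lit 0xafef14574cb) (.node (nat_lit 0xafeecd2ba1d) (.leaf (nat_lit 0xafeecc574cb) (nat_lit 1537))
 (.leaf (nat_lit 0xafeecd2ba1d) (nat_lit 1794))
) (.node (nat_lit 0xafef168eb50) (.leaf (nat_lit 0xafef14574cb) (nat_lit 1537))
 (.leaf (nat_lit 0xafef168eb50) (nat_lit 1283))
)))))))))))

theorem T_ok : genOK A [(nat_lit 0x2471769653c), (nat_lit 0x11e37054310), (nat_lit 0xa56e641e89a), (nat_lit 0x27a25c5530f)] T_t (nat_lit 2048) = true := by decide +kernel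

/-- A listed subgroup. -/
noncomputable def TK_t : ST :=
(.node (nat_lit 0x54c375c6569) (.node (nat_lit 0x27e0e5358c1) (.node (nat_lit 0x11c3840e03f) (.node (nat_lit 0xd69c90ea57) (.node (nat_lit 0x681763504f) (.node (nat_lit 0x129c5a751c) (.node (nat_lit 0x40e80d913) (.node (nat_lit 0x29a425cba) (.node (nat_lit 0x28d025cba) (.node (nat_lit 0x20e5d147b) (.leaf (nat_lit 0x20e40c800) (nat_lit 0))
 (.leaf (nat_lit 0x20e5d147b) (nat_lit 2818))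
) (.node (nat_lit 0x28d19b91a) (.leaf (nat_lit 0x28d025cba) (nat_lit 2561))
 (.leaf (nat_lit 0x28d19b91a) (nat_lit 2304))
)) (.node (nat_lit 0x2b540c800) (.node (nat_lit 0x29a5d147b) (.leaf (nat_lit 0x29a425cba) (nat_lit 1281))
 (.leaf (nat_lit 0x29a5d147b) (nat_lit 2050))
) (.node (nat_lit 0x2b559b91a) (.leaf (nat_lit 0x2b540c800) (nat_lit 1280))
 (.leaf (nat_lit 0x2b559b91a) (nat_lit 1536))
))) (.node (nat_lit 0x499c264b8) (.node (nat_lit 0x48d4264b8) (.node (nat_lit 0x40e9d1c77) (.leaf (nat_lit 0x40e80d913) (nat_lit 3074))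
 (.leaf (nat_lit 0x40e9d1c77) (nat_lit 2306))
) (.node (nat_lit 0x48d59b121) (.leaf (nat_lit 0x48d4264b8) (nat_lit 2050))
 (.leaf (nat_lit 0x48d59b121) (nat_lit 2305))
)) (.node (nat_lit 0x4b500d913) (.node (nat_lit 0x499dd1c77) (.leaf (nat_lit 0x499c264b8) (nat_lit 2306))
 (.leaf (nat_lit 0x499dd1c77) (nat_lit 2050))
) (.node (nat_lit 0x4b519b121) (.leaf (nat_lit 0x4b500d913) (nat_lit 2818))
 (.leaf (nat_lit 0x4b519b121) (nat_lit 2561))
)))) (.node (nat_lit 0x169c9a851d) (.node (nat_lit 0x12ff2a94d2) (.node (nat_lit 0x12dfda751c) (.node (nat_lit 0x129c6b3158) (.leaf (nat_lit 0x129c5a751c) (nat_lit 2048))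
 (.leaf (nat_lit 0x129c6b3158) (nat_lit 2304))
) (.node (nat_lit 0x12dfe658ae) (.leaf (nat_lit 0x12dfda751c) (nat_lit 2304))
 (.leaf (nat_lit 0x12dfe658ae) (nat_lit 1536))
)) (.node (nat_lit 0x134fe658ae) (.node (nat_lit 0x12ff2b3158) (.leaf (nat_lit 0x12ff2a94d2) (nat_lit 1281))
 (.leaf (nat_lit 0x12ff2b3158) (nat_lit 1538))
) (.node (nat_lit 0x134fea94d2) (.leaf (nat_lit 0x134fe658ae) (nat_lit 1794))
 (.leaf (nat_lit 0x134fea94d2) (nat_lit 2048))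
))) (.node (nat_lit 0x16feea84d4) (.node (nat_lit 0x16e05a851d) (.node (nat_lit 0x169cab395c) (.leaf (nat_lit 0x169c9a851d) (nat_lit 2049))
 (.leaf (nat_lit 0x169cab395c) (nat_lit 1794))
) (.node (nat_lit 0x16e06668ac) (.leaf (nat_lit 0x16e05a851d) (nat_lit 2817))
 (.leaf (nat_lit 0x16e06668ac) (nat_lit 2562))
)) (.node (nat_lit 0x174fa668ac) (.node (nat_lit 0x16feeb395c) (.leaf (nat_lit 0x16feea84d4) (nat_lit 1794))
 (.leaf (nat_lit 0x16feeb395c) (nat_lit 2050))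
) (.node (nat_lit 0x174faa84d4) (.leaf (nat_lit 0x174fa668ac) (nat_lit 2818))
 (.leaf (nat_lit 0x174faa84d4) (nat_lit 2562))
))))) (.node (nat_lit 0x6e9fdbe55c) (.node (nat_lit 0x6c9e9c555d) (.node (nat_lit 0x68d209f31f) (.node (nat_lit 0x68b049f31f) (.node (nat_lit 0x681767cb22) (.leaf (nat_lit 0x681763504f) (nat_lit 1793))
 (.leaf (nat_lit 0x681767cb22) (nat_lit 2048))
) (.node (nat_lit 0x68b067cb22) (.leaf (nat_lit 0x68b049f31f) (nat_lit 2561))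
 (.leaf (nat_lit 0x68b067cb22) (nat_lit 1792))
)) (.node (nat_lit 0x69585c5d68) (.node (nat_lit 0x68d21c5d68) (.leaf (nat_lit 0x68d209f31f) (nat_lit 2818))
 (.leaf (nat_lit 0x68d21c5d68) (nat_lit 1538))
) (.node (nat_lit 0x695863504f) (.leaf (nat_lit 0x69585c5d68) (nat_lit 1794))
 (.leaf (nat_lit 0x695863504f) (nat_lit 2050))
))) (.node (nat_lit 0x6d430a92cc) (.node (nat_lit 0x6cbc4f40c2) (.node (nat_lit 0x6c9ea28cbb) (.leaf (nat_lit 0x6c9e9c555d) (nat_lit 2305))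
 (.leaf (nat_lit 0x6c9ea28cbb) (nat_lit 1537))
) (.node (nat_lit 0x6cbc5c555d) (.leaf (nat_lit 0x6cbc4f40c2) (nat_lit 2304))
 (.leaf (nat_lit 0x6cbc5c555d) (nat_lit 2561))
)) (.node (nat_lit 0x6d554a92cc) (.node (nat_lit 0x6d43228cbb) (.leaf (nat_lit 0x6d430a92cc) (nat_lit 2562))
 (.leaf (nat_lit 0x6d43228cbb) (nat_lit 1281))
) (.node (nat_lit 0x6d554f40c2) (.leaf (nat_lit 0x6d554a92cc) (nat_lit 2306))
 (.leaf (nat_lit 0x6d554f40c2) (nat_lit 1024))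
)))) (.node (nat_lit 0x7017a34851) (.node (nat_lit 0x6f434a82d0) (.node (nat_lit 0x6ebc0f50c0) (.node (nat_lit 0x6e9fe284b9) (.leaf (nat_lit 0x6e9fdbe55c) (nat_lit 1794))
 (.leaf (nat_lit 0x6e9fe284b9) (nat_lit 2560))
) (.node (nat_lit 0x6ebc1be55c) (.leaf (nat_lit 0x6ebc0f50c0) (nat_lit 1793))
 (.leaf (nat_lit 0x6ebc1be55c) (nat_lit 1538))
)) (.node (nat_lit 0x6f550a82d0) (.node (nat_lit 0x6f436284b9) (.leaf (nat_lit 0x6f434a82d0) (nat_lit 2050))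
 (.leaf (nat_lit 0x6f436284b9) (nat_lit 2818))
) (.node (nat_lit 0x6f550f50c0) (.leaf (nat_lit 0x6f550a82d0) (nat_lit 1794))
 (.leaf (nat_lit 0x6f550f50c0) (nat_lit 2049))
))) (.node (nat_lit 0x70d24a131d) (.node (nat_lit 0x70acca131d) (.node (nat_lit 0x7017a7c323) (.leaf (nat_lit 0x7017a34851) (nat_lit 1792))
 (.leaf (nat_lit 0x7017a7c323) (nat_lit 1538))
) (.node (nat_lit 0x70ace7c323) (.leaf (nat_lit 0x70acca131d) (nat_lit 2560))
 (.leaf (nat_lit 0x70ace7c323) (nat_lit 1794))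
)) (.node (nat_lit 0x7157dc6569) (.node (nat_lit 0x70d25c6569) (.leaf (nat_lit 0x70d24a131d) (nat_lit 1793))
 (.leaf (nat_lit 0x70d25c6569) (nat_lit 2560))
) (.node (nat_lit 0x7157e34851) (.leaf (nat_lit 0x7157dc6569) (nat_lit 1794))
 (.leaf (nat_lit 0x7157e34851) (nat_lit 1025))
)))))) (.node (nat_lit 0xea3700d040) (.node (nat_lit 0xe425c11b1e) (.node (nat_lit 0xd89c510a56) (.node (nat_lit 0xd6fedbd0f7) (.node (nat_lit 0xd6e050ea57) (.node (nat_lit 0xd69cab395c) (.leaf (nat_lit 0xd69c90ea57) (nat_lit 1792))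
 (.leaf (nat_lit 0xd69cab395c) (nat_lit 2049))
) (.node (nat_lit 0xd6e06668ac) (.leaf (nat_lit 0xd6e050ea57) (nat_lit 1537))
 (.leaf (nat_lit 0xd6e06668ac) (nat_lit 2306))
)) (.node (nat_lit 0xd74f9bd0f7) (.node (nat_lit 0xd6feeb395c) (.leaf (nat_lit 0xd6fedbd0f7) (nat_lit 2048))
 (.leaf (nat_lit 0xd6feeb395c) (nat_lit 2304))
) (.node (nat_lit 0xd74fa668ac) (.leaf (nat_lit 0xd74f9bd0f7) (nat_lit 2304))
 (.leaf (nat_lit 0xd74fa668ac) (nat_lit 2561))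
))) (.node (nat_lit 0xd8ff1bd8fb) (.node (nat_lit 0xd8dfd10a56) (.node (nat_lit 0xd89c6b3158) (.leaf (nat_lit 0xd89c510a56) (nat_lit 2306))
 (.leaf (nat_lit 0xd89c6b3158) (nat_lit 2048))
) (.node (nat_lit 0xd8dfe658ae) (.leaf (nat_lit 0xd8dfd10a56) (nat_lit 2050))
 (.leaf (nat_lit 0xd8dfe658ae) (nat_lit 1794))
)) (.node (nat_lit 0xd94fdbd8fb) (.node (nat_lit 0xd8ff2b3158) (.leaf (nat_lit 0xd8ff1bd8fb) (nat_lit 2561))
 (.leaf (nat_lit 0xd8ff2b3158) (nat_lit 1794))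
) (.node (nat_lit 0xd94fe658ae) (.leaf (nat_lit 0xd94fdbd8fb) (nat_lit 2305))
 (.leaf (nat_lit 0xd94fe658ae) (nat_lit 514))
)))) (.node (nat_lit 0xe62601231c) (.node (nat_lit 0xe493811b1e) (.node (nat_lit 0xe46140e03f) (.node (nat_lit 0xe425cdf287) (.leaf (nat_lit 0xe425c11b1e) (nat_lit 1280))
 (.leaf (nat_lit 0xe425cdf287) (nat_lit 2562))
) (.node (nat_lit 0xe4614a6b08) (.leaf (nat_lit 0xe46140e03f) (nat_lit 2306))
 (.leaf (nat_lit 0xe4614a6b08) (nat_lit 1536))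
)) (.node (nat_lit 0xe54240e03f) (.node (nat_lit 0xe4938a6b08) (.leaf (nat_lit 0xe493811b1e) (nat_lit 2050))
 (.leaf (nat_lit 0xe4938a6b08) (nat_lit 1793))
) (.node (nat_lit 0xe5424df287) (.leaf (nat_lit 0xe54240e03f) (nat_lit 2049))
 (.leaf (nat_lit 0xe5424df287) (nat_lit 1794))
))) (.node (nat_lit 0xe69301231c) (.node (nat_lit 0xe66100d040) (.node (nat_lit 0xe6260e1286) (.leaf (nat_lit 0xe62601231c) (nat_lit 1794))
 (.leaf (nat_lit 0xe6260e1286) (nat_lit 2050))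
) (.node (nat_lit 0xe6610a630b) (.leaf (nat_lit 0xe66100d040) (nat_lit 1793))
 (.leaf (nat_lit 0xe6610a630b) (nat_lit 2560))
)) (.node (nat_lit 0xe74200d040) (.node (nat_lit 0xe6930a630b) (.leaf (nat_lit 0xe69301231c) (nat_lit 2049))
 (.leaf (nat_lit 0xe6930a630b) (nat_lit 1280))
) (.node (nat_lit 0xe7420e1286) (.leaf (nat_lit 0xe74200d040) (nat_lit 2562))
 (.leaf (nat_lit 0xe7420e1286) (nat_lit 2306))
))))) (.node (nat_lit 0x116601944d1) (.node (nat_lit 0xec3840e03f) (.node (nat_lit 0xea6209c850) (.node (nat_lit 0xea4189c850) (.node (nat_lit 0xea371e4c1c) (.leaf (nat_lit 0xea3700d040) (nat_lit 2049))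
 (.leaf (nat_lit 0xea371e4c1c) (nat_lit 2305))
) (.node (nat_lit 0xea419e4c1c) (.leaf (nat_lit 0xea4189c850) (nat_lit 2305))
 (.leaf (nat_lit 0xea419e4c1c) (nat_lit 2560))
)) (.node (nat_lit 0xeb1800d040) (.node (nat_lit 0xea620a630b) (.leaf (nat_lit 0xea6209c850) (nat_lit 2562))
 (.leaf (nat_lit 0xea620a630b) (nat_lit 1792))
) (.node (nat_lit 0xeb180a630b) (.leaf (nat_lit 0xeb1800d040) (nat_lit 2305))
 (.leaf (nat_lit 0xeb180a630b) (nat_lit 1025))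
))) (.node (nat_lit 0xec61c9c052) (.node (nat_lit 0xec4149c052) (.node (nat_lit 0xec385e441d) (.leaf (nat_lit 0xec3840e03f) (nat_lit 2048))
 (.leaf (nat_lit 0xec385e441d) (nat_lit 1794))
) (.node (nat_lit 0xec415e441d) (.leaf (nat_lit 0xec4149c052) (nat_lit 768))
 (.leaf (nat_lit 0xec415e441d) (nat_lit 2050))
)) (.node (nat_lit 0xed1840e03f) (.node (nat_lit 0xec61ca6b08) (.leaf (nat_lit 0xec61c9c052) (nat_lit 2050))
 (.leaf (nat_lit 0xec61ca6b08) (nat_lit 2306))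
) (.node (nat_lit 0xed184a6b08) (.leaf (nat_lit 0xed1840e03f) (nat_lit 2306))
 (.leaf (nat_lit 0xed184a6b08) (nat_lit 2050))
)))) (.node (nat_lit 0x11a60593cd0) (.node (nat_lit 0x116dbd944d1) (.node (nat_lit 0x116b19f1523) (.node (nat_lit 0x11660265415) (.leaf (nat_lit 0x116601944d1) (nat_lit 1538))
 (.leaf (nat_lit 0x11660265415) (nat_lit 2818))
) (.node (nat_lit 0x116b1a65415) (.leaf (nat_lit 0x116b19f1523) (nat_lit 1792))
 (.leaf (nat_lit 0x116b1a65415) (nat_lit 2561))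
)) (.node (nat_lit 0x1172b9f1523) (.node (nat_lit 0x116dbe948af) (.leaf (nat_lit 0x116dbd944d1) (nat_lit 2304))
 (.leaf (nat_lit 0x116dbe948af) (nat_lit 2560))
) (.node (nat_lit 0x1172ba948af) (.leaf (nat_lit 0x1172b9f1523) (nat_lit 2048))
 (.leaf (nat_lit 0x1172ba948af) (nat_lit 2304))
))) (.node (nat_lit 0x11adb993cd0) (.node (nat_lit 0x11ab1df051f) (.node (nat_lit 0x11a60666414) (.leaf (nat_lit 0x11a60593cd0) (nat_lit 2049))
 (.leaf (nat_lit 0x11a60666414) (nat_lit 2306))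
) (.node (nat_lit 0x11ab1e66414) (.leaf (nat_lit 0x11ab1df051f) (nat_lit 2305))
 (.leaf (nat_lit 0x11ab1e66414) (nat_lit 1538))
)) (.node (nat_lit 0x11b2bdf051f) (.node (nat_lit 0x11adba940b0) (.leaf (nat_lit 0x11adb993cd0) (nat_lit 769))
 (.leaf (nat_lit 0x11adba940b0) (nat_lit 2050))
) (.node (nat_lit 0x11b2be940b0) (.leaf (nat_lit 0x11b2bdf051f) (nat_lit 1536))
 (.leaf (nat_lit 0x11b2be940b0) (nat_lit 1794))
))))))) (.node (nat_lit 0x18a9e8ec321) (.node (nat_lit 0x14e17425369) (.node (nat_lit 0x13e9e44cc17) (.node (nat_lit 0x11e3700d040) (.node (nat_lit 0x11c61c9c052) (.node (nat_lit 0x11c4145530f) (.node (nat_lit 0x11c3845530f) (.leaf (nat_lit 0x11c3840e03f) (nat_lit 1794))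
 (.leaf (nat_lit 0x11c3845530f) (nat_lit 1536))
) (.node (nat_lit 0x11c4149c052) (.leaf (nat_lit 0x11c4145530f) (nat_lit 1281))
 (.leaf (nat_lit 0x11c4149c052) (nat_lit 2050))
)) (.node (nat_lit 0x11d1840e03f) (.node (nat_lit 0x11c61cdf287) (.leaf (nat_lit 0x11c61c9c052) (nat_lit 1793))
 (.leaf (nat_lit 0x11c61cdf287) (nat_lit 2560))
) (.node (nat_lit 0x11d184df287) (.leaf (nat_lit 0x11d1840e03f) (nat_lit 2049))
 (.leaf (nat_lit 0x11d184df287) (nat_lit 2304))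
))) (.node (nat_lit 0x11e6209c850) (.node (nat_lit 0x11e41854310) (.node (nat_lit 0x11e37054310) (.leaf (nat_lit 0x11e3700d040) (nat_lit 2304))
 (.leaf (nat_lit 0x11e37054310) (nat_lit 2050))
) (.node (nat_lit 0x11e4189c850) (.leaf (nat_lit 0x11e41854310) (nat_lit 2306))
 (.leaf (nat_lit 0x11e4189c850) (nat_lit 3074))
)) (.node (nat_lit 0x11f1800d040) (.node (nat_lit 0x11e620e1286) (.leaf (nat_lit 0x11e6209c850) (nat_lit 2816))
 (.leaf (nat_lit 0x11e620e1286) (nat_lit 2050))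
) (.node (nat_lit 0x11f180e1286) (.leaf (nat_lit 0x11f1800d040) (nat_lit 1537))
 (.leaf (nat_lit 0x11f180e1286) (nat_lit 1794))
)))) (.node (nat_lit 0x1409e04dc16) (.node (nat_lit 0x13f3a885120) (.node (nat_lit 0x13eb8c4cc17) (.node (nat_lit 0x13e9e485120) (.leaf (nat_lit 0x13e9e44cc17) (nat_lit 1280))
 (.leaf (nat_lit 0x13e9e485120) (nat_lit 1538))
) (.node (nat_lit 0x13eb8c62245) (.leaf (nat_lit 0x13eb8c4cc17) (nat_lit 1538))
 (.leaf (nat_lit 0x13eb8c62245) (nat_lit 1280))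
)) (.node (nat_lit 0x13f4a862245) (.node (nat_lit 0x13f3a8a1cf2) (.leaf (nat_lit 0x13f3a885120) (nat_lit 1794))
 (.leaf (nat_lit 0x13f3a8a1cf2) (nat_lit 1536))
) (.node (nat_lit 0x13f4a8a1cf2) (.leaf (nat_lit 0x13f4a862245) (nat_lit 1537))
 (.leaf (nat_lit 0x13f4a8a1cf2) (nat_lit 1794))
))) (.node (nat_lit 0x1413b08491f) (.node (nat_lit 0x140b904dc16) (.node (nat_lit 0x1409e08491f) (.leaf (nat_lit 0x1409e04dc16) (nat_lit 2817))
 (.leaf (nat_lit 0x1409e08491f) (nat_lit 2561))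
) (.node (nat_lit 0x140b905fa44) (.leaf (nat_lit 0x140b904dc16) (nat_lit 3074))
 (.leaf (nat_lit 0x140b905fa44) (nat_lit 2818))
)) (.node (nat_lit 0x1414ac5fa44) (.node (nat_lit 0x1413b0a24f3) (.leaf (nat_lit 0x1413b08491f) (nat_lit 1792))
 (.leaf (nat_lit 0x1413b0a24f3) (nat_lit 2561))
) (.node (nat_lit 0x1414aca24f3) (.leaf (nat_lit 0x1414ac5fa44) (nat_lit 2050))
 (.leaf (nat_lit 0x1414aca24f3) (nat_lit 2304))
))))) (.node (nat_lit 0x1720e80d913) (.node (nat_lit 0x15217824b68) (.node (nat_lit 0x14ed20a9ad2) (.node (nat_lit 0x14eb04c30d2) (.node (nat_lit 0x14e1769ed2d) (.leaf (nat_lit 0x14e17425369) (nat_lit 1281))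
 (.leaf (nat_lit 0x14e1769ed2d) (nat_lit 2562))
) (.node (nat_lit 0x14eb069ed2d) (.leaf (nat_lit 0x14eb04c30d2) (nat_lit 1537))
 (.leaf (nat_lit 0x14eb069ed2d) (nat_lit 1794))
)) (.node (nat_lit 0x14f58425369) (.node (nat_lit 0x14ed20c30d2) (.leaf (nat_lit 0x14ed20a9ad2) (nat_lit 1026))
 (.leaf (nat_lit 0x14ed20c30d2) (nat_lit 1793))
) (.node (nat_lit 0x14f584a9ad2) (.leaf (nat_lit 0x14f58425369) (nat_lit 2048))
 (.leaf (nat_lit 0x14f584a9ad2) (nat_lit 2306))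
))) (.node (nat_lit 0x152d24a8ad1) (.node (nat_lit 0x152accc90d6) (.node (nat_lit 0x15217a9e52c) (.leaf (nat_lit 0x15217824b68) (nat_lit 2818))
 (.leaf (nat_lit 0x15217a9e52c) (nat_lit 2050))
) (.node (nat_lit 0x152ace9e52c) (.leaf (nat_lit 0x152accc90d6) (nat_lit 2048))
 (.leaf (nat_lit 0x152ace9e52c) (nat_lit 2306))
)) (.node (nat_lit 0x15357c24b68) (.node (nat_lit 0x152d24c90d6) (.leaf (nat_lit 0x152d24a8ad1) (nat_lit 2560))
 (.leaf (nat_lit 0x152d24c90d6) (nat_lit 2305))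
) (.node (nat_lit 0x15357ca8ad1) (.leaf (nat_lit 0x15357c24b68) (nat_lit 2561))
 (.leaf (nat_lit 0x15357ca8ad1) (nat_lit 1280))
)))) (.node (nat_lit 0x1780e40c800) (.node (nat_lit 0x17299c264b8) (.node (nat_lit 0x1728d4264b8) (.node (nat_lit 0x1720e97e371) (.leaf (nat_lit 0x1720e80d913) (nat_lit 2305))
 (.leaf (nat_lit 0x1720e97e371) (nat_lit 2560))
) (.node (nat_lit 0x1728d4fe17a) (.leaf (nat_lit 0x1728d4264b8) (nat_lit 2305))
 (.leaf (nat_lit 0x1728d4fe17a) (nat_lit 2560))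
)) (.node (nat_lit 0x172b500d913) (.node (nat_lit 0x17299d7e371) (.leaf (nat_lit 0x17299c264b8) (nat_lit 2560))
 (.leaf (nat_lit 0x17299d7e371) (nat_lit 1280))
) (.node (nat_lit 0x172b50fe17a) (.leaf (nat_lit 0x172b500d913) (nat_lit 2049))
 (.leaf (nat_lit 0x172b50fe17a) (nat_lit 2306))
))) (.node (nat_lit 0x1789a425cba) (.node (nat_lit 0x1788d025cba) (.node (nat_lit 0x1780e57f370) (.leaf (nat_lit 0x1780e40c800) (nat_lit 1282))
 (.leaf (nat_lit 0x1780e57f370) (nat_lit 2049))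
) (.node (nat_lit 0x1788d0fe974) (.leaf (nat_lit 0x1788d025cba) (nat_lit 2306))
 (.leaf (nat_lit 0x1788d0fe974) (nat_lit 2049))
)) (.node (nat_lit 0x178b540c800) (.node (nat_lit 0x1789a57f370) (.leaf (nat_lit 0x1789a425cba) (nat_lit 1026))
 (.leaf (nat_lit 0x1789a57f370) (nat_lit 2305))
) (.node (nat_lit 0x178b54fe974) (.leaf (nat_lit 0x178b540c800) (nat_lit 2562))
 (.leaf (nat_lit 0x178b54fe974) (nat_lit 2306))
)))))) (.node (nat_lit 0x25460214a5d) (.node (nat_lit 0x1ce1763504f) (.node (nat_lit 0x18c9fcecb20) (.node (nat_lit 0x18b43222d2f) (.node (nat_lit 0x18abc4ec321) (.node (nat_lit 0x18a9ea28cbb) (.leaf (nat_lit 0x18a9e8ec321) (nat_lit 2050))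
 (.leaf (nat_lit 0x18a9ea28cbb) (nat_lit 1794))
) (.node (nat_lit 0x18abc4f40c2) (.leaf (nat_lit 0x18abc4ec321) (nat_lit 1794))
 (.leaf (nat_lit 0x18abc4f40c2) (nat_lit 2050))
)) (.node (nat_lit 0x18b554f40c2) (.node (nat_lit 0x18b43228cbb) (.leaf (nat_lit 0x18b43222d2f) (nat_lit 1794))
 (.leaf (nat_lit 0x18b43228cbb) (nat_lit 512))
) (.node (nat_lit 0x18b55622d2f) (.leaf (nat_lit 0x18b554f40c2) (nat_lit 1792))
 (.leaf (nat_lit 0x18b55622d2f) (nat_lit 1538))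
))) (.node (nat_lit 0x18d4362252e) (.node (nat_lit 0x18cbc0ecb20) (.node (nat_lit 0x18c9fe284b9) (.leaf (nat_lit 0x18c9fcecb20) (nat_lit 2562))
 (.leaf (nat_lit 0x18c9fe284b9) (nat_lit 1793))
) (.node (nat_lit 0x18cbc0f50c0) (.leaf (nat_lit 0x18cbc0ecb20) (nat_lit 2306))
 (.leaf (nat_lit 0x18cbc0f50c0) (nat_lit 2049))
)) (.node (nat_lit 0x18d550f50c0) (.node (nat_lit 0x18d436284b9) (.leaf (nat_lit 0x18d4362252e) (nat_lit 2304))
 (.leaf (nat_lit 0x18d436284b9) (nat_lit 2561))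
) (.node (nat_lit 0x18d5522252e) (.leaf (nat_lit 0x18d550f50c0) (nat_lit 2304))
 (.leaf (nat_lit 0x18d5522252e) (nat_lit 2048))
)))) (.node (nat_lit 0x1d817a34851) (.node (nat_lit 0x1ced209f31f) (.node (nat_lit 0x1ceb049f31f) (.node (nat_lit 0x1ce1769ed2d) (.leaf (nat_lit 0x1ce1763504f) (nat_lit 2049))
 (.leaf (nat_lit 0x1ce1769ed2d) (nat_lit 2304))
) (.node (nat_lit 0x1ceb069ed2d) (.leaf (nat_lit 0x1ceb049f31f) (nat_lit 2305))
 (.leaf (nat_lit 0x1ceb069ed2d) (nat_lit 1538))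
)) (.node (nat_lit 0x1cf584a9ad2) (.node (nat_lit 0x1ced20a9ad2) (.leaf (nat_lit 0x1ced209f31f) (nat_lit 2561))
 (.leaf (nat_lit 0x1ced20a9ad2) (nat_lit 1282))
) (.node (nat_lit 0x1cf5863504f) (.leaf (nat_lit 0x1cf584a9ad2) (nat_lit 1538))
 (.leaf (nat_lit 0x1cf5863504f) (nat_lit 1792))
))) (.node (nat_lit 0x1d8d24a131d) (.node (nat_lit 0x1d8acca131d) (.node (nat_lit 0x1d817a9e52c) (.leaf (nat_lit 0x1d817a34851) (nat_lit 2050))
 (.leaf (nat_lit 0x1d817a9e52c) (nat_lit 1794))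
) (.node (nat_lit 0x1d8ace9e52c) (.leaf (nat_lit 0x1d8acca131d) (nat_lit 2306))
 (.leaf (nat_lit 0x1d8ace9e52c) (nat_lit 2050))
)) (.node (nat_lit 0x1d957ca8ad1) (.node (nat_lit 0x1d8d24a8ad1) (.leaf (nat_lit 0x1d8d24a131d) (nat_lit 1537))
 (.leaf (nat_lit 0x1d8d24a8ad1) (nat_lit 2304))
) (.node (nat_lit 0x1d957e34851) (.leaf (nat_lit 0x1d957ca8ad1) (nat_lit 2049))
 (.leaf (nat_lit 0x1d957e34851) (nat_lit 1793))
))))) (.node (nat_lit 0x2782601231c) (.node (nat_lit 0x2566061425c) (.node (nat_lit 0x254dbe14a5d) (.node (nat_lit 0x254b1a04b1b) (.node (nat_lit 0x25460265415) (.leaf (nat_lit 0x25460214a5d) (nat_lit 1280))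
 (.leaf (nat_lit 0x25460265415) (nat_lit 2562))
) (.node (nat_lit 0x254b1a65415) (.leaf (nat_lit 0x254b1a04b1b) (nat_lit 513))
 (.leaf (nat_lit 0x254b1a65415) (nat_lit 2818))
)) (.node (nat_lit 0x2552ba04b1b) (.node (nat_lit 0x254dbe948af) (.leaf (nat_lit 0x254dbe14a5d) (nat_lit 2048))
 (.leaf (nat_lit 0x254dbe948af) (nat_lit 1794))
) (.node (nat_lit 0x2552ba948af) (.leaf (nat_lit 0x2552ba04b1b) (nat_lit 1793))
 (.leaf (nat_lit 0x2552ba948af) (nat_lit 2048))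
))) (.node (nat_lit 0x256dba1425c) (.node (nat_lit 0x256b1e0431a) (.node (nat_lit 0x25660666414) (.leaf (nat_lit 0x2566061425c) (nat_lit 2304))
 (.leaf (nat_lit 0x25660666414) (nat_lit 2561))
) (.node (nat_lit 0x256b1e66414) (.leaf (nat_lit 0x256b1e0431a) (nat_lit 2562))
 (.leaf (nat_lit 0x256b1e66414) (nat_lit 2306))
)) (.node (nat_lit 0x2572be0431a) (.node (nat_lit 0x256dba940b0) (.leaf (nat_lit 0x256dba1425c) (nat_lit 2048))
 (.leaf (nat_lit 0x256dba940b0) (nat_lit 2305))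
) (.node (nat_lit 0x2572be940b0) (.leaf (nat_lit 0x2572be0431a) (nat_lit 1794))
 (.leaf (nat_lit 0x2572be940b0) (nat_lit 1538))
)))) (.node (nat_lit 0x27a25c11b1e) (.node (nat_lit 0x2789301231c) (.node (nat_lit 0x2786100d040) (.node (nat_lit 0x27826054310) (.leaf (nat_lit 0x2782601231c) (nat_lit 2050))
 (.leaf (nat_lit 0x27826054310) (nat_lit 1792))
) (.node (nat_lit 0x278611e4c1c) (.leaf (nat_lit 0x2786100d040) (nat_lit 2049))
 (.leaf (nat_lit 0x278611e4c1c) (nat_lit 2816))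
)) (.node (nat_lit 0x2794200d040) (.node (nat_lit 0x278931e4c1c) (.leaf (nat_lit 0x2789301231c) (nat_lit 1281))
 (.leaf (nat_lit 0x278931e4c1c) (nat_lit 2050))
) (.node (nat_lit 0x27942054310) (.leaf (nat_lit 0x2794200d040) (nat_lit 1794))
 (.leaf (nat_lit 0x27942054310) (nat_lit 2049))
))) (.node (nat_lit 0x27a93811b1e) (.node (nat_lit 0x27a6140e03f) (.node (nat_lit 0x27a25c5530f) (.leaf (nat_lit 0x27a25c11b1e) (nat_lit 2048))
 (.leaf (nat_lit 0x27a25c5530f) (nat_lit 2305))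
) (.node (nat_lit 0x27a615e441d) (.leaf (nat_lit 0x27a6140e03f) (nat_lit 2562))
 (.leaf (nat_lit 0x27a615e441d) (nat_lit 1794))
)) (.node (nat_lit 0x27b4240e03f) (.node (nat_lit 0x27a939e441d) (.leaf (nat_lit 0x27a93811b1e) (nat_lit 1794))
 (.leaf (nat_lit 0x27a939e441d) (nat_lit 2050))
) (.node (nat_lit 0x27b4245530f) (.leaf (nat_lit 0x27b4240e03f) (nat_lit 2304))
 (.leaf (nat_lit 0x27b4245530f) (nat_lit 1024))
)))))))) (.node (nat_lit 0x3e49c459575) (.node (nat_lit 0x37e288438e5) (.node (nat_lit 0x2c8a740c800) (.node (nat_lit 0x28a0e9350c3) (.node (nat_lit 0x28217824b68) (.node (nat_lit 0x27e9a44956d) (.node (nat_lit 0x27e8d04956d) (.node (nat_lit 0x27e0e57f370) (.leaf (nat_lit 0x27e0e5358c1) (nat_lit 2562))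
 (.leaf (nat_lit 0x27e0e57f370) (nat_lit 2304))
) (.node (nat_lit 0x27e8d0fe974) (.leaf (nat_lit 0x27e8d04956d) (nat_lit 2562))
 (.leaf (nat_lit 0x27e8d0fe974) (nat_lit 2818))
)) (.node (nat_lit 0x27eb54fe974) (.node (nat_lit 0x27e9a57f370) (.leaf (nat_lit 0x27e9a44956d) (nat_lit 2306))
 (.leaf (nat_lit 0x27e9a57f370) (nat_lit 2049))
) (.node (nat_lit 0x27eb55358c1) (.leaf (nat_lit 0x27eb54fe974) (nat_lit 1538))
 (.leaf (nat_lit 0x27eb55358c1) (nat_lit 2304))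
))) (.node (nat_lit 0x282d24c90d6) (.node (nat_lit 0x282accc90d6) (.node (nat_lit 0x28217a7c323) (.leaf (nat_lit 0x28217824b68) (nat_lit 2561))
 (.leaf (nat_lit 0x28217a7c323) (nat_lit 770))
) (.node (nat_lit 0x282ace7c323) (.leaf (nat_lit 0x282accc90d6) (nat_lit 2304))
 (.leaf (nat_lit 0x282ace7c323) (nat_lit 2050))
)) (.node (nat_lit 0x28357c24b68) (.node (nat_lit 0x282d25c6569) (.leaf (nat_lit 0x282d24c90d6) (nat_lit 1537))
 (.leaf (nat_lit 0x282d25c6569) (nat_lit 2306))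
) (.node (nat_lit 0x28357dc6569) (.leaf (nat_lit 0x28357c24b68) (nat_lit 2305))
 (.leaf (nat_lit 0x28357dc6569) (nat_lit 1538))
)))) (.node (nat_lit 0x29617425369) (.node (nat_lit 0x28a99c48d6a) (.node (nat_lit 0x28a8d448d6a) (.node (nat_lit 0x28a0e97e371) (.leaf (nat_lit 0x28a0e9350c3) (nat_lit 2049))
 (.leaf (nat_lit 0x28a0e97e371) (nat_lit 2305))
) (.node (nat_lit 0x28a8d4fe17a) (.leaf (nat_lit 0x28a8d448d6a) (nat_lit 1025))
 (.leaf (nat_lit 0x28a8d4fe17a) (nat_lit 2306))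
)) (.node (nat_lit 0x28ab50fe17a) (.node (nat_lit 0x28a99d7e371) (.leaf (nat_lit 0x28a99c48d6a) (nat_lit 2304))
 (.leaf (nat_lit 0x28a99d7e371) (nat_lit 2048))
) (.node (nat_lit 0x28ab51350c3) (.leaf (nat_lit 0x28ab50fe17a) (nat_lit 2562))
 (.leaf (nat_lit 0x28ab51350c3) (nat_lit 769))
))) (.node (nat_lit 0x296d20c30d2) (.node (nat_lit 0x296b04c30d2) (.node (nat_lit 0x2961767cb22) (.leaf (nat_lit 0x29617425369) (nat_lit 2049))
 (.leaf (nat_lit 0x2961767cb22) (nat_lit 2305))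
) (.node (nat_lit 0x296b067cb22) (.leaf (nat_lit 0x296b04c30d2) (nat_lit 1281))
 (.leaf (nat_lit 0x296b067cb22) (nat_lit 1536))
)) (.node (nat_lit 0x29758425369) (.node (nat_lit 0x296d21c5d68) (.leaf (nat_lit 0x296d20c30d2) (nat_lit 2048))
 (.leaf (nat_lit 0x296d21c5d68) (nat_lit 2305))
) (.node (nat_lit 0x297585c5d68) (.leaf (nat_lit 0x29758425369) (nat_lit 2818))
 (.leaf (nat_lit 0x297585c5d68) (nat_lit 2562))
))))) (.node (nat_lit 0x340374a131d) (.node (nat_lit 0x2cea600d913) (.node (nat_lit 0x2c8c59358c1) (.node (nat_lit 0x2c8ae4fe974) (.node (nat_lit 0x2c8a74fe974) (.leaf (nat_lit 0x2c8a740c800) (nat_lit 2560))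
 (.leaf (nat_lit 0x2c8a74fe974) (nat_lit 2304))
) (.node (nat_lit 0x2c8ae5358c1) (.leaf (nat_lit 0x2c8ae4fe974) (nat_lit 2560))
 (.leaf (nat_lit 0x2c8ae5358c1) (nat_lit 1793))
)) (.node (nat_lit 0x2c92c80c800) (.node (nat_lit 0x2c8c599b91a) (.leaf (nat_lit 0x2c8c59358c1) (nat_lit 2562))
 (.leaf (nat_lit 0x2c8c599b91a) (nat_lit 2306))
) (.node (nat_lit 0x2c92c99b91a) (.leaf (nat_lit 0x2c92c80c800) (nat_lit 1792))
 (.leaf (nat_lit 0x2c92c99b91a) (nat_lit 2050))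
))) (.node (nat_lit 0x2cec51350c3) (.node (nat_lit 0x2ceaf0fe17a) (.node (nat_lit 0x2cea60fe17a) (.leaf (nat_lit 0x2cea600d913) (nat_lit 2048))
 (.leaf (nat_lit 0x2cea60fe17a) (nat_lit 1794))
) (.node (nat_lit 0x2ceaf1350c3) (.leaf (nat_lit 0x2ceaf0fe17a) (nat_lit 514))
 (.leaf (nat_lit 0x2ceaf1350c3) (nat_lit 2817))
)) (.node (nat_lit 0x2cf2c00d913) (.node (nat_lit 0x2cec519b121) (.leaf (nat_lit 0x2cec51350c3) (nat_lit 2562))
 (.leaf (nat_lit 0x2cec519b121) (nat_lit 768))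
) (.node (nat_lit 0x2cf2c19b121) (.leaf (nat_lit 0x2cf2c00d913) (nat_lit 2305))
 (.leaf (nat_lit 0x2cf2c19b121) (nat_lit 2048))
)))) (.node (nat_lit 0x3423909f31f) (.node (nat_lit 0x340c24a8ad1) (.node (nat_lit 0x34091ca131d) (.node (nat_lit 0x340375c6569) (.leaf (nat_lit 0x340374a131d) (nat_lit 2306))
 (.leaf (nat_lit 0x340375c6569) (nat_lit 2049))
) (.node (nat_lit 0x34091ca8ad1) (.leaf (nat_lit 0x34091ca131d) (nat_lit 2048))
 (.leaf (nat_lit 0x34091ca8ad1) (nat_lit 769))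
)) (.node (nat_lit 0x340c34c90d6) (.node (nat_lit 0x340c24c90d6) (.leaf (nat_lit 0x340c24a8ad1) (nat_lit 2049))
 (.leaf (nat_lit 0x340c24c90d6) (nat_lit 2306))
) (.node (nat_lit 0x340c35c6569) (.leaf (nat_lit 0x340c34c90d6) (nat_lit 2050))
 (.leaf (nat_lit 0x340c35c6569) (nat_lit 2305))
))) (.node (nat_lit 0x342c30c30d2) (.node (nat_lit 0x3429189f31f) (.node (nat_lit 0x342391c5d68) (.leaf (nat_lit 0x3423909f31f) (nat_lit 1792))
 (.leaf (nat_lit 0x342391c5d68) (nat_lit 2048))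
) (.node (nat_lit 0x342918a9ad2) (.leaf (nat_lit 0x3429189f31f) (nat_lit 2050))
 (.leaf (nat_lit 0x342918a9ad2) (nat_lit 2306))
)) (.node (nat_lit 0x342c38a9ad2) (.node (nat_lit 0x342c31c5d68) (.leaf (nat_lit 0x342c30c30d2) (nat_lit 2048))
 (.leaf (nat_lit 0x342c31c5d68) (nat_lit 1792))
) (.node (nat_lit 0x342c38c30d2) (.leaf (nat_lit 0x342c38a9ad2) (nat_lit 2562))
 (.leaf (nat_lit 0x342c38c30d2) (nat_lit 1282))
)))))) (.node (nat_lit 0x3c08081aa62) (.node (nat_lit 0x3b419477086) (.node (nat_lit 0x38a284440e6) (.node (nat_lit 0x37f2ac4856c) (.node (nat_lit 0x37f06c438e5) (.node (nat_lit 0x37e2884856c) (.leaf (nat_lit 0x37e288438e5) (nat_lit 1282))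
 (.leaf (nat_lit 0x37e2884856c) (nat_lit 3074))
) (.node (nat_lit 0x37f06cf5c39) (.leaf (nat_lit 0x37f06c438e5) (nat_lit 2050))
 (.leaf (nat_lit 0x37f06cf5c39) (nat_lit 2304))
)) (.node (nat_lit 0x37f518f5c39) (.node (nat_lit 0x37f2ad1c90b) (.leaf (nat_lit 0x37f2ac4856c) (nat_lit 2305))
 (.leaf (nat_lit 0x37f2ad1c90b) (nat_lit 1538))
) (.node (nat_lit 0x37f5191c90b) (.leaf (nat_lit 0x37f518f5c39) (nat_lit 2048))
 (.leaf (nat_lit 0x37f5191c90b) (nat_lit 1794))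
))) (.node (nat_lit 0x38b29c44d6b) (.node (nat_lit 0x38b068440e6) (.node (nat_lit 0x38a28444d6b) (.leaf (nat_lit 0x38a284440e6) (nat_lit 1792))
 (.leaf (nat_lit 0x38a28444d6b) (nat_lit 2562))
) (.node (nat_lit 0x38b068f643a) (.leaf (nat_lit 0x38b068440e6) (nat_lit 1536))
 (.leaf (nat_lit 0x38b068f643a) (nat_lit 2306))
)) (.node (nat_lit 0x38b51cf643a) (.node (nat_lit 0x38b29d1c10d) (.leaf (nat_lit 0x38b29c44d6b) (nat_lit 2305))
 (.leaf (nat_lit 0x38b29d1c10d) (nat_lit 2049))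
) (.node (nat_lit 0x38b51d1c10d) (.leaf (nat_lit 0x38b51cf643a) (nat_lit 2049))
 (.leaf (nat_lit 0x38b51d1c10d) (nat_lit 1280))
)))) (.node (nat_lit 0x3b81a876885) (.node (nat_lit 0x3b53684d03d) (.node (nat_lit 0x3b4964f643a) (.node (nat_lit 0x3b4194f643a) (.leaf (nat_lit 0x3b419477086) (nat_lit 2049))
 (.leaf (nat_lit 0x3b4194f643a) (nat_lit 770))
) (.node (nat_lit 0x3b49651c10d) (.leaf (nat_lit 0x3b4964f643a) (nat_lit 512))
 (.leaf (nat_lit 0x3b49651c10d) (nat_lit 2306))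
)) (.node (nat_lit 0x3b53904d03d) (.node (nat_lit 0x3b536877086) (.leaf (nat_lit 0x3b53684d03d) (nat_lit 2050))
 (.leaf (nat_lit 0x3b536877086) (nat_lit 2304))
) (.node (nat_lit 0x3b53911c10d) (.leaf (nat_lit 0x3b53904d03d) (nat_lit 1793))
 (.leaf (nat_lit 0x3b53911c10d) (nat_lit 2562))
))) (.node (nat_lit 0x3b936c4e03e) (.node (nat_lit 0x3b8968f5c39) (.node (nat_lit 0x3b81a8f5c39) (.leaf (nat_lit 0x3b81a876885) (nat_lit 2048))
 (.leaf (nat_lit 0x3b81a8f5c39) (nat_lit 2305))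
) (.node (nat_lit 0x3b89691c90b) (.leaf (nat_lit 0x3b8968f5c39) (nat_lit 2562))
 (.leaf (nat_lit 0x3b89691c90b) (nat_lit 2306))
)) (.node (nat_lit 0x3b93944e03e) (.node (nat_lit 0x3b936c76885) (.leaf (nat_lit 0x3b936c4e03e) (nat_lit 1537))
 (.leaf (nat_lit 0x3b936c76885) (nat_lit 2304))
) (.node (nat_lit 0x3b93951c90b) (.leaf (nat_lit 0x3b93944e03e) (nat_lit 1794))
 (.leaf (nat_lit 0x3b93951c90b) (nat_lit 2561))
))))) (.node (nat_lit 0x3dc60429a92) (.node (nat_lit 0x3c280019a60) (.node (nat_lit 0x3c0a381aa62) (.node (nat_lit 0x3c0a208491f) (.node (nat_lit 0x3c08082c8e8) (.leaf (nat_lit 0x3c08081aa62) (nat_lit 1793))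
 (.leaf (nat_lit 0x3c08082c8e8) (nat_lit 1538))
) (.node (nat_lit 0x3c0a20a24f3) (.leaf (nat_lit 0x3c0a208491f) (nat_lit 2306))
 (.leaf (nat_lit 0x3c0a20a24f3) (nat_lit 2562))
)) (.node (nat_lit 0x3c134c2c8e8) (.node (nat_lit 0x3c0a38a24f3) (.leaf (nat_lit 0x3c0a381aa62) (nat_lit 2561))
 (.leaf (nat_lit 0x3c0a38a24f3) (nat_lit 1793))
) (.node (nat_lit 0x3c134c8491f) (.leaf (nat_lit 0x3c134c2c8e8) (nat_lit 2304))
 (.leaf (nat_lit 0x3c134c8491f) (nat_lit 2050))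
))) (.node (nat_lit 0x3c2a3c19a60) (.node (nat_lit 0x3c29f485120) (.node (nat_lit 0x3c28002d0ea) (.leaf (nat_lit 0x3c280019a60) (nat_lit 1792))
 (.leaf (nat_lit 0x3c28002d0ea) (nat_lit 2048))
) (.node (nat_lit 0x3c29f4a1cf2) (.leaf (nat_lit 0x3c29f485120) (nat_lit 1794))
 (.leaf (nat_lit 0x3c29f4a1cf2) (nat_lit 2049))
)) (.node (nat_lit 0x3c335c2d0ea) (.node (nat_lit 0x3c2a3ca1cf2) (.leaf (nat_lit 0x3c2a3c19a60) (nat_lit 1536))
 (.leaf (nat_lit 0x3c2a3ca1cf2) (nat_lit 2816))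
) (.node (nat_lit 0x3c335c85120) (.leaf (nat_lit 0x3c335c2d0ea) (nat_lit 1281))
 (.leaf (nat_lit 0x3c335c85120) (nat_lit 2562))
)))) (.node (nat_lit 0x3de6002a291) (.node (nat_lit 0x3dcdb864d77) (.node (nat_lit 0x3dcb1c29a92) (.node (nat_lit 0x3dc60593cd0) (.leaf (nat_lit 0x3dc60429a92) (nat_lit 2050))
 (.leaf (nat_lit 0x3dc60593cd0) (nat_lit 1280))
) (.node (nat_lit 0x3dcb1df051f) (.leaf (nat_lit 0x3dcb1c29a92) (nat_lit 2306))
 (.leaf (nat_lit 0x3dcb1df051f) (nat_lit 2561))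
)) (.node (nat_lit 0x3dd2bc64d77) (.node (nat_lit 0x3dcdb993cd0) (.leaf (nat_lit 0x3dcdb864d77) (nat_lit 2818))
 (.leaf (nat_lit 0x3dcdb993cd0) (nat_lit 1024))
) (.node (nat_lit 0x3dd2bdf051f) (.leaf (nat_lit 0x3dd2bc64d77) (nat_lit 2562))
 (.leaf (nat_lit 0x3dd2bdf051f) (nat_lit 1281))
))) (.node (nat_lit 0x3dedbc65576) (.node (nat_lit 0x3deb182a291) (.node (nat_lit 0x3de601944d1) (.leaf (nat_lit 0x3de6002a291) (nat_lit 2050))
 (.leaf (nat_lit 0x3de601944d1) (nat_lit 2306))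
) (.node (nat_lit 0x3deb19f1523) (.leaf (nat_lit 0x3deb182a291) (nat_lit 1793))
 (.leaf (nat_lit 0x3deb19f1523) (nat_lit 1536))
)) (.node (nat_lit 0x3df2b865576) (.node (nat_lit 0x3dedbd944d1) (.leaf (nat_lit 0x3dedbc65576) (nat_lit 1794))
 (.leaf (nat_lit 0x3dedbd944d1) (nat_lit 2562))
) (.node (nat_lit 0x3df2b9f1523) (.leaf (nat_lit 0x3df2b865576) (nat_lit 2049))
 (.leaf (nat_lit 0x3df2b9f1523) (nat_lit 1792))
))))))) (.node (nat_lit 0x44a9e01aa62) (.node (nat_lit 0x426a60264b8) (.node (nat_lit 0x410a60264b8) (.node (nat_lit 0x3ea9c858d74) (.node (nat_lit 0x3e4ff059575) (.node (nat_lit 0x3e4dfc65a8c) (.node (nat_lit 0x3e49c510a56) (.leaf (nat_lit 0x3e49c459575) (nat_lit 2818))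
 (.leaf (nat_lit 0x3e49c510a56) (nat_lit 2562))
) (.node (nat_lit 0x3e4dfd10a56) (.leaf (nat_lit 0x3e4dfc65a8c) (nat_lit 2562))
 (.leaf (nat_lit 0x3e4dfd10a56) (nat_lit 2306))
)) (.node (nat_lit 0x3e54fc65a8c) (.node (nat_lit 0x3e4ff1bd8fb) (.leaf (nat_lit 0x3e4ff059575) (nat_lit 2050))
 (.leaf (nat_lit 0x3e4ff1bd8fb) (nat_lit 2305))
) (.node (nat_lit 0x3e54fdbd8fb) (.leaf (nat_lit 0x3e54fc65a8c) (nat_lit 1793))
 (.leaf (nat_lit 0x3e54fdbd8fb) (nat_lit 2048))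
))) (.node (nat_lit 0x3eafec58d74) (.node (nat_lit 0x3eae0464290) (.node (nat_lit 0x3ea9c90ea57) (.leaf (nat_lit 0x3ea9c858d74) (nat_lit 770))
 (.leaf (nat_lit 0x3ea9c90ea57) (nat_lit 1537))
) (.node (nat_lit 0x3eae050ea57) (.leaf (nat_lit 0x3eae0464290) (nat_lit 2050))
 (.leaf (nat_lit 0x3eae050ea57) (nat_lit 1281))
)) (.node (nat_lit 0x3eb4f864290) (.node (nat_lit 0x3eafedbd0f7) (.leaf (nat_lit 0x3eafec58d74) (nat_lit 1536))
 (.leaf (nat_lit 0x3eafedbd0f7) (nat_lit 1792))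
) (.node (nat_lit 0x3eb4f9bd0f7) (.leaf (nat_lit 0x3eb4f864290) (nat_lit 1792))
 (.leaf (nat_lit 0x3eb4f9bd0f7) (nat_lit 1537))
)))) (.node (nat_lit 0x412a7425cba) (.node (nat_lit 0x410c5048d6a) (.node (nat_lit 0x410af048d6a) (.node (nat_lit 0x410a60fe17a) (.leaf (nat_lit 0x410a60264b8) (nat_lit 2304))
 (.leaf (nat_lit 0x410a60fe17a) (nat_lit 2562))
) (.node (nat_lit 0x410af0fe17a) (.leaf (nat_lit 0x410af048d6a) (nat_lit 1536))
 (.leaf (nat_lit 0x410af0fe17a) (nat_lit 1282))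
)) (.node (nat_lit 0x4112c0264b8) (.node (nat_lit 0x410c519b121) (.leaf (nat_lit 0x410c5048d6a) (nat_lit 2306))
 (.leaf (nat_lit 0x410c519b121) (nat_lit 513))
) (.node (nat_lit 0x4112c19b121) (.leaf (nat_lit 0x4112c0264b8) (nat_lit 2050))
 (.leaf (nat_lit 0x4112c19b121) (nat_lit 1793))
))) (.node (nat_lit 0x412c584956d) (.node (nat_lit 0x412ae44956d) (.node (nat_lit 0x412a74fe974) (.leaf (nat_lit 0x412a7425cba) (nat_lit 2305))
 (.leaf (nat_lit 0x412a74fe974) (nat_lit 1536))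
) (.node (nat_lit 0x412ae4fe974) (.leaf (nat_lit 0x412ae44956d) (nat_lit 2048))
 (.leaf (nat_lit 0x412ae4fe974) (nat_lit 1792))
)) (.node (nat_lit 0x4132c825cba) (.node (nat_lit 0x412c599b91a) (.leaf (nat_lit 0x412c584956d) (nat_lit 1794))
 (.leaf (nat_lit 0x412c599b91a) (nat_lit 2562))
) (.node (nat_lit 0x4132c99b91a) (.leaf (nat_lit 0x4132c825cba) (nat_lit 3074))
 (.leaf (nat_lit 0x4132c99b91a) (nat_lit 2306))
))))) (.node (nat_lit 0x43e37634851) (.node (nat_lit 0x42aa7425cba) (.node (nat_lit 0x426c5048d6a) (.node (nat_lit 0x426af048d6a) (.node (nat_lit 0x426a617e371) (.leaf (nat_lit 0x426a60264b8) (nat_lit 2050))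
 (.leaf (nat_lit 0x426a617e371) (nat_lit 2818))
) (.node (nat_lit 0x426af17e371) (.leaf (nat_lit 0x426af048d6a) (nat_lit 2304))
 (.leaf (nat_lit 0x426af17e371) (nat_lit 2560))
)) (.node (nat_lit 0x4272c0264b8) (.node (nat_lit 0x426c51d1c77) (.leaf (nat_lit 0x426c5048d6a) (nat_lit 2048))
 (.leaf (nat_lit 0x426c51d1c77) (nat_lit 1792))
) (.node (nat_lit 0x4272c1d1c77) (.leaf (nat_lit 0x4272c0264b8) (nat_lit 2305))
 (.leaf (nat_lit 0x4272c1d1c77) (nat_lit 2048))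
))) (.node (nat_lit 0x42ac584956d) (.node (nat_lit 0x42aae44956d) (.node (nat_lit 0x42aa757f370) (.leaf (nat_lit 0x42aa7425cba) (nat_lit 3074))
 (.leaf (nat_lit 0x42aa757f370) (nat_lit 257))
) (.node (nat_lit 0x42aae57f370) (.leaf (nat_lit 0x42aae44956d) (nat_lit 1793))
 (.leaf (nat_lit 0x42aae57f370) (nat_lit 1537))
)) (.node (nat_lit 0x42b2c825cba) (.node (nat_lit 0x42ac59d147b) (.leaf (nat_lit 0x42ac584956d) (nat_lit 2561))
 (.leaf (nat_lit 0x42ac59d147b) (nat_lit 2306))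
) (.node (nat_lit 0x42b2c9d147b) (.leaf (nat_lit 0x42b2c825cba) (nat_lit 2305))
 (.leaf (nat_lit 0x42b2c9d147b) (nat_lit 1026))
)))) (.node (nat_lit 0x4403923504f) (.node (nat_lit 0x43ec2424b68) (.node (nat_lit 0x43e91e34851) (.node (nat_lit 0x43e3767c323) (.leaf (nat_lit 0x43e37634851) (nat_lit 1282))
 (.leaf (nat_lit 0x43e3767c323) (nat_lit 2562))
) (.node (nat_lit 0x43e91e9e52c) (.leaf (nat_lit 0x43e91e34851) (nat_lit 1024))
 (.leaf (nat_lit 0x43e91e9e52c) (nat_lit 2304))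
)) (.node (nat_lit 0x43ec3424b68) (.node (nat_lit 0x43ec269e52c) (.leaf (nat_lit 0x43ec2424b68) (nat_lit 1793))
 (.leaf (nat_lit 0x43ec269e52c) (nat_lit 2048))
) (.node (nat_lit 0x43ec367c323) (.leaf (nat_lit 0x43ec3424b68) (nat_lit 1538))
 (.leaf (nat_lit 0x43ec367c323) (nat_lit 2306))
))) (.node (nat_lit 0x440c3025369) (.node (nat_lit 0x44091a3504f) (.node (nat_lit 0x4403927cb22) (.leaf (nat_lit 0x4403923504f) (nat_lit 2818))
 (.leaf (nat_lit 0x4403927cb22) (nat_lit 2049))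
) (.node (nat_lit 0x44091a9ed2d) (.leaf (nat_lit 0x44091a3504f) (nat_lit 2562))
 (.leaf (nat_lit 0x44091a9ed2d) (nat_lit 2305))
)) (.node (nat_lit 0x440c3825369) (.node (nat_lit 0x440c327cb22) (.leaf (nat_lit 0x440c3025369) (nat_lit 2050))
 (.leaf (nat_lit 0x440c327cb22) (nat_lit 1280))
) (.node (nat_lit 0x440c3a9ed2d) (.leaf (nat_lit 0x440c3825369) (nat_lit 1794))
 (.leaf (nat_lit 0x440c3a9ed2d) (nat_lit 1537))
)))))) (.node (nat_lit 0x45e3701231c) (.node (nat_lit 0x4581943c057) (.node (nat_lit 0x4549e419a60) (.node (nat_lit 0x44b3b01aa62) (.node (nat_lit 0x44ab904dc16) (.node (nat_lit 0x44a9e04dc16) (.leaf (nat_lit 0x44a9e01aa62) (nat_lit 1793))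
 (.leaf (nat_lit 0x44a9e04dc16) (nat_lit 2562))
) (.node (nat_lit 0x44ab909badd) (.leaf (nat_lit 0x44ab904dc16) (nat_lit 2304))
 (.leaf (nat_lit 0x44ab909badd) (nat_lit 2050))
)) (.node (nat_lit 0x44b4ac9badd) (.node (nat_lit 0x44b3b0a24f3) (.leaf (nat_lit 0x44b3b01aa62) (nat_lit 1024))
 (.leaf (nat_lit 0x44b3b0a24f3) (nat_lit 2304))
) (.node (nat_lit 0x44b4aca24f3) (.leaf (nat_lit 0x44b4ac9badd) (nat_lit 1282))
 (.leaf (nat_lit 0x44b4aca24f3) (nat_lit 2560))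
))) (.node (nat_lit 0x4553a819a60) (.node (nat_lit 0x454b8c4cc17) (.node (nat_lit 0x4549e44cc17) (.leaf (nat_lit 0x4549e419a60) (nat_lit 2306))
 (.leaf (nat_lit 0x4549e44cc17) (nat_lit 1538))
) (.node (nat_lit 0x454b8c9b2db) (.leaf (nat_lit 0x454b8c4cc17) (nat_lit 1281))
 (.leaf (nat_lit 0x454b8c9b2db) (nat_lit 2048))
)) (.node (nat_lit 0x4554a89b2db) (.node (nat_lit 0x4553a8a1cf2) (.leaf (nat_lit 0x4553a819a60) (nat_lit 2561))
 (.leaf (nat_lit 0x4553a8a1cf2) (nat_lit 1794))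
) (.node (nat_lit 0x4554a8a1cf2) (.leaf (nat_lit 0x4554a89b2db) (nat_lit 2304))
 (.leaf (nat_lit 0x4554a8a1cf2) (nat_lit 1537))
)))) (.node (nat_lit 0x45a1a83b855) (.node (nat_lit 0x4593683c057) (.node (nat_lit 0x458964440e6) (.node (nat_lit 0x45819444d6b) (.leaf (nat_lit 0x4581943c057) (nat_lit 2050))
 (.leaf (nat_lit 0x45819444d6b) (nat_lit 2305))
) (.node (nat_lit 0x45896444d6b) (.leaf (nat_lit 0x458964440e6) (nat_lit 1792))
 (.leaf (nat_lit 0x45896444d6b) (nat_lit 2049))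
)) (.node (nat_lit 0x459390440e6) (.node (nat_lit 0x45936a294e9) (.leaf (nat_lit 0x4593683c057) (nat_lit 2306))
 (.leaf (nat_lit 0x45936a294e9) (nat_lit 2050))
) (.node (nat_lit 0x459392294e9) (.leaf (nat_lit 0x459390440e6) (nat_lit 2048))
 (.leaf (nat_lit 0x459392294e9) (nat_lit 1793))
))) (.node (nat_lit 0x45b36c3b855) (.node (nat_lit 0x45a968438e5) (.node (nat_lit 0x45a1a84856c) (.leaf (nat_lit 0x45a1a83b855) (nat_lit 2560))
 (.leaf (nat_lit 0x45a1a84856c) (nat_lit 1281))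
) (.node (nat_lit 0x45a9684856c) (.leaf (nat_lit 0x45a968438e5) (nat_lit 2817))
 (.leaf (nat_lit 0x45a9684856c) (nat_lit 1538))
)) (.node (nat_lit 0x45b394438e5) (.node (nat_lit 0x45b36e29ce7) (.leaf (nat_lit 0x45b36c3b855) (nat_lit 2306))
 (.leaf (nat_lit 0x45b36e29ce7) (nat_lit 1537))
) (.node (nat_lit 0x45b39629ce7) (.leaf (nat_lit 0x45b394438e5) (nat_lit 2049))
 (.leaf (nat_lit 0x45b39629ce7) (nat_lit 1794))
))))) (.node (nat_lit 0x492374a131d) (.node (nat_lit 0x46238411b1e) (.node (nat_lit 0x45e6202d8eb) (.node (nat_lit 0x45e4182d8eb) (.node (nat_lit 0x45e37054310) (.leaf (nat_lit 0x45e3701231c) (nat_lit 2050))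
 (.leaf (nat_lit 0x45e37054310) (nat_lit 2818))
) (.node (nat_lit 0x45e41854310) (.leaf (nat_lit 0x45e4182d8eb) (nat_lit 2304))
 (.leaf (nat_lit 0x45e41854310) (nat_lit 2562))
)) (.node (nat_lit 0x45f1801231c) (.node (nat_lit 0x45e620e1286) (.leaf (nat_lit 0x45e6202d8eb) (nat_lit 1536))
 (.leaf (nat_lit 0x45e620e1286) (nat_lit 1794))
) (.node (nat_lit 0x45f180e1286) (.leaf (nat_lit 0x45f1801231c) (nat_lit 1792))
 (.leaf (nat_lit 0x45f180e1286) (nat_lit 1538))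
))) (.node (nat_lit 0x46261c2e0e9) (.node (nat_lit 0x4624142e0e9) (.node (nat_lit 0x4623845530f) (.leaf (nat_lit 0x46238411b1e) (nat_lit 3074))
 (.leaf (nat_lit 0x4623845530f) (nat_lit 1792))
) (.node (nat_lit 0x4624145530f) (.leaf (nat_lit 0x4624142e0e9) (nat_lit 1794))
 (.leaf (nat_lit 0x4624145530f) (nat_lit 1536))
)) (.node (nat_lit 0x46318411b1e) (.node (nat_lit 0x46261cdf287) (.leaf (nat_lit 0x46261c2e0e9) (nat_lit 2049))
 (.leaf (nat_lit 0x46261cdf287) (nat_lit 1792))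
) (.node (nat_lit 0x463184df287) (.leaf (nat_lit 0x46318411b1e) (nat_lit 2817))
 (.leaf (nat_lit 0x463184df287) (nat_lit 2048))
)))) (.node (nat_lit 0x4963909f31f) (.node (nat_lit 0x492c24c90d6) (.node (nat_lit 0x49291ca131d) (.node (nat_lit 0x4923767c323) (.leaf (nat_lit 0x492374a131d) (nat_lit 2050))
 (.leaf (nat_lit 0x4923767c323) (nat_lit 2306))
) (.node (nat_lit 0x49291e9e52c) (.leaf (nat_lit 0x49291ca131d) (nat_lit 2304))
 (.leaf (nat_lit 0x49291e9e52c) (nat_lit 1536))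
)) (.node (nat_lit 0x492c34c90d6) (.node (nat_lit 0x492c269e52c) (.leaf (nat_lit 0x492c24c90d6) (nat_lit 2561))
 (.leaf (nat_lit 0x492c269e52c) (nat_lit 2304))
) (.node (nat_lit 0x492c367c323) (.leaf (nat_lit 0x492c34c90d6) (nat_lit 2818))
 (.leaf (nat_lit 0x492c367c323) (nat_lit 2562))
))) (.node (nat_lit 0x496c30c30d2) (.node (nat_lit 0x4969189f31f) (.node (nat_lit 0x4963927cb22) (.leaf (nat_lit 0x4963909f31f) (nat_lit 2049))
 (.leaf (nat_lit 0x4963927cb22) (nat_lit 1793))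
) (.node (nat_lit 0x49691a9ed2d) (.leaf (nat_lit 0x4969189f31f) (nat_lit 1282))
 (.leaf (nat_lit 0x49691a9ed2d) (nat_lit 2049))
)) (.node (nat_lit 0x496c38c30d2) (.node (nat_lit 0x496c327cb22) (.leaf (nat_lit 0x496c30c30d2) (nat_lit 1282))
 (.leaf (nat_lit 0x496c327cb22) (nat_lit 1025))
) (.node (nat_lit 0x496c3a9ed2d) (.leaf (nat_lit 0x496c38c30d2) (nat_lit 1026))
 (.leaf (nat_lit 0x496c3a9ed2d) (nat_lit 2305))
))))))))) (.node (nat_lit 0x78a4ca14a5d) (.node (nat_lit 0x6fa4ca14a5d) (.node (nat_lit 0x6944ca04b1b) (.node (nat_lit 0x6709e89d95b) (.node (nat_lit 0x5fa9fc9d15a) (.node (nat_lit 0x54e391c5d68) (.node (nat_lit 0x54cc2424b68) (.node (nat_lit 0x54c91ca8ad1) (.node (nat_lit 0x54c37634851) (.leaf (nat_lit 0x54c375c6569) (nat_lit 1793))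
 (.leaf (nat_lit 0x54c37634851) (nat_lit 1026))
) (.node (nat_lit 0x54c91e34851) (.leaf (nat_lit 0x54c91ca8ad1) (nat_lit 1536))
 (.leaf (nat_lit 0x54c91e34851) (nat_lit 2306))
)) (.node (nat_lit 0x54cc3424b68) (.node (nat_lit 0x54cc24a8ad1) (.leaf (nat_lit 0x54cc2424b68) (nat_lit 2050))
 (.leaf (nat_lit 0x54cc24a8ad1) (nat_lit 1793))
) (.node (nat_lit 0x54cc35c6569) (.leaf (nat_lit 0x54cc3424b68) (nat_lit 1794))
 (.leaf (nat_lit 0x54cc35c6569) (nat_lit 2560))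
))) (.node (nat_lit 0x54ec3025369) (.node (nat_lit 0x54e918a9ad2) (.node (nat_lit 0x54e3923504f) (.leaf (nat_lit 0x54e391c5d68) (nat_lit 2305))
 (.leaf (nat_lit 0x54e3923504f) (nat_lit 2049))
) (.node (nat_lit 0x54e91a3504f) (.leaf (nat_lit 0x54e918a9ad2) (nat_lit 2562))
 (.leaf (nat_lit 0x54e91a3504f) (nat_lit 2306))
)) (.node (nat_lit 0x54ec3825369) (.node (nat_lit 0x54ec31c5d68) (.leaf (nat_lit 0x54ec3025369) (nat_lit 1792))
 (.leaf (nat_lit 0x54ec31c5d68) (nat_lit 2049))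
) (.node (nat_lit 0x54ec38a9ad2) (.leaf (nat_lit 0x54ec3825369) (nat_lit 2560))
 (.leaf (nat_lit 0x54ec38a9ad2) (nat_lit 2306))
)))) (.node (nat_lit 0x5fe9e89d95b) (.node (nat_lit 0x5fb4349d15a) (.node (nat_lit 0x5fabc0114f5) (.node (nat_lit 0x5fa9fdbe55c) (.leaf (nat_lit 0x5fa9fc9d15a) (nat_lit 1280))
 (.leaf (nat_lit 0x5fa9fdbe55c) (nat_lit 1538))
) (.node (nat_lit 0x5fabc1be55c) (.leaf (nat_lit 0x5fabc0114f5) (nat_lit 1536))
 (.leaf (nat_lit 0x5fabc1be55c) (nat_lit 2306))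
)) (.node (nat_lit 0x5fb550114f5) (.node (nat_lit 0x5fb434a82d0) (.leaf (nat_lit 0x5fb4349d15a) (nat_lit 2560))
 (.leaf (nat_lit 0x5fb434a82d0) (nat_lit 2306))
) (.node (nat_lit 0x5fb550a82d0) (.leaf (nat_lit 0x5fb550114f5) (nat_lit 1794))
 (.leaf (nat_lit 0x5fb550a82d0) (nat_lit 2562))
))) (.node (nat_lit 0x5ff4309d95b) (.node (nat_lit 0x5febc410cf4) (.node (nat_lit 0x5fe9e9c555d) (.leaf (nat_lit 0x5fe9e89d95b) (nat_lit 1793))
 (.leaf (nat_lit 0x5fe9e9c555d) (nat_lit 1536))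
) (.node (nat_lit 0x5febc5c555d) (.leaf (nat_lit 0x5febc410cf4) (nat_lit 2561))
 (.leaf (nat_lit 0x5febc5c555d) (nat_lit 2305))
)) (.node (nat_lit 0x5ff55410cf4) (.node (nat_lit 0x5ff430a92cc) (.leaf (nat_lit 0x5ff4309d95b) (nat_lit 1537))
 (.leaf (nat_lit 0x5ff430a92cc) (nat_lit 2306))
) (.node (nat_lit 0x5ff554a92cc) (.leaf (nat_lit 0x5ff55410cf4) (nat_lit 2305))
 (.leaf (nat_lit 0x5ff554a92cc) (nat_lit 2560))
))))) (.node (nat_lit 0x67a3701231c) (.node (nat_lit 0x6729fc9d15a) (.node (nat_lit 0x6714309d95b) (.node (nat_lit 0x670bc410cf4) (.node (nat_lit 0x6709e8ec321) (.leaf (nat_lit 0x6709e89d95b) (nat_lit 2562))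
 (.leaf (nat_lit 0x6709e8ec321) (nat_lit 2306))
) (.node (nat_lit 0x670bc4ec321) (.leaf (nat_lit 0x670bc410cf4) (nat_lit 2818))
 (.leaf (nat_lit 0x670bc4ec321) (nat_lit 2562))
)) (.node (nat_lit 0x67155410cf4) (.node (nat_lit 0x67143222d2f) (.leaf (nat_lit 0x6714309d95b) (nat_lit 2304))
 (.leaf (nat_lit 0x67143222d2f) (nat_lit 2050))
) (.node (nat_lit 0x67155622d2f) (.leaf (nat_lit 0x67155410cf4) (nat_lit 2049))
 (.leaf (nat_lit 0x67155622d2f) (nat_lit 1794))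
))) (.node (nat_lit 0x6734349d15a) (.node (nat_lit 0x672bc0114f5) (.node (nat_lit 0x6729fcecb20) (.leaf (nat_lit 0x6729fc9d15a) (nat_lit 1536))
 (.leaf (nat_lit 0x6729fcecb20) (nat_lit 2304))
) (.node (nat_lit 0x672bc0ecb20) (.leaf (nat_lit 0x672bc0114f5) (nat_lit 256))
 (.leaf (nat_lit 0x672bc0ecb20) (nat_lit 2562))
)) (.node (nat_lit 0x673550114f5) (.node (nat_lit 0x6734362252e) (.leaf (nat_lit 0x6734349d15a) (nat_lit 2305))
 (.leaf (nat_lit 0x6734362252e) (nat_lit 2049))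
) (.node (nat_lit 0x6735522252e) (.leaf (nat_lit 0x673550114f5) (nat_lit 1536))
 (.leaf (nat_lit 0x6735522252e) (nat_lit 1792))
)))) (.node (nat_lit 0x67e38411b1e) (.node (nat_lit 0x67a6202d8eb) (.node (nat_lit 0x67a4182d8eb) (.node (nat_lit 0x67a371e4c1c) (.leaf (nat_lit 0x67a3701231c) (nat_lit 1792))
 (.leaf (nat_lit 0x67a371e4c1c) (nat_lit 2049))
) (.node (nat_lit 0x67a419e4c1c) (.leaf (nat_lit 0x67a4182d8eb) (nat_lit 2048))
 (.leaf (nat_lit 0x67a419e4c1c) (nat_lit 1792))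
)) (.node (nat_lit 0x67b1801231c) (.node (nat_lit 0x67a620a630b) (.leaf (nat_lit 0x67a6202d8eb) (nat_lit 2306))
 (.leaf (nat_lit 0x67a620a630b) (nat_lit 1536))
) (.node (nat_lit 0x67b180a630b) (.leaf (nat_lit 0x67b1801231c) (nat_lit 1026))
 (.leaf (nat_lit 0x67b180a630b) (nat_lit 1792))
))) (.node (nat_lit 0x67e61c2e0e9) (.node (nat_lit 0x67e4142e0e9) (.node (nat_lit 0x67e385e441d) (.leaf (nat_lit 0x67e38411b1e) (nat_lit 2305))
 (.leaf (nat_lit 0x67e385e441d) (nat_lit 2050))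
) (.node (nat_lit 0x67e415e441d) (.leaf (nat_lit 0x67e4142e0e9) (nat_lit 2049))
 (.leaf (nat_lit 0x67e415e441d) (nat_lit 1282))
)) (.node (nat_lit 0x67f18411b1e) (.node (nat_lit 0x67e61ca6b08) (.leaf (nat_lit 0x67e61c2e0e9) (nat_lit 2306))
 (.leaf (nat_lit 0x67e61ca6b08) (nat_lit 2562))
) (.node (nat_lit 0x67f184a6b08) (.leaf (nat_lit 0x67f18411b1e) (nat_lit 2562))
 (.leaf (nat_lit 0x67f184a6b08) (nat_lit 2818))
)))))) (.node (nat_lit 0x6bc2883b855) (.node (nat_lit 0x6a46002a291) (.node (nat_lit 0x6964c20431a) (.node (nat_lit 0x69558c2a291) (.node (nat_lit 0x694c15f1523) (.node (nat_lit 0x6944ca65415) (.leaf (nat_lit 0x6944ca04b1b) (nat_lit 2048))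
 (.leaf (nat_lit 0x6944ca65415) (nat_lit 1281))
) (.node (nat_lit 0x694c1665415) (.leaf (nat_lit 0x694c15f1523) (nat_lit 2306))
 (.leaf (nat_lit 0x694c1665415) (nat_lit 2050))
)) (.node (nat_lit 0x6955fc2a291) (.node (nat_lit 0x69558e04b1b) (.leaf (nat_lit 0x69558c2a291) (nat_lit 1024))
 (.leaf (nat_lit 0x69558e04b1b) (nat_lit 2304))
) (.node (nat_lit 0x6955fdf1523) (.leaf (nat_lit 0x6955fc2a291) (nat_lit 1282))
 (.leaf (nat_lit 0x6955fdf1523) (nat_lit 2562))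
))) (.node (nat_lit 0x69759429a92) (.node (nat_lit 0x696c11f051f) (.node (nat_lit 0x6964c266414) (.leaf (nat_lit 0x6964c20431a) (nat_lit 1538))
 (.leaf (nat_lit 0x6964c266414) (nat_lit 1792))
) (.node (nat_lit 0x696c1266414) (.leaf (nat_lit 0x696c11f051f) (nat_lit 1794))
 (.leaf (nat_lit 0x696c1266414) (nat_lit 1536))
)) (.node (nat_lit 0x6975f829a92) (.node (nat_lit 0x6975960431a) (.leaf (nat_lit 0x69759429a92) (nat_lit 2561))
 (.leaf (nat_lit 0x6975960431a) (nat_lit 2306))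
) (.node (nat_lit 0x6975f9f051f) (.leaf (nat_lit 0x6975f829a92) (nat_lit 2305))
 (.leaf (nat_lit 0x6975f9f051f) (nat_lit 2562))
)))) (.node (nat_lit 0x6a660429a92) (.node (nat_lit 0x6a4dbc65576) (.node (nat_lit 0x6a4b182a291) (.node (nat_lit 0x6a460214a5d) (.leaf (nat_lit 0x6a46002a291) (nat_lit 1282))
 (.leaf (nat_lit 0x6a460214a5d) (nat_lit 1537))
) (.node (nat_lit 0x6a4b1a04b1b) (.leaf (nat_lit 0x6a4b182a291) (nat_lit 2050))
 (.leaf (nat_lit 0x6a4b1a04b1b) (nat_lit 1280))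
)) (.node (nat_lit 0x6a52b865576) (.node (nat_lit 0x6a4dbe14a5d) (.leaf (nat_lit 0x6a4dbc65576) (nat_lit 2050))
 (.leaf (nat_lit 0x6a4dbe14a5d) (nat_lit 2817))
) (.node (nat_lit 0x6a52ba04b1b) (.leaf (nat_lit 0x6a52b865576) (nat_lit 2818))
 (.leaf (nat_lit 0x6a52ba04b1b) (nat_lit 1536))
))) (.node (nat_lit 0x6a6db864d77) (.node (nat_lit 0x6a6b1c29a92) (.node (nat_lit 0x6a66061425c) (.leaf (nat_lit 0x6a660429a92) (nat_lit 1792))
 (.leaf (nat_lit 0x6a66061425c) (nat_lit 1536))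
) (.node (nat_lit 0x6a6b1e0431a) (.leaf (nat_lit 0x6a6b1c29a92) (nat_lit 2050))
 (.leaf (nat_lit 0x6a6b1e0431a) (nat_lit 2306))
)) (.node (nat_lit 0x6a72bc64d77) (.node (nat_lit 0x6a6dba1425c) (.leaf (nat_lit 0x6a6db864d77) (nat_lit 2560))
 (.leaf (nat_lit 0x6a6dba1425c) (nat_lit 1280))
) (.node (nat_lit 0x6a72be0431a) (.leaf (nat_lit 0x6a72bc64d77) (nat_lit 2818))
 (.leaf (nat_lit 0x6a72be0431a) (nat_lit 2050))
))))) (.node (nat_lit 0x6d89e485120) (.node (nat_lit 0x6be2843c057) (.node (nat_lit 0x6bd2ac76885) (.node (nat_lit 0x6bd06c3b855) (.node (nat_lit 0x6bc28a29ce7) (.leaf (nat_lit 0x6bc2883b855) (nat_lit 1792))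
 (.leaf (nat_lit 0x6bc28a29ce7) (nat_lit 2049))
) (.node (nat_lit 0x6bd06c4e03e) (.leaf (nat_lit 0x6bd06c3b855) (nat_lit 2561))
 (.leaf (nat_lit 0x6bd06c4e03e) (nat_lit 2305))
)) (.node (nat_lit 0x6bd5184e03e) (.node (nat_lit 0x6bd2ae29ce7) (.leaf (nat_lit 0x6bd2ac76885) (nat_lit 1025))
 (.leaf (nat_lit 0x6bd2ae29ce7) (nat_lit 2305))
) (.node (nat_lit 0x6bd51876885) (.leaf (nat_lit 0x6bd5184e03e) (nat_lit 2562))
 (.leaf (nat_lit 0x6bd51876885) (nat_lit 1281))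
))) (.node (nat_lit 0x6bf29c77086) (.node (nat_lit 0x6bf0683c057) (.node (nat_lit 0x6be286294e9) (.leaf (nat_lit 0x6be2843c057) (nat_lit 1282))
 (.leaf (nat_lit 0x6be286294e9) (nat_lit 1536))
) (.node (nat_lit 0x6bf0684d03d) (.leaf (nat_lit 0x6bf0683c057) (nat_lit 1026))
 (.leaf (nat_lit 0x6bf0684d03d) (nat_lit 2305))
)) (.node (nat_lit 0x6bf51c4d03d) (.node (nat_lit 0x6bf29e294e9) (.leaf (nat_lit 0x6bf29c77086) (nat_lit 2562))
 (.leaf (nat_lit 0x6bf29e294e9) (nat_lit 2304))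
) (.node (nat_lit 0x6bf51c77086) (.leaf (nat_lit 0x6bf51c4d03d) (nat_lit 3074))
 (.leaf (nat_lit 0x6bf51c77086) (nat_lit 1794))
)))) (.node (nat_lit 0x6da9e08491f) (.node (nat_lit 0x6d93a82d0ea) (.node (nat_lit 0x6d8b8c62245) (.node (nat_lit 0x6d89e636159) (.leaf (nat_lit 0x6d89e485120) (nat_lit 1794))
 (.leaf (nat_lit 0x6d89e636159) (nat_lit 2048))
) (.node (nat_lit 0x6d8b8e36159) (.leaf (nat_lit 0x6d8b8c62245) (nat_lit 1537))
 (.leaf (nat_lit 0x6d8b8e36159) (nat_lit 2306))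
)) (.node (nat_lit 0x6d94a82d0ea) (.node (nat_lit 0x6d93a885120) (.leaf (nat_lit 0x6d93a82d0ea) (nat_lit 2817))
 (.leaf (nat_lit 0x6d93a885120) (nat_lit 2050))
) (.node (nat_lit 0x6d94a862245) (.leaf (nat_lit 0x6d94a82d0ea) (nat_lit 3074))
 (.leaf (nat_lit 0x6d94a862245) (nat_lit 1793))
))) (.node (nat_lit 0x6db3b02c8e8) (.node (nat_lit 0x6dab905fa44) (.node (nat_lit 0x6da9e235957) (.leaf (nat_lit 0x6da9e08491f) (nat_lit 2304))
 (.leaf (nat_lit 0x6da9e235957) (nat_lit 2049))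
) (.node (nat_lit 0x6dab9235957) (.leaf (nat_lit 0x6dab905fa44) (nat_lit 2562))
 (.leaf (nat_lit 0x6dab9235957) (nat_lit 1792))
)) (.node (nat_lit 0x6db4ac2c8e8) (.node (nat_lit 0x6db3b08491f) (.leaf (nat_lit 0x6db3b02c8e8) (nat_lit 1280))
 (.leaf (nat_lit 0x6db3b08491f) (nat_lit 2561))
) (.node (nat_lit 0x6db4ac5fa44) (.leaf (nat_lit 0x6db4ac2c8e8) (nat_lit 1538))
 (.leaf (nat_lit 0x6db4ac5fa44) (nat_lit 2818))
))))))) (.node (nat_lit 0x74c9c459575) (.node (nat_lit 0x7309e419a60) (.node (nat_lit 0x70a095bd0f7) (.node (nat_lit 0x70609dbd8fb) (.node (nat_lit 0x6fb58c2a291) (.node (nat_lit 0x6fac15944d1) (.node (nat_lit 0x6fa4ca65415) (.leaf (nat_lit 0x6fa4ca14a5d) (nat_lit 2818))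
 (.leaf (nat_lit 0x6fa4ca65415) (nat_lit 1537))
) (.node (nat_lit 0x6fac1665415) (.leaf (nat_lit 0x6fac15944d1) (nat_lit 2050))
 (.leaf (nat_lit 0x6fac1665415) (nat_lit 1792))
)) (.node (nat_lit 0x6fb5fc2a291) (.node (nat_lit 0x6fb58e14a5d) (.leaf (nat_lit 0x6fb58c2a291) (nat_lit 769))
 (.leaf (nat_lit 0x6fb58e14a5d) (nat_lit 2050))
) (.node (nat_lit 0x6fb5fd944d1) (.leaf (nat_lit 0x6fb5fc2a291) (nat_lit 2048))
 (.leaf (nat_lit 0x6fb5fd944d1) (nat_lit 1794))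
))) (.node (nat_lit 0x706abaa94d2) (.node (nat_lit 0x70637c59575) (.node (nat_lit 0x70609eb3158) (.leaf (nat_lit 0x70609dbd8fb) (nat_lit 1538))
 (.leaf (nat_lit 0x70609eb3158) (nat_lit 2818))
) (.node (nat_lit 0x70637ea94d2) (.leaf (nat_lit 0x70637c59575) (nat_lit 1793))
 (.leaf (nat_lit 0x70637ea94d2) (nat_lit 2050))
)) (.node (nat_lit 0x70715859575) (.node (nat_lit 0x706abab3158) (.leaf (nat_lit 0x706abaa94d2) (nat_lit 770))
 (.leaf (nat_lit 0x706abab3158) (nat_lit 2049))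
) (.node (nat_lit 0x707159bd8fb) (.leaf (nat_lit 0x70715859575) (nat_lit 2049))
 (.leaf (nat_lit 0x707159bd8fb) (nat_lit 2306))
)))) (.node (nat_lit 0x71a4c21425c) (.node (nat_lit 0x70aabea84d4) (.node (nat_lit 0x70a38058d74) (.node (nat_lit 0x70a096b395c) (.leaf (nat_lit 0x70a095bd0f7) (nat_lit 2562))
 (.leaf (nat_lit 0x70a096b395c) (nat_lit 1793))
) (.node (nat_lit 0x70a382a84d4) (.leaf (nat_lit 0x70a38058d74) (nat_lit 2305))
 (.leaf (nat_lit 0x70a382a84d4) (nat_lit 1536))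
)) (.node (nat_lit 0x70b15058d74) (.node (nat_lit 0x70aabeb395c) (.leaf (nat_lit 0x70aabea84d4) (nat_lit 2305))
 (.leaf (nat_lit 0x70aabeb395c) (nat_lit 2049))
) (.node (nat_lit 0x70b151bd0f7) (.leaf (nat_lit 0x70b15058d74) (nat_lit 2049))
 (.leaf (nat_lit 0x70b151bd0f7) (nat_lit 2304))
))) (.node (nat_lit 0x71b59429a92) (.node (nat_lit 0x71ac1193cd0) (.node (nat_lit 0x71a4c266414) (.leaf (nat_lit 0x71a4c21425c) (nat_lit 2306))
 (.leaf (nat_lit 0x71a4c266414) (nat_lit 2050))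
) (.node (nat_lit 0x71ac1266414) (.leaf (nat_lit 0x71ac1193cd0) (nat_lit 2048))
 (.leaf (nat_lit 0x71ac1266414) (nat_lit 2304))
)) (.node (nat_lit 0x71b5f829a92) (.node (nat_lit 0x71b5961425c) (.leaf (nat_lit 0x71b59429a92) (nat_lit 2306))
 (.leaf (nat_lit 0x71b5961425c) (nat_lit 2562))
) (.node (nat_lit 0x71b5f993cd0) (.leaf (nat_lit 0x71b5f829a92) (nat_lit 2049))
 (.leaf (nat_lit 0x71b5f993cd0) (nat_lit 2304))
))))) (.node (nat_lit 0x7368089badd) (.node (nat_lit 0x7329e01aa62) (.node (nat_lit 0x7313a819a60) (.node (nat_lit 0x730b8c9b2db) (.node (nat_lit 0x7309e636159) (.leaf (nat_lit 0x7309e419a60) (nat_lit 2562))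
 (.leaf (nat_lit 0x7309e636159) (nat_lit 2306))
) (.node (nat_lit 0x730b8e36159) (.leaf (nat_lit 0x730b8c9b2db) (nat_lit 2304))
 (.leaf (nat_lit 0x730b8e36159) (nat_lit 2049))
)) (.node (nat_lit 0x7314a82d0ea) (.node (nat_lit 0x7313a82d0ea) (.leaf (nat_lit 0x7313a819a60) (nat_lit 2818))
 (.leaf (nat_lit 0x7313a82d0ea) (nat_lit 2562))
) (.node (nat_lit 0x7314a89b2db) (.leaf (nat_lit 0x7314a82d0ea) (nat_lit 2305))
 (.leaf (nat_lit 0x7314a89b2db) (nat_lit 2560))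
))) (.node (nat_lit 0x7333b01aa62) (.node (nat_lit 0x732b909badd) (.node (nat_lit 0x7329e235957) (.leaf (nat_lit 0x7329e01aa62) (nat_lit 1537))
 (.leaf (nat_lit 0x7329e235957) (nat_lit 1793))
) (.node (nat_lit 0x732b9235957) (.leaf (nat_lit 0x732b909badd) (nat_lit 1794))
 (.leaf (nat_lit 0x732b9235957) (nat_lit 2048))
)) (.node (nat_lit 0x7334ac2c8e8) (.node (nat_lit 0x7333b02c8e8) (.leaf (nat_lit 0x7333b01aa62) (nat_lit 1793))
 (.leaf (nat_lit 0x7333b02c8e8) (nat_lit 1538))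
) (.node (nat_lit 0x7334ac9badd) (.leaf (nat_lit 0x7334ac2c8e8) (nat_lit 1280))
 (.leaf (nat_lit 0x7334ac9badd) (nat_lit 2050))
)))) (.node (nat_lit 0x73e8009b2db) (.node (nat_lit 0x736a384dc16) (.node (nat_lit 0x736a204dc16) (.node (nat_lit 0x73680a35957) (.leaf (nat_lit 0x7368089badd) (nat_lit 1794))
 (.leaf (nat_lit 0x73680a35957) (nat_lit 2049))
) (.node (nat_lit 0x736a205fa44) (.leaf (nat_lit 0x736a204dc16) (nat_lit 2049))
 (.leaf (nat_lit 0x736a205fa44) (nat_lit 2304))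
)) (.node (nat_lit 0x73734c5fa44) (.node (nat_lit 0x736a389badd) (.leaf (nat_lit 0x736a384dc16) (nat_lit 1793))
 (.leaf (nat_lit 0x736a389badd) (nat_lit 2562))
) (.node (nat_lit 0x73734e35957) (.leaf (nat_lit 0x73734c5fa44) (nat_lit 1024))
 (.leaf (nat_lit 0x73734e35957) (nat_lit 2817))
))) (.node (nat_lit 0x73ea3c4cc17) (.node (nat_lit 0x73e9f44cc17) (.node (nat_lit 0x73e80236159) (.leaf (nat_lit 0x73e8009b2db) (nat_lit 2818))
 (.leaf (nat_lit 0x73e80236159) (nat_lit 2562))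
) (.node (nat_lit 0x73e9f462245) (.leaf (nat_lit 0x73e9f44cc17) (nat_lit 1536))
 (.leaf (nat_lit 0x73e9f462245) (nat_lit 1793))
)) (.node (nat_lit 0x73f35c62245) (.node (nat_lit 0x73ea3c9b2db) (.leaf (nat_lit 0x73ea3c4cc17) (nat_lit 2306))
 (.leaf (nat_lit 0x73ea3c9b2db) (nat_lit 1538))
) (.node (nat_lit 0x73f35e36159) (.leaf (nat_lit 0x73f35c62245) (nat_lit 2561))
 (.leaf (nat_lit 0x73f35e36159) (nat_lit 1794))
)))))) (.node (nat_lit 0x7624c20431a) (.node (nat_lit 0x75c20cecb20) (.node (nat_lit 0x74e9c858d74) (.node (nat_lit 0x74cff059575) (.node (nat_lit 0x74cdfc65a8c) (.node (nat_lit 0x74c9c5a751c) (.leaf (nat_lit 0x74c9c459575) (nat_lit 2561))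
 (.leaf (nat_lit 0x74c9c5a751c) (nat_lit 1793))
) (.node (nat_lit 0x74cdfda751c) (.leaf (nat_lit 0x74cdfc65a8c) (nat_lit 2305))
 (.leaf (nat_lit 0x74cdfda751c) (nat_lit 1536))
)) (.node (nat_lit 0x74d4fc65a8c) (.node (nat_lit 0x74cff2a94d2) (.leaf (nat_lit 0x74cff059575) (nat_lit 2818))
 (.leaf (nat_lit 0x74cff2a94d2) (nat_lit 1537))
) (.node (nat_lit 0x74d4fea94d2) (.leaf (nat_lit 0x74d4fc65a8c) (nat_lit 2050))
 (.leaf (nat_lit 0x74d4fea94d2) (nat_lit 1281))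
))) (.node (nat_lit 0x74efec58d74) (.node (nat_lit 0x74ee0464290) (.node (nat_lit 0x74e9c9a851d) (.leaf (nat_lit 0x74e9c858d74) (nat_lit 1538))
 (.leaf (nat_lit 0x74e9c9a851d) (nat_lit 2305))
) (.node (nat_lit 0x74ee05a851d) (.leaf (nat_lit 0x74ee0464290) (nat_lit 1282))
 (.leaf (nat_lit 0x74ee05a851d) (nat_lit 2049))
)) (.node (nat_lit 0x74f4f864290) (.node (nat_lit 0x74efeea84d4) (.leaf (nat_lit 0x74efec58d74) (nat_lit 1794))
 (.leaf (nat_lit 0x74efeea84d4) (nat_lit 2562))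
) (.node (nat_lit 0x74f4faa84d4) (.leaf (nat_lit 0x74f4f864290) (nat_lit 2048))
 (.leaf (nat_lit 0x74f4faa84d4) (nat_lit 2818))
)))) (.node (nat_lit 0x75e210ec321) (.node (nat_lit 0x75c98cf50c0) (.node (nat_lit 0x75c48c114f5) (.node (nat_lit 0x75c20cf50c0) (.leaf (nat_lit 0x75c20cecb20) (nat_lit 2304))
 (.leaf (nat_lit 0x75c20cf50c0) (nat_lit 2048))
) (.node (nat_lit 0x75c48cecb20) (.leaf (nat_lit 0x75c48c114f5) (nat_lit 2304))
 (.leaf (nat_lit 0x75c48cecb20) (nat_lit 1024))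
)) (.node (nat_lit 0x75cd80114f5) (.node (nat_lit 0x75c98dbe55c) (.leaf (nat_lit 0x75c98cf50c0) (nat_lit 2306))
 (.leaf (nat_lit 0x75c98dbe55c) (nat_lit 1537))
) (.node (nat_lit 0x75cd81be55c) (.leaf (nat_lit 0x75cd80114f5) (nat_lit 2050))
 (.leaf (nat_lit 0x75cd81be55c) (nat_lit 1281))
))) (.node (nat_lit 0x75e984f40c2) (.node (nat_lit 0x75e48810cf4) (.node (nat_lit 0x75e210f40c2) (.leaf (nat_lit 0x75e210ec321) (nat_lit 1793))
 (.leaf (nat_lit 0x75e210f40c2) (nat_lit 2050))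
) (.node (nat_lit 0x75e488ec321) (.leaf (nat_lit 0x75e48810cf4) (nat_lit 1794))
 (.leaf (nat_lit 0x75e488ec321) (nat_lit 2049))
)) (.node (nat_lit 0x75ed8410cf4) (.node (nat_lit 0x75e985c555d) (.leaf (nat_lit 0x75e984f40c2) (nat_lit 2818))
 (.leaf (nat_lit 0x75e985c555d) (nat_lit 2050))
) (.node (nat_lit 0x75ed85c555d) (.leaf (nat_lit 0x75ed8410cf4) (nat_lit 2050))
 (.leaf (nat_lit 0x75ed85c555d) (nat_lit 2306))
))))) (.node (nat_lit 0x77020cecb20) (.node (nat_lit 0x7664ca04b1b) (.node (nat_lit 0x76359464d77) (.node (nat_lit 0x762c11f051f) (.node (nat_lit 0x7624c2940b0) (.leaf (nat_lit 0x7624c20431a) (nat_lit 1282))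
 (.leaf (nat_lit 0x7624c2940b0) (nat_lit 1024))
) (.node (nat_lit 0x762c12940b0) (.leaf (nat_lit 0x762c11f051f) (nat_lit 2562))
 (.leaf (nat_lit 0x762c12940b0) (nat_lit 768))
)) (.node (nat_lit 0x7635f864d77) (.node (nat_lit 0x7635960431a) (.leaf (nat_lit 0x76359464d77) (nat_lit 2305))
 (.leaf (nat_lit 0x7635960431a) (nat_lit 2050))
) (.node (nat_lit 0x7635f9f051f) (.leaf (nat_lit 0x7635f864d77) (nat_lit 1025))
 (.leaf (nat_lit 0x7635f9f051f) (nat_lit 2306))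
))) (.node (nat_lit 0x76758c65576) (.node (nat_lit 0x766c15f1523) (.node (nat_lit 0x7664ca948af) (.leaf (nat_lit 0x7664ca04b1b) (nat_lit 2304))
 (.leaf (nat_lit 0x7664ca948af) (nat_lit 2561))
) (.node (nat_lit 0x766c16948af) (.leaf (nat_lit 0x766c15f1523) (nat_lit 2562))
 (.leaf (nat_lit 0x766c16948af) (nat_lit 2818))
)) (.node (nat_lit 0x7675fc65576) (.node (nat_lit 0x76758e04b1b) (.leaf (nat_lit 0x76758c65576) (nat_lit 1792))
 (.leaf (nat_lit 0x76758e04b1b) (nat_lit 2049))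
) (.node (nat_lit 0x7675fdf1523) (.leaf (nat_lit 0x7675fc65576) (nat_lit 2048))
 (.leaf (nat_lit 0x7675fdf1523) (nat_lit 1794))
)))) (.node (nat_lit 0x776210ec321) (.node (nat_lit 0x77098dbe55c) (.node (nat_lit 0x77048c9d15a) (.node (nat_lit 0x77020e284b9) (.leaf (nat_lit 0x77020cecb20) (nat_lit 2049))
 (.leaf (nat_lit 0x77020e284b9) (nat_lit 2305))
) (.node (nat_lit 0x77048cecb20) (.leaf (nat_lit 0x77048c9d15a) (nat_lit 2560))
 (.leaf (nat_lit 0x77048cecb20) (nat_lit 1280))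
)) (.node (nat_lit 0x770d809d15a) (.node (nat_lit 0x77098e284b9) (.leaf (nat_lit 0x77098dbe55c) (nat_lit 1792))
 (.leaf (nat_lit 0x77098e284b9) (nat_lit 2049))
) (.node (nat_lit 0x770d81be55c) (.leaf (nat_lit 0x770d809d15a) (nat_lit 2306))
 (.leaf (nat_lit 0x770d81be55c) (nat_lit 512))
))) (.node (nat_lit 0x776985c555d) (.node (nat_lit 0x7764889d95b) (.node (nat_lit 0x77621228cbb) (.leaf (nat_lit 0x776210ec321) (nat_lit 2048))
 (.leaf (nat_lit 0x77621228cbb) (nat_lit 2306))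
) (.node (nat_lit 0x776488ec321) (.leaf (nat_lit 0x7764889d95b) (nat_lit 2050))
 (.leaf (nat_lit 0x776488ec321) (nat_lit 2305))
)) (.node (nat_lit 0x776d849d95b) (.node (nat_lit 0x77698628cbb) (.leaf (nat_lit 0x776985c555d) (nat_lit 1794))
 (.leaf (nat_lit 0x77698628cbb) (nat_lit 2562))
) (.node (nat_lit 0x776d85c555d) (.leaf (nat_lit 0x776d849d95b) (nat_lit 2306))
 (.leaf (nat_lit 0x776d85c555d) (nat_lit 2562))
)))))))) (.node (nat_lit 0x8b0210f40c2) (.node (nat_lit 0x84c80019a60) (.node (nat_lit 0x7d82883b855) (.node (nat_lit 0x7b48082c8e8) (.node (nat_lit 0x78c4c21425c) (.node (nat_lit 0x78b58c65576) (.node (nat_lit 0x78ac15944d1) (.node (nat_lit 0x78a4ca948af) (.leaf (nat_lit 0x78a4ca14a5d) (nat_lit 2562))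
 (.leaf (nat_lit 0x78a4ca948af) (nat_lit 1793))
) (.node (nat_lit 0x78ac16948af) (.leaf (nat_lit 0x78ac15944d1) (nat_lit 2306))
 (.leaf (nat_lit 0x78ac16948af) (nat_lit 2048))
)) (.node (nat_lit 0x78b5fc65576) (.node (nat_lit 0x78b58e14a5d) (.leaf (nat_lit 0x78b58c65576) (nat_lit 2048))
 (.leaf (nat_lit 0x78b58e14a5d) (nat_lit 2306))
) (.node (nat_lit 0x78b5fd944d1) (.leaf (nat_lit 0x78b5fc65576) (nat_lit 2304))
 (.leaf (nat_lit 0x78b5fd944d1) (nat_lit 1026))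
))) (.node (nat_lit 0x78d59464d77) (.node (nat_lit 0x78cc1193cd0) (.node (nat_lit 0x78c4c2940b0) (.leaf (nat_lit 0x78c4c21425c) (nat_lit 2050))
 (.leaf (nat_lit 0x78c4c2940b0) (nat_lit 2306))
) (.node (nat_lit 0x78cc12940b0) (.leaf (nat_lit 0x78cc1193cd0) (nat_lit 2305))
 (.leaf (nat_lit 0x78cc12940b0) (nat_lit 1025))
)) (.node (nat_lit 0x78d5f864d77) (.node (nat_lit 0x78d5961425c) (.leaf (nat_lit 0x78d59464d77) (nat_lit 2050))
 (.leaf (nat_lit 0x78d5961425c) (nat_lit 2306))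
) (.node (nat_lit 0x78d5f993cd0) (.leaf (nat_lit 0x78d5f864d77) (nat_lit 1792))
 (.leaf (nat_lit 0x78d5f993cd0) (nat_lit 2048))
)))) (.node (nat_lit 0x7b88002d0ea) (.node (nat_lit 0x7b4a389badd) (.node (nat_lit 0x7b4a205fa44) (.node (nat_lit 0x7b48089badd) (.leaf (nat_lit 0x7b48082c8e8) (nat_lit 1280))
 (.leaf (nat_lit 0x7b48089badd) (nat_lit 2048))
) (.node (nat_lit 0x7b4a20a24f3) (.leaf (nat_lit 0x7b4a205fa44) (nat_lit 2048))
 (.leaf (nat_lit 0x7b4a20a24f3) (nat_lit 2305))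
)) (.node (nat_lit 0x7b534c2c8e8) (.node (nat_lit 0x7b4a38a24f3) (.leaf (nat_lit 0x7b4a389badd) (nat_lit 2818))
 (.leaf (nat_lit 0x7b4a38a24f3) (nat_lit 2049))
) (.node (nat_lit 0x7b534c5fa44) (.leaf (nat_lit 0x7b534c2c8e8) (nat_lit 2048))
 (.leaf (nat_lit 0x7b534c5fa44) (nat_lit 1793))
))) (.node (nat_lit 0x7b8a3c9b2db) (.node (nat_lit 0x7b89f462245) (.node (nat_lit 0x7b88009b2db) (.leaf (nat_lit 0x7b88002d0ea) (nat_lit 2306))
 (.leaf (nat_lit 0x7b88009b2db) (nat_lit 2050))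
) (.node (nat_lit 0x7b89f4a1cf2) (.leaf (nat_lit 0x7b89f462245) (nat_lit 1537))
 (.leaf (nat_lit 0x7b89f4a1cf2) (nat_lit 2306))
)) (.node (nat_lit 0x7b935c2d0ea) (.node (nat_lit 0x7b8a3ca1cf2) (.leaf (nat_lit 0x7b8a3c9b2db) (nat_lit 1794))
 (.leaf (nat_lit 0x7b8a3ca1cf2) (nat_lit 3074))
) (.node (nat_lit 0x7b935c62245) (.leaf (nat_lit 0x7b935c2d0ea) (nat_lit 1538))
 (.leaf (nat_lit 0x7b935c62245) (nat_lit 2304))
))))) (.node (nat_lit 0x8142602d8eb) (.node (nat_lit 0x7da2843c057) (.node (nat_lit 0x7d92ac4856c) (.node (nat_lit 0x7d906c3b855) (.node (nat_lit 0x7d82884856c) (.leaf (nat_lit 0x7d82883b855) (nat_lit 1024))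
 (.leaf (nat_lit 0x7d82884856c) (nat_lit 2817))
) (.node (nat_lit 0x7d906cf5c39) (.leaf (nat_lit 0x7d906c3b855) (nat_lit 1793))
 (.leaf (nat_lit 0x7d906cf5c39) (nat_lit 2560))
)) (.node (nat_lit 0x7d951876885) (.node (nat_lit 0x7d92ac76885) (.leaf (nat_lit 0x7d92ac4856c) (nat_lit 2562))
 (.leaf (nat_lit 0x7d92ac76885) (nat_lit 1280))
) (.node (nat_lit 0x7d9518f5c39) (.leaf (nat_lit 0x7d951876885) (nat_lit 1536))
 (.leaf (nat_lit 0x7d9518f5c39) (nat_lit 1792))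
))) (.node (nat_lit 0x7db29c44d6b) (.node (nat_lit 0x7db0683c057) (.node (nat_lit 0x7da28444d6b) (.leaf (nat_lit 0x7da2843c057) (nat_lit 2050))
 (.leaf (nat_lit 0x7da28444d6b) (nat_lit 2305))
) (.node (nat_lit 0x7db068f643a) (.leaf (nat_lit 0x7db0683c057) (nat_lit 1794))
 (.leaf (nat_lit 0x7db068f643a) (nat_lit 2049))
)) (.node (nat_lit 0x7db51c77086) (.node (nat_lit 0x7db29c77086) (.leaf (nat_lit 0x7db29c44d6b) (nat_lit 2562))
 (.leaf (nat_lit 0x7db29c77086) (nat_lit 2306))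
) (.node (nat_lit 0x7db51cf643a) (.leaf (nat_lit 0x7db51c77086) (nat_lit 1538))
 (.leaf (nat_lit 0x7db51cf643a) (nat_lit 2306))
)))) (.node (nat_lit 0x81825c2e0e9) (.node (nat_lit 0x8149302d8eb) (.node (nat_lit 0x8146109c850) (.node (nat_lit 0x814260e1286) (.leaf (nat_lit 0x8142602d8eb) (nat_lit 2562))
 (.leaf (nat_lit 0x814260e1286) (nat_lit 1282))
) (.node (nat_lit 0x814610a630b) (.leaf (nat_lit 0x8146109c850) (nat_lit 1536))
 (.leaf (nat_lit 0x814610a630b) (nat_lit 1792))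
)) (.node (nat_lit 0x8154209c850) (.node (nat_lit 0x814930a630b) (.leaf (nat_lit 0x8149302d8eb) (nat_lit 2305))
 (.leaf (nat_lit 0x814930a630b) (nat_lit 1536))
) (.node (nat_lit 0x815420e1286) (.leaf (nat_lit 0x8154209c850) (nat_lit 2306))
 (.leaf (nat_lit 0x815420e1286) (nat_lit 2562))
))) (.node (nat_lit 0x8189382e0e9) (.node (nat_lit 0x8186149c052) (.node (nat_lit 0x81825cdf287) (.leaf (nat_lit 0x81825c2e0e9) (nat_lit 1537))
 (.leaf (nat_lit 0x81825cdf287) (nat_lit 2306))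
) (.node (nat_lit 0x818614a6b08) (.leaf (nat_lit 0x8186149c052) (nat_lit 1538))
 (.leaf (nat_lit 0x818614a6b08) (nat_lit 1793))
)) (.node (nat_lit 0x8194249c052) (.node (nat_lit 0x818938a6b08) (.leaf (nat_lit 0x8189382e0e9) (nat_lit 2306))
 (.leaf (nat_lit 0x818938a6b08) (nat_lit 2561))
) (.node (nat_lit 0x819424df287) (.leaf (nat_lit 0x8194249c052) (nat_lit 1793))
 (.leaf (nat_lit 0x819424df287) (nat_lit 2050))
)))))) (.node (nat_lit 0x86021222d2f) (.node (nat_lit 0x8561a84856c) (.node (nat_lit 0x84e8081aa62) (.node (nat_lit 0x84ca3c19a60) (.node (nat_lit 0x84c9f44cc17) (.node (nat_lit 0x84c80236159) (.leaf (nat_lit 0x84c80019a60) (nat_lit 2560))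
 (.leaf (nat_lit 0x84c80236159) (nat_lit 2304))
) (.node (nat_lit 0x84c9f485120) (.leaf (nat_lit 0x84c9f44cc17) (nat_lit 1792))
 (.leaf (nat_lit 0x84c9f485120) (nat_lit 2050))
)) (.node (nat_lit 0x84d35c85120) (.node (nat_lit 0x84ca3c4cc17) (.leaf (nat_lit 0x84ca3c19a60) (nat_lit 1280))
 (.leaf (nat_lit 0x84ca3c4cc17) (nat_lit 2048))
) (.node (nat_lit 0x84d35e36159) (.leaf (nat_lit 0x84d35c85120) (nat_lit 2818))
 (.leaf (nat_lit 0x84d35e36159) (nat_lit 1537))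
))) (.node (nat_lit 0x84ea381aa62) (.node (nat_lit 0x84ea204dc16) (.node (nat_lit 0x84e80a35957) (.leaf (nat_lit 0x84e8081aa62) (nat_lit 1536))
 (.leaf (nat_lit 0x84e80a35957) (nat_lit 2306))
) (.node (nat_lit 0x84ea208491f) (.leaf (nat_lit 0x84ea204dc16) (nat_lit 2306))
 (.leaf (nat_lit 0x84ea208491f) (nat_lit 2562))
)) (.node (nat_lit 0x84f34c8491f) (.node (nat_lit 0x84ea384dc16) (.leaf (nat_lit 0x84ea381aa62) (nat_lit 2305))
 (.leaf (nat_lit 0x84ea384dc16) (nat_lit 1537))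
) (.node (nat_lit 0x84f34e35957) (.leaf (nat_lit 0x84f34c8491f) (nat_lit 1282))
 (.leaf (nat_lit 0x84f34e35957) (nat_lit 3074))
)))) (.node (nat_lit 0x85e20e2252e) (.node (nat_lit 0x85736c76885) (.node (nat_lit 0x8569684856c) (.node (nat_lit 0x8561a876885) (.leaf (nat_lit 0x8561a84856c) (nat_lit 2048))
 (.leaf (nat_lit 0x8561a876885) (nat_lit 1792))
) (.node (nat_lit 0x8569691c90b) (.leaf (nat_lit 0x8569684856c) (nat_lit 2306))
 (.leaf (nat_lit 0x8569691c90b) (nat_lit 2050))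
)) (.node (nat_lit 0x8573951c90b) (.node (nat_lit 0x85736e29ce7) (.leaf (nat_lit 0x85736c76885) (nat_lit 2048))
 (.leaf (nat_lit 0x85736e29ce7) (nat_lit 768))
) (.node (nat_lit 0x85739629ce7) (.leaf (nat_lit 0x8573951c90b) (nat_lit 2306))
 (.leaf (nat_lit 0x85739629ce7) (nat_lit 1026))
))) (.node (nat_lit 0x85e98ca82d0) (.node (nat_lit 0x85e48c9d15a) (.node (nat_lit 0x85e20e284b9) (.leaf (nat_lit 0x85e20e2252e) (nat_lit 2305))
 (.leaf (nat_lit 0x85e20e284b9) (nat_lit 2048))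
) (.node (nat_lit 0x85e48e2252e) (.leaf (nat_lit 0x85e48c9d15a) (nat_lit 2818))
 (.leaf (nat_lit 0x85e48e2252e) (nat_lit 1538))
)) (.node (nat_lit 0x85ed809d15a) (.node (nat_lit 0x85e98e284b9) (.leaf (nat_lit 0x85e98ca82d0) (nat_lit 2048))
 (.leaf (nat_lit 0x85e98e284b9) (nat_lit 1282))
) (.node (nat_lit 0x85ed80a82d0) (.leaf (nat_lit 0x85ed809d15a) (nat_lit 2050))
 (.leaf (nat_lit 0x85ed80a82d0) (nat_lit 1792))
))))) (.node (nat_lit 0x89c25c2e0e9) (.node (nat_lit 0x86a19444d6b) (.node (nat_lit 0x860984a92cc) (.node (nat_lit 0x8604889d95b) (.node (nat_lit 0x86021228cbb) (.leaf (nat_lit 0x86021222d2f) (nat_lit 768))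
 (.leaf (nat_lit 0x86021228cbb) (nat_lit 2050))
) (.node (nat_lit 0x86048a22d2f) (.leaf (nat_lit 0x8604889d95b) (nat_lit 2306))
 (.leaf (nat_lit 0x86048a22d2f) (nat_lit 2048))
)) (.node (nat_lit 0x860d849d95b) (.node (nat_lit 0x86098628cbb) (.leaf (nat_lit 0x860984a92cc) (nat_lit 1536))
 (.leaf (nat_lit 0x86098628cbb) (nat_lit 1792))
) (.node (nat_lit 0x860d84a92cc) (.leaf (nat_lit 0x860d849d95b) (nat_lit 2560))
 (.leaf (nat_lit 0x860d84a92cc) (nat_lit 2305))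
))) (.node (nat_lit 0x86b36877086) (.node (nat_lit 0x86a96444d6b) (.node (nat_lit 0x86a19477086) (.leaf (nat_lit 0x86a19444d6b) (nat_lit 1538))
 (.leaf (nat_lit 0x86a19477086) (nat_lit 1793))
) (.node (nat_lit 0x86a9651c10d) (.leaf (nat_lit 0x86a96444d6b) (nat_lit 1281))
 (.leaf (nat_lit 0x86a9651c10d) (nat_lit 2050))
)) (.node (nat_lit 0x86b3911c10d) (.node (nat_lit 0x86b36a294e9) (.leaf (nat_lit 0x86b36877086) (nat_lit 2561))
 (.leaf (nat_lit 0x86b36a294e9) (nat_lit 2306))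
) (.node (nat_lit 0x86b392294e9) (.leaf (nat_lit 0x86b3911c10d) (nat_lit 2818))
 (.leaf (nat_lit 0x86b392294e9) (nat_lit 2049))
)))) (.node (nat_lit 0x89e2602d8eb) (.node (nat_lit 0x89c9382e0e9) (.node (nat_lit 0x89c6149c052) (.node (nat_lit 0x89c25c5530f) (.leaf (nat_lit 0x89c25c2e0e9) (nat_lit 2305))
 (.leaf (nat_lit 0x89c25c5530f) (nat_lit 2048))
) (.node (nat_lit 0x89c615e441d) (.leaf (nat_lit 0x89c6149c052) (nat_lit 2306))
 (.leaf (nat_lit 0x89c615e441d) (nat_lit 1538))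
)) (.node (nat_lit 0x89d4245530f) (.node (nat_lit 0x89c939e441d) (.leaf (nat_lit 0x89c9382e0e9) (nat_lit 2050))
 (.leaf (nat_lit 0x89c939e441d) (nat_lit 2818))
) (.node (nat_lit 0x89d4249c052) (.leaf (nat_lit 0x89d4245530f) (nat_lit 1792))
 (.leaf (nat_lit 0x89d4249c052) (nat_lit 1537))
))) (.node (nat_lit 0x89e9302d8eb) (.node (nat_lit 0x89e6109c850) (.node (nat_lit 0x89e26054310) (.leaf (nat_lit 0x89e2602d8eb) (nat_lit 2306))
 (.leaf (nat_lit 0x89e26054310) (nat_lit 1537))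
) (.node (nat_lit 0x89e611e4c1c) (.leaf (nat_lit 0x89e6109c850) (nat_lit 1792))
 (.leaf (nat_lit 0x89e611e4c1c) (nat_lit 2050))
)) (.node (nat_lit 0x89f42054310) (.node (nat_lit 0x89e931e4c1c) (.leaf (nat_lit 0x89e9302d8eb) (nat_lit 2049))
 (.leaf (nat_lit 0x89e931e4c1c) (nat_lit 1794))
) (.node (nat_lit 0x89f4209c850) (.leaf (nat_lit 0x89f42054310) (nat_lit 2305))
 (.leaf (nat_lit 0x89f4209c850) (nat_lit 1538))
))))))) (.node (nat_lit 0x97809d10a56) (.node (nat_lit 0x8dca740c800) (.node (nat_lit 0x8d009dbd8fb) (.node (nat_lit 0x8ba20cf50c0) (.node (nat_lit 0x8b0984a92cc) (.node (nat_lit 0x8b048810cf4) (.node (nat_lit 0x8b021222d2f) (.leaf (nat_lit 0x8b0210f40c2) (nat_lit 2306))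
 (.leaf (nat_lit 0x8b021222d2f) (nat_lit 1025))
) (.node (nat_lit 0x8b048a22d2f) (.leaf (nat_lit 0x8b048810cf4) (nat_lit 1538))
 (.leaf (nat_lit 0x8b048a22d2f) (nat_lit 1281))
)) (.node (nat_lit 0x8b0d8410cf4) (.node (nat_lit 0x8b0984f40c2) (.leaf (nat_lit 0x8b0984a92cc) (nat_lit 768))
 (.leaf (nat_lit 0x8b0984f40c2) (nat_lit 2561))
) (.node (nat_lit 0x8b0d84a92cc) (.leaf (nat_lit 0x8b0d8410cf4) (nat_lit 2305))
 (.leaf (nat_lit 0x8b0d84a92cc) (nat_lit 2048))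
))) (.node (nat_lit 0x8ba98ca82d0) (.node (nat_lit 0x8ba48c114f5) (.node (nat_lit 0x8ba20e2252e) (.leaf (nat_lit 0x8ba20cf50c0) (nat_lit 2818))
 (.leaf (nat_lit 0x8ba20e2252e) (nat_lit 2562))
) (.node (nat_lit 0x8ba48e2252e) (.leaf (nat_lit 0x8ba48c114f5) (nat_lit 2048))
 (.leaf (nat_lit 0x8ba48e2252e) (nat_lit 2306))
)) (.node (nat_lit 0x8bad80114f5) (.node (nat_lit 0x8ba98cf50c0) (.leaf (nat_lit 0x8ba98ca82d0) (nat_lit 2305))
 (.leaf (nat_lit 0x8ba98cf50c0) (nat_lit 2049))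
) (.node (nat_lit 0x8bad80a82d0) (.leaf (nat_lit 0x8bad80114f5) (nat_lit 1794))
 (.leaf (nat_lit 0x8bad80a82d0) (nat_lit 2049))
)))) (.node (nat_lit 0x8da095bd0f7) (.node (nat_lit 0x8d0aba658ae) (.node (nat_lit 0x8d037c65a8c) (.node (nat_lit 0x8d009e658ae) (.leaf (nat_lit 0x8d009dbd8fb) (nat_lit 1282))
 (.leaf (nat_lit 0x8d009e658ae) (nat_lit 2562))
) (.node (nat_lit 0x8d037ea94d2) (.leaf (nat_lit 0x8d037c65a8c) (nat_lit 2049))
 (.leaf (nat_lit 0x8d037ea94d2) (nat_lit 1794))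
)) (.node (nat_lit 0x8d115865a8c) (.node (nat_lit 0x8d0abaa94d2) (.leaf (nat_lit 0x8d0aba658ae) (nat_lit 1792))
 (.leaf (nat_lit 0x8d0abaa94d2) (nat_lit 1538))
) (.node (nat_lit 0x8d1159bd8fb) (.leaf (nat_lit 0x8d115865a8c) (nat_lit 2306))
 (.leaf (nat_lit 0x8d1159bd8fb) (nat_lit 2562))
))) (.node (nat_lit 0x8daabe668ac) (.node (nat_lit 0x8da38064290) (.node (nat_lit 0x8da096668ac) (.leaf (nat_lit 0x8da095bd0f7) (nat_lit 2306))
 (.leaf (nat_lit 0x8da096668ac) (nat_lit 1537))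
) (.node (nat_lit 0x8da382a84d4) (.leaf (nat_lit 0x8da38064290) (nat_lit 2561))
 (.leaf (nat_lit 0x8da382a84d4) (nat_lit 1792))
)) (.node (nat_lit 0x8db15064290) (.node (nat_lit 0x8daabea84d4) (.leaf (nat_lit 0x8daabe668ac) (nat_lit 1793))
 (.leaf (nat_lit 0x8daabea84d4) (nat_lit 2048))
) (.node (nat_lit 0x8db151bd0f7) (.leaf (nat_lit 0x8db15064290) (nat_lit 1793))
 (.leaf (nat_lit 0x8db151bd0f7) (nat_lit 2050))
))))) (.node (nat_lit 0x9140e5358c1) (.node (nat_lit 0x8dea600d913) (.node (nat_lit 0x8dcc59358c1) (.node (nat_lit 0x8dcae5358c1) (.node (nat_lit 0x8dca757f370) (.leaf (nat_lit 0x8dca740c800) (nat_lit 1794))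
 (.leaf (nat_lit 0x8dca757f370) (nat_lit 1024))
) (.node (nat_lit 0x8dcae57f370) (.leaf (nat_lit 0x8dcae5358c1) (nat_lit 2562))
 (.leaf (nat_lit 0x8dcae57f370) (nat_lit 2304))
)) (.node (nat_lit 0x8dd2c80c800) (.node (nat_lit 0x8dcc59d147b) (.leaf (nat_lit 0x8dcc59358c1) (nat_lit 1792))
 (.leaf (nat_lit 0x8dcc59d147b) (nat_lit 2050))
) (.node (nat_lit 0x8dd2c9d147b) (.leaf (nat_lit 0x8dd2c80c800) (nat_lit 2048))
 (.leaf (nat_lit 0x8dd2c9d147b) (nat_lit 770))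
))) (.node (nat_lit 0x8dec51350c3) (.node (nat_lit 0x8deaf1350c3) (.node (nat_lit 0x8dea617e371) (.leaf (nat_lit 0x8dea600d913) (nat_lit 2306))
 (.leaf (nat_lit 0x8dea617e371) (nat_lit 2050))
) (.node (nat_lit 0x8deaf17e371) (.leaf (nat_lit 0x8deaf1350c3) (nat_lit 2562))
 (.leaf (nat_lit 0x8deaf17e371) (nat_lit 1794))
)) (.node (nat_lit 0x8df2c00d913) (.node (nat_lit 0x8dec51d1c77) (.leaf (nat_lit 0x8dec51350c3) (nat_lit 2817))
 (.leaf (nat_lit 0x8dec51d1c77) (nat_lit 2048))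
) (.node (nat_lit 0x8df2c1d1c77) (.leaf (nat_lit 0x8df2c00d913) (nat_lit 1537))
 (.leaf (nat_lit 0x8df2c1d1c77) (nat_lit 2304))
)))) (.node (nat_lit 0x9160e9350c3) (.node (nat_lit 0x9149a44956d) (.node (nat_lit 0x9148d04956d) (.node (nat_lit 0x9140e5d147b) (.leaf (nat_lit 0x9140e5358c1) (nat_lit 1793))
 (.leaf (nat_lit 0x9140e5d147b) (nat_lit 2048))
) (.node (nat_lit 0x9148d19b91a) (.leaf (nat_lit 0x9148d04956d) (nat_lit 2817))
 (.leaf (nat_lit 0x9148d19b91a) (nat_lit 2049))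
)) (.node (nat_lit 0x914b55358c1) (.node (nat_lit 0x9149a5d147b) (.leaf (nat_lit 0x9149a44956d) (nat_lit 2561))
 (.leaf (nat_lit 0x9149a5d147b) (nat_lit 2816))
) (.node (nat_lit 0x914b559b91a) (.leaf (nat_lit 0x914b55358c1) (nat_lit 2048))
 (.leaf (nat_lit 0x914b559b91a) (nat_lit 1792))
))) (.node (nat_lit 0x91699c48d6a) (.node (nat_lit 0x9168d448d6a) (.node (nat_lit 0x9160e9d1c77) (.leaf (nat_lit 0x9160e9350c3) (nat_lit 2304))
 (.leaf (nat_lit 0x9160e9d1c77) (nat_lit 2562))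
) (.node (nat_lit 0x9168d59b121) (.leaf (nat_lit 0x9168d448d6a) (nat_lit 258))
 (.leaf (nat_lit 0x9168d59b121) (nat_lit 2561))
)) (.node (nat_lit 0x916b51350c3) (.node (nat_lit 0x91699dd1c77) (.leaf (nat_lit 0x91699c48d6a) (nat_lit 1538))
 (.leaf (nat_lit 0x91699dd1c77) (nat_lit 1794))
) (.node (nat_lit 0x916b519b121) (.leaf (nat_lit 0x916b51350c3) (nat_lit 1538))
 (.leaf (nat_lit 0x916b519b121) (nat_lit 1793))
)))))) (.node (nat_lit 0xa68288438e5) (.node (nat_lit 0xa1c0950ea57) (.node (nat_lit 0x97a0950ea57) (.node (nat_lit 0x978ab9a751c) (.node (nat_lit 0x97837c65a8c) (.node (nat_lit 0x97809e658ae) (.leaf (nat_lit 0x97809d10a56) (nat_lit 2048))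
 (.leaf (nat_lit 0x97809e658ae) (nat_lit 2304))
) (.node (nat_lit 0x97837da751c) (.leaf (nat_lit 0x97837c65a8c) (nat_lit 2305))
 (.leaf (nat_lit 0x97837da751c) (nat_lit 2562))
)) (.node (nat_lit 0x97915865a8c) (.node (nat_lit 0x978aba658ae) (.leaf (nat_lit 0x978ab9a751c) (nat_lit 2304))
 (.leaf (nat_lit 0x978aba658ae) (nat_lit 1537))
) (.node (nat_lit 0x97915910a56) (.leaf (nat_lit 0x97915865a8c) (nat_lit 2561))
 (.leaf (nat_lit 0x97915910a56) (nat_lit 2304))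
))) (.node (nat_lit 0x97aabda851d) (.node (nat_lit 0x97a38064290) (.node (nat_lit 0x97a096668ac) (.leaf (nat_lit 0x97a0950ea57) (nat_lit 1538))
 (.leaf (nat_lit 0x97a096668ac) (nat_lit 1281))
) (.node (nat_lit 0x97a381a851d) (.leaf (nat_lit 0x97a38064290) (nat_lit 2818))
 (.leaf (nat_lit 0x97a381a851d) (nat_lit 1026))
)) (.node (nat_lit 0x97b15064290) (.node (nat_lit 0x97aabe668ac) (.leaf (nat_lit 0x97aabda851d) (nat_lit 2306))
 (.leaf (nat_lit 0x97aabe668ac) (nat_lit 2562))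
) (.node (nat_lit 0x97b1510ea57) (.leaf (nat_lit 0x97b15064290) (nat_lit 2049))
 (.leaf (nat_lit 0x97b1510ea57) (nat_lit 1282))
)))) (.node (nat_lit 0xa1e09d10a56) (.node (nat_lit 0xa1cabda851d) (.node (nat_lit 0xa1c38058d74) (.node (nat_lit 0xa1c096b395c) (.leaf (nat_lit 0xa1c0950ea57) (nat_lit 2306))
 (.leaf (nat_lit 0xa1c096b395c) (nat_lit 2048))
) (.node (nat_lit 0xa1c381a851d) (.leaf (nat_lit 0xa1c38058d74) (nat_lit 2050))
 (.leaf (nat_lit 0xa1c381a851d) (nat_lit 1794))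
)) (.node (nat_lit 0xa1d15058d74) (.node (nat_lit 0xa1cabeb395c) (.leaf (nat_lit 0xa1cabda851d) (nat_lit 2562))
 (.leaf (nat_lit 0xa1cabeb395c) (nat_lit 2818))
) (.node (nat_lit 0xa1d1510ea57) (.leaf (nat_lit 0xa1d15058d74) (nat_lit 1793))
 (.leaf (nat_lit 0xa1d1510ea57) (nat_lit 1026))
))) (.node (nat_lit 0xa1eab9a751c) (.node (nat_lit 0xa1e37c59575) (.node (nat_lit 0xa1e09eb3158) (.leaf (nat_lit 0xa1e09d10a56) (nat_lit 1280))
 (.leaf (nat_lit 0xa1e09eb3158) (nat_lit 2561))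
) (.node (nat_lit 0xa1e37da751c) (.leaf (nat_lit 0xa1e37c59575) (nat_lit 1025))
 (.leaf (nat_lit 0xa1e37da751c) (nat_lit 2306))
)) (.node (nat_lit 0xa1f15859575) (.node (nat_lit 0xa1eabab3158) (.leaf (nat_lit 0xa1eab9a751c) (nat_lit 2050))
 (.leaf (nat_lit 0xa1eabab3158) (nat_lit 1793))
) (.node (nat_lit 0xa1f15910a56) (.leaf (nat_lit 0xa1f15859575) (nat_lit 2305))
 (.leaf (nat_lit 0xa1f15910a56) (nat_lit 2561))
))))) (.node (nat_lit 0xab01a83b855) (.node (nat_lit 0xa6a284440e6) (.node (nat_lit 0xa692ad1c90b) (.node (nat_lit 0xa6906c438e5) (.node (nat_lit 0xa6828a29ce7) (.leaf (nat_lit 0xa68288438e5) (nat_lit 2050))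
 (.leaf (nat_lit 0xa6828a29ce7) (nat_lit 2306))
) (.node (nat_lit 0xa6906c4e03e) (.leaf (nat_lit 0xa6906c438e5) (nat_lit 2818))
 (.leaf (nat_lit 0xa6906c4e03e) (nat_lit 2562))
)) (.node (nat_lit 0xa695184e03e) (.node (nat_lit 0xa692ae29ce7) (.leaf (nat_lit 0xa692ad1c90b) (nat_lit 1282))
 (.leaf (nat_lit 0xa692ae29ce7) (nat_lit 2560))
) (.node (nat_lit 0xa695191c90b) (.leaf (nat_lit 0xa695184e03e) (nat_lit 2304))
 (.leaf (nat_lit 0xa695191c90b) (nat_lit 1538))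
))) (.node (nat_lit 0xa6b29d1c10d) (.node (nat_lit 0xa6b068440e6) (.node (nat_lit 0xa6a286294e9) (.leaf (nat_lit 0xa6a284440e6) (nat_lit 1025))
 (.leaf (nat_lit 0xa6a286294e9) (nat_lit 1794))
) (.node (nat_lit 0xa6b0684d03d) (.leaf (nat_lit 0xa6b068440e6) (nat_lit 769))
 (.leaf (nat_lit 0xa6b0684d03d) (nat_lit 2562))
)) (.node (nat_lit 0xa6b51c4d03d) (.node (nat_lit 0xa6b29e294e9) (.leaf (nat_lit 0xa6b29d1c10d) (nat_lit 2305))
 (.leaf (nat_lit 0xa6b29e294e9) (nat_lit 2561))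
) (.node (nat_lit 0xa6b51d1c10d) (.leaf (nat_lit 0xa6b51c4d03d) (nat_lit 2817))
 (.leaf (nat_lit 0xa6b51d1c10d) (nat_lit 1536))
)))) (.node (nat_lit 0xab21943c057) (.node (nat_lit 0xab136c3b855) (.node (nat_lit 0xab0968438e5) (.node (nat_lit 0xab01a8f5c39) (.leaf (nat_lit 0xab01a83b855) (nat_lit 2818))
 (.leaf (nat_lit 0xab01a8f5c39) (nat_lit 1537))
) (.node (nat_lit 0xab0968f5c39) (.leaf (nat_lit 0xab0968438e5) (nat_lit 2561))
 (.leaf (nat_lit 0xab0968f5c39) (nat_lit 1794))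
)) (.node (nat_lit 0xab1394438e5) (.node (nat_lit 0xab136c4e03e) (.leaf (nat_lit 0xab136c3b855) (nat_lit 2050))
 (.leaf (nat_lit 0xab136c4e03e) (nat_lit 1793))
) (.node (nat_lit 0xab13944e03e) (.leaf (nat_lit 0xab1394438e5) (nat_lit 1792))
 (.leaf (nat_lit 0xab13944e03e) (nat_lit 2050))
))) (.node (nat_lit 0xab33683c057) (.node (nat_lit 0xab2964440e6) (.node (nat_lit 0xab2194f643a) (.leaf (nat_lit 0xab21943c057) (nat_lit 2818))
 (.leaf (nat_lit 0xab2194f643a) (nat_lit 2050))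
) (.node (nat_lit 0xab2964f643a) (.leaf (nat_lit 0xab2964440e6) (nat_lit 2560))
 (.leaf (nat_lit 0xab2964f643a) (nat_lit 1792))
)) (.node (nat_lit 0xab3390440e6) (.node (nat_lit 0xab33684d03d) (.leaf (nat_lit 0xab33683c057) (nat_lit 2050))
 (.leaf (nat_lit 0xab33684d03d) (nat_lit 1794))
) (.node (nat_lit 0xab33904d03d) (.leaf (nat_lit 0xab3390440e6) (nat_lit 1792))
 (.leaf (nat_lit 0xab33904d03d) (nat_lit 1536))
))))))))))

theorem TK_ok : genOK A [(nat_lit 0x672bc0114f5), (nat_lit 0x42aa757f370), (nat_lit 0x9168d448d6a)] TK_t (nat_lit 1024) = true := by decide +kernel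

end Cfsg.Agent.Rec.HN
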